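import Mathlib
import Cfsg.Agent.S0991
import Cfsg.Agent.S0493
import Cfsg.Agent.S1010
import Cfsg.Agent.S4304
import Cfsg.Agent.S4346

/-!
# Sylow-counting filters for non-abelian simple groups of small order (helper5, for S0496)

* `sylow_card`, `sylow_index`: order and index of a Sylow subgroup from `|G| = p^a m`, `p ∤ m`.
* `two_card_dvd_factorial_index`: a proper subgroup of index `k` forces `2|G| ∣ k!`.
* `sylow_num`: the constraints on the number of Sylow `p`-subgroups.
* `sylow_prime_data`: for `p ‖ |G|`, Burnside's transfer and `N/C ↪ Aut(Z_p)`.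
* `two_sylow_le`: a subgroup containing two distinct Sylow subgroups.
-/

set_option autoImplicit false
set_option linter.unusedSectionVars false

namespace Cfsg.H5.SmallOrd

open scoped Nat

variable {G : Type*} [Group G] [Finite G]

theorem sylow_card (p : ℕ) [hp : Fact p.Prime] (a m : ℕ) (hm : ¬ p ∣ m)
    (hcard : Nat.card G = p ^ a * m) (P : Sylow p G) : Nat.card (P : Subgroup G) = p ^ a := by
  have hm0 : m ≠ 0 := by
    rintro rfl
    exact hm (dvd_zero p)
  rw [P.card_eq_multiplicity, hcard, Nat.factorization_mul (pow_ne_zero _ hp.out.ne_zero) hm0,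
    Finsupp.add_apply, Nat.Prime.factorization_pow hp.out, Finsupp.single_eq_same,
    Nat.factorization_eq_zero_of_not_dvd hm, add_zero]

theorem sylow_index (p : ℕ) [hp : Fact p.Prime] (a m : ℕ) (hm : ¬ p ∣ m)
    (hcard : Nat.card G = p ^ a * m) (P : Sylow p G) : (P : Subgroup G).index = m := by
  have h1 := Subgroup.card_mul_index (P : Subgroup G)
  rw [sylow_card p a m hm hcard P, hcard] at h1
  exact Nat.eq_of_mul_eq_mul_left (pow_pos hp.out.pos a) h1

/-- a non-abelian simple group is not cyclic -/
theorem not_isCyclic_of_not_comm (hG : ¬ IsMulCommutative G) : ¬ IsCyclic G := by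
  intro h
  exact hG IsCyclic.isMulCommutative

theorem card_ne_prime_pow [IsSimpleGroup G] (hG : ¬ IsMulCommutative G) (p a : ℕ)
    [hp : Fact p.Prime] : Nat.card G ≠ p ^ a := by
  intro h
  have hpg : IsPGroup p G := IsPGroup.of_card h
  have hnil : Group.IsNilpotent G := hpg.isNilpotent
  have hsol : Group.IsSolvable G := inferInstance
  exact Cfsg.Agent.S0493.not_isSolvable (not_isCyclic_of_not_comm hG) hsol

/-- A proper subgroup of index `k` in a non-abelian simple group `G` forces `2 |G| ∣ k!`. -/
theorem two_card_dvd_factorial_index [IsSimpleGroup G] (hG : ¬ IsMulCommutative G)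
    (H : Subgroup G) (hH : H ≠ ⊤) : 2 * Nat.card G ∣ (H.index)! := by
  obtain ⟨f, hf⟩ := Cfsg.Agent.S0991.result hG H hH
  have h1 : Nat.card G ∣ Nat.card (alternatingGroup (Fin H.index)) :=
    Subgroup.card_dvd_of_injective f hf
  have hidx1 : H.index ≠ 1 := fun h => hH (Subgroup.index_eq_one.mp h)
  have hidx0 : H.index ≠ 0 := Subgroup.index_ne_zero_of_finite
  have : Nontrivial (Fin H.index) := Fin.nontrivial_iff_two_le.mpr (by omega)
  have h2 : 2 * Nat.card (alternatingGroup (Fin H.index)) = (H.index)! := by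
    rw [two_mul_nat_card_alternatingGroup, Nat.card_perm, Nat.card_eq_fintype_card,
      Fintype.card_fin]
  rw [← h2]
  exact Nat.mul_dvd_mul_left 2 h1

/-- Constraints on the number of Sylow `p`-subgroups of a non-abelian simple group. -/
theorem sylow_num [IsSimpleGroup G] (hG : ¬ IsMulCommutative G) (p : ℕ) [hp : Fact p.Prime]
    (a m : ℕ) (ha : 0 < a) (hm1 : 1 < m) (hm : ¬ p ∣ m) (hcard : Nat.card G = p ^ a * m) :
    Nat.card (Sylow p G) ∣ m ∧ Nat.card (Sylow p G) % p = 1 ∧ 1 < Nat.card (Sylow p G) ∧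
      2 * Nat.card G ∣ (Nat.card (Sylow p G))! := by
  obtain ⟨P⟩ : Nonempty (Sylow p G) := inferInstance
  have hPc := sylow_card p a m hm hcard P
  have hPi := sylow_index p a m hm hcard P
  have h1 : Nat.card (Sylow p G) ∣ m := by
    rw [← hPi]
    exact P.card_dvd_index
  have h2 : Nat.card (Sylow p G) % p = 1 := by
    have := card_sylow_modEq_one p G
    unfold Nat.ModEq at this
    rw [this, Nat.mod_eq_of_lt hp.out.one_lt]
  have hpos : 0 < Nat.card (Sylow p G) := Nat.card_pos
  have hne1 : Nat.card (Sylow p G) ≠ 1 := by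
    intro h
    have hss : Subsingleton (Sylow p G) := (Nat.card_eq_one_iff_unique.mp h).1
    have hn : (P : Subgroup G).Normal := P.normal_of_subsingleton
    apply Cfsg.Agent.S0493.false_of_normal _ hn
    · intro hb
      rw [hb, Subgroup.card_bot] at hPc
      have : 1 < p ^ a := Nat.one_lt_pow ha.ne' hp.out.one_lt
      omega
    · intro ht
      rw [ht, Subgroup.index_top] at hPi
      omega
  have h3 : 1 < Nat.card (Sylow p G) := by omega
  refine ⟨h1, h2, h3, ?_⟩
  have hidx : Nat.card (Sylow p G) = (Subgroup.normalizer ((P : Subgroup G) : Set G)).index :=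
    Sylow.card_eq_index_normalizer P
  rw [hidx]
  apply two_card_dvd_factorial_index hG
  intro ht
  rw [ht, Subgroup.index_top] at hidx
  exact hne1 hidx


/-- For a subgroup `S` of prime order `r`, `|N(S) : C(S)|` divides `r - 1`. -/
theorem relIndex_centralizer_normalizer_dvd_prime (S : Subgroup G) {r : ℕ} (hr : r.Prime)
    (hS : Nat.card S = r) :
    (Subgroup.centralizer (S : Set G)).relIndex (Subgroup.normalizer (S : Set G)) ∣ r - 1 := by
  have : Fact (Nat.card S).Prime := ⟨by rw [hS]; exact hr⟩
  have hcyc : IsCyclic S := isCyclic_of_prime_card rfl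
  have key := Subgroup.card_dvd_of_injective _
    (QuotientGroup.kerLift_injective S.normalizerMonoidHom)
  rw [Subgroup.normalizerMonoidHom_ker, ← Subgroup.index, ← Subgroup.relIndex,
    hcyc.card_mulAut, hS, Nat.totient_prime hr] at key
  exact key

/-- Burnside's transfer theorem in a simple group: a Sylow subgroup central in its normalizer
is trivial or everything. -/
theorem sylow_eq_bot_or_top_of_normalizer_le_centralizer' [IsSimpleGroup G] {r : ℕ}
    [Fact r.Prime] (S : Sylow r G)
    (h : Subgroup.normalizer ((S : Subgroup G) : Set G) ≤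
      Subgroup.centralizer ((S : Subgroup G) : Set G)) :
    (S : Subgroup G) = ⊥ ∨ (S : Subgroup G) = ⊤ := by
  have hc := MonoidHom.ker_transferSylow_isComplement' S h
  rcases (MonoidHom.normal_ker (MonoidHom.transferSylow S h)).eq_bot_or_eq_top with hk | hk
  · right
    rw [hk] at hc
    have := hc.sup_eq_top
    rwa [bot_sup_eq] at this
  · left
    rw [hk] at hc
    have := hc.disjoint
    rw [disjoint_iff, top_inf_eq] at this
    exact this

theorem card_mul_relIndex_of_le {H K : Subgroup G} (h : H ≤ K) :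
    Nat.card H * H.relIndex K = Nat.card K := by
  have h1 := Subgroup.card_mul_index (H.subgroupOf K)
  rw [Nat.card_congr (Subgroup.subgroupOfEquivOfLe h).toEquiv] at h1
  exact h1

/-- For `p ‖ |G|` in a non-abelian simple group: with `k` the number of Sylow `p`-subgroups,
`e = |N(P) : C(P)|` and `|C(P)| = p c`, we have `1 < e ∣ p - 1` and `k * (e * c) = m`. -/
theorem sylow_prime_data [IsSimpleGroup G] (hG : ¬ IsMulCommutative G) (p : ℕ)
    [hp : Fact p.Prime] (m : ℕ) (hm1 : 1 < m) (hm : ¬ p ∣ m) (hcard : Nat.card G = p * m)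
    (P : Sylow p G) :
    ∃ e c : ℕ, 1 < e ∧ e ∣ p - 1 ∧ Nat.card (Sylow p G) * (e * c) = m ∧
      Nat.card (Subgroup.centralizer ((P : Subgroup G) : Set G)) = p * c ∧
      Nat.card (Subgroup.normalizer ((P : Subgroup G) : Set G)) = p * (e * c) := by
  have hcard' : Nat.card G = p ^ 1 * m := by rw [pow_one]; exact hcard
  have hPc : Nat.card (P : Subgroup G) = p := by
    have := sylow_card p 1 m hm hcard' P
    rwa [pow_one] at this
  have hcyc : IsCyclic (P : Subgroup G) := by
    have : Fact (Nat.card (P : Subgroup G)).Prime := ⟨by rw [hPc]; exact hp.out⟩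
    exact isCyclic_of_prime_card rfl
  have hPC : (P : Subgroup G) ≤ Subgroup.centralizer ((P : Subgroup G) : Set G) := by
    have hcomm : IsMulCommutative (P : Subgroup G) := IsCyclic.isMulCommutative
    exact Subgroup.le_centralizer (P : Subgroup G)
  have hCN : Subgroup.centralizer ((P : Subgroup G) : Set G) ≤
      Subgroup.normalizer ((P : Subgroup G) : Set G) := Subgroup.centralizer_le_normalizer _
  obtain ⟨c, hc⟩ : p ∣ Nat.card (Subgroup.centralizer ((P : Subgroup G) : Set G)) := by
    have := Subgroup.card_dvd_of_le hPC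
    rwa [hPc] at this
  have hrel := relIndex_centralizer_normalizer_dvd_prime (P : Subgroup G)
    hp.out hPc
  have hNcard : Nat.card (Subgroup.normalizer ((P : Subgroup G) : Set G)) =
      Nat.card (Subgroup.centralizer ((P : Subgroup G) : Set G)) *
        (Subgroup.centralizer ((P : Subgroup G) : Set G)).relIndex
          (Subgroup.normalizer ((P : Subgroup G) : Set G)) := by
    exact (card_mul_relIndex_of_le hCN).symm
  have hrel0 : (Subgroup.centralizer ((P : Subgroup G) : Set G)).relIndex
      (Subgroup.normalizer ((P : Subgroup G) : Set G)) ≠ 0 := by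
    intro h0
    rw [h0, mul_zero] at hNcard
    exact Nat.card_pos.ne' hNcard
  have hrel1 : (Subgroup.centralizer ((P : Subgroup G) : Set G)).relIndex
      (Subgroup.normalizer ((P : Subgroup G) : Set G)) ≠ 1 := by
    intro h1
    have hle := Subgroup.relIndex_eq_one.mp h1
    rcases sylow_eq_bot_or_top_of_normalizer_le_centralizer' P hle with
      h | h
    · rw [h, Subgroup.card_bot] at hPc
      exact hp.out.one_lt.ne hPc
    · rw [h, Subgroup.card_top, hcard] at hPc
      have : p * m = p * 1 := by rw [mul_one]; exact hPc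
      have := Nat.eq_of_mul_eq_mul_left hp.out.pos this
      omega
  have hidx : Nat.card (Sylow p G) = (Subgroup.normalizer ((P : Subgroup G) : Set G)).index :=
    Sylow.card_eq_index_normalizer P
  have htot := Subgroup.card_mul_index (Subgroup.normalizer ((P : Subgroup G) : Set G))
  rw [← hidx, hNcard, hc, hcard] at htot
  refine ⟨_, c, by omega, hrel, ?_, hc, ?_⟩
  · apply Nat.eq_of_mul_eq_mul_left hp.out.pos
    rw [← htot]
    ring
  · rw [hNcard, hc]
    ring

/-- A subgroup containing two distinct Sylow `p`-subgroups of `G`. -/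
theorem two_sylow_le (p : ℕ) [hp : Fact p.Prime] (P R : Sylow p G) (hPR : P ≠ R)
    (K : Subgroup G) (hP : (P : Subgroup G) ≤ K) (hR : (R : Subgroup G) ≤ K) :
    ∃ d : ℕ, 1 < d ∧ d % p = 1 ∧ Nat.card (P : Subgroup G) * d ∣ Nat.card K := by
  refine ⟨Nat.card (Sylow p K), ?_, ?_, ?_⟩
  · have hne : P.subtype hP ≠ R.subtype hR := by
      intro h
      apply hPR
      have h2 : ((P.subtype hP : Sylow p K) : Subgroup K) = ((R.subtype hR : Sylow p K) : Subgroup K) :=
        congrArg _ h
      rw [Sylow.coe_subtype, Sylow.coe_subtype] at h2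
      apply Sylow.ext
      have h3 := congrArg (Subgroup.map K.subtype) h2
      rw [Subgroup.subgroupOf_map_subtype, Subgroup.subgroupOf_map_subtype,
        inf_eq_left.mpr hP, inf_eq_left.mpr hR] at h3
      exact h3
    have hpos : 0 < Nat.card (Sylow p K) := Nat.card_pos
    have hne1 : Nat.card (Sylow p K) ≠ 1 := by
      intro h
      have hss : Subsingleton (Sylow p K) := (Nat.card_eq_one_iff_unique.mp h).1
      exact hne (Subsingleton.elim _ _)
    omega
  · have := card_sylow_modEq_one p K
    unfold Nat.ModEq at this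
    rw [this, Nat.mod_eq_of_lt hp.out.one_lt]
  · have h1 : Nat.card (Sylow p K) ∣ ((P.subtype hP : Sylow p K) : Subgroup K).index :=
      (P.subtype hP).card_dvd_index
    have h2 := Subgroup.card_mul_index ((P.subtype hP : Sylow p K) : Subgroup K)
    have h3 : Nat.card ((P.subtype hP : Sylow p K) : Subgroup K) = Nat.card (P : Subgroup G) := by
      rw [Sylow.coe_subtype]
      exact Nat.card_congr (Subgroup.subgroupOfEquivOfLe hP).toEquiv
    rw [h3] at h2
    rw [← h2]
    exact Nat.mul_dvd_mul_left _ h1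


/-! ### Boolean certificates -/

/-- Boolean form of the constraints on a candidate Sylow number `k` (order `n = p^a m`). -/
def f1ok (n p m k : ℕ) : Bool :=
  decide (k ∣ m) && decide (k % p = 1) && decide (1 < k) && decide (2 * n ∣ k !) &&
    !(decide (p = 5 ∧ k = 21)) && !(decide (p = 7 ∧ k = 15)) && !(decide (p = 3 ∧ k = 22))

theorem f1ok_sylow [IsSimpleGroup G] (hG : ¬ IsMulCommutative G) (n p : ℕ) [hp : Fact p.Prime]
    (a m : ℕ) (ha : 0 < a) (hm1 : 1 < m) (hm : ¬ p ∣ m) (hn : Nat.card G = n)
    (hnm : n = p ^ a * m) : f1ok n p m (Nat.card (Sylow p G)) = true := by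
  obtain ⟨h1, h2, h3, h4⟩ := sylow_num hG p a m ha hm1 hm (hn.trans hnm)
  rw [hn] at h4
  unfold f1ok
  simp only [Bool.and_eq_true, decide_eq_true_eq, Bool.not_eq_true', decide_eq_false_iff_not]
  refine ⟨⟨⟨⟨⟨⟨h1, h2⟩, h3⟩, h4⟩, ?_⟩, ?_⟩, ?_⟩
  · rintro ⟨rfl, h⟩
    exact Cfsg.Agent.S1010.result h
  · rintro ⟨rfl, h⟩
    exact Cfsg.Agent.S4304.result h
  · rintro ⟨rfl, h⟩
    exact Cfsg.Agent.S4346.result h

theorem sylow_num_le [IsSimpleGroup G] (hG : ¬ IsMulCommutative G) (p : ℕ) [hp : Fact p.Prime]
    (a m : ℕ) (ha : 0 < a) (hm1 : 1 < m) (hm : ¬ p ∣ m) (hcard : Nat.card G = p ^ a * m) :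
    Nat.card (Sylow p G) ∈ List.range (m + 1) := by
  obtain ⟨h1, -, -, -⟩ := sylow_num hG p a m ha hm1 hm hcard
  rw [List.mem_range]
  have := Nat.le_of_dvd (by omega) h1
  omega

/-- Kill an order by the plain Sylow-number filter at the prime `p`. -/
theorem kill_F1 [IsSimpleGroup G] (hG : ¬ IsMulCommutative G) (n p a m : ℕ) (hp : p.Prime)
    (ha : 0 < a) (hm1 : 1 < m) (hm : ¬ p ∣ m) (hnm : n = p ^ a * m)
    (cert : (List.range (m + 1)).all (fun k => !f1ok n p m k) = true) :
    Nat.card G ≠ n := by
  intro hn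
  have : Fact p.Prime := ⟨hp⟩
  have h1 := f1ok_sylow hG n p a m ha hm1 hm hn hnm
  have h2 := sylow_num_le hG p a m ha hm1 hm (hn.trans hnm)
  rw [List.all_eq_true] at cert
  have h3 := cert _ h2
  rw [h1] at h3
  exact absurd h3 (by decide)

/-- Boolean form of the transfer constraints for `p ‖ n`. -/
def f2ok (n p m k e : ℕ) : Bool :=
  f1ok n p m k && decide (1 < e) && decide (e ∣ p - 1) && decide (k * e ∣ m)

/-- Kill an order by Burnside's transfer theorem at a prime `p ‖ n`. -/
theorem kill_F2 [IsSimpleGroup G] (hG : ¬ IsMulCommutative G) (n p m : ℕ) (hp : p.Prime)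
    (hm1 : 1 < m) (hm : ¬ p ∣ m) (hnm : n = p * m)
    (cert : (List.range (m + 1)).all
      (fun k => (List.range p).all (fun e => !f2ok n p m k e)) = true) :
    Nat.card G ≠ n := by
  intro hn
  have : Fact p.Prime := ⟨hp⟩
  have hnm' : n = p ^ 1 * m := by rw [pow_one]; exact hnm
  have h1 := f1ok_sylow hG n p 1 m one_pos hm1 hm hn hnm'
  have h2 := sylow_num_le hG p 1 m one_pos hm1 hm (hn.trans hnm')
  obtain ⟨P⟩ : Nonempty (Sylow p G) := inferInstance
  obtain ⟨e, c, he1, hedvd, hkec, -, -⟩ := sylow_prime_data hG p m hm1 hm (hn.trans hnm) P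
  rw [List.all_eq_true] at cert
  have h3 := cert _ h2
  rw [List.all_eq_true] at h3
  have he : e ∈ List.range p := by
    rw [List.mem_range]
    have := Nat.le_of_dvd (by have := hp.two_le; omega) hedvd
    have := hp.two_le
    omega
  have h4 := h3 e he
  have h5 : f2ok n p m (Nat.card (Sylow p G)) e = true := by
    unfold f2ok
    simp only [Bool.and_eq_true, decide_eq_true_eq]
    refine ⟨⟨⟨h1, he1⟩, hedvd⟩, ?_⟩
    rw [← hkec]
    exact ⟨c, by ring⟩
  rw [h5] at h4
  exact absurd h4 (by decide)

end Cfsg.H5.SmallOrd
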