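import Mathlib
import Cfsg.Agent.H5.SmallOrdBasic
import Cfsg.Agent.S0904

/-!
# Orders `q₁^a q₂^b p`: self-centralizing Sylow `p`-subgroups (helper5, for S0496)

Uses helper7's S0904 (`C(P) = P`) on top of `SmallOrdBasic.sylow_prime_data`.
-/

set_option autoImplicit false
set_option linter.unusedSectionVars false

namespace Cfsg.H5.SmallOrd

open scoped Nat

variable {G : Type*} [Group G] [Finite G]

theorem not_dvd_two_prime_pows {q1 q2 p a b : ℕ} (hq1 : q1.Prime) (hq2 : q2.Prime) (hp : p.Prime)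
    (h1p : q1 ≠ p) (h2p : q2 ≠ p) : ¬ p ∣ q1 ^ a * q2 ^ b := by
  intro h
  rcases (Nat.Prime.dvd_mul hp).mp h with h | h
  · exact h1p ((Nat.prime_dvd_prime_iff_eq hp hq1).mp (hp.dvd_of_dvd_pow h)).symm
  · exact h2p ((Nat.prime_dvd_prime_iff_eq hp hq2).mp (hp.dvd_of_dvd_pow h)).symm

/-- In a simple group of order `q₁^a q₂^b p`: `C(P) = P`, `|N(P)| = p e` with `1 < e ∣ p - 1`
and `n_p * e = q₁^a q₂^b`. -/
theorem sylow_prime_data3 [IsSimpleGroup G] (hG : ¬ IsMulCommutative G) (q1 q2 p a b : ℕ)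
    (hq1 : q1.Prime) (hq2 : q2.Prime) [hp : Fact p.Prime] (h12 : q1 ≠ q2) (h1p : q1 ≠ p)
    (h2p : q2 ≠ p) (hcard : Nat.card G = q1 ^ a * q2 ^ b * p) (hm1 : 1 < q1 ^ a * q2 ^ b)
    (P : Sylow p G) :
    ∃ e : ℕ, 1 < e ∧ e ∣ p - 1 ∧ Nat.card (Sylow p G) * e = q1 ^ a * q2 ^ b ∧
      Subgroup.centralizer ((P : Subgroup G) : Set G) = (P : Subgroup G) ∧
      Nat.card (P : Subgroup G) = p ∧
      Nat.card (Subgroup.normalizer ((P : Subgroup G) : Set G)) = p * e := by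
  have hm := not_dvd_two_prime_pows (a := a) (b := b) hq1 hq2 hp.out h1p h2p
  have hcard' : Nat.card G = p * (q1 ^ a * q2 ^ b) := by rw [hcard, mul_comm]
  obtain ⟨e, c, he1, hedvd, hkec, hC, hN⟩ := sylow_prime_data hG p _ hm1 hm hcard' P
  have hCP : Subgroup.centralizer ((P : Subgroup G) : Set G) = (P : Subgroup G) :=
    Cfsg.Agent.S0904.result q1 q2 p a b hq1 hq2 h12 h1p h2p hcard P
  have hPc : Nat.card (P : Subgroup G) = p := by
    have := sylow_card p 1 _ hm (by rw [pow_one]; exact hcard') P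
    rwa [pow_one] at this
  have hc1 : c = 1 := by
    rw [hCP, hPc] at hC
    have : p * 1 = p * c := by rw [mul_one]; exact hC
    exact (Nat.eq_of_mul_eq_mul_left hp.out.pos this).symm
  subst hc1
  rw [mul_one] at hkec hN
  exact ⟨e, he1, hedvd, hkec, hCP, hPc, hN⟩

/-- Boolean form of the constraints for `p ‖ n = q₁^a q₂^b p` (self-centralizing Sylow). -/
def f3ok (n p m k e : ℕ) : Bool :=
  f1ok n p m k && decide (1 < e) && decide (e ∣ p - 1) && decide (k * e = m)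

/-- Kill an order `q₁^a q₂^b p` via `C(P) = P` and Burnside's transfer theorem. -/
theorem kill_F3 [IsSimpleGroup G] (hG : ¬ IsMulCommutative G) (n q1 q2 p a b : ℕ)
    (hq1 : q1.Prime) (hq2 : q2.Prime) (hp : p.Prime) (h12 : q1 ≠ q2) (h1p : q1 ≠ p)
    (h2p : q2 ≠ p) (hm1 : 1 < q1 ^ a * q2 ^ b) (hnm : n = q1 ^ a * q2 ^ b * p)
    (cert : (List.range (q1 ^ a * q2 ^ b + 1)).all
      (fun k => (List.range p).all (fun e => !f3ok n p (q1 ^ a * q2 ^ b) k e)) = true) :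
    Nat.card G ≠ n := by
  intro hn
  have : Fact p.Prime := ⟨hp⟩
  have hm := not_dvd_two_prime_pows (a := a) (b := b) hq1 hq2 hp h1p h2p
  have hnm' : n = p ^ 1 * (q1 ^ a * q2 ^ b) := by rw [pow_one, hnm, mul_comm]
  have h1 := f1ok_sylow hG n p 1 _ one_pos hm1 hm hn hnm'
  have h2 := sylow_num_le hG p 1 _ one_pos hm1 hm (hn.trans hnm')
  obtain ⟨P⟩ : Nonempty (Sylow p G) := inferInstance
  obtain ⟨e, he1, hedvd, hke, -, -, -⟩ :=
    sylow_prime_data3 hG q1 q2 p a b hq1 hq2 h12 h1p h2p (hn.trans hnm) hm1 P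
  rw [List.all_eq_true] at cert
  have h3 := cert _ h2
  rw [List.all_eq_true] at h3
  have he : e ∈ List.range p := by
    rw [List.mem_range]
    have := Nat.le_of_dvd (by have := hp.two_le; omega) hedvd
    have := hp.two_le
    omega
  have h4 := h3 e he
  have h5 : f3ok n p (q1 ^ a * q2 ^ b) (Nat.card (Sylow p G)) e = true := by
    unfold f3ok
    simp only [Bool.and_eq_true, decide_eq_true_eq]
    exact ⟨⟨⟨h1, he1⟩, hedvd⟩, hke⟩
  rw [h5] at h4
  exact absurd h4 (by decide)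

end Cfsg.H5.SmallOrd
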