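import Mathlib
import Cfsg.Prelude.Def_Transfer
import Cfsg.Prelude.Def_Solvable

set_option autoImplicit false

namespace Cfsg.H5

open Subgroup

variable {G : Type*} [Group G]

/-- The closure of a set of pairwise commuting elements of exponent `p` is elementary abelian. -/
theorem isElementaryAbelian_closure {p : ℕ} {k : Set G}
    (hcomm : ∀ x ∈ k, ∀ y ∈ k, x * y = y * x) (hpow : ∀ x ∈ k, x ^ p = 1) :
    Cfsg.IsElementaryAbelian p (Subgroup.closure k) := by
  have hc : IsMulCommutative (Subgroup.closure k) := Subgroup.isMulCommutative_closure hcomm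
  refine ⟨hc, ?_⟩
  intro a ha
  induction ha using Subgroup.closure_induction with
  | mem x hx => exact hpow x hx
  | one => simp
  | mul x y hx hy ihx ihy =>
    have : Commute x y := setLike_mul_comm (s := Subgroup.closure k) hx hy
    rw [this.mul_pow, ihx, ihy, one_mul]
  | inv x hx ih => rw [inv_pow, ih, inv_one]

theorem isElementaryAbelian_bot (p : ℕ) : Cfsg.IsElementaryAbelian p (⊥ : Subgroup G) := by
  refine ⟨inferInstance, ?_⟩
  intro a ha
  rw [Subgroup.mem_bot] at ha
  subst ha
  simp

/-- The join of two commuting elementary abelian subgroups is elementary abelian. -/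
theorem isElementaryAbelian_sup {p : ℕ} {A B : Subgroup G}
    (hA : Cfsg.IsElementaryAbelian p A) (hB : Cfsg.IsElementaryAbelian p B)
    (hAB : A ≤ Subgroup.centralizer (B : Set G)) :
    Cfsg.IsElementaryAbelian p (A ⊔ B) := by
  have h := isElementaryAbelian_closure (p := p) (k := (A : Set G) ∪ B) ?_ ?_
  · rwa [Subgroup.closure_union, Subgroup.closure_eq, Subgroup.closure_eq] at h
  · rintro x (hx | hx) y (hy | hy)
    · have := hA.1; exact setLike_mul_comm hx hy
    · exact ((Subgroup.mem_centralizer_iff.mp (hAB hx)) y hy).symm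
    · exact (Subgroup.mem_centralizer_iff.mp (hAB hy)) x hx
    · have := hB.1; exact setLike_mul_comm hx hy
  · rintro x (hx | hx)
    · exact hA.2 x hx
    · exact hB.2 x hx

theorem isElementaryAbelian_mono {p : ℕ} {A B : Subgroup G} (hB : Cfsg.IsElementaryAbelian p B)
    (hAB : A ≤ B) : Cfsg.IsElementaryAbelian p A := by
  refine ⟨?_, fun a ha => hB.2 a (hAB ha)⟩
  have := hB.1
  exact IsMulCommutative.of_setLike_mul_comm fun a ha b hb => setLike_mul_comm (hAB ha) (hAB hb)

theorem isElementaryAbelian_zpowers {p : ℕ} {x : G} (hx : x ^ p = 1) :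
    Cfsg.IsElementaryAbelian p (Subgroup.zpowers x) := by
  refine ⟨inferInstance, ?_⟩
  intro a ha
  obtain ⟨k, rfl⟩ := Subgroup.mem_zpowers_iff.mp ha
  rw [← zpow_natCast, ← zpow_mul, mul_comm, zpow_mul, zpow_natCast, hx, one_zpow]

/-- In a finite group there is an elementary abelian subgroup of largest order. -/
theorem maxElementaryAbelianSubgroups_nonempty [Finite G] (p : ℕ) :
    (Cfsg.maxElementaryAbelianSubgroups p G).Nonempty := by
  classical
  have hfin : (Set.univ : Set (Subgroup G)).Finite := Set.finite_univ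
  have hne : {A : Subgroup G | Cfsg.IsElementaryAbelian p A}.Nonempty := ⟨⊥, isElementaryAbelian_bot p⟩
  obtain ⟨A, hA, hmax⟩ := Set.exists_max_image {A : Subgroup G | Cfsg.IsElementaryAbelian p A}
    (fun A => Nat.card A) (Set.toFinite _) hne
  exact ⟨A, hA, fun B hB => hmax B hB⟩

/-- An elementary abelian subgroup containing a maximal-order one equals it. -/
theorem eq_of_mem_maxElementaryAbelianSubgroups_of_le [Finite G] {p : ℕ} {A B : Subgroup G}
    (hA : A ∈ Cfsg.maxElementaryAbelianSubgroups p G) (hB : Cfsg.IsElementaryAbelian p B)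
    (hAB : A ≤ B) : B = A := by
  have h1 : Nat.card B ≤ Nat.card A := hA.2 B hB
  have h2 : Nat.card A ≤ Nat.card B := Subgroup.card_le_of_le hAB
  have h3 : Nat.card A = Nat.card B := le_antisymm h2 h1
  symm
  apply Subgroup.eq_of_le_of_card_ge hAB
  rw [h3]

end Cfsg.H5
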