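import Mathlib

set_option autoImplicit false

namespace Cfsg.H5

open Subgroup

variable {G : Type*} [Group G]

theorem card_mul_relIndex_of_le {H K : Subgroup G} (h : H ≤ K) :
    Nat.card H * H.relIndex K = Nat.card K := by
  have := Subgroup.relIndex_mul_relIndex ⊥ H K bot_le h
  rwa [Subgroup.relIndex_bot_left, Subgroup.relIndex_bot_left] at this

theorem relIndex_sup_of_le_normalizer {H N : Subgroup G} (hLE : H ≤ normalizer (N : Set G)) :
    N.relIndex (H ⊔ N) = N.relIndex H := by
  have := Subgroup.normal_subgroupOf_of_le_normalizer hLE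
  have := Subgroup.normal_subgroupOf_sup_of_le_normalizer hLE
  exact Nat.card_congr (QuotientGroup.quotientInfEquivProdNormalizerQuotient H N hLE).toEquiv.symm

/-- Product formula: if `H` normalizes `N` then `|HN| |H ∩ N| = |H| |N|`. -/
theorem card_sup_mul_card_inf {H N : Subgroup G} (hLE : H ≤ normalizer (N : Set G)) :
    Nat.card ↥(H ⊔ N) * Nat.card ↥(H ⊓ N) = Nat.card H * Nat.card N := by
  have h1 : Nat.card N * N.relIndex (H ⊔ N) = Nat.card ↥(H ⊔ N) :=
    card_mul_relIndex_of_le le_sup_right
  have h2 : Nat.card ↥(H ⊓ N) * (H ⊓ N).relIndex H = Nat.card H :=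
    card_mul_relIndex_of_le inf_le_left
  rw [Subgroup.inf_relIndex_left] at h2
  rw [relIndex_sup_of_le_normalizer hLE] at h1
  rw [← h1, ← h2]
  ring

theorem le_normalizer_of_le_centralizer {H N : Subgroup G} (h : H ≤ centralizer (N : Set G)) :
    H ≤ normalizer (N : Set G) :=
  h.trans (Subgroup.centralizer_le_normalizer _)

end Cfsg.H5
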