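import Mathlib
import Cfsg.Prelude.Def_Solvable
import Cfsg.Agent.H5.Card

set_option autoImplicit false

namespace Cfsg.H5

open Subgroup

variable {G : Type*} [Group G]

/-! ### The `p`-core -/

theorem pCore_isPGroup (p : ℕ) (G : Type*) [Group G] : IsPGroup p (Cfsg.pCore p G) :=
  Sylow.sSup_of_normal _ (fun _ h => h.2) (fun _ h => h.1)

theorem pCore_normal (p : ℕ) (G : Type*) [Group G] : (Cfsg.pCore p G).Normal :=
  Subgroup.sSup_normal _ (fun _ h => h.1)

theorem le_pCore {p : ℕ} {N : Subgroup G} (hn : N.Normal) (h : IsPGroup p N) : N ≤ Cfsg.pCore p G :=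
  le_sSup ⟨hn, h⟩

theorem pCore_characteristic (p : ℕ) (G : Type*) [Group G] : (Cfsg.pCore p G).Characteristic := by
  rw [Subgroup.characteristic_iff_map_le]
  intro φ
  unfold Cfsg.pCore
  rw [Subgroup.map_le_iff_le_comap]
  apply sSup_le
  rintro N ⟨hn, hp⟩
  rw [← Subgroup.map_le_iff_le_comap]
  apply le_sSup
  refine ⟨?_, hp.map _⟩
  have : N.map φ.toMonoidHom = N.map (φ : G →* G) := rfl
  exact Subgroup.Normal.map hn _ φ.surjective

/-! ### The `p'`-core -/

theorem pPrimeCore_normal (p : ℕ) (G : Type*) [Group G] : (Cfsg.pPrimeCore p G).Normal :=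
  Subgroup.sSup_normal _ (fun _ h => h.1)

theorem coprime_card_sup {p : ℕ} [Finite G] {N M : Subgroup G} (hN : N.Normal)
    (h1 : (Nat.card N).Coprime p) (h2 : (Nat.card M).Coprime p) :
    (Nat.card ↥(N ⊔ M)).Coprime p := by
  have hle : M ≤ normalizer (N : Set G) := by
    rw [Subgroup.normalizer_eq_top_iff.mpr hN]; exact le_top
  have h := card_sup_mul_card_inf hle
  have hdvd : Nat.card ↥(M ⊔ N) ∣ Nat.card M * Nat.card N := Dvd.intro _ h
  rw [sup_comm]
  exact Nat.Coprime.coprime_dvd_left hdvd (Nat.Coprime.mul_left h2 h1)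

theorem coprime_card_pPrimeCore (p : ℕ) (G : Type*) [Group G] [Finite G] :
    (Nat.card (Cfsg.pPrimeCore p G)).Coprime p := by
  classical
  unfold Cfsg.pPrimeCore
  have hfin : {N : Subgroup G | N.Normal ∧ (Nat.card N).Coprime p}.Finite := Set.toFinite _
  -- induct over finite subsets
  have key : ∀ s : Set (Subgroup G), s.Finite → s ⊆ {N : Subgroup G | N.Normal ∧ (Nat.card N).Coprime p} →
      (sSup s).Normal ∧ (Nat.card ↥(sSup s)).Coprime p := by
    intro s hs
    induction s, hs using Set.Finite.induction_on with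
    | empty =>
      intro _
      rw [sSup_empty]
      refine ⟨inferInstance, ?_⟩
      rw [Subgroup.card_bot]
      exact Nat.coprime_one_left p
    | @insert a s ha hs ih =>
      intro hsub
      have ih' := ih (fun x hx => hsub (Set.mem_insert_of_mem a hx))
      have ha' := hsub (Set.mem_insert a s)
      rw [sSup_insert]
      refine ⟨?_, coprime_card_sup ha'.1 ha'.2 ih'.2⟩
      have := ha'.1
      have := ih'.1
      infer_instance
  exact (key _ hfin subset_rfl).2

theorem le_pPrimeCore {p : ℕ} {N : Subgroup G} (hn : N.Normal) (h : (Nat.card N).Coprime p) :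
    N ≤ Cfsg.pPrimeCore p G :=
  le_sSup ⟨hn, h⟩

end Cfsg.H5
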