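import Mathlib

set_option autoImplicit false

namespace Cfsg.H5

open Subgroup
open scoped commutatorElement

variable {G : Type*} [Group G]

/-- Abstract identity: if `h` centralizes `⁅u⁻¹,k⁆`, `k` centralizes `⁅u⁻¹,h⁆` and the two
commutators commute, then `hk` and `kh` conjugate `u` in the same way. -/
theorem conj_mul_comm_of_quadratic (u h k : G)
    (h1 : h * (u⁻¹ * k * u * k⁻¹) = (u⁻¹ * k * u * k⁻¹) * h)
    (h2 : k * (u⁻¹ * h * u * h⁻¹) = (u⁻¹ * h * u * h⁻¹) * k)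
    (h3 : (u⁻¹ * h * u * h⁻¹) * (u⁻¹ * k * u * k⁻¹) = (u⁻¹ * k * u * k⁻¹) * (u⁻¹ * h * u * h⁻¹)) :
    h * k * u * k⁻¹ * h⁻¹ = k * h * u * h⁻¹ * k⁻¹ := by
  have e1 : h * k * u * k⁻¹ * h⁻¹ = u * (u⁻¹ * h * u * h⁻¹) * (h * (u⁻¹ * k * u * k⁻¹) * h⁻¹) := by
    group
  have e2 : k * h * u * h⁻¹ * k⁻¹ = u * (u⁻¹ * k * u * k⁻¹) * (k * (u⁻¹ * h * u * h⁻¹) * k⁻¹) := by
    group
  rw [e1, e2, h1, h2, mul_assoc _ h h⁻¹, mul_inv_cancel, mul_one, mul_assoc _ k k⁻¹, mul_inv_cancel,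
    mul_one, mul_assoc u, h3, ← mul_assoc u]

/-- Abstract identity: if `h` centralizes `c = ⁅u⁻¹,h⁆` then `h^n u h^{-n} = u c^n`. -/
theorem conj_pow_of_quadratic (u h : G)
    (h1 : h * (u⁻¹ * h * u * h⁻¹) = (u⁻¹ * h * u * h⁻¹) * h) (n : ℕ) :
    h ^ n * u * (h ^ n)⁻¹ = u * (u⁻¹ * h * u * h⁻¹) ^ n := by
  induction n with
  | zero => simp
  | succ n ih =>
    have hc : Commute h (u⁻¹ * h * u * h⁻¹) := h1
    have e1 : h ^ (n + 1) * u * (h ^ (n + 1))⁻¹ = h * (h ^ n * u * (h ^ n)⁻¹) * h⁻¹ := by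
      rw [pow_succ']; group
    rw [e1, ih]
    have e2 : h * (u * (u⁻¹ * h * u * h⁻¹) ^ n) * h⁻¹ =
        u * (u⁻¹ * h * u * h⁻¹) * (h * (u⁻¹ * h * u * h⁻¹) ^ n * h⁻¹) := by group
    rw [e2, (hc.pow_right n).eq, mul_assoc _ h h⁻¹, mul_inv_cancel, mul_one, mul_assoc u, ← pow_succ']

/-- Setup lemma: in the quadratic situation `⁅⁅V,H⁆,H⁆ = ⊥`, commutators `⁅v,h⁆` are centralized
by `H`. -/
theorem quadratic_comm {V H : Subgroup G} (hq : ⁅⁅V, H⁆, H⁆ = ⊥) {v h k : G}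
    (hv : v ∈ V) (hh : h ∈ H) (hk : k ∈ H) :
    k * (v⁻¹ * h * v * h⁻¹) = (v⁻¹ * h * v * h⁻¹) * k := by
  rw [Subgroup.commutator_eq_bot_iff_le_centralizer] at hq
  have hc : ⁅v⁻¹, h⁆ ∈ ⁅V, H⁆ := Subgroup.commutator_mem_commutator (V.inv_mem hv) hh
  have := hq hc
  rw [Subgroup.mem_centralizer_iff] at this
  have := this k hk
  rw [commutatorElement_def, inv_inv] at this
  exact this

/-- In the normalizing situation `⁅v⁻¹, h⁆ ∈ V`. -/
theorem comm_mem_of_le_normalizer {V H : Subgroup G} (hHV : H ≤ normalizer (V : Set G)) {v h : G}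
    (hv : v ∈ V) (hh : h ∈ H) : v⁻¹ * h * v * h⁻¹ ∈ V := by
  have := (Subgroup.mem_normalizer_iff.mp (hHV hh) v).mp hv
  have h2 := V.mul_mem (V.inv_mem hv) this
  simpa [mul_assoc] using h2

/-- Quadratic action of `H` on an abelian `V`: `H' ≤ C(V)`. -/
theorem commutator_le_centralizer_of_quadratic {V H : Subgroup G} [IsMulCommutative V]
    (hHV : H ≤ normalizer (V : Set G)) (hq : ⁅⁅V, H⁆, H⁆ = ⊥) :
    ⁅H, H⁆ ≤ centralizer (V : Set G) := by
  rw [Subgroup.commutator_le]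
  intro h hh k hk
  rw [Subgroup.mem_centralizer_iff]
  intro u hu
  have key := conj_mul_comm_of_quadratic u h⁻¹ k⁻¹
    (quadratic_comm hq hu (H.inv_mem hk) (H.inv_mem hh))
    (quadratic_comm hq hu (H.inv_mem hh) (H.inv_mem hk))
    (setLike_mul_comm (comm_mem_of_le_normalizer hHV hu (H.inv_mem hh))
      (comm_mem_of_le_normalizer hHV hu (H.inv_mem hk)))
  rw [commutatorElement_def]
  simp only [inv_inv] at key
  -- key : h⁻¹ * k⁻¹ * u * k * h = k⁻¹ * h⁻¹ * u * h * k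
  calc u * (h * k * h⁻¹ * k⁻¹) = (h * k) * (k⁻¹ * h⁻¹ * u * h * k) * (h⁻¹ * k⁻¹) := by group
    _ = (h * k) * (h⁻¹ * k⁻¹ * u * k * h) * (h⁻¹ * k⁻¹) := by rw [key]
    _ = h * k * h⁻¹ * k⁻¹ * u := by group

/-- Quadratic action of `H` on an elementary abelian `V`: `p`-th powers centralize `V`. -/
theorem pow_mem_centralizer_of_quadratic {p : ℕ} {V H : Subgroup G} (hVp : ∀ v ∈ V, v ^ p = 1)
    (hHV : H ≤ normalizer (V : Set G)) (hq : ⁅⁅V, H⁆, H⁆ = ⊥) {a : G} (ha : a ∈ H) :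
    a ^ p ∈ centralizer (V : Set G) := by
  rw [Subgroup.mem_centralizer_iff]
  intro u hu
  have key := conj_pow_of_quadratic u a (quadratic_comm hq hu ha ha) p
  rw [hVp _ (comm_mem_of_le_normalizer hHV hu ha), mul_one] at key
  calc u * a ^ p = (a ^ p * u * (a ^ p)⁻¹) * a ^ p := by rw [key]
    _ = a ^ p * u := by group

/-- The commutator map `v ↦ v⁻¹ a v a⁻¹` of an abelian subgroup `V` normalized by `a`. -/
noncomputable def commHom (V : Subgroup G) [IsMulCommutative V] (a : G)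
    (ha : a ∈ normalizer (V : Set G)) : V →* V :=
  MonoidHom.mk' (fun v => ⟨(v : G)⁻¹ * a * v * a⁻¹,
    comm_mem_of_le_normalizer (H := zpowers a) (Subgroup.zpowers_le.mpr ha) v.2 (Subgroup.mem_zpowers a)⟩)
    (by
      intro u v
      apply Subtype.ext
      have hu : a * (u : G) * a⁻¹ ∈ V := (Subgroup.mem_normalizer_iff.mp ha u).mp u.2
      have hc : (v : G)⁻¹ * (a * u * a⁻¹) = (a * u * a⁻¹) * (v : G)⁻¹ :=
        setLike_mul_comm (V.inv_mem v.2) hu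
      show ((u : G) * v)⁻¹ * a * (u * v) * a⁻¹ = ((u : G)⁻¹ * a * u * a⁻¹) * ((v : G)⁻¹ * a * v * a⁻¹)
      calc ((u : G) * v)⁻¹ * a * (u * v) * a⁻¹
          = (v : G)⁻¹ * (u : G)⁻¹ * (a * u * a⁻¹) * (a * v * a⁻¹) := by group
        _ = (u : G)⁻¹ * ((v : G)⁻¹ * (a * u * a⁻¹)) * (a * v * a⁻¹) := by
            rw [setLike_mul_comm (V.inv_mem v.2) (V.inv_mem u.2)]; group
        _ = (u : G)⁻¹ * ((a * u * a⁻¹) * (v : G)⁻¹) * (a * v * a⁻¹) := by rw [hc]
        _ = ((u : G)⁻¹ * a * u * a⁻¹) * ((v : G)⁻¹ * a * v * a⁻¹) := by group)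

theorem commHom_apply (V : Subgroup G) [IsMulCommutative V] (a : G)
    (ha : a ∈ normalizer (V : Set G)) (v : V) :
    ((commHom V a ha v : V) : G) = (v : G)⁻¹ * a * v * a⁻¹ := rfl

theorem mem_centralizer_zpowers_iff {a x : G} :
    x ∈ centralizer ((zpowers a : Subgroup G) : Set G) ↔ x * a = a * x := by
  rw [Subgroup.zpowers_eq_closure, Subgroup.centralizer_closure, Subgroup.mem_centralizer_singleton_iff]

/-- For a quadratically acting element `a` on an abelian group `V`: `|V| ≤ |C_V(a)|²`. -/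
theorem card_le_sq_of_quadratic {V : Subgroup G} [IsMulCommutative V] [Finite V] {a : G}
    (ha : a ∈ normalizer (V : Set G)) (hq : ⁅⁅V, zpowers a⁆, zpowers a⁆ = ⊥) :
    Nat.card V ≤ Nat.card ↥(V ⊓ centralizer ((zpowers a : Subgroup G) : Set G)) ^ 2 := by
  set C := V ⊓ centralizer ((zpowers a : Subgroup G) : Set G) with hC
  set φ := commHom V a ha with hφ
  have hker : φ.ker = C.subgroupOf V := by
    ext v
    rw [MonoidHom.mem_ker, Subgroup.mem_subgroupOf, hC, Subgroup.mem_inf, mem_centralizer_zpowers_iff,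
      Subtype.ext_iff, commHom_apply]
    constructor
    · intro h
      refine ⟨v.2, ?_⟩
      have : (v : G) * a = v * ((v : G)⁻¹ * a * v * a⁻¹) * a := by rw [h]; simp
      rw [this]; group
    · rintro ⟨-, h⟩
      have : (v : G)⁻¹ * a * v * a⁻¹ = (v : G)⁻¹ * (a * v) * a⁻¹ := by group
      rw [this, ← h]; simp
  have hrange : φ.range ≤ C.subgroupOf V := by
    rintro _ ⟨v, rfl⟩
    rw [Subgroup.mem_subgroupOf, hC, Subgroup.mem_inf, mem_centralizer_zpowers_iff, commHom_apply]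
    refine ⟨(φ v).2, ?_⟩
    exact (quadratic_comm hq v.2 (Subgroup.mem_zpowers a) (Subgroup.mem_zpowers a)).symm
  have hcardC : Nat.card (C.subgroupOf V) = Nat.card C :=
    Nat.card_congr (Subgroup.subgroupOfEquivOfLe (inf_le_left : C ≤ V)).toEquiv
  have h1 : Nat.card φ.ker * φ.ker.index = Nat.card V := Subgroup.card_mul_index _
  rw [Subgroup.index_ker, hker, hcardC] at h1
  have h2 : Nat.card φ.range ≤ Nat.card C := by
    rw [← hcardC]; exact Subgroup.card_le_of_le hrange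
  calc Nat.card V = Nat.card C * Nat.card φ.range := h1.symm
    _ ≤ Nat.card C * Nat.card C := Nat.mul_le_mul_left _ h2
    _ = Nat.card C ^ 2 := (sq _).symm

end Cfsg.H5
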