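import Mathlib
import Cfsg.Prelude.Def_PLocal
import Cfsg.Agent.H5.Basic
import Cfsg.Agent.H5.Cores
import Cfsg.Agent.H5.Quadratic
import Cfsg.Agent.Lib.Helper1.Frattini

/-!
# Reduction of `Cfsg.IsActionPStable` to actions on elementary abelian groups

`AutStable p Γ`: for every action of `Γ` on a finite elementary abelian `p`-group `A`, quadratically
acting elements map into `O_p(Γ / C_Γ(A))`.
`isActionPStable_of_autStable`: if `G` and all its subgroups are `AutStable`, then
`Cfsg.IsActionPStable p G`.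
-/

set_option autoImplicit false
set_option linter.style.haveILetI false

namespace Cfsg.H5.APS

open Cfsg
open scoped commutatorElement

universe u

/-- quadratically acting elements act as elements of `O_p` on every elementary abelian `p`-group -/
def AutStable (p : ℕ) (Γ : Type u) [Group Γ] : Prop :=
  ∀ (A : Type u) [Group A] [Finite A], (∀ x y : A, x * y = y * x) → (∀ x : A, x ^ p = 1) →
    ∀ (σ : Γ →* MulAut A) (a : Γ), (∀ w : A, σ a (σ a w * w⁻¹) = σ a w * w⁻¹) →
    ∀ (C : Subgroup Γ) [C.Normal], C = σ.ker →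
      (QuotientGroup.mk a : Γ ⧸ C) ∈ Cfsg.pCore p (Γ ⧸ C)

variable {Γ : Type u} [Group Γ]

/-- quadratic action in elementwise form -/
theorem quad_elementwise {V : Subgroup Γ} {a : Γ}
    (ha : ⁅⁅V, Subgroup.zpowers a⁆, Subgroup.zpowers a⁆ = ⊥) :
    ∀ v ∈ V, a * (a * v * a⁻¹ * v⁻¹) = (a * v * a⁻¹ * v⁻¹) * a := by
  intro v hv
  have h1 := Cfsg.H5.quadratic_comm ha (V.inv_mem hv) (Subgroup.mem_zpowers a)
    (Subgroup.mem_zpowers a)
  rw [inv_inv] at h1
  have h2 : a * v * a⁻¹ * v⁻¹ = (v * a * v⁻¹ * a⁻¹)⁻¹ := by group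
  rw [h2]
  have h3 : Commute a (v * a * v⁻¹ * a⁻¹) := h1
  exact h3.inv_right.eq

theorem mem_sectionKernel_iff {V V₁ : Subgroup Γ} [V₁.Normal] {g : Γ} :
    g ∈ Cfsg.sectionKernel V V₁ ↔ ∀ v ∈ V, ⁅v, g⁆ ∈ V₁ := by
  unfold Cfsg.sectionKernel
  rw [Subgroup.mem_comap, Subgroup.mem_centralizer_iff]
  constructor
  · intro h v hv
    have h1 := h (QuotientGroup.mk' V₁ v) ⟨v, hv, rfl⟩
    rw [← QuotientGroup.eq_one_iff, ← QuotientGroup.mk'_apply, map_commutatorElement,
      commutatorElement_eq_one_iff_mul_comm]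
    exact h1
  · rintro h _ ⟨v, hv, rfl⟩
    have h1 := h v hv
    rw [← QuotientGroup.eq_one_iff, ← QuotientGroup.mk'_apply, map_commutatorElement,
      commutatorElement_eq_one_iff_mul_comm] at h1
    exact h1

theorem sectionKernel_normal (V V₁ : Subgroup Γ) [V.Normal] [V₁.Normal] :
    (Cfsg.sectionKernel V V₁).Normal := by
  unfold Cfsg.sectionKernel
  have : (V.map (QuotientGroup.mk' V₁)).Normal :=
    Subgroup.Normal.map inferInstance _ (QuotientGroup.mk'_surjective V₁)
  exact Subgroup.Normal.comap inferInstance _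

theorem relIndex_comap_mk (N : Subgroup Γ) [N.Normal] (O : Subgroup (Γ ⧸ N)) :
    N.relIndex (O.comap (QuotientGroup.mk' N)) = Nat.card O := by
  have h1 := Subgroup.relIndex_comap (⊥ : Subgroup (Γ ⧸ N)) (QuotientGroup.mk' N)
    (O.comap (QuotientGroup.mk' N))
  rw [MonoidHom.comap_bot, QuotientGroup.ker_mk', Subgroup.map_comap_eq_self_of_surjective
    (QuotientGroup.mk'_surjective _), Subgroup.relIndex_bot_left] at h1
  exact h1

/-- the action on a normal elementary abelian subgroup -/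
theorem isPStableOn_of_autStable {p : ℕ} (h : AutStable p Γ) (V : Subgroup Γ)
    [hVn : V.Normal] [Finite V] (hV : Cfsg.IsElementaryAbelian p V) : Cfsg.IsPStableOn p V := by
  intro a hq
  have hcomm : ∀ x y : V, x * y = y * x := fun x y => hV.1.is_comm.comm x y
  have hexp : ∀ x : V, x ^ p = 1 := fun x => Subtype.ext (by
    rw [Subgroup.coe_pow]; exact hV.2 _ x.2)
  have hker : Subgroup.centralizer (V : Set Γ) = (MulAut.conjNormal (H := V)).ker := by
    ext g
    rw [MonoidHom.mem_ker, Subgroup.mem_centralizer_iff]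
    constructor
    · intro hg
      apply MulEquiv.ext
      intro v
      apply Subtype.ext
      rw [MulAut.conjNormal_apply, ← hg v v.2, mul_inv_cancel_right]
      rfl
    · intro hg v hv
      have h1 := congrArg (fun f : MulAut V => ((f ⟨v, hv⟩ : V) : Γ)) hg
      simp only [MulAut.conjNormal_apply, MulAut.one_apply] at h1
      calc v * g = g * v * g⁻¹ * g := by rw [h1]
        _ = g * v := by rw [inv_mul_cancel_right]
  refine h V hcomm hexp (MulAut.conjNormal (H := V)) a ?_ _ hker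
  intro w
  apply Subtype.ext
  have h1 := quad_elementwise hq w w.2
  simp only [MulAut.conjNormal_apply, Subgroup.coe_mul, Subgroup.coe_inv]
  rw [h1, mul_inv_cancel_right]

/-- the induced automorphism on the Frattini quotient -/
noncomputable def frattiniAut (P : Type*) [Group P] : MulAut P →* MulAut (P ⧸ frattini P) where
  toFun α := QuotientGroup.congr (frattini P) (frattini P) α
    ((Subgroup.characteristic_iff_map_eq.mp inferInstance) α)
  map_one' := by
    ext q
    obtain ⟨x, rfl⟩ := QuotientGroup.mk_surjective q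
    rfl
  map_mul' α β := by
    ext q
    obtain ⟨x, rfl⟩ := QuotientGroup.mk_surjective q
    rfl

theorem frattiniAut_mk (P : Type*) [Group P] (α : MulAut P) (x : P) :
    frattiniAut P α (QuotientGroup.mk x) = QuotientGroup.mk (α x) := rfl

/-- the action on the Frattini quotient of a normal `p`-subgroup -/
theorem isPStableOnSection_of_autStable [Finite Γ] {p : ℕ} [Fact p.Prime] (h : AutStable p Γ)
    (P : Subgroup Γ) [hPn : P.Normal] (hP : IsPGroup p P) :
    Cfsg.IsPStableOnSection p P ((frattini ↥P).map P.subtype) := by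
  intro a hq
  have hΦmem : ∀ c : P, (c : Γ) ∈ (frattini ↥P).map P.subtype ↔ c ∈ frattini ↥P := by
    intro c
    exact Subgroup.mem_map_iff_mem P.subtype_injective
  have hcomm : ∀ x y : ↥P ⧸ frattini ↥P, x * y = y * x := by
    intro x y
    obtain ⟨x, rfl⟩ := QuotientGroup.mk_surjective x
    obtain ⟨y, rfl⟩ := QuotientGroup.mk_surjective y
    rw [← QuotientGroup.mk_mul, ← QuotientGroup.mk_mul, QuotientGroup.eq]
    apply Cfsg.Agent.Lib.Helper1.IsPGroup.commutator_le_frattini hP
    have : (x * y)⁻¹ * (y * x) = ⁅y⁻¹, x⁻¹⁆ := by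
      rw [commutatorElement_def]; group
    rw [this]
    exact Subgroup.commutator_mem_commutator (Subgroup.mem_top _) (Subgroup.mem_top _)
  have hexp : ∀ x : ↥P ⧸ frattini ↥P, x ^ p = 1 := by
    intro x
    obtain ⟨x, rfl⟩ := QuotientGroup.mk_surjective x
    rw [← QuotientGroup.mk_pow, QuotientGroup.eq_one_iff]
    exact Cfsg.Agent.Lib.Helper1.IsPGroup.pow_mem_frattini hP x
  let σ : Γ →* MulAut (↥P ⧸ frattini ↥P) := (frattiniAut ↥P).comp (MulAut.conjNormal (H := P))
  have hσ : ∀ (g : Γ) (x : P), σ g (QuotientGroup.mk x) =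
      QuotientGroup.mk (MulAut.conjNormal g x) := fun g x => rfl
  haveI hCn : (Cfsg.sectionKernel P ((frattini ↥P).map P.subtype)).Normal :=
    sectionKernel_normal _ _
  have hker : Cfsg.sectionKernel P ((frattini ↥P).map P.subtype) = σ.ker := by
    ext g
    rw [MonoidHom.mem_ker, mem_sectionKernel_iff]
    constructor
    · intro hg
      apply MulEquiv.ext
      intro q
      obtain ⟨x, rfl⟩ := QuotientGroup.mk_surjective q
      rw [hσ, MulAut.one_apply, QuotientGroup.eq, ← hΦmem]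
      have h1 := hg _ (P.inv_mem (P.inv_mem (P.inv_mem x.2)))
      have h2 : ⁅((x : Γ)⁻¹)⁻¹⁻¹, g⁆ = (((MulAut.conjNormal g x)⁻¹ * x : P) : Γ)⁻¹ := by
        rw [commutatorElement_def, Subgroup.coe_mul, Subgroup.coe_inv, MulAut.conjNormal_apply]
        group
      rw [h2] at h1
      have h3 := Subgroup.inv_mem _ h1
      rwa [inv_inv] at h3
    · intro hg v hv
      have h1 := congrArg (fun f : MulAut (↥P ⧸ frattini ↥P) =>
        f (QuotientGroup.mk (⟨v, hv⟩ : P)⁻¹)) hg
      simp only [MulAut.one_apply] at h1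
      rw [hσ, QuotientGroup.eq, ← hΦmem] at h1
      have h2 : ⁅v, g⁆ =
          (((MulAut.conjNormal g (⟨v, hv⟩ : P)⁻¹)⁻¹ * (⟨v, hv⟩ : P)⁻¹ : P) : Γ)⁻¹ := by
        rw [commutatorElement_def, Subgroup.coe_mul, Subgroup.coe_inv, MulAut.conjNormal_apply,
          Subgroup.coe_inv]
        group
      rw [h2]
      exact Subgroup.inv_mem _ h1
  have hmem := h (↥P ⧸ frattini ↥P) hcomm hexp σ a ?_ _ hker
  · refine ⟨(Cfsg.pCore p (Γ ⧸ Cfsg.sectionKernel P ((frattini ↥P).map P.subtype))).comap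
      (QuotientGroup.mk' _), ?_, ?_, ?_, hmem⟩
    · haveI : (Cfsg.pCore p (Γ ⧸ Cfsg.sectionKernel P ((frattini ↥P).map P.subtype))).Normal :=
        Cfsg.H5.pCore_normal _ _
      exact Subgroup.Normal.comap inferInstance _
    · intro g hg
      rw [Subgroup.mem_comap, QuotientGroup.mk'_apply, (QuotientGroup.eq_one_iff g).2 hg]
      exact Subgroup.one_mem _
    · obtain ⟨k, hk⟩ := IsPGroup.iff_card.1 (Cfsg.H5.pCore_isPGroup (p := p)
        (G := Γ ⧸ Cfsg.sectionKernel P ((frattini ↥P).map P.subtype)))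
      exact ⟨k, by rw [relIndex_comap_mk, hk]⟩
  · -- quadratic action on the quotient
    intro w
    obtain ⟨x, rfl⟩ := QuotientGroup.mk_surjective w
    rw [hσ, ← QuotientGroup.mk_inv, ← QuotientGroup.mk_mul, hσ, QuotientGroup.eq, ← hΦmem]
    -- `c = a x a⁻¹ x⁻¹`
    have hc : ⁅a, (x : Γ)⁆ ∈ ⁅P, Subgroup.zpowers a⁆ := by
      rw [Subgroup.commutator_comm]
      exact Subgroup.commutator_mem_commutator (Subgroup.mem_zpowers a) x.2
    have h1 : ⁅(⁅a, (x : Γ)⁆)⁻¹, a⁆ ∈ (frattini ↥P).map P.subtype :=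
      hq (Subgroup.commutator_mem_commutator (Subgroup.inv_mem _ hc) (Subgroup.mem_zpowers a))
    have h2 : ⁅(⁅a, (x : Γ)⁆)⁻¹, a⁆ = (((MulAut.conjNormal a (MulAut.conjNormal a x * x⁻¹))⁻¹ *
        (MulAut.conjNormal a x * x⁻¹) : P) : Γ)⁻¹ := by
      simp only [commutatorElement_def, Subgroup.coe_mul, Subgroup.coe_inv,
        MulAut.conjNormal_apply]
      group
    rw [h2] at h1
    have h3 := Subgroup.inv_mem _ h1
    rwa [inv_inv] at h3

end Cfsg.H5.APS

namespace Cfsg.H5.APS

open Cfsg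

universe u v

/-- `Ω₁(Z(J(P)))` is elementary abelian -/
theorem isElementaryAbelian_omegaCenterThompson (p : ℕ) (P : Type v) [Group P] :
    Cfsg.IsElementaryAbelian p (Cfsg.omegaCenterThompson p P) := by
  unfold Cfsg.omegaCenterThompson Cfsg.omegaOne
  apply Cfsg.H5.isElementaryAbelian_closure
  · rintro x ⟨hx, _⟩ y ⟨hy, _⟩
    exact (Subgroup.mem_centralizer_iff.1 hx.2 y hy.1).symm
  · rintro x ⟨_, hx⟩
    exact hx

/-- **Reduction.** -/
theorem isActionPStable_of_autStable {G : Type u} [Group G] [Finite G] {p : ℕ} [Fact p.Prime]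
    (hG : AutStable p G) (hsub : ∀ N : Subgroup G, AutStable p ↥N) :
    Cfsg.IsActionPStable p G := by
  refine ⟨?_, ?_, ?_⟩
  · intro V _ hV
    exact isPStableOn_of_autStable hG V hV
  · haveI : (Cfsg.pCore p G).Normal := Cfsg.H5.pCore_normal p G
    exact isPStableOnSection_of_autStable hG (Cfsg.pCore p G) (Cfsg.H5.pCore_isPGroup p G)
  · intro S V _ hVle
    refine isPStableOn_of_autStable (hsub _) V ?_
    have hE := isElementaryAbelian_omegaCenterThompson p ↥(S : Subgroup G)
    have hmem : ∀ v ∈ V, ∃ s : (S : Subgroup G), s ∈ Cfsg.omegaCenterThompson p ↥(S : Subgroup G) ∧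
        ((s : (S : Subgroup G)) : G) = ((v : _) : G) := by
      intro v hv
      obtain ⟨s, hs, hsv⟩ := hVle ⟨v, hv, rfl⟩
      exact ⟨s, hs, hsv⟩
    refine ⟨⟨⟨fun x y => ?_⟩⟩, fun v hv => ?_⟩
    · obtain ⟨s, hs, hsx⟩ := hmem x x.2
      obtain ⟨t, ht, hty⟩ := hmem y y.2
      have h1 : s * t = t * s :=
        congrArg Subtype.val (hE.1.is_comm.comm (⟨s, hs⟩ : Cfsg.omegaCenterThompson p _) ⟨t, ht⟩)
      apply Subtype.ext
      apply Subtype.ext
      have h2 := congrArg (fun z : (S : Subgroup G) => (z : G)) h1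
      simp only [Subgroup.coe_mul] at h2 ⊢
      rw [← hsx, ← hty]
      exact h2
    · obtain ⟨s, hs, hsv⟩ := hmem v hv
      have h1 := hE.2 s hs
      apply Subtype.ext
      have h2 := congrArg (fun z : (S : Subgroup G) => (z : G)) h1
      simp only [Subgroup.coe_pow, Subgroup.coe_one] at h2 ⊢
      rw [← hsv]
      exact h2

end Cfsg.H5.APS
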