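import Mathlib

/-!
# Explicit extension of scalars for endomorphisms of `F^n`

`extEnd F K n : End_F(F^n) →+* End_K(K^n)` (entrywise `algebraMap` on matrices) and, for an
`F`-linear functional `l : K → F`, the coordinatewise map `pushF l : K^n → F^n`, which intertwines
`extEnd F K n T` with `T`.
-/

set_option autoImplicit false

namespace Cfsg.H5.BC

open scoped Matrix

variable (F K : Type*) [Field F] [Field K] [Algebra F K] (n : ℕ)

/-- extension of scalars for endomorphisms of `F^n` -/
noncomputable def extEnd : Module.End F (Fin n → F) →+* Module.End K (Fin n → K) :=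
  ((Matrix.toLinAlgEquiv' : Matrix (Fin n) (Fin n) K ≃ₐ[K] Module.End K (Fin n → K)) :
      Matrix (Fin n) (Fin n) K →+* Module.End K (Fin n → K)).comp
    (((algebraMap F K).mapMatrix).comp
      ((LinearMap.toMatrixAlgEquiv' : Module.End F (Fin n → F) ≃ₐ[F] Matrix (Fin n) (Fin n) F) :
        Module.End F (Fin n → F) →+* Matrix (Fin n) (Fin n) F))

variable {F K n}

theorem extEnd_apply (T : Module.End F (Fin n → F)) (w : Fin n → K) :
    extEnd F K n T w = ((LinearMap.toMatrix' T).map (algebraMap F K)) *ᵥ w := rfl

theorem extEnd_injective : Function.Injective (extEnd F K n) := by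
  intro x y hxy
  have h1 := (Matrix.toLinAlgEquiv' : Matrix (Fin n) (Fin n) K ≃ₐ[K]
    Module.End K (Fin n → K)).injective hxy
  have h2 : Function.Injective ((algebraMap F K).mapMatrix (m := Fin n)) :=
    Matrix.map_injective (algebraMap F K).injective
  exact (LinearMap.toMatrixAlgEquiv' : Module.End F (Fin n → F) ≃ₐ[F]
    Matrix (Fin n) (Fin n) F).injective (h2 h1)

/-- the coordinatewise application of an `F`-linear functional -/
noncomputable def pushF (l : K →ₗ[F] F) : (Fin n → K) →ₗ[F] (Fin n → F) := l.compLeft (Fin n)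

theorem pushF_apply (l : K →ₗ[F] F) (w : Fin n → K) (j : Fin n) : pushF l w j = l (w j) := rfl

/-- `pushF l` intertwines `extEnd T` with `T` -/
theorem pushF_extEnd (l : K →ₗ[F] F) (T : Module.End F (Fin n → F)) (w : Fin n → K) :
    pushF l (extEnd F K n T w) = T (pushF l w) := by
  ext j
  rw [pushF_apply, extEnd_apply, ← LinearMap.toMatrix'_mulVec T (pushF l w)]
  simp only [Matrix.mulVec, dotProduct, Matrix.map_apply, map_sum]
  apply Finset.sum_congr rfl
  intro i _
  rw [pushF_apply, ← Algebra.smul_def, map_smul, smul_eq_mul]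

end Cfsg.H5.BC
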