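import Mathlib
import Cfsg.Prelude.Def_FusionSystem
import Cfsg.Agent.Lib.Helper27.FusionNormalCrit
import Cfsg.Agent.Lib.Helper27.FusionTopNormal
import Cfsg.Agent.Lib.Helper27.FusionSmallElts
import Cfsg.Agent.Lib.Helper27.FusionNormal
import Cfsg.Agent.Lib.Helper27.FusionSat
import Cfsg.Agent.Lib.Helper1.Cores

set_option autoImplicit false

/-! Fusion-system form of the Camina–Herzog criterion: a saturated fusion system on a finite
`2`-group `S` in which every element is conjugate into `Z(S)` lives on an abelian group. -/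

namespace Cfsg.H5.CamHerz

open Cfsg Cfsg.FusionSystem Cfsg.Agent.Lib.Helper27

variable {Ω : Type*} [Group Ω] {S : Subgroup Ω}

theorem range_eq_zpowers {x z : Ω} (φ : Subgroup.zpowers x →* Ω)
    (hφ : φ ⟨x, Subgroup.mem_zpowers x⟩ = z) : φ.range = Subgroup.zpowers z := by
  ext y
  constructor
  · rintro ⟨⟨w, hw⟩, rfl⟩
    obtain ⟨k, rfl⟩ := Subgroup.mem_zpowers_iff.mp hw
    have e : (⟨x ^ k, hw⟩ : Subgroup.zpowers x) =
        (⟨x, Subgroup.mem_zpowers x⟩ : Subgroup.zpowers x) ^ k := Subtype.ext (by simp)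
    rw [e, map_zpow, hφ]
    exact Subgroup.zpow_mem_zpowers z k
  · intro hy
    obtain ⟨k, rfl⟩ := Subgroup.mem_zpowers_iff.mp hy
    exact ⟨⟨x, Subgroup.mem_zpowers x⟩ ^ k, by rw [map_zpow, hφ]⟩

/-- The hypothesis: every element of `S` is conjugate in the system into the centre of `S`. -/
def Hyp (F : FusionSystem S) : Prop :=
  ∀ x ∈ S, ∃ z ∈ S ⊓ Subgroup.centralizer (S : Set Ω), F.IsConjElt x z

section main

variable {F : FusionSystem S}

/-- Step 1: `N_S(⟨x⟩) = C_S(x)`. -/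
theorem conj_eq_of_mem_zpowers [Finite S] (hS : IsPGroup 2 S) (hF : F.IsSaturated 2) (h : Hyp F)
    {x g : Ω} (hx : x ∈ S) (hg : g ∈ S) (hgx : g * x * g⁻¹ ∈ Subgroup.zpowers x) :
    g * x * g⁻¹ = x := by
  obtain ⟨z, hz, φ, hφ, hφx⟩ := h x hx
  have hzS : z ∈ S := hz.1
  have hzc : z ∈ Subgroup.centralizer (S : Set Ω) := hz.2
  have hQS : Subgroup.zpowers x ≤ S := by
    rw [Subgroup.zpowers_le]; exact hx
  have hPS : Subgroup.zpowers z ≤ S := by
    rw [Subgroup.zpowers_le]; exact hzS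
  have hconj : F.IsConj (Subgroup.zpowers x) (Subgroup.zpowers z) := ⟨φ, hφ, range_eq_zpowers φ hφx⟩
  have hPcent : ∀ s ∈ S, ∀ y ∈ Subgroup.zpowers z, y * s = s * y := by
    intro s hs y hy
    obtain ⟨k, rfl⟩ := Subgroup.mem_zpowers_iff.mp hy
    have h1 : s * z = z * s := Subgroup.mem_centralizer_iff.mp hzc s hs
    have h2 : Commute z s := h1.symm
    exact (h2.zpow_left k)
  have hNP : normalizerIn S (Subgroup.zpowers z) = S := by
    apply le_antisymm (normalizerIn_le_S S _)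
    intro s hs
    refine ⟨hs, ?_⟩
    apply Subgroup.centralizer_le_normalizer
    rw [Subgroup.mem_centralizer_iff]
    intro y hy
    exact hPcent s hs y hy
  have hfn : F.IsFullyNormalized (Subgroup.zpowers z) := by
    refine ⟨hPS, fun Q' _ => ?_⟩
    rw [hNP]
    exact Subgroup.card_le_of_le (normalizerIn_le_S S Q')
  obtain ⟨ψ, hψ, χ, -, hψχ⟩ := exists_hom_normalizerIn_of_fullyNormalized hS hF hfn hconj
  have : Finite (Subgroup.zpowers x) :=
    Finite.of_injective (Subgroup.inclusion hQS) (Subgroup.inclusion_injective hQS)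
  have hgN : g ∈ normalizerIn S (Subgroup.zpowers x) := by
    refine ⟨hg, mem_normalizer_of_conj_mem ?_⟩
    intro y hy
    obtain ⟨k, rfl⟩ := Subgroup.mem_zpowers_iff.mp hy
    have e : g * x ^ k * g⁻¹ = (g * x * g⁻¹) ^ k := by rw [conj_zpow]
    rw [e]
    exact Subgroup.zpow_mem _ hgx k
  have hψg : ψ ⟨g, hgN⟩ ∈ centralizerIn S (Subgroup.zpowers z) := by
    rw [mem_centralizerIn_iff]
    have hs : ψ ⟨g, hgN⟩ ∈ S := (F.le_of_mem hψ).2 _
    exact ⟨hs, fun y hy => hPcent _ hs y hy⟩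
  have key := (hom_normalizerIn_mem_centralizerIn hQS hψ
    (fun y => hψχ (y : Ω) y.2 (le_normalizerIn hQS y.2)) ⟨g, hgN⟩).mp hψg
  rw [mem_centralizerIn_iff] at key
  have h3 := key.2 x (Subgroup.mem_zpowers x)
  rw [← h3]
  group

/-- Step 2: involutions of `S` commute. -/
theorem invol_comm [Finite S] (hS : IsPGroup 2 S) (hF : F.IsSaturated 2) (h : Hyp F)
    {u v : Ω} (hu : u ∈ S) (hv : v ∈ S) (hu2 : u ^ 2 = 1) (hv2 : v ^ 2 = 1) : u * v = v * u := by
  have hu' : u⁻¹ = u := by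
    rw [inv_eq_iff_mul_eq_one, ← sq, hu2]
  have hv' : v⁻¹ = v := by
    rw [inv_eq_iff_mul_eq_one, ← sq, hv2]
  have h1 : u * (u * v) * u⁻¹ = (u * v)⁻¹ := by
    rw [mul_inv_rev, hu', hv', ← mul_assoc, ← sq, hu2, one_mul]
  have h2 := conj_eq_of_mem_zpowers hS hF h (S.mul_mem hu hv) hu
    (by rw [h1]; exact Subgroup.inv_mem _ (Subgroup.mem_zpowers _))
  rw [h1, mul_inv_rev, hu', hv'] at h2
  exact h2.symm

/-- The subgroup of elements of `S` of order dividing `2` (under pairwise commutation). -/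
def invSub (S : Subgroup Ω)
    (hcomm : ∀ u ∈ S, ∀ v ∈ S, u ^ 2 = 1 → v ^ 2 = 1 → u * v = v * u) : Subgroup Ω where
  carrier := {x | x ∈ S ∧ x ^ 2 = 1}
  mul_mem' := by
    rintro a b ⟨ha, ha2⟩ ⟨hb, hb2⟩
    refine ⟨S.mul_mem ha hb, ?_⟩
    have hc : Commute a b := hcomm a ha b hb ha2 hb2
    rw [hc.mul_pow, ha2, hb2, one_mul]
  one_mem' := ⟨S.one_mem, one_pow 2⟩
  inv_mem' := by
    rintro a ⟨ha, ha2⟩
    exact ⟨S.inv_mem ha, by rw [inv_pow, ha2, inv_one]⟩

theorem mem_invSub {hcomm : ∀ u ∈ S, ∀ v ∈ S, u ^ 2 = 1 → v ^ 2 = 1 → u * v = v * u} {x : Ω} :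
    x ∈ invSub S hcomm ↔ x ∈ S ∧ x ^ 2 = 1 := Iff.rfl

theorem invSub_stronglyClosed
    (hcomm : ∀ u ∈ S, ∀ v ∈ S, u ^ 2 = 1 → v ^ 2 = 1 → u * v = v * u) :
    F.StronglyClosed (invSub S hcomm) := by
  refine ⟨fun x hx => hx.1, fun R hR φ hφ x => ?_⟩
  refine ⟨(F.le_of_mem hφ).2 x, ?_⟩
  have hx2 : (x : Ω) ^ 2 = 1 := (hR x.2).2
  have : x ^ 2 = 1 := Subtype.ext (by simpa using hx2)
  rw [← map_pow, this, map_one]

/-- Step 4: the subgroup of involutions is normal in the system. -/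
theorem invSub_isNormal [Finite S] (hS : IsPGroup 2 S) (hF : F.IsSaturated 2)
    (hcomm : ∀ u ∈ S, ∀ v ∈ S, u ^ 2 = 1 → v ^ 2 = 1 → u * v = v * u) :
    F.IsNormal (invSub S hcomm) := by
  have hsc := invSub_stronglyClosed (F := F) hcomm
  have hbot : F.WeaklyClosed (⊥ : Subgroup Ω) := by
    refine ⟨bot_le, fun φ _ => ?_⟩
    rw [Subgroup.eq_bot_iff_forall]
    rintro _ ⟨y, rfl⟩
    have : y = 1 := Subsingleton.elim _ _
    rw [this, map_one]
  refine isNormal_of_central_series hS hF hsc (fun j => if j = 0 then ⊥ else invSub S hcomm) 1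
    (by simp) (by simp) ?_ ?_ ?_
  · intro j _
    by_cases hj : j = 0
    · simp [hj]
    · simp [hj]
  · intro j _
    by_cases hj : j = 0
    · simp only [hj, if_true]; exact hbot
    · simp only [hj, if_false]; exact weaklyClosed_of_stronglyClosed hsc
  · intro j hj x hx q hq
    have hj0 : j = 0 := by omega
    subst hj0
    simp only [zero_add, one_ne_zero, if_false] at hx
    simp only [if_true]
    have hc : x * q = q * x := hcomm x hx.1 q hq.1 hx.2 hq.2
    rw [Subgroup.mem_bot, hc]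
    group

/-- Steps 5/9: a subgroup normal in the system is centralized by `S`. -/
theorem comm_of_isNormal (h : Hyp F) {Q : Subgroup Ω} (hQ : F.IsNormal Q) {s q : Ω} (hs : s ∈ S)
    (hq : q ∈ Q) : s * q = q * s := by
  obtain ⟨z, hz, φ, hφ, hφs⟩ := h s hs
  obtain ⟨ψ, hψ, hψφ, -⟩ := hQ.2 _ φ hφ
  have hs' : s ∈ Subgroup.zpowers s ⊔ Q := (le_sup_left : Subgroup.zpowers s ≤ _) (Subgroup.mem_zpowers s)
  have hq' : q ∈ Subgroup.zpowers s ⊔ Q := (le_sup_right : Q ≤ _) hq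
  have e1 : ψ ⟨s, hs'⟩ = z := by
    rw [← hφs, ← hψφ]
    rfl
  have e2 : ψ ⟨q, hq'⟩ ∈ S := (F.le_of_mem hψ).2 _
  have e3 : ψ ⟨s, hs'⟩ * ψ ⟨q, hq'⟩ = ψ ⟨q, hq'⟩ * ψ ⟨s, hs'⟩ := by
    rw [e1]
    exact (Subgroup.mem_centralizer_iff.mp hz.2 _ e2).symm
  rw [← map_mul, ← map_mul] at e3
  have := F.injective_of_mem hψ e3
  exact congrArg (fun y : ↥(Subgroup.zpowers s ⊔ Q) => (y : Ω)) this

/-- Step 6: commutators with elements of order dividing `4` are involutions. -/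
theorem comm_sq [Finite S] (hS : IsPGroup 2 S) (hF : F.IsSaturated 2) (h : Hyp F)
    (hTc : ∀ t ∈ S, t ^ 2 = 1 → ∀ s ∈ S, s * t = t * s)
    {x g : Ω} (hx : x ∈ S) (hg : g ∈ S) (hx4 : x ^ 4 = 1) : (x⁻¹ * (g * x * g⁻¹)) ^ 2 = 1 := by
  obtain ⟨c, hc⟩ : ∃ c, c = x⁻¹ * (g * x * g⁻¹) := ⟨_, rfl⟩
  rw [← hc]
  have hcS : c ∈ S := by
    rw [hc]
    exact S.mul_mem (S.inv_mem hx) (S.mul_mem (S.mul_mem hg hx) (S.inv_mem hg))
  have hx2 : (x ^ 2) ^ 2 = 1 := by rw [← pow_mul]; exact hx4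
  have hx2c : g * x ^ 2 = x ^ 2 * g := hTc (x ^ 2) (S.pow_mem hx 2) hx2 g hg
  have e1 : g * x * g⁻¹ = x * c := by rw [hc]; group
  have e2 : (g * x * g⁻¹) ^ 2 = x ^ 2 := by
    rw [conj_pow, hx2c]; group
  rw [e1] at e2
  -- x c x c = x x  ⇒  x c x⁻¹ = c⁻¹
  have e3 : x * c * x⁻¹ = c⁻¹ := by
    have e4 : x * c * (x * c) = x * x := by rw [← sq, e2, sq]
    have e5 : c * x * c = x := by
      have := congrArg (fun y => x⁻¹ * y) e4
      simpa [mul_assoc] using this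
    calc x * c * x⁻¹ = c⁻¹ * (c * x * c) * x⁻¹ := by group
      _ = c⁻¹ := by rw [e5]; group
  have e6 := conj_eq_of_mem_zpowers hS hF h hcS hx
    (by rw [e3]; exact Subgroup.inv_mem _ (Subgroup.mem_zpowers _))
  rw [e3] at e6
  rw [sq]
  calc c * c = c⁻¹ * c := by rw [e6]
    _ = 1 := inv_mul_cancel c

end main

/-! ### The stabilizer of `1 ≤ Ω₁(R) ≤ Ω₂(R)` in `Aut_F(R)` -/

/-- The automorphisms in `Aut_F(R)` fixing every element of order dividing `2` and moving every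
element of order dividing `4` by such an element. -/
def stab2 (F : FusionSystem S) (R : Subgroup Ω)
    (hcR : ∀ u v : R, u ^ 2 = 1 → v ^ 2 = 1 → u * v = v * u) : Subgroup (F.autGroup R) where
  carrier := {γ | (∀ t : R, t ^ 2 = 1 → (γ : MulAut R) t = t) ∧
    ∀ x : R, x ^ 4 = 1 → (x⁻¹ * (γ : MulAut R) x) ^ 2 = 1}
  one_mem' := ⟨fun t _ => rfl, fun x _ => by simp⟩
  mul_mem' := by
    rintro γ δ ⟨hγ1, hγ2⟩ ⟨hδ1, hδ2⟩
    refine ⟨fun t ht => ?_, fun x hx => ?_⟩
    · show (γ : MulAut R) ((δ : MulAut R) t) = t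
      rw [hδ1 t ht, hγ1 t ht]
    · have hb := hδ2 x hx
      have ha := hγ2 x hx
      have h4 : x⁻¹ * ((γ * δ : F.autGroup R) : MulAut R) x =
          (x⁻¹ * (γ : MulAut R) x) * (γ : MulAut R) (x⁻¹ * (δ : MulAut R) x) := by
        simp [MulAut.mul_apply]
      rw [h4, hγ1 _ hb]
      have hc : Commute (x⁻¹ * (γ : MulAut R) x) (x⁻¹ * (δ : MulAut R) x) := hcR _ _ ha hb
      rw [hc.mul_pow, ha, hb, one_mul]
  inv_mem' := by
    rintro γ ⟨hγ1, hγ2⟩
    refine ⟨fun t ht => ?_, fun x hx => ?_⟩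
    · have h1 := hγ1 t ht
      calc ((γ⁻¹ : F.autGroup R) : MulAut R) t
          = ((γ⁻¹ : F.autGroup R) : MulAut R) ((γ : MulAut R) t) := by rw [h1]
        _ = t := by simp
    · obtain ⟨y, hy⟩ : ∃ y, y = ((γ⁻¹ : F.autGroup R) : MulAut R) x := ⟨_, rfl⟩
      have hy4 : y ^ 4 = 1 := by rw [hy, ← map_pow, hx, map_one]
      have h2 := hγ2 y hy4
      have hγy : (γ : MulAut R) y = x := by rw [hy]; simp
      rw [hγy] at h2
      rw [← hy]
      have e : x⁻¹ * y = (y⁻¹ * x)⁻¹ := by group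
      rw [e, inv_pow, h2, inv_one]

theorem stab2_normal (F : FusionSystem S) (R : Subgroup Ω)
    (hcR : ∀ u v : R, u ^ 2 = 1 → v ^ 2 = 1 → u * v = v * u) : (stab2 F R hcR).Normal := by
  constructor
  rintro γ ⟨hγ1, hγ2⟩ α
  refine ⟨fun t ht => ?_, fun x hx => ?_⟩
  · obtain ⟨s, hs⟩ : ∃ s, s = ((α⁻¹ : F.autGroup R) : MulAut R) t := ⟨_, rfl⟩
    have hs2 : s ^ 2 = 1 := by rw [hs, ← map_pow, ht, map_one]
    have h1 := hγ1 s hs2
    show ((α * γ * α⁻¹ : F.autGroup R) : MulAut R) t = t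
    simp only [Subgroup.coe_mul, MulAut.mul_apply]
    rw [← hs, h1, hs]
    simp
  · obtain ⟨y, hy⟩ : ∃ y, y = ((α⁻¹ : F.autGroup R) : MulAut R) x := ⟨_, rfl⟩
    have hy4 : y ^ 4 = 1 := by rw [hy, ← map_pow, hx, map_one]
    have h2 := hγ2 y hy4
    have h4 : x⁻¹ * ((α * γ * α⁻¹ : F.autGroup R) : MulAut R) x =
        (α : MulAut R) (y⁻¹ * (γ : MulAut R) y) := by
      rw [hy]
      simp [MulAut.mul_apply]
    rw [h4, ← map_pow, h2, map_one]

theorem stab2_isPGroup [Finite S] (hS : IsPGroup 2 S) (F : FusionSystem S) {R : Subgroup Ω}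
    (hRS : R ≤ S) (hcR : ∀ u v : R, u ^ 2 = 1 → v ^ 2 = 1 → u * v = v * u) :
    IsPGroup 2 (stab2 F R hcR) := by
  have : Finite R := Finite.of_injective (Subgroup.inclusion hRS) (Subgroup.inclusion_injective hRS)
  have hpR : IsPGroup 2 R := hS.of_injective (Subgroup.inclusion hRS) (Subgroup.inclusion_injective hRS)
  intro γ
  obtain ⟨k, m, hm, hn⟩ := Nat.exists_eq_two_pow_mul_odd (orderOf_pos γ).ne'
  refine ⟨k, ?_⟩
  obtain ⟨β, hβ⟩ : ∃ β, β = γ ^ 2 ^ k := ⟨_, rfl⟩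
  rw [← hβ]
  have hβm : β ^ m = 1 := by rw [hβ, ← pow_mul, ← hn, pow_orderOf_eq_one]
  have hβm' : (((β : stab2 F R hcR) : F.autGroup R) : MulAut R) ^ m = 1 := by
    have := congrArg (fun z : stab2 F R hcR => ((z : F.autGroup R) : MulAut R)) hβm
    simpa using this
  have hb1 : (((β : stab2 F R hcR) : F.autGroup R) : MulAut R) = 1 := by
    apply mulAut_eq_one_of_fix_small_comm hpR _ hm.coprime_two_right hβm'
    intro w _ hw
    rcases hw with hw | ⟨-, hw⟩
    · exact β.2.1 w hw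
    · have ha := β.2.2 w hw
      obtain ⟨a, haa⟩ : ∃ a, a = w⁻¹ * (((β : stab2 F R hcR) : F.autGroup R) : MulAut R) w := ⟨_, rfl⟩
      rw [← haa] at ha
      have hβa : (((β : stab2 F R hcR) : F.autGroup R) : MulAut R) a = a := β.2.1 a ha
      have hβw : (((β : stab2 F R hcR) : F.autGroup R) : MulAut R) w = w * a := by rw [haa]; group
      have hpow : ∀ t : ℕ, ((((β : stab2 F R hcR) : F.autGroup R) : MulAut R) ^ t) w = w * a ^ t := by
        intro t
        induction t with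
        | zero => simp
        | succ t iht =>
          rw [pow_succ', MulAut.mul_apply, iht, map_mul, map_pow, hβa, hβw, pow_succ', mul_assoc]
      have h1 := hpow m
      rw [hβm'] at h1
      have h2 : a ^ m = 1 := by
        have h3 : w = w * a ^ m := h1
        exact (mul_eq_left.mp h3.symm)
      obtain ⟨j, hj⟩ := hm
      have h4 : a = 1 := by
        rw [hj, pow_succ, pow_mul, ha, one_pow, one_mul] at h2
        exact h2
      rw [hβw, h4, mul_one]
  exact Subtype.ext (Subtype.ext hb1)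

/-- **Fusion-system Camina–Herzog**: if every element of the finite `2`-group `S` is conjugate in the
saturated system `F` into `Z(S)`, then `S` is abelian. -/
theorem comm_of_hyp [Finite S] {F : FusionSystem S} (hS : IsPGroup 2 S) (hF : F.IsSaturated 2)
    (h : Hyp F) : ∀ s ∈ S, ∀ q ∈ S, s * q = q * s := by
  have hcomm : ∀ u ∈ S, ∀ v ∈ S, u ^ 2 = 1 → v ^ 2 = 1 → u * v = v * u :=
    fun u hu v hv hu2 hv2 => invol_comm hS hF h hu hv hu2 hv2
  have hTn := invSub_isNormal hS hF hcomm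
  have hTc : ∀ t ∈ S, t ^ 2 = 1 → ∀ s ∈ S, s * t = t * s :=
    fun t ht ht2 s hs => comm_of_isNormal h hTn hs ⟨ht, ht2⟩
  have hSn : F.IsNormal S := by
    apply isNormal_top_of_no_proper_frc hS hF
    intro R hRlt _ hc hr
    have hRS : R ≤ S := hRlt.le
    obtain ⟨g, hgN, hgR⟩ := exists_mem_normalizerIn_not_mem hS hRlt
    apply hgR
    have hcR : ∀ u v : R, u ^ 2 = 1 → v ^ 2 = 1 → u * v = v * u := by
      intro u v hu hv
      apply Subtype.ext
      have hu' : (u : Ω) ^ 2 = 1 := by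
        have := congrArg (fun y : R => (y : Ω)) hu
        simpa using this
      have hv' : (v : Ω) ^ 2 = 1 := by
        have := congrArg (fun y : R => (y : Ω)) hv
        simpa using this
      exact hcomm u (hRS u.2) v (hRS v.2) hu' hv'
    have hK := Cfsg.Agent.Lib.Helper1.le_pCore (stab2_normal F R hcR) (stab2_isPGroup hS F hRS hcR)
    have h1 : conjAutHom S R ⟨g, hgN⟩ ∈ autInducedBy S R := by
      rw [← conjAutHom_range]; exact ⟨_, rfl⟩
    have h1A : conjAutHom S R ⟨g, hgN⟩ ∈ F.autGroup R := autInducedBy_le_autGroup F hRS h1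
    have h2 : (⟨conjAutHom S R ⟨g, hgN⟩, h1A⟩ : F.autGroup R) ∈ stab2 F R hcR := by
      refine ⟨fun t ht => ?_, fun x hx => ?_⟩
      · apply Subtype.ext
        show ((conjAutHom S R ⟨g, hgN⟩ t : R) : Ω) = t
        rw [conjAutHom_apply]
        have ht' : (t : Ω) ^ 2 = 1 := by
          have := congrArg (fun y : R => (y : Ω)) ht
          simpa using this
        have h3 : g * (t : Ω) = t * g := hTc t (hRS t.2) ht' g hgN.1
        show g * (t : Ω) * g⁻¹ = t
        rw [h3]; group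
      · apply Subtype.ext
        have hx' : (x : Ω) ^ 4 = 1 := by
          have := congrArg (fun y : R => (y : Ω)) hx
          simpa using this
        have h3 := comm_sq hS hF h hTc (hRS x.2) hgN.1 hx'
        show (((x⁻¹ * conjAutHom S R ⟨g, hgN⟩ x) ^ 2 : R) : Ω) = ((1 : R) : Ω)
        rw [Subgroup.coe_pow, Subgroup.coe_mul, Subgroup.coe_inv, conjAutHom_apply]
        exact h3
    apply mem_of_conjAutHom_mem_inn hc hgN
    rw [← hr.2]
    exact ⟨_, hK h2, rfl⟩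
  intro s hs q hq
  exact comm_of_isNormal h hSn hs hq

end Cfsg.H5.CamHerz
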