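import Mathlib
import Cfsg.Prelude.Def_SolvableStructure
import Cfsg.Agent.H5.Card
import Cfsg.Agent.Lib.Helper1.Basic
import Cfsg.Agent.Lib.Helper1.Coprime
import Cfsg.Agent.Lib.Helper1.Hall
import Cfsg.Agent.Lib.Helper1.Carter
import Cfsg.Agent.Lib.Helper4.ComplementSystem
import Cfsg.Agent.Lib.Helper23.SylowCount
import Cfsg.Agent.S0543
import Cfsg.Agent.S0544
import Cfsg.Agent.S0545

/-!
# Carter subgroups and system normalizers

* `Red K C`: the complement system `K` reduces into `C`.
* `exists_red`: every subgroup admits a complement system reducing into it.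
* `sysNorm_le_of_red`: a complement system reducing into a Carter subgroup has its system
  normalizer inside it.
* `isCarter_sysNorm`: nilpotent length two: system normalizers are Carter subgroups.
-/

set_option autoImplicit false
set_option linter.style.haveILetI false

namespace Cfsg.H5.CS

open Pointwise
open Cfsg.Agent.Lib.Helper1 Cfsg.Agent.Lib.Helper4

universe u

/-! ### Index lemmas -/

theorem relIndex_map_dvd {G G' : Type*} [Group G] [Group G'] (f : G →* G') (H C : Subgroup G) :
    (H.map f).relIndex (C.map f) ∣ H.relIndex C := by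
  rw [← Subgroup.relIndex_comap (H.map f) f C, Subgroup.comap_map_eq]
  exact Subgroup.relIndex_dvd_of_le_left (L := C) le_sup_left

theorem relIndex_sup_of_normal_le {G : Type*} [Group G] (A L C : Subgroup G) [A.Normal]
    (hAL : A ≤ L) : L.relIndex (C ⊔ A) = L.relIndex C := by
  have hL : (L.map (QuotientGroup.mk' A)).comap (QuotientGroup.mk' A) = L := by
    rw [Subgroup.comap_map_eq, QuotientGroup.ker_mk', sup_of_le_left hAL]
  have h1 := Subgroup.relIndex_comap (L.map (QuotientGroup.mk' A)) (QuotientGroup.mk' A) (C ⊔ A)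
  have h2 := Subgroup.relIndex_comap (L.map (QuotientGroup.mk' A)) (QuotientGroup.mk' A) C
  rw [hL] at h1 h2
  rw [h1, h2, Subgroup.map_sup, (Subgroup.map_eq_bot_iff _).mpr (QuotientGroup.ker_mk' A).ge,
    sup_bot_eq]

theorem relIndex_sup_dvd_card {G : Type*} [Group G] [Finite G] (C A : Subgroup G) [A.Normal] :
    C.relIndex (C ⊔ A) ∣ Nat.card A := by
  have h1 := Cfsg.H5.card_mul_relIndex_of_le (le_sup_left : C ≤ C ⊔ A)
  have h2 := Cfsg.Agent.Lib.Helper1.card_sup_mul_card_inf C A
  rw [← h1] at h2
  have hpos : 0 < Nat.card C := Nat.card_pos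
  refine ⟨Nat.card (C ⊓ A : Subgroup G), ?_⟩
  apply Nat.eq_of_mul_eq_mul_left hpos
  rw [← mul_assoc]
  exact h2.symm

theorem relIndex_eq_pow_factorization {G : Type*} [Group G] [Finite G] {p : ℕ} (hp : p.Prime)
    (L H : Subgroup G) (hL : ¬ p ∣ Nat.card L) {j : ℕ} (hj : L.relIndex H ∣ p ^ j) :
    L.relIndex H = p ^ (Nat.card H).factorization p := by
  obtain ⟨i, -, hi⟩ := (Nat.dvd_prime_pow hp).mp hj
  have h1 : Nat.card (L ⊓ H : Subgroup G) * (L ⊓ H).relIndex H = Nat.card H :=
    Cfsg.H5.card_mul_relIndex_of_le inf_le_right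
  rw [Subgroup.inf_relIndex_right, hi] at h1
  have hnd : ¬ p ∣ Nat.card (L ⊓ H : Subgroup G) :=
    fun h => hL (h.trans (Subgroup.card_dvd_of_le inf_le_left))
  have h0 : Nat.card (L ⊓ H : Subgroup G) ≠ 0 := Nat.card_pos.ne'
  rw [hi, ← h1, Nat.factorization_mul h0 (pow_ne_zero _ hp.ne_zero), Finsupp.add_apply,
    Nat.factorization_eq_zero_of_not_dvd hnd, zero_add, Nat.Prime.factorization_pow hp,
    Finsupp.single_eq_same]

theorem card_dvd_card_of_index_dvd_pow {G : Type*} [Group G] [Finite G] {p : ℕ} (hp : p.Prime)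
    (L Y : Subgroup G) (hL : ¬ p ∣ Nat.card L) {j : ℕ} (hj : Y.index ∣ p ^ j) :
    Nat.card L ∣ Nat.card Y := by
  have h1 : Nat.card L ∣ Nat.card Y * p ^ j := by
    obtain ⟨c, hc⟩ := hj
    have h2 : Nat.card L ∣ Nat.card G := Subgroup.card_subgroup_dvd_card L
    rw [hc, ← mul_assoc, Subgroup.card_mul_index]
    exact h2.trans (dvd_mul_right _ _)
  have hcop : (Nat.card L).Coprime (p ^ j) :=
    (Nat.Coprime.pow_left _ ((Nat.Prime.coprime_iff_not_dvd hp).mpr hL)).symm
  exact hcop.dvd_of_dvd_mul_right h1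

/-- In a finite nilpotent group, Hall subgroups are normal. -/
theorem normal_of_isNilpotent_of_coprime {X : Type*} [Group X] [Finite X] [Group.IsNilpotent X]
    (H : Subgroup X) (hcop : (Nat.card H).Coprime H.index) : H.Normal := by
  have hnc := Group.normalizerCondition_of_isNilpotent (G := X)
  rw [normalizerCondition_iff_only_full_group_self_normalizing] at hnc
  have h : Subgroup.normalizer (H : Set X) = ⊤ := by
    apply hnc
    apply le_antisymm _ Subgroup.le_normalizer
    intro g hg
    rw [← conj_smul_eq_self_iff_mem_normalizer]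
    have h1 : MulAut.conj g • H ≤ Subgroup.normalizer (H : Set X) := by
      intro x hx
      rw [mem_conj_smul] at hx
      have hx' : g⁻¹ * x * g ∈ Subgroup.normalizer (H : Set X) := Subgroup.le_normalizer hx
      have h3 := (Subgroup.mem_normalizer_iff.mp hg (g⁻¹ * x * g)).mp hx'
      have h4 : g * (g⁻¹ * x * g) * g⁻¹ = x := by group
      rwa [h4] at h3
    have h2 : MulAut.conj g • H ≤ H :=
      le_of_le_normalizer_of_coprime _ H h1 (by rw [card_conj_smul]; exact hcop)
    exact Subgroup.eq_of_le_of_card_ge h2 (by rw [card_conj_smul])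
  exact Subgroup.normalizer_eq_top_iff.mp h

/-! ### Reduction of complement systems -/

/-- `K` reduces into `C`: each `K p ⊓ C` has `p`-power index in `C`. -/
def Red {G : Type*} [Group G] (K : Nat.Primes → Subgroup G) (C : Subgroup G) : Prop :=
  ∀ p : Nat.Primes, ∃ k : ℕ, (K p).relIndex C ∣ (p : ℕ) ^ k

theorem exists_red {G : Type u} [Group G] [Finite G] [Group.IsSolvable G] (C : Subgroup G) :
    ∃ K : Nat.Primes → Subgroup G, Cfsg.IsComplementSystem K ∧ Red K C := by
  have key : ∀ p : Nat.Primes, ∃ Kp : Subgroup G,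
      Kp.index = (p : ℕ) ^ (Nat.card G).factorization p ∧
        ∃ k : ℕ, Kp.relIndex C ∣ (p : ℕ) ^ k := by
    intro p
    have hp : (p : ℕ).Prime := p.2
    have hc0 : Nat.card C ≠ 0 := Nat.card_pos.ne'
    have hg0 : Nat.card G ≠ 0 := Nat.card_pos.ne'
    have hC1 : Nat.card C = ordCompl[(p : ℕ)] (Nat.card C) * ordProj[(p : ℕ)] (Nat.card C) := by
      rw [mul_comm]; exact (Nat.ordProj_mul_ordCompl_eq_self (Nat.card C) p).symm
    have hcopC : (ordCompl[(p : ℕ)] (Nat.card C)).Coprime (ordProj[(p : ℕ)] (Nat.card C)) :=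
      (Nat.Coprime.pow_left _ (Nat.coprime_ordCompl hp hc0)).symm
    obtain ⟨H₀, hH₀⟩ := hall_exists (G := C) _ _ hC1 hcopC
    have hH₁card : Nat.card (H₀.map C.subtype) = ordCompl[(p : ℕ)] (Nat.card C) := by
      rw [Subgroup.card_map_of_injective C.subtype_injective, hH₀]
    have hH₁C : H₀.map C.subtype ≤ C := Subgroup.map_subtype_le H₀
    have hG1 : Nat.card G = ordCompl[(p : ℕ)] (Nat.card G) * ordProj[(p : ℕ)] (Nat.card G) := by
      rw [mul_comm]; exact (Nat.ordProj_mul_ordCompl_eq_self (Nat.card G) p).symm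
    have hcopG : (ordCompl[(p : ℕ)] (Nat.card G)).Coprime (ordProj[(p : ℕ)] (Nat.card G)) :=
      (Nat.Coprime.pow_left _ (Nat.coprime_ordCompl hp hg0)).symm
    have hcop1 : (Nat.card (H₀.map C.subtype)).Coprime (ordProj[(p : ℕ)] (Nat.card G)) := by
      rw [hH₁card]
      exact (Nat.Coprime.pow_left _ (Nat.coprime_ordCompl hp hc0)).symm
    obtain ⟨Kp, hKp, hle⟩ := hall_dominance _ _ hG1 hcopG (H₀.map C.subtype) hcop1
    refine ⟨Kp, ?_, (Nat.card C).factorization p, ?_⟩
    · have h1 := Subgroup.card_mul_index Kp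
      rw [hKp] at h1
      exact Nat.eq_of_mul_eq_mul_left (Nat.ordCompl_pos p hg0) (h1.trans hG1)
    · have h3 : Kp.relIndex C ∣ (H₀.map C.subtype).relIndex C :=
        Subgroup.relIndex_dvd_of_le_left C hle
      have h4 : Nat.card (H₀.map C.subtype) * (H₀.map C.subtype).relIndex C = Nat.card C :=
        Cfsg.H5.card_mul_relIndex_of_le hH₁C
      rw [hH₁card] at h4
      have h5 : (H₀.map C.subtype).relIndex C = ordProj[(p : ℕ)] (Nat.card C) :=
        Nat.eq_of_mul_eq_mul_left (Nat.ordCompl_pos p hc0) (h4.trans hC1)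
      rw [h5] at h3
      exact h3
  choose K hK1 hK2 using key
  exact ⟨K, hK1, hK2⟩

theorem systemNormalizer_conj {G : Type*} [Group G] (K : Nat.Primes → Subgroup G) (g : G) :
    Cfsg.systemNormalizer (fun p => MulAut.conj g • K p) =
      MulAut.conj g • Cfsg.systemNormalizer K := by
  ext x
  rw [mem_conj_smul]
  unfold Cfsg.systemNormalizer
  rw [Subgroup.mem_iInf, Subgroup.mem_iInf]
  exact forall_congr' fun p => Carter.mem_normalizer_conj_smul

theorem systemNormalizer_le_normalizer {G : Type*} [Group G] (K : Nat.Primes → Subgroup G)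
    (r : Nat.Primes) : Cfsg.systemNormalizer K ≤ Subgroup.normalizer (K r : Set G) := by
  unfold Cfsg.systemNormalizer
  exact iInf_le _ r

/-! ### Carter subgroups -/

theorem carterIH (n : ℕ) : Carter.IHyp.{u} n :=
  fun m _ X _ _ _ hX => Carter.carterProp m X hX

theorem isCarter_map_mk {G : Type u} [Group G] [Finite G] [Group.IsSolvable G] {C : Subgroup G}
    (hC : Carter.IsCarter C) (A : Subgroup G) [A.Normal] :
    Carter.IsCarter (C.map (QuotientGroup.mk' A)) := by
  refine ⟨?_, ?_⟩
  · haveI := hC.1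
    exact Group.nilpotent_of_surjective ((QuotientGroup.mk' A).subgroupMap C)
      (MonoidHom.subgroupMap_surjective _ _)
  · apply (Carter.isCarter_comap_iff A _).mp
    rw [Subgroup.comap_map_eq, QuotientGroup.ker_mk']
    exact Carter.normalizer_sup_eq (carterIH _) rfl hC A

theorem exists_min_normal_pgroup {G : Type u} [Group G] [Finite G] [Group.IsSolvable G]
    (htop : (⊤ : Subgroup G) ≠ ⊥) :
    ∃ q : ℕ, q.Prime ∧ ∃ A : Subgroup G, A.Normal ∧ A ≠ ⊥ ∧ IsMulCommutative A ∧ IsPGroup q A ∧
      ∀ B : Subgroup G, B.Normal → B ≤ A → B = ⊥ ∨ B = A := by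
  obtain ⟨A, hAn, hAne, -, hAc, hAmin⟩ := Carter.exists_minimal_normal (⊤ : Subgroup G) htop
  haveI := hAn
  obtain ⟨q, hq, P, hPn, hPA, hPne, -, hPexp⟩ :=
    exists_normal_elementary_abelian_le (G := G) _ A rfl hAne inferInstance
  have hPA' : P = A := (hAmin P hPn hPA).resolve_left hPne
  refine ⟨q, hq, A, hAn, hAne, hAc, ?_, hAmin⟩
  intro g
  refine ⟨1, ?_⟩
  have := hPexp (g : G) (hPA' ▸ g.2)
  rw [pow_one]
  exact Subtype.ext (by simpa using this)

/-- A complement system reducing into a Carter subgroup has its system normalizer inside it. -/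
theorem sysNorm_le_of_red : ∀ (n : ℕ) (G : Type u) [Group G] [Finite G] [Group.IsSolvable G],
    Nat.card G = n → ∀ (C : Subgroup G) (K : Nat.Primes → Subgroup G), Carter.IsCarter C →
    Cfsg.IsComplementSystem K → Red K C → Cfsg.systemNormalizer K ≤ C := by
  intro n
  induction n using Nat.strong_induction_on with
  | _ n ih =>
    intro G _ _ _ hG C K hC hK hred
    by_cases hCtop : C = ⊤
    · rw [hCtop]; exact le_top
    have htop : (⊤ : Subgroup G) ≠ ⊥ := by
      intro h
      apply hCtop
      have : Subsingleton (Subgroup G) := subsingleton_of_bot_eq_top h.symm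
      exact Subsingleton.elim _ _
    obtain ⟨q, hq, A, hAn, hAne, hAc, hAq, hAmin⟩ := exists_min_normal_pgroup (G := G) htop
    haveI := hAn
    haveI : Fact q.Prime := ⟨hq⟩
    obtain ⟨a, ha⟩ := IsPGroup.iff_card.mp hAq
    -- Step 1: the quotient
    have hDCA : Cfsg.systemNormalizer K ≤ C ⊔ A := by
      have hlt : Nat.card (G ⧸ A) < n := hG ▸ Carter.card_quotient_lt A hAne
      have hKb := Cfsg.Agent.S0545.isComplementSystem_map K hK A
      have hCb := isCarter_map_mk hC A
      have hredb : Red (fun p => (K p).map (QuotientGroup.mk' A))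
          (C.map (QuotientGroup.mk' A)) := by
        intro p
        obtain ⟨k, hk⟩ := hred p
        exact ⟨k, (relIndex_map_dvd _ _ _).trans hk⟩
      have h1 := ih _ hlt (G ⧸ A) rfl _ _ hCb hKb hredb
      rw [Cfsg.Agent.S0545.main K hK A] at h1
      have h2 := Subgroup.comap_mono (f := QuotientGroup.mk' A) h1
      rw [Subgroup.comap_map_eq, Subgroup.comap_map_eq, QuotientGroup.ker_mk'] at h2
      exact le_sup_left.trans h2
    by_cases hCA : C ⊔ A = ⊤
    · -- Step 3
      obtain ⟨qq, hqq⟩ : ∃ qq : Nat.Primes, (qq : ℕ) = q := ⟨⟨q, hq⟩, rfl⟩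
      obtain ⟨k, hk⟩ := hred qq
      rw [hqq] at hk
      have hnd : ¬ q ∣ Nat.card (K qq) := by
        have := not_dvd_card_of_complement qq qq.2 (K qq) (hK qq)
        rwa [hqq] at this
      have hCidx : C.index ∣ q ^ a := by
        rw [← ha, ← Subgroup.relIndex_top_right, ← hCA]
        exact relIndex_sup_dvd_card C A
      have hKC : K qq ≤ C := by
        have h1 : (K qq ⊓ C).relIndex C * C.index = (K qq ⊓ C).index :=
          Subgroup.relIndex_mul_index inf_le_right
        rw [Subgroup.inf_relIndex_right] at h1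
        have h2 : (K qq ⊓ C).index ∣ q ^ (k + a) := by
          rw [← h1, pow_add]; exact mul_dvd_mul hk hCidx
        have h6 := card_dvd_card_of_index_dvd_pow hq (K qq) (K qq ⊓ C) hnd h2
        have h7 : K qq ⊓ C = K qq :=
          Subgroup.eq_of_le_of_card_ge inf_le_left (Nat.le_of_dvd Nat.card_pos h6)
        rw [← h7]; exact inf_le_right
      obtain ⟨M, hM⟩ : ∃ M : Subgroup G, M = Subgroup.normalizer (K qq : Set G) := ⟨_, rfl⟩
      have hCN : C ≤ M := by
        rw [hM]
        haveI := hC.1
        have hcop : (Nat.card ((K qq).subgroupOf C)).Coprime ((K qq).subgroupOf C).index := by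
          rw [Nat.card_congr (Subgroup.subgroupOfEquivOfLe hKC).toEquiv]
          have hidx : ((K qq).subgroupOf C).index ∣ q ^ k := hk
          exact Nat.Coprime.coprime_dvd_right hidx
            (Nat.Coprime.pow_right _ ((Nat.Prime.coprime_iff_not_dvd hq).mpr hnd).symm)
        have hnorm := normal_of_isNilpotent_of_coprime ((K qq).subgroupOf C) hcop
        exact (Subgroup.normal_subgroupOf_iff_le_normalizer hKC).mp hnorm
      have hMA : M ⊔ A = ⊤ := top_le_iff.mp (hCA ▸ sup_le_sup_right hCN A)
      have hMAn : (M ⊓ A).Normal := Carter.inf_normal_of_sup_eq_top hAc hMA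
      have hDM : Cfsg.systemNormalizer K ≤ M := by
        rw [hM]; exact systemNormalizer_le_normalizer K qq
      rcases hAmin (M ⊓ A) hMAn inf_le_right with h | h
      · intro x hx
        have hxM := hDM hx
        obtain ⟨m, hm, a', ha', rfl⟩ := Carter.exists_mul_of_sup_eq_top hCA x
        have h8 : a' ∈ M ⊓ A := by
          refine Subgroup.mem_inf.mpr ⟨?_, ha'⟩
          have := M.mul_mem (M.inv_mem (hCN hm)) hxM
          simpa using this
        rw [h, Subgroup.mem_bot] at h8
        rw [h8, mul_one]; exact hm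
      · exfalso
        have hAM : A ≤ M := h ▸ inf_le_left
        have hMtop : M = ⊤ := top_le_iff.mp (hCA ▸ sup_le hCN hAM)
        rw [hM] at hMtop
        haveI hKn : (K qq).Normal := Subgroup.normalizer_eq_top_iff.mp hMtop
        have hqG : IsPGroup q (G ⧸ K qq) := by
          apply IsPGroup.of_card (n := (Nat.card G).factorization q)
          rw [← Subgroup.index_eq_card, hK qq, hqq]
        haveI : Group.IsNilpotent (G ⧸ K qq) := hqG.isNilpotent
        have hnc := Group.normalizerCondition_of_isNilpotent (G := G ⧸ K qq)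
        rw [normalizerCondition_iff_only_full_group_self_normalizing] at hnc
        have hCb := (isCarter_map_mk hC (K qq)).2
        have h1 := hnc _ hCb
        have h2 := congrArg (Subgroup.comap (QuotientGroup.mk' (K qq))) h1
        rw [Subgroup.comap_map_eq, QuotientGroup.ker_mk', Subgroup.comap_top,
          sup_of_le_left hKC] at h2
        exact hCtop h2
    · -- Step 2
      obtain ⟨H, hH⟩ : ∃ H : Subgroup G, H = C ⊔ A := ⟨_, rfl⟩
      have hHtop : H ≠ ⊤ := hH ▸ hCA
      have hltH : Nat.card H < n := by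
        rw [← hG]
        by_contra hge
        exact hHtop (Subgroup.eq_top_of_le_card H (not_lt.mp hge))
      have hCH : C ≤ H := hH ▸ le_sup_left
      have hredH : ∀ p : Nat.Primes, ∃ j : ℕ, (K p).relIndex H ∣ (p : ℕ) ^ j := by
        intro p
        obtain ⟨k, hk⟩ := hred p
        by_cases hpq : (p : ℕ) = q
        · refine ⟨k + a, ?_⟩
          have h1 : (K p).relIndex H ∣ (K p ⊓ C).relIndex H :=
            Subgroup.relIndex_dvd_of_le_left H inf_le_left
          have h2 : (K p ⊓ C).relIndex C * C.relIndex H = (K p ⊓ C).relIndex H :=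
            Subgroup.relIndex_mul_relIndex _ _ _ inf_le_right hCH
          rw [Subgroup.inf_relIndex_right] at h2
          have h3 : C.relIndex H ∣ Nat.card A := hH ▸ relIndex_sup_dvd_card C A
          rw [ha, ← hpq] at h3
          rw [← h2] at h1
          rw [pow_add]
          exact h1.trans (mul_dvd_mul hk h3)
        · have hAK : A ≤ K p := by
            rw [← Subgroup.relIndex_eq_one]
            have h1 : (K p).relIndex A ∣ (p : ℕ) ^ (Nat.card G).factorization p := by
              rw [← hK p]; exact relIndex_dvd_index_of_normal_right (K p) A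
            have h2 : (K p).relIndex A ∣ q ^ a := by
              rw [← ha]; exact Subgroup.relIndex_dvd_card _ _
            have hcop : ((p : ℕ) ^ (Nat.card G).factorization p).Coprime (q ^ a) :=
              Nat.Coprime.pow _ _ ((Nat.coprime_primes p.2 hq).mpr hpq)
            exact Nat.eq_one_of_dvd_coprimes hcop h1 h2
          exact ⟨k, by rw [hH, relIndex_sup_of_normal_le A (K p) C hAK]; exact hk⟩
      have hKH : Cfsg.IsComplementSystem (fun p => (K p).subgroupOf H) := by
        intro p
        obtain ⟨j, hj⟩ := hredH p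
        have hnd : ¬ (p : ℕ) ∣ Nat.card (K p) :=
          not_dvd_card_of_complement p p.2 (K p) (hK p)
        exact relIndex_eq_pow_factorization p.2 (K p) H hnd hj
      have hCHc : Carter.IsCarter (C.subgroupOf H) :=
        (Carter.isCarter_subgroupOf_iff hCH).mpr (hC.isCarterIn hCH)
      have hredKH : Red (fun p => (K p).subgroupOf H) (C.subgroupOf H) := by
        intro p
        obtain ⟨k, hk⟩ := hred p
        refine ⟨k, ?_⟩
        show ((K p).subgroupOf H).relIndex (C.subgroupOf H) ∣ _
        rw [Subgroup.relIndex_subgroupOf hCH]; exact hk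
      have h1 := ih _ hltH H rfl _ _ hCHc hKH hredKH
      intro x hx
      have hxH : x ∈ H := hH ▸ hDCA hx
      have hx' : (⟨x, hxH⟩ : H) ∈ Cfsg.systemNormalizer (fun p => (K p).subgroupOf H) := by
        unfold Cfsg.systemNormalizer
        rw [Subgroup.mem_iInf]
        intro p
        have hxp : x ∈ Subgroup.normalizer (K p : Set G) := systemNormalizer_le_normalizer K p hx
        rw [Subgroup.mem_normalizer_iff] at hxp ⊢
        intro h
        rw [Subgroup.mem_subgroupOf, Subgroup.mem_subgroupOf]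
        exact hxp h
      exact h1 hx'

/-- Every Carter subgroup of a finite solvable group contains a system normalizer. -/
theorem exists_sysNorm_le {G : Type u} [Group G] [Finite G] [Group.IsSolvable G]
    (C : Subgroup G) (hC : Carter.IsCarter C) :
    ∃ K : Nat.Primes → Subgroup G, Cfsg.IsComplementSystem K ∧ Cfsg.systemNormalizer K ≤ C := by
  obtain ⟨K, hK, hred⟩ := exists_red C
  exact ⟨K, hK, sysNorm_le_of_red _ G rfl C K hC hK hred⟩

/-- In a group of nilpotent length at most two, system normalizers are Carter subgroups. -/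
theorem isCarter_sysNorm {G : Type u} [Group G] [Finite G] [Group.IsSolvable G]
    (F : Subgroup G) [F.Normal] (hF : Group.IsNilpotent F) (hGF : Group.IsNilpotent (G ⧸ F))
    (K : Nat.Primes → Subgroup G) (hK : Cfsg.IsComplementSystem K) :
    Carter.IsCarter (Cfsg.systemNormalizer K) := by
  obtain ⟨D, hD⟩ : ∃ D : Subgroup G, D = Cfsg.systemNormalizer K := ⟨_, rfl⟩
  have hDnorm : ∀ p, D ≤ Subgroup.normalizer (K p : Set G) := fun p => by
    rw [hD]; exact systemNormalizer_le_normalizer K p
  -- (1) `D ⊔ F = ⊤`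
  have hDF : D ⊔ F = ⊤ := by
    have h1 := Cfsg.Agent.S0545.main K hK F
    have hKb := Cfsg.Agent.S0545.isComplementSystem_map K hK F
    have h2 : Cfsg.systemNormalizer (fun p => (K p).map (QuotientGroup.mk' F)) = ⊤ := by
      unfold Cfsg.systemNormalizer
      rw [eq_top_iff]
      refine le_iInf fun p => ?_
      have hn : ((K p).map (QuotientGroup.mk' F)).Normal := by
        apply normal_of_isNilpotent_of_coprime
        exact coprime_card_index p p.2 _ (hKb p)
      rw [Subgroup.normalizer_eq_top_iff.mpr hn]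
    rw [h2] at h1
    have h3 := congrArg (Subgroup.comap (QuotientGroup.mk' F)) h1
    rw [Subgroup.comap_top, Subgroup.comap_map_eq, QuotientGroup.ker_mk', ← hD] at h3
    exact h3.symm
  -- (2) `K p ⊓ F` is normal in `G`
  have hE : ∀ p : Nat.Primes, (K p ⊓ F).Normal := by
    intro p
    have hnd := not_dvd_card_of_complement p p.2 (K p) (hK p)
    have h1 : ((K p ⊓ F).subgroupOf F).Normal := by
      haveI := hF
      apply normal_of_isNilpotent_of_coprime
      have hidx : ((K p ⊓ F).subgroupOf F).index ∣ (p : ℕ) ^ (Nat.card G).factorization p := by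
        rw [Subgroup.inf_subgroupOf_right, ← hK p]
        exact relIndex_dvd_index_of_normal_right (K p) F
      have hcard : Nat.card ((K p ⊓ F).subgroupOf F) ∣ Nat.card (K p) := by
        rw [Nat.card_congr (Subgroup.subgroupOfEquivOfLe (inf_le_right : K p ⊓ F ≤ F)).toEquiv]
        exact Subgroup.card_dvd_of_le inf_le_left
      have hcop : (Nat.card (K p)).Coprime ((p : ℕ) ^ (Nat.card G).factorization p) :=
        (Nat.Coprime.pow_left _ ((Nat.Prime.coprime_iff_not_dvd p.2).mpr hnd)).symm
      exact Nat.Coprime.coprime_dvd_left hcard (Nat.Coprime.coprime_dvd_right hidx hcop)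
    have hFle : F ≤ Subgroup.normalizer ((K p ⊓ F : Subgroup G) : Set G) :=
      (Subgroup.normal_subgroupOf_iff_le_normalizer inf_le_right).mp h1
    have hDle : D ≤ Subgroup.normalizer ((K p ⊓ F : Subgroup G) : Set G) := by
      intro x hx
      rw [← conj_smul_eq_self_iff_mem_normalizer, Subgroup.smul_inf,
        conj_smul_eq_self_iff_mem_normalizer.mpr (hDnorm p hx),
        Subgroup.Normal.conj_smul_eq_self]
    have htop : Subgroup.normalizer ((K p ⊓ F : Subgroup G) : Set G) = ⊤ :=
      top_le_iff.mp (hDF ▸ sup_le hDle hFle)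
    exact Subgroup.normalizer_eq_top_iff.mp htop
  -- (3) `N(D)` normalizes `D ⊓ K p`
  have hT : ∀ (p : Nat.Primes) (y : G), y ∈ Subgroup.normalizer (D : Set G) →
      MulAut.conj y • (D ⊓ K p) = D ⊓ K p := by
    intro p y hy
    apply Subgroup.eq_of_le_of_card_ge
    · have hyD : MulAut.conj y • D = D := conj_smul_eq_self_iff_mem_normalizer.mpr hy
      have h1 : MulAut.conj y • (D ⊓ K p) ≤ D := by
        rw [Subgroup.smul_inf, hyD]; exact inf_le_left
      have h2 : MulAut.conj y • (D ⊓ K p) ≤ K p := by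
        apply le_of_le_normalizer_of_coprime _ (K p) (h1.trans (hDnorm p))
        rw [card_conj_smul]
        exact Nat.Coprime.coprime_dvd_left (Subgroup.card_dvd_of_le inf_le_right)
          (coprime_card_index p p.2 (K p) (hK p))
      exact le_inf h1 h2
    · rw [card_conj_smul]
  -- (4) `K p = (D ⊓ K p) ⊔ (K p ⊓ F)`
  have hKeq : ∀ p : Nat.Primes, K p = (D ⊓ K p) ⊔ (K p ⊓ F) := by
    intro p
    haveI := hE p
    have hnd := not_dvd_card_of_complement p p.2 (K p) (hK p)
    obtain ⟨Y, hY⟩ : ∃ Y : Subgroup G, Y = (D ⊓ K p) ⊔ (K p ⊓ F) := ⟨_, rfl⟩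
    rw [← hY]
    have hYK : Y ≤ K p := hY ▸ sup_le inf_le_right inf_le_left
    symm
    apply Subgroup.eq_of_le_of_card_ge hYK
    obtain ⟨v, hv⟩ : ∃ v, (K p).index = (p : ℕ) ^ v := ⟨_, hK p⟩
    have h1 : (Y ⊔ F).index ∣ (p : ℕ) ^ v := by
      have h2 : (D ⊓ K p) ⊔ F ≤ Y ⊔ F := sup_le_sup_right (hY ▸ le_sup_left) F
      refine (Subgroup.index_dvd_of_le h2).trans ?_
      rw [← Subgroup.relIndex_top_right, ← hDF]
      have h3 := Subgroup.relIndex_map_map (QuotientGroup.mk' F) (D ⊓ K p) D
      rw [QuotientGroup.ker_mk'] at h3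
      rw [← h3]
      refine (relIndex_map_dvd _ _ _).trans ?_
      rw [inf_comm, Subgroup.inf_relIndex_right]
      have h4 := Cfsg.H5.relIndex_sup_of_le_normalizer (hDnorm p)
      rw [← h4, ← hv]
      exact Subgroup.relIndex_dvd_index_of_le le_sup_right
    have h5 : Y.relIndex (Y ⊔ F) ∣ (p : ℕ) ^ v := by
      have h6 : Y.relIndex (F ⊔ Y) = Y.relIndex F :=
        Cfsg.Agent.Lib.Helper23.relIndex_sup_of_le_normalizer'
          (by rw [Subgroup.normalizer_eq_top_iff.mpr (inferInstance : F.Normal)]; exact le_top)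
      rw [sup_comm, h6]
      have h7 : Y.relIndex F ∣ (K p ⊓ F).relIndex F :=
        Subgroup.relIndex_dvd_of_le_left F (hY ▸ le_sup_right)
      rw [Subgroup.inf_relIndex_right] at h7
      refine h7.trans ?_
      rw [← hv]
      exact relIndex_dvd_index_of_normal_right (K p) F
    have h8 : Y.index ∣ (p : ℕ) ^ (v + v) := by
      rw [← Subgroup.relIndex_mul_index (le_sup_left : Y ≤ Y ⊔ F), pow_add]
      exact mul_dvd_mul h5 h1
    exact Nat.le_of_dvd Nat.card_pos (card_dvd_card_of_index_dvd_pow p.2 (K p) Y hnd h8)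
  -- conclusion
  rw [← hD]
  refine ⟨hD ▸ Cfsg.Agent.S0544.result K hK, le_antisymm ?_ Subgroup.le_normalizer⟩
  intro y hy
  rw [hD]
  unfold Cfsg.systemNormalizer
  rw [Subgroup.mem_iInf]
  intro p
  rw [← conj_smul_eq_self_iff_mem_normalizer]
  haveI := hE p
  have h := hKeq p
  calc MulAut.conj y • K p = MulAut.conj y • ((D ⊓ K p) ⊔ (K p ⊓ F)) := by rw [← h]
    _ = MulAut.conj y • (D ⊓ K p) ⊔ MulAut.conj y • (K p ⊓ F) := Subgroup.smul_sup _ _ _
    _ = (D ⊓ K p) ⊔ (K p ⊓ F) := by rw [hT p y hy, Subgroup.Normal.conj_smul_eq_self]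
    _ = K p := h.symm

end Cfsg.H5.CS
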