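import Mathlib

set_option autoImplicit false

namespace Cfsg.H5.Class2

open scoped commutatorElement

variable {K : Type*} [Group K]

/-- general commutator identities -/
theorem comm_mul_right (x y z : K) : ⁅x, y * z⁆ = ⁅x, y⁆ * (y * ⁅x, z⁆ * y⁻¹) := by
  simp only [commutatorElement_def]
  group

theorem comm_mul_left (x y z : K) : ⁅x * y, z⁆ = (x * ⁅y, z⁆ * x⁻¹) * ⁅x, z⁆ := by
  simp only [commutatorElement_def]
  group

section cl2

variable (hK : ∀ x y z : K, z * ⁅x, y⁆ = ⁅x, y⁆ * z)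
include hK

theorem bil_right (x y z : K) : ⁅x, y * z⁆ = ⁅x, y⁆ * ⁅x, z⁆ := by
  rw [comm_mul_right, hK x z y, mul_inv_cancel_right]

theorem bil_left (x y z : K) : ⁅x * y, z⁆ = ⁅x, z⁆ * ⁅y, z⁆ := by
  rw [comm_mul_left, hK y z x, mul_inv_cancel_right, ← hK x z ⁅y, z⁆]

theorem comm_one_right (x : K) : ⁅x, (1 : K)⁆ = 1 := by
  simp [commutatorElement_def]

theorem comm_one_left (x : K) : ⁅(1 : K), x⁆ = 1 := by
  simp [commutatorElement_def]

theorem inv_right (x y : K) : ⁅x, y⁻¹⁆ = ⁅x, y⁆⁻¹ := by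
  have h := bil_right hK x y y⁻¹
  rw [mul_inv_cancel, comm_one_right hK] at h
  exact eq_inv_of_mul_eq_one_right h.symm

theorem inv_left (x y : K) : ⁅x⁻¹, y⁆ = ⁅x, y⁆⁻¹ := by
  have h := bil_left hK x x⁻¹ y
  rw [mul_inv_cancel, comm_one_left hK] at h
  exact eq_inv_of_mul_eq_one_right h.symm

theorem pow_right (x y : K) (n : ℕ) : ⁅x, y ^ n⁆ = ⁅x, y⁆ ^ n := by
  induction n with
  | zero => simp [comm_one_right hK]
  | succ n ih => rw [pow_succ, bil_right hK, ih, pow_succ]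

theorem pow_left (x y : K) (n : ℕ) : ⁅x ^ n, y⁆ = ⁅x, y⁆ ^ n := by
  induction n with
  | zero => simp [comm_one_left hK]
  | succ n ih => rw [pow_succ, bil_left hK, ih, pow_succ]

theorem comm_pow_central (x y w : K) (m : ℕ) : w * ⁅x, y⁆ ^ m = ⁅x, y⁆ ^ m * w := by
  have h : Commute w ⁅x, y⁆ := hK x y w
  exact (h.pow_right m)

/-- the power formula in a group of class at most two -/
theorem mul_pow_eq (x y : K) (n : ℕ) : (x * y) ^ n = x ^ n * y ^ n * ⁅y, x⁆ ^ (n.choose 2) := by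
  induction n with
  | zero => simp
  | succ n ih =>
    have h1 : y ^ n * x = x * y ^ n * ⁅y, x⁆ ^ n := by
      have : y ^ n * x = ⁅y ^ n, x⁆ * (x * y ^ n) := by
        simp only [commutatorElement_def]
        group
      rw [this, pow_left hK, ← comm_pow_central hK]
    have h2 : (n + 1).choose 2 = n.choose 2 + n := by
      rw [Nat.choose_succ_succ' n 1, Nat.choose_one_right, add_comm]
    have e1 : ⁅y, x⁆ ^ (n.choose 2) * (x * y) = (x * y) * ⁅y, x⁆ ^ (n.choose 2) :=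
      (comm_pow_central hK y x (x * y) _).symm
    have e2 : ⁅y, x⁆ ^ n * y = y * ⁅y, x⁆ ^ n := (comm_pow_central hK y x y _).symm
    calc (x * y) ^ (n + 1) = (x * y) ^ n * (x * y) := pow_succ _ _
      _ = x ^ n * y ^ n * (⁅y, x⁆ ^ (n.choose 2) * (x * y)) := by rw [ih, mul_assoc]
      _ = x ^ n * y ^ n * ((x * y) * ⁅y, x⁆ ^ (n.choose 2)) := by rw [e1]
      _ = x ^ n * (y ^ n * x) * y * ⁅y, x⁆ ^ (n.choose 2) := by simp only [mul_assoc]
      _ = x ^ n * (x * y ^ n * ⁅y, x⁆ ^ n) * y * ⁅y, x⁆ ^ (n.choose 2) := by rw [h1]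
      _ = x ^ n * x * y ^ n * (⁅y, x⁆ ^ n * y) * ⁅y, x⁆ ^ (n.choose 2) := by simp only [mul_assoc]
      _ = x ^ n * x * y ^ n * (y * ⁅y, x⁆ ^ n) * ⁅y, x⁆ ^ (n.choose 2) := by rw [e2]
      _ = x ^ (n + 1) * y ^ (n + 1) * ⁅y, x⁆ ^ ((n + 1).choose 2) := by
        rw [h2, pow_succ x n, pow_succ y n, add_comm (n.choose 2) n, pow_add]
        simp only [mul_assoc]

end cl2

end Cfsg.H5.Class2
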