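import Mathlib
import Cfsg.Agent.H5.Card

set_option autoImplicit false

namespace Cfsg.H5

open Subgroup

variable {G : Type*} [Group G]

/-- If `G = ⟨K, M⟩`, `X ⊴ G` and `K` centralizes `X ∩ M`, then `X ∩ M ⊴ G`. -/
theorem inf_normal_of_sup_eq_top {K M X : Subgroup G} (hKM : K ⊔ M = ⊤) (hX : X.Normal)
    (hKX : ∀ k ∈ K, ∀ x ∈ X ⊓ M, k * x = x * k) : (X ⊓ M).Normal := by
  rw [← Subgroup.normalizer_eq_top_iff, eq_top_iff, ← hKM]
  apply sup_le
  · apply le_normalizer_of_le_centralizer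
    intro k hk
    rw [mem_centralizer_iff]
    intro d hd
    exact (hKX k hk d hd).symm
  · intro h hh
    rw [mem_set_normalizer_iff]
    intro d
    constructor
    · intro hd
      exact ⟨hX.conj_mem d hd.1 h, M.mul_mem (M.mul_mem hh hd.2) (M.inv_mem hh)⟩
    · intro hd
      have h1 : h⁻¹ * (h * d * h⁻¹) * h⁻¹⁻¹ ∈ X := hX.conj_mem _ hd.1 h⁻¹
      have h2 : h⁻¹ * (h * d * h⁻¹) * h⁻¹⁻¹ ∈ M :=
        M.mul_mem (M.mul_mem (M.inv_mem hh) hd.2) (M.inv_mem (M.inv_mem hh))
      have e : h⁻¹ * (h * d * h⁻¹) * h⁻¹⁻¹ = d := by group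
      rw [e] at h1 h2
      exact ⟨h1, h2⟩

theorem inf_eq_bot_of_sup_eq_top {K M X : Subgroup G} (hcore : M.normalCore = ⊥)
    (hKM : K ⊔ M = ⊤) (hX : X.Normal)
    (hKX : ∀ k ∈ K, ∀ x ∈ X ⊓ M, k * x = x * k) : X ⊓ M = ⊥ := by
  have hn := inf_normal_of_sup_eq_top hKM hX hKX
  have h1 : X ⊓ M ≤ M.normalCore := Subgroup.normal_le_normalCore.mpr inf_le_right
  rwa [hcore, le_bot_iff] at h1

/-- A nontrivial normal subgroup supplements a core-free maximal subgroup. -/
theorem sup_eq_top_of_coatom {K M : Subgroup G} (hM : IsCoatom M) (hcore : M.normalCore = ⊥)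
    (hK : K.Normal) (hK1 : K ≠ ⊥) : K ⊔ M = ⊤ := by
  have hnle : ¬ K ≤ M := by
    intro h
    have h1 : K ≤ M.normalCore := Subgroup.normal_le_normalCore.mpr h
    rw [hcore, le_bot_iff] at h1
    exact hK1 h1
  have hlt : M < K ⊔ M := by
    apply lt_of_le_of_ne le_sup_right
    intro heq
    apply hnle
    rw [heq]
    exact le_sup_left
  exact hM.lt_iff.mp hlt

/-- If `K ≤ X`, `K ⊴ G`, `KM = G` and `X ∩ M = 1` then `X = K`. -/
theorem eq_of_le_of_sup_eq_top {K M X : Subgroup G} (hK : K.Normal) (hKM : K ⊔ M = ⊤)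
    (hKX : K ≤ X) (hXM : X ⊓ M = ⊥) : X = K := by
  apply le_antisymm _ hKX
  intro x hx
  have hmem : x ∈ K ⊔ M := by rw [hKM]; trivial
  obtain ⟨k, hk, m, hm, rfl⟩ := Subgroup.mem_sup_of_normal_left.mp hmem
  have hmX : m ∈ X := by
    have := X.mul_mem (X.inv_mem (hKX hk)) hx
    simpa using this
  have : m ∈ X ⊓ M := ⟨hmX, hm⟩
  rw [hXM, Subgroup.mem_bot] at this
  rw [this, mul_one]
  exact hk

/-- A `q`-group normalizing... : conjugation action of a `q`-subgroup `Q` on a normal subgroup `L`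
with `C_L(Q) = 1` gives `|L| ≡ 1 (mod q)`. -/
theorem card_modEq_one_of_conj_fpf [Finite G] {q : ℕ} [Fact q.Prime] (L Q : Subgroup G)
    [L.Normal] (hQ : IsPGroup q Q) (hfix : L ⊓ centralizer (Q : Set G) = ⊥) :
    Nat.card L ≡ 1 [MOD q] := by
  let _ : MulAction Q L := MulAction.compHom L ((MulAut.conjNormal (H := L)).comp Q.subtype)
  have h1 := hQ.card_modEq_card_fixedPoints L
  have h2 : MulAction.fixedPoints Q L = {1} := by
    ext l
    rw [MulAction.mem_fixedPoints, Set.mem_singleton_iff]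
    constructor
    · intro h
      have hl : (l : G) ∈ L ⊓ centralizer (Q : Set G) := by
        refine ⟨l.2, ?_⟩
        show (l : G) ∈ centralizer (Q : Set G)
        rw [mem_centralizer_iff]
        intro x hx
        have h3 := congrArg Subtype.val (h ⟨x, hx⟩)
        have h4 : ((⟨x, hx⟩ : Q) • l : L) = MulAut.conjNormal (x : G) l := rfl
        rw [h4, MulAut.conjNormal_apply] at h3
        calc x * (l : G) = (x * l * x⁻¹) * x := by group
          _ = l * x := by rw [h3]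
      rw [hfix, Subgroup.mem_bot] at hl
      exact Subtype.ext hl
    · rintro rfl x
      have h4 : (x • (1 : L) : L) = MulAut.conjNormal (x : G) 1 := rfl
      rw [h4, map_one]
  rw [h2] at h1
  simpa using h1

end Cfsg.H5
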