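import Mathlib

/-!
# Coprime automorphisms fixing the elements of small exponent
-/

set_option autoImplicit false

namespace Cfsg.H5.CE

variable {P : Type*} [Group P]

theorem iterate_of_fix (α : MulAut P) (x c : P) (hx : α x = x * c) (hc : α c = c) (n : ℕ) :
    (α ^ n) x = x * c ^ n := by
  induction n with
  | zero => simp
  | succ n ih =>
    rw [pow_succ', MulAut.mul_apply, ih, map_mul, map_pow, hc, hx, pow_succ', mul_assoc]

/-- if `α` fixes `c = x⁻¹ α(x)` and the orders of `c` and `α` are coprime, then `α` fixes `x` -/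
theorem fix_of_comm_fix (α : MulAut P) (x : P) {n : ℕ}
    (hcop : (orderOf α).Coprime n) (hc : α (x⁻¹ * α x) = x⁻¹ * α x)
    (hn : (x⁻¹ * α x) ^ n = 1) : α x = x := by
  have hx : α x = x * (x⁻¹ * α x) := by group
  have h1 := iterate_of_fix α x (x⁻¹ * α x) hx hc (orderOf α)
  rw [pow_orderOf_eq_one, MulAut.one_apply] at h1
  have h2 : (x⁻¹ * α x) ^ orderOf α = 1 := by
    have : x * 1 = x * (x⁻¹ * α x) ^ orderOf α := by rw [mul_one]; exact h1
    exact (mul_left_cancel this).symm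
  have h3 : orderOf (x⁻¹ * α x) ∣ orderOf α := orderOf_dvd_of_pow_eq_one h2
  have h4 : orderOf (x⁻¹ * α x) ∣ n := orderOf_dvd_of_pow_eq_one hn
  have h5 : orderOf (x⁻¹ * α x) = 1 := Nat.eq_one_of_dvd_coprimes hcop h3 h4
  have h6 : x⁻¹ * α x = 1 := orderOf_eq_one_iff.mp h5
  exact (inv_mul_eq_one.mp h6).symm

/-- an automorphism of order prime to `e` fixing the elements `x` with `x ^ e = 1` of a subgroup
`K` on which `x ↦ x ^ e` is multiplicative fixes the elements of `e`-power order -/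
theorem fix_of_fix_omega (K : Subgroup P) (e : ℕ) (α : MulAut P)
    (hcop : (orderOf α).Coprime e)
    (hmul : ∀ x ∈ K, ∀ y ∈ K, (x * y) ^ e = x ^ e * y ^ e)
    (hαK : ∀ x ∈ K, α x ∈ K) (hfix : ∀ x ∈ K, x ^ e = 1 → α x = x)
    (hKp : ∀ x ∈ K, ∃ n : ℕ, x ^ (e ^ n) = 1) : ∀ x ∈ K, α x = x := by
  have key : ∀ n : ℕ, ∀ x ∈ K, x ^ (e ^ n) = 1 → α x = x := by
    intro n
    induction n with
    | zero =>
      intro x _ hx
      rw [pow_zero, pow_one] at hx
      rw [hx, map_one]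
    | succ n ih =>
      intro x hxK hx
      have h1 : (x ^ e) ^ (e ^ n) = 1 := by
        rw [← pow_mul, ← pow_succ']; exact hx
      have h2 : α (x ^ e) = x ^ e := ih (x ^ e) (K.pow_mem hxK e) h1
      have h3 : (x⁻¹ * α x) ^ e = 1 := by
        rw [hmul _ (K.inv_mem hxK) _ (hαK x hxK), inv_pow, ← map_pow, h2, inv_mul_cancel]
      have h4 : α (x⁻¹ * α x) = x⁻¹ * α x :=
        hfix _ (K.mul_mem (K.inv_mem hxK) (hαK x hxK)) h3
      exact fix_of_comm_fix α x hcop h4 h3
  intro x hx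
  obtain ⟨n, hn⟩ := hKp x hx
  exact key n x hx hn

end Cfsg.H5.CE
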