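import Mathlib

set_option autoImplicit false

namespace Cfsg.H5

open Finset

theorem modEq_one_of_pow_prime_modEq_one {p m r : ℕ} (hp : p.Prime) (hp2 : p ≠ 2) (hm : 1 ≤ m)
    (h : r ^ p ≡ 1 [MOD p ^ m]) : r ≡ 1 [MOD p ^ (m - 1)] := by
  have hodd : Odd p := hp.odd_of_ne_two hp2
  have hpm : 1 < p ^ m := Nat.one_lt_pow (by omega) hp.one_lt
  have hr0 : r ≠ 0 := by
    rintro rfl
    rw [zero_pow hp.ne_zero] at h
    have := (Nat.modEq_zero_iff_dvd.mp h.symm)
    have := Nat.le_of_dvd Nat.one_pos this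
    omega
  have hr1 : 1 ≤ r := Nat.one_le_iff_ne_zero.mpr hr0
  have h1 : r ≡ 1 [MOD p] := by
    have h2 : r ^ p ≡ 1 [MOD p] := h.of_dvd (dvd_pow_self p (by omega))
    have h3 : r ^ p ≡ r [MOD p] := by
      have := Fact.mk hp
      rw [← ZMod.natCast_eq_natCast_iff]
      push_cast
      exact ZMod.pow_card _
    exact h3.symm.trans h2
  have hpr : ¬ p ∣ r := by
    intro hd
    have : r ≡ 0 [MOD p] := Nat.modEq_zero_iff_dvd.mpr hd
    have h01 := this.symm.trans h1
    have := Nat.modEq_zero_iff_dvd.mp h01.symm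
    have := Nat.le_of_dvd Nat.one_pos this
    have := hp.one_lt
    omega
  have hdvd : p ∣ r - 1 := (Nat.modEq_iff_dvd' hr1).mp h1.symm
  have hlte := Nat.emultiplicity_pow_sub_pow hp hodd (x := r) (y := 1) hdvd hpr p
  rw [one_pow] at hlte
  have h4 : p ^ m ∣ r ^ p - 1 := (Nat.modEq_iff_dvd' (Nat.one_le_pow _ _ hr1)).mp h.symm
  have h5 : (m : ℕ∞) ≤ emultiplicity p (r ^ p - 1) := pow_dvd_iff_le_emultiplicity.mp h4
  rw [hlte, hp.emultiplicity_self] at h5
  have h6 : ((m - 1 : ℕ) : ℕ∞) ≤ emultiplicity p (r - 1) := by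
    generalize emultiplicity p (r - 1) = e at h5
    induction e using ENat.recTopCoe with
    | top => exact le_top
    | coe k =>
      have : m ≤ k + 1 := by exact_mod_cast h5
      have : m - 1 ≤ k := by omega
      exact_mod_cast this
  have h7 : p ^ (m - 1) ∣ r - 1 := pow_dvd_iff_le_emultiplicity.mpr h6
  exact ((Nat.modEq_iff_dvd' hr1).mpr h7).symm

theorem one_add_pow_modEq (y j : ℕ) : (1 + y) ^ j ≡ 1 + j * y [MOD y ^ 2] := by
  induction j with
  | zero => simp [Nat.ModEq.refl]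
  | succ j ih =>
    have h1 : (1 + y) ^ (j + 1) ≡ (1 + j * y) * (1 + y) [MOD y ^ 2] := by
      rw [pow_succ]
      exact ih.mul_right _
    have h2 : (1 + j * y) * (1 + y) = 1 + (j + 1) * y + j * y ^ 2 := by ring
    rw [h2] at h1
    refine h1.trans ?_
    have : j * y ^ 2 ≡ 0 [MOD y ^ 2] := Nat.modEq_zero_iff_dvd.mpr (dvd_mul_left _ _)
    have := Nat.ModEq.add_left (1 + (j + 1) * y) this
    simpa using this

theorem geom_sum_modEq {p m : ℕ} (hp : p.Prime) (hp2 : p ≠ 2) (hm : 2 ≤ m) :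
    ∑ i ∈ range p, (1 + p ^ (m - 1)) ^ i ≡ p [MOD p ^ m] := by
  have hodd : Odd p := hp.odd_of_ne_two hp2
  obtain ⟨t, ht⟩ := hodd
  have hdvd : p ^ m ∣ (p ^ (m - 1)) ^ 2 := by
    rw [← pow_mul]
    exact pow_dvd_pow p (by omega)
  have h1 : ∀ i ∈ range p, (1 + p ^ (m - 1)) ^ i ≡ 1 + i * p ^ (m - 1) [MOD p ^ m] :=
    fun i _ => (one_add_pow_modEq _ i).of_dvd hdvd
  have h2 : ∑ i ∈ range p, (1 + p ^ (m - 1)) ^ i ≡
      ∑ i ∈ range p, (1 + i * p ^ (m - 1)) [MOD p ^ m] := by
    unfold Nat.ModEq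
    rw [Finset.sum_nat_mod, Finset.sum_nat_mod (f := fun i => 1 + i * p ^ (m - 1))]
    congr 1
    apply Finset.sum_congr rfl
    intro i hi
    exact h1 i hi
  refine h2.trans ?_
  rw [Finset.sum_add_distrib, ← Finset.sum_mul, Finset.sum_const, Finset.card_range, smul_eq_mul,
    mul_one]
  have h3 : (∑ i ∈ range p, i) * 2 = p * (p - 1) := Finset.sum_range_id_mul_two p
  have h4 : ∑ i ∈ range p, i = p * t := by
    have : p - 1 = 2 * t := by omega
    rw [this] at h3
    have : (∑ i ∈ range p, i) * 2 = (p * t) * 2 := by rw [h3]; ring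
    exact Nat.eq_of_mul_eq_mul_right (by norm_num) this
  rw [h4]
  have h5 : p * t * p ^ (m - 1) = t * p ^ m := by
    have : m = (m - 1) + 1 := by omega
    conv_rhs => rw [this, pow_succ]
    ring
  rw [h5]
  have : t * p ^ m ≡ 0 [MOD p ^ m] := Nat.modEq_zero_iff_dvd.mpr (dvd_mul_left _ _)
  have := Nat.ModEq.add_left p this
  simpa using this

section grp

variable {G : Type*} [Group G]

theorem conj_pow_eq {x c : G} {r : ℕ} (h : x * c * x⁻¹ = c ^ r) (k : ℕ) :
    x * c ^ k * x⁻¹ = c ^ (r * k) := by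
  rw [← conj_pow, h, pow_mul]

theorem pow_conj_eq {x c : G} {r : ℕ} (h : x * c * x⁻¹ = c ^ r) (j : ℕ) :
    x ^ j * c * (x ^ j)⁻¹ = c ^ (r ^ j) := by
  induction j with
  | zero => simp
  | succ j ih =>
    have : x ^ (j + 1) * c * (x ^ (j + 1))⁻¹ = x * (x ^ j * c * (x ^ j)⁻¹) * x⁻¹ := by
      rw [pow_succ']
      group
    rw [this, ih, conj_pow_eq h, pow_succ']

theorem mul_pow_eq {x c : G} {r : ℕ} (h : x * c * x⁻¹ = c ^ r) (u k : ℕ) :
    (c ^ u * x) ^ k = c ^ (u * ∑ i ∈ range k, r ^ i) * x ^ k := by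
  induction k with
  | zero => simp
  | succ k ih =>
    rw [pow_succ, ih, Finset.sum_range_succ, mul_add, pow_add]
    have h1 := conj_pow_eq (pow_conj_eq h k) u
    have h2 : x ^ k * c ^ u = c ^ (r ^ k * u) * x ^ k := by
      rw [← h1]
      group
    calc c ^ (u * ∑ i ∈ range k, r ^ i) * x ^ k * (c ^ u * x)
        = c ^ (u * ∑ i ∈ range k, r ^ i) * (x ^ k * c ^ u) * x := by group
      _ = c ^ (u * ∑ i ∈ range k, r ^ i) * (c ^ (r ^ k * u) * x ^ k) * x := by rw [h2]
      _ = c ^ (u * ∑ i ∈ range k, r ^ i) * c ^ (u * r ^ k) * x ^ (k + 1) := by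
        rw [mul_comm (r ^ k) u, pow_succ]
        group

end grp

section setup

variable {G : Type*} [Group G]

/-- a subgroup of prime index is maximal -/
theorem eq_top_of_index_prime_of_lt {p : ℕ} (hp : p.Prime) {C K : Subgroup G} (hCi : C.index = p)
    (hCK : C < K) : K = ⊤ := by
  have h1 := Subgroup.relIndex_mul_index hCK.le
  rw [hCi] at h1
  have h2 : K.index ∣ p := Dvd.intro_left _ h1
  rcases (Nat.dvd_prime hp).mp h2 with h | h
  · exact Subgroup.index_eq_one.mp h
  · exfalso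
    rw [h] at h1
    have h3 : C.relIndex K = 1 := by
      have := hp.pos
      exact Nat.eq_of_mul_eq_mul_right this (by rw [h1, one_mul])
    have := Subgroup.relIndex_eq_one.mp h3
    exact hCK.not_ge this

/-- basic structure of a group of order `p ^ n` with a cyclic subgroup of index `p` -/
theorem exists_generator_of_cyclic_index [Finite G] {p n : ℕ} (hp : p.Prime) (hn : 1 ≤ n)
    (hG : Nat.card G = p ^ n) (C : Subgroup G) (hC : IsCyclic C) (hCi : C.index = p) :
    ∃ c : G, C = Subgroup.zpowers c ∧ orderOf c = p ^ (n - 1) ∧ C.Normal ∧ (∀ g : G, g ^ p ∈ C) ∧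
      (∀ x : G, x ∉ C → x * c = c * x → ∀ a b : G, a * b = b * a) := by
  have hcard : Nat.card C = p ^ (n - 1) := by
    have h1 := C.card_mul_index
    rw [hCi, hG] at h1
    have : p ^ n = p ^ (n - 1) * p := by
      rw [← pow_succ]
      congr 1
      omega
    rw [this] at h1
    exact Nat.eq_of_mul_eq_mul_right hp.pos h1
  obtain ⟨⟨c, hcC⟩, hc⟩ := hC.exists_generator
  have hCz : C = Subgroup.zpowers c := by
    apply le_antisymm
    · intro y hy
      obtain ⟨k, hk⟩ := Subgroup.mem_zpowers_iff.mp (hc ⟨y, hy⟩)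
      rw [Subgroup.mem_zpowers_iff]
      refine ⟨k, ?_⟩
      have := congrArg Subtype.val hk
      simpa using this
    · rw [Subgroup.zpowers_le]
      exact hcC
  have hord : orderOf c = p ^ (n - 1) := by
    rw [← Nat.card_zpowers, ← hCz, hcard]
  have hCn : C.Normal := by
    apply Subgroup.normal_of_index_eq_minFac_card
    rw [hCi, hG, hp.pow_minFac (by omega)]
  refine ⟨c, hCz, hord, hCn, ?_, ?_⟩
  · intro g
    have h1 : Nat.card (G ⧸ C) = p := hCi
    have h2 : ((g : G ⧸ C)) ^ p = 1 := by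
      rw [← h1]
      exact pow_card_eq_one'
    rw [← QuotientGroup.mk_pow] at h2
    exact (QuotientGroup.eq_one_iff _).mp h2
  · intro x hxC hxc a b
    have hK : Subgroup.centralizer ({c} : Set G) = ⊤ := by
      apply eq_top_of_index_prime_of_lt hp hCi
      refine lt_of_le_of_ne ?_ ?_
      · rw [hCz, Subgroup.zpowers_le]
        exact Subgroup.mem_centralizer_singleton_iff.mpr rfl
      · intro h
        apply hxC
        rw [h]
        exact Subgroup.mem_centralizer_singleton_iff.mpr hxc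
    have hcen : C ≤ Subgroup.center G := by
      rw [hCz, Subgroup.zpowers_le, Subgroup.mem_center_iff]
      intro g
      have : g ∈ Subgroup.centralizer ({c} : Set G) := by rw [hK]; trivial
      exact Subgroup.mem_centralizer_singleton_iff.mp this
    have hcyc : IsCyclic (G ⧸ C) := by
      have : Fact p.Prime := ⟨hp⟩
      exact isCyclic_of_prime_card (p := p) hCi
    have hker : (QuotientGroup.mk' C).ker ≤ Subgroup.center G := by
      rw [QuotientGroup.ker_mk']
      exact hcen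
    exact ((QuotientGroup.mk' C).isMulCommutative_of_isCyclic_of_ker_le_center hker).is_comm.comm a b

end setup

end Cfsg.H5
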