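import Mathlib
import Cfsg.Agent.H5.CyclicMax

set_option autoImplicit false

namespace Cfsg.H5

open Finset

/-- square roots of one modulo `2 ^ m` -/
theorem sq_modEq_one_two_pow {m r : ℕ} (hm : 2 ≤ m) (h : r ^ 2 ≡ 1 [MOD 2 ^ m]) :
    2 ^ (m - 1) ∣ r - 1 ∨ 2 ^ (m - 1) ∣ r + 1 := by
  -- `r` is odd
  have hodd : Odd r := by
    by_contra hne
    rw [Nat.not_odd_iff_even] at hne
    obtain ⟨s, rfl⟩ := hne
    have h4 : (s + s) ^ 2 ≡ 1 [MOD 4] := h.of_dvd (by
      have : (4 : ℕ) = 2 ^ 2 := by norm_num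
      rw [this]
      exact pow_dvd_pow 2 hm)
    have : (s + s) ^ 2 = 4 * s ^ 2 := by ring
    rw [this] at h4
    have := h4.symm
    unfold Nat.ModEq at this
    omega
  obtain ⟨s, rfl⟩ := hodd
  have h1 : 2 ^ m ∣ (2 * s + 1) ^ 2 - 1 :=
    (Nat.modEq_iff_dvd' (Nat.one_le_pow _ _ (by omega))).mp h.symm
  have h2 : (2 * s + 1) ^ 2 - 1 = 4 * (s * (s + 1)) := by
    have : (2 * s + 1) ^ 2 = 4 * (s * (s + 1)) + 1 := by ring
    omega
  rw [h2] at h1
  have h3 : (2 : ℕ) ^ m = 4 * 2 ^ (m - 2) := by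
    have : m = (m - 2) + 2 := by omega
    conv_lhs => rw [this, pow_add]
    ring
  rw [h3] at h1
  have h4 : 2 ^ (m - 2) ∣ s * (s + 1) := Nat.dvd_of_mul_dvd_mul_left (by norm_num) h1
  have h5 : (2 : ℕ) ^ (m - 1) = 2 * 2 ^ (m - 2) := by
    have : m - 1 = (m - 2) + 1 := by omega
    rw [this, pow_succ]
    ring
  rcases Nat.even_or_odd s with hs | hs
  · left
    have hc : Nat.Coprime (2 ^ (m - 2)) (s + 1) := by
      apply Nat.Coprime.pow_left
      rw [Nat.coprime_two_left]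
      exact hs.add_one
    have h6 : 2 ^ (m - 2) ∣ s := hc.dvd_of_dvd_mul_right h4
    rw [h5, Nat.add_sub_cancel]
    exact Nat.mul_dvd_mul_left 2 h6
  · right
    have hc : Nat.Coprime (2 ^ (m - 2)) s := by
      apply Nat.Coprime.pow_left
      rw [Nat.coprime_two_left]
      exact hs
    have h6 : 2 ^ (m - 2) ∣ s + 1 := hc.dvd_of_dvd_mul_left h4
    rw [h5]
    have : 2 * s + 1 + 1 = 2 * (s + 1) := by ring
    rw [this]
    exact Nat.mul_dvd_mul_left 2 h6

/-- the four square roots of one modulo `2 ^ m` among the residues -/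
theorem sq_modEq_one_two_pow_cases {m r : ℕ} (hm : 2 ≤ m) (hr : r < 2 ^ m)
    (h : r ^ 2 ≡ 1 [MOD 2 ^ m]) :
    r = 1 ∨ r = 1 + 2 ^ (m - 1) ∨ r + 1 = 2 ^ (m - 1) ∨ r + 1 = 2 ^ m := by
  have h5 : (2 : ℕ) ^ m = 2 * 2 ^ (m - 1) := by
    have : m = (m - 1) + 1 := by omega
    conv_lhs => rw [this, pow_succ]
    ring
  have hpos : 0 < 2 ^ (m - 1) := pow_pos (by norm_num) _
  have hr0 : r ≠ 0 := by
    rintro rfl
    have := h.symm
    rw [zero_pow (by norm_num)] at this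
    have := Nat.modEq_zero_iff_dvd.mp this
    have := Nat.le_of_dvd Nat.one_pos this
    omega
  rcases sq_modEq_one_two_pow hm h with ⟨k, hk⟩ | ⟨k, hk⟩
  · have : k < 2 := by
      by_contra hk2
      push Not at hk2
      have : 2 ^ (m - 1) * 2 ≤ 2 ^ (m - 1) * k := Nat.mul_le_mul_left _ hk2
      omega
    interval_cases k
    · left; omega
    · right; left; omega
  · have : k < 3 := by
      by_contra hk2
      push Not at hk2
      have : 2 ^ (m - 1) * 3 ≤ 2 ^ (m - 1) * k := Nat.mul_le_mul_left _ hk2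
      omega
    interval_cases k
    · omega
    · right; right; left; omega
    · right; right; right; omega

section grp2

variable {G : Type*} [Group G]

theorem conj_pow_mul_eq {x c : G} {r : ℕ} (h : x * c * x⁻¹ = c ^ r) (u : ℕ) :
    (c ^ u * x) * c * (c ^ u * x)⁻¹ = c ^ r := by
  have : (c ^ u * x) * c * (c ^ u * x)⁻¹ = c ^ u * (x * c * x⁻¹) * (c ^ u)⁻¹ := by group
  rw [this, h]
  have : c ^ u * c ^ r = c ^ r * c ^ u := by
    rw [← pow_add, ← pow_add, add_comm]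
  rw [this, mul_inv_cancel_right]

theorem pow_mul_notMem {x c : G} {C : Subgroup G} (hc : c ∈ C) (hx : x ∉ C) (u : ℕ) :
    c ^ u * x ∉ C := by
  intro h
  apply hx
  have h1 : c ^ u ∈ C := C.pow_mem hc u
  have h3 := C.mul_mem (C.inv_mem h1) h
  rwa [inv_mul_cancel_left] at h3

theorem exists_pow_of_mem_zpowers [Finite G] {c y : G}
    (h : y ∈ Subgroup.zpowers c) : ∃ k : ℕ, c ^ k = y := by
  rw [← mem_powers_iff_mem_zpowers] at h
  exact (Submonoid.mem_powers_iff _ _).mp h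

end grp2

end Cfsg.H5
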