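import Mathlib
import Cfsg.Agent.H5.CyclicMax2
import Cfsg.Prelude.Def_Transfer

set_option autoImplicit false

namespace Cfsg.H5

open Finset

theorem geom_sum_modEq' {p m ρ : ℕ} (hp : p.Prime) (hp2 : p ≠ 2) (hm : 2 ≤ m)
    (hρ : ρ ≡ 1 [MOD p ^ (m - 1)]) : ∑ i ∈ range p, ρ ^ i ≡ p [MOD p ^ m] := by
  have hodd : Odd p := hp.odd_of_ne_two hp2
  obtain ⟨t, ht⟩ := hodd
  have hρ1 : 1 ≤ ρ := by
    rcases Nat.eq_zero_or_pos ρ with h | h
    · exfalso
      rw [h] at hρ
      have := Nat.modEq_zero_iff_dvd.mp hρ.symm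
      have := Nat.le_of_dvd Nat.one_pos this
      have : 1 < p ^ (m - 1) := Nat.one_lt_pow (by omega) hp.one_lt
      omega
    · exact h
  obtain ⟨k, hk⟩ := (Nat.modEq_iff_dvd' hρ1).mp hρ.symm
  have hρk : ρ = 1 + k * p ^ (m - 1) := by
    rw [mul_comm] at hk
    omega
  rw [hρk]
  have hdvd : p ^ m ∣ (k * p ^ (m - 1)) ^ 2 := by
    rw [mul_pow, ← pow_mul]
    apply Dvd.dvd.mul_left
    exact pow_dvd_pow p (by omega)
  have h1 : ∀ i ∈ range p, (1 + k * p ^ (m - 1)) ^ i ≡ 1 + i * (k * p ^ (m - 1)) [MOD p ^ m] :=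
    fun i _ => (one_add_pow_modEq _ i).of_dvd hdvd
  have h2 : ∑ i ∈ range p, (1 + k * p ^ (m - 1)) ^ i ≡
      ∑ i ∈ range p, (1 + i * (k * p ^ (m - 1))) [MOD p ^ m] := by
    unfold Nat.ModEq
    rw [Finset.sum_nat_mod, Finset.sum_nat_mod (f := fun i => 1 + i * (k * p ^ (m - 1)))]
    congr 1
    apply Finset.sum_congr rfl
    intro i hi
    exact h1 i hi
  refine h2.trans ?_
  rw [Finset.sum_add_distrib, ← Finset.sum_mul, Finset.sum_const, Finset.card_range, smul_eq_mul,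
    mul_one]
  have h3 : (∑ i ∈ range p, i) * 2 = p * (p - 1) := Finset.sum_range_id_mul_two p
  have h4 : ∑ i ∈ range p, i = p * t := by
    have : p - 1 = 2 * t := by omega
    rw [this] at h3
    have : (∑ i ∈ range p, i) * 2 = (p * t) * 2 := by rw [h3]; ring
    exact Nat.eq_of_mul_eq_mul_right (by norm_num) this
  rw [h4]
  have hpm : p ^ m = p ^ (m - 1) * p := by
    rw [← pow_succ]
    congr 1
    omega
  have h5 : p * t * (k * p ^ (m - 1)) = t * k * p ^ m := by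
    rw [hpm]
    ring
  rw [h5]
  have : t * k * p ^ m ≡ 0 [MOD p ^ m] := Nat.modEq_zero_iff_dvd.mpr (dvd_mul_left _ _)
  have := Nat.ModEq.add_left p this
  simpa using this


/-- **Key Lemma**: in a noncyclic group of order `p ^ n` (`p` odd) with a cyclic subgroup of index
`p`, the elements of order dividing `p` form an elementary abelian subgroup of order `p ^ 2`. -/
theorem omega_of_cyclic_index {S : Type*} [Group S] [Finite S] {p n : ℕ} [hpF : Fact p.Prime]
    (hp2 : p ≠ 2) (hn : 2 ≤ n) (hS : Nat.card S = p ^ n) (M : Subgroup S) (hM : IsCyclic M)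
    (hMi : M.index = p) (hnc : ¬ IsCyclic S) :
    ∃ A : Subgroup S, (∀ x : S, x ∈ A ↔ x ^ p = 1) ∧ Cfsg.IsElementaryAbelian p A ∧
      Nat.card A = p ^ 2 := by
  have hpp : p.Prime := Fact.out
  rcases Nat.lt_or_ge n 3 with hn3 | hn3
  · -- order `p ^ 2`
    have hn2 : n = 2 := by omega
    rw [hn2] at hS
    have hexp : ∀ x : S, x ^ p = 1 := by
      intro x
      have h1 : orderOf x ∣ p ^ 2 := by rw [← hS]; exact orderOf_dvd_natCard x
      obtain ⟨k, hk, hk2⟩ := (Nat.dvd_prime_pow hpp).mp h1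
      have hk' : k ≠ 2 := by
        intro h
        rw [h] at hk2
        exact hnc (isCyclic_of_orderOf_eq_card x (by rw [hk2, hS]))
      have hk1 : k ≤ 1 := by omega
      apply orderOf_dvd_iff_pow_eq_one.mp
      rw [hk2]
      calc p ^ k ∣ p ^ 1 := pow_dvd_pow p hk1
        _ = p := pow_one p
    refine ⟨⊤, fun x => ⟨fun _ => hexp x, fun _ => Subgroup.mem_top x⟩, ⟨?_, fun a _ => hexp a⟩, ?_⟩
    · have hc := IsPGroup.isMulCommutative_of_card_eq_prime_sq hS
      exact ⟨⟨fun a b => Subtype.ext (hc.is_comm.comm a.1 b.1)⟩⟩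
    · rw [Subgroup.card_top, hS]
  -- general case
  obtain ⟨c, hMz, hord, hMn, hpow, hcomm⟩ :=
    exists_generator_of_cyclic_index hpp (by omega) hS M hM hMi
  set m := n - 1 with hm
  have hm2 : 2 ≤ m := by omega
  have hq1 : 1 < p ^ m := Nat.one_lt_pow (by omega) hpp.one_lt
  have hpm : p ^ m = p ^ (m - 1) * p := by
    rw [← pow_succ]
    congr 1
    omega
  have hcM : c ∈ M := by rw [hMz]; exact Subgroup.mem_zpowers c
  have hcq : c ^ (p ^ m) = 1 := by rw [← hord]; exact pow_orderOf_eq_one c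
  have hex : ∃ x : S, x ∉ M := by
    by_contra hcon
    push Not at hcon
    have : M = ⊤ := by
      rw [eq_top_iff]
      intro g _
      exact hcon g
    rw [this, Subgroup.index_top] at hMi
    exact hpp.one_lt.ne hMi
  obtain ⟨x, hxM⟩ := hex
  have hxc : x * c * x⁻¹ ∈ Subgroup.zpowers c := by
    rw [← hMz]
    exact hMn.conj_mem c hcM x
  obtain ⟨r, hr⟩ := exists_pow_of_mem_zpowers hxc
  have hr' : x * c * x⁻¹ = c ^ r := hr.symm
  have hrp : r ^ p ≡ 1 [MOD p ^ m] := by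
    have h1 := pow_conj_eq hr' p
    have h2 : x ^ p ∈ Subgroup.zpowers c := by rw [← hMz]; exact hpow x
    obtain ⟨s, hs⟩ := exists_pow_of_mem_zpowers h2
    have h3 : x ^ p * c * (x ^ p)⁻¹ = c := by
      rw [← hs]
      have : c ^ s * c = c * c ^ s := (pow_mul_comm' c s)
      rw [this]
      group
    rw [h3] at h1
    have h4 : c ^ (r ^ p) = c ^ 1 := by rw [← h1, pow_one]
    rw [pow_eq_pow_iff_modEq, hord] at h4
    exact h4
  have hr1 : r ≡ 1 [MOD p ^ (m - 1)] :=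
    modEq_one_of_pow_prime_modEq_one hpp hp2 (by omega) hrp
  -- `x ^ p = c ^ s` with `p ∣ s`
  have h2 : x ^ p ∈ Subgroup.zpowers c := by rw [← hMz]; exact hpow x
  obtain ⟨s, hs⟩ := exists_pow_of_mem_zpowers h2
  have hps : p ∣ s := by
    by_contra hps
    have hcop' : Nat.Coprime s (p ^ m) :=
      Nat.Coprime.pow_right m (Nat.Coprime.symm ((Nat.Prime.coprime_iff_not_dvd hpp).mpr hps))
    obtain ⟨u, -, hu⟩ := Nat.exists_mul_mod_eq_one_of_coprime hcop' hq1
    have h3 : c ^ (s * u) = c ^ 1 := by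
      rw [pow_eq_pow_iff_modEq, hord]
      unfold Nat.ModEq
      rw [hu, Nat.mod_eq_of_lt hq1]
    rw [pow_one, pow_mul, hs, ← pow_mul] at h3
    have hcx : c ∈ Subgroup.zpowers x := by
      rw [← h3]
      exact Subgroup.pow_mem _ (Subgroup.mem_zpowers x) _
    have hMx : M < Subgroup.zpowers x := by
      refine lt_of_le_of_ne ?_ ?_
      · rw [hMz, Subgroup.zpowers_le]
        exact hcx
      · intro h
        apply hxM
        rw [h]
        exact Subgroup.mem_zpowers x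
    have htop := eq_top_of_index_prime_of_lt hpp hMi hMx
    exact hnc (isCyclic_iff_exists_zpowers_eq_top.mpr ⟨x, htop⟩)
  obtain ⟨t, rfl⟩ := hps
  -- the element `b`
  obtain ⟨b, hbp, hbM, hb⟩ : ∃ b : S, b ^ p = 1 ∧ b ∉ M ∧ b * c * b⁻¹ = c ^ r := by
    refine ⟨c ^ ((p ^ m - 1) * t) * x, ?_, pow_mul_notMem hcM hxM _, conj_pow_mul_eq hr' _⟩
    rw [mul_pow_eq hr', ← hs, ← pow_add]
    apply orderOf_dvd_iff_pow_eq_one.mp
    rw [hord]
    have hSum := geom_sum_modEq' hpp hp2 hm2 hr1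
    have h3 : (p ^ m - 1) * t * ∑ i ∈ range p, r ^ i + p * t ≡
        (p ^ m - 1) * t * p + p * t [MOD p ^ m] :=
      Nat.ModEq.add_right _ (Nat.ModEq.mul_left _ hSum)
    have h4 : (p ^ m - 1) * t * p + p * t = p ^ m * (t * p) := by
      obtain ⟨Q, hQ⟩ : ∃ Q, p ^ m = Q + 1 := ⟨p ^ m - 1, by omega⟩
      rw [hQ, Nat.add_sub_cancel]
      ring
    rw [h4] at h3
    have h5 : p ^ m * (t * p) ≡ 0 [MOD p ^ m] := Nat.modEq_zero_iff_dvd.mpr (dvd_mul_right _ _)
    exact Nat.modEq_zero_iff_dvd.mp (h3.trans h5)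
  -- decomposition
  have hdec : ∀ g : S, ∃ i j : ℕ, g = c ^ i * b ^ j := by
    intro g
    have htop : M ⊔ Subgroup.zpowers b = ⊤ := by
      apply eq_top_of_index_prime_of_lt hpp hMi
      refine lt_of_le_of_ne le_sup_left ?_
      intro h
      apply hbM
      rw [h]
      exact (le_sup_right : Subgroup.zpowers b ≤ _) (Subgroup.mem_zpowers b)
    have hg : g ∈ M ⊔ Subgroup.zpowers b := by rw [htop]; trivial
    obtain ⟨y, hy, z, hz, rfl⟩ := Subgroup.mem_sup_of_normal_left.mp hg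
    rw [hMz] at hy
    obtain ⟨i, rfl⟩ := exists_pow_of_mem_zpowers hy
    obtain ⟨j, rfl⟩ := exists_pow_of_mem_zpowers hz
    exact ⟨i, j, rfl⟩
  have hrj : ∀ j : ℕ, r ^ j ≡ 1 [MOD p ^ (m - 1)] := by
    intro j
    have := hr1.pow j
    rwa [one_pow] at this
  have hpowf : ∀ i j : ℕ, (c ^ i * b ^ j) ^ p = c ^ (i * p) := by
    intro i j
    have hbj : (b ^ j) ^ p = 1 := by rw [← pow_mul, mul_comm, pow_mul, hbp, one_pow]
    rw [mul_pow_eq (pow_conj_eq hb j), hbj, mul_one, pow_eq_pow_iff_modEq, hord]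
    exact Nat.ModEq.mul_left _ (geom_sum_modEq' hpp hp2 hm2 (hrj j))
  have hmulf : ∀ g h : S, (g * h) ^ p = g ^ p * h ^ p := by
    intro g h
    obtain ⟨i, j, rfl⟩ := hdec g
    obtain ⟨i', j', rfl⟩ := hdec h
    have h1 := conj_pow_eq (pow_conj_eq hb j) i'
    have h2 : b ^ j * c ^ i' = c ^ (r ^ j * i') * b ^ j := by
      rw [← h1]
      group
    have h3 : c ^ i * b ^ j * (c ^ i' * b ^ j') = c ^ (i + r ^ j * i') * b ^ (j + j') := by
      calc c ^ i * b ^ j * (c ^ i' * b ^ j') = c ^ i * (b ^ j * c ^ i') * b ^ j' := by group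
        _ = c ^ i * (c ^ (r ^ j * i') * b ^ j) * b ^ j' := by rw [h2]
        _ = c ^ (i + r ^ j * i') * b ^ (j + j') := by
          rw [pow_add, pow_add]
          group
    rw [h3, hpowf, hpowf, hpowf, ← pow_add, pow_eq_pow_iff_modEq, hord]
    have h4 : r ^ j * p ≡ 1 * p [MOD p ^ (m - 1) * p] := Nat.ModEq.mul_right' p (hrj j)
    rw [← hpm, one_mul] at h4
    have h5 : (i + r ^ j * i') * p = i * p + i' * (r ^ j * p) := by ring
    rw [h5]
    exact Nat.ModEq.add_left _ (Nat.ModEq.mul_left _ h4)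
  let φ : S →* S := MonoidHom.mk' (fun g => g ^ p) hmulf
  have hφ : ∀ g, φ g = g ^ p := fun g => rfl
  have hmem : ∀ x : S, x ∈ φ.ker ↔ x ^ p = 1 := by
    intro x
    rw [MonoidHom.mem_ker, hφ]
  have hrange : φ.range = Subgroup.zpowers (c ^ p) := by
    apply le_antisymm
    · rintro _ ⟨g, rfl⟩
      obtain ⟨i, j, rfl⟩ := hdec g
      rw [hφ, hpowf, mul_comm, pow_mul]
      exact Subgroup.pow_mem _ (Subgroup.mem_zpowers _) _
    · rw [Subgroup.zpowers_le]
      exact ⟨c, rfl⟩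
  have hcardr : Nat.card φ.range = p ^ (m - 1) := by
    rw [hrange, Nat.card_zpowers, orderOf_pow' c hpp.ne_zero, hord,
      Nat.gcd_eq_right (dvd_pow_self p (by omega)), hpm, Nat.mul_div_cancel _ hpp.pos]
  have hcardk : Nat.card φ.ker = p ^ 2 := by
    have h1 := φ.ker.card_mul_index
    rw [Subgroup.index_ker, hcardr, hS] at h1
    have h2 : p ^ n = p ^ 2 * p ^ (m - 1) := by
      rw [← pow_add]
      congr 1
      omega
    rw [h2] at h1
    exact Nat.eq_of_mul_eq_mul_right (pow_pos hpp.pos _) h1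
  refine ⟨φ.ker, hmem, ⟨?_, fun a ha => (hmem a).mp ha⟩, hcardk⟩
  exact IsPGroup.isMulCommutative_of_card_eq_prime_sq hcardk

end Cfsg.H5
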