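import Mathlib
import Cfsg.Agent.H5.Class2
import Cfsg.Agent.H5.Card

set_option autoImplicit false

/-! Glauberman's replacement theorem: the subgroup `A* = (A ∩ b⁻¹Ab)[A, b]`. -/

namespace Cfsg.H5.GlaubRepl

open scoped commutatorElement

section relclass2

variable {G : Type*} [Group G] (H : Subgroup G)
  (hH : ∀ x ∈ H, ∀ y ∈ H, ∀ z ∈ H, z * ⁅x, y⁆ = ⁅x, y⁆ * z)
include hH

theorem hK_of : ∀ x y z : H, z * ⁅x, y⁆ = ⁅x, y⁆ * z := by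
  intro x y z
  apply Subtype.ext
  have := hH x x.2 y y.2 z z.2
  simpa [commutatorElement_def] using this

theorem sub_bil_right {x y z : G} (hx : x ∈ H) (hy : y ∈ H) (hz : z ∈ H) :
    ⁅x, y * z⁆ = ⁅x, y⁆ * ⁅x, z⁆ := by
  have := congrArg Subtype.val (Class2.bil_right (hK_of H hH) ⟨x, hx⟩ ⟨y, hy⟩ ⟨z, hz⟩)
  simpa [commutatorElement_def] using this

theorem sub_bil_left {x y z : G} (hx : x ∈ H) (hy : y ∈ H) (hz : z ∈ H) :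
    ⁅x * y, z⁆ = ⁅x, z⁆ * ⁅y, z⁆ := by
  have := congrArg Subtype.val (Class2.bil_left (hK_of H hH) ⟨x, hx⟩ ⟨y, hy⟩ ⟨z, hz⟩)
  simpa [commutatorElement_def] using this

theorem sub_inv_right {x y : G} (hx : x ∈ H) (hy : y ∈ H) :
    ⁅x, y⁻¹⁆ = ⁅x, y⁆⁻¹ := by
  have := congrArg Subtype.val (Class2.inv_right (hK_of H hH) ⟨x, hx⟩ ⟨y, hy⟩)
  simpa [commutatorElement_def] using this

theorem sub_inv_left {x y : G} (hx : x ∈ H) (hy : y ∈ H) :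
    ⁅x⁻¹, y⁆ = ⁅x, y⁆⁻¹ := by
  have := congrArg Subtype.val (Class2.inv_left (hK_of H hH) ⟨x, hx⟩ ⟨y, hy⟩)
  simpa [commutatorElement_def] using this

theorem sub_mul_pow_eq {x y : G} (hx : x ∈ H) (hy : y ∈ H) (n : ℕ) :
    (x * y) ^ n = x ^ n * y ^ n * ⁅y, x⁆ ^ (n.choose 2) := by
  have := congrArg Subtype.val (Class2.mul_pow_eq (hK_of H hH) ⟨x, hx⟩ ⟨y, hy⟩ n)
  simpa [commutatorElement_def] using this

/-- Lemma II -/
theorem sub_lemmaII {x a y w : G} (hx : x ∈ H) (ha : a ∈ H) (hy : y ∈ H) (hw : w ∈ H)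
    (hxy : ⁅x, y⁆ = 1) (hxw : ⁅x, w⁆ = 1) :
    ⁅x, a * (a⁻¹ * y) * (a⁻¹ * y) * w⁆ = ⁅x, a⁆⁻¹ := by
  have hc : a⁻¹ * y ∈ H := H.mul_mem (H.inv_mem ha) hy
  have hxc : ⁅x, a⁻¹ * y⁆ = ⁅x, a⁆⁻¹ := by
    rw [sub_bil_right H hH hx (H.inv_mem ha) hy, sub_inv_right H hH hx ha, hxy, mul_one]
  rw [sub_bil_right H hH hx (H.mul_mem (H.mul_mem ha hc) hc) hw,
    sub_bil_right H hH hx (H.mul_mem ha hc) hc, sub_bil_right H hH hx ha hc, hxc, hxw,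
    mul_one, mul_inv_cancel, one_mul]

/-- Lemma I -/
theorem sub_lemmaI {a a' x y : G} (ha : a ∈ H) (ha' : a' ∈ H) (hx : x ∈ H) (hy : y ∈ H)
    (haa : ⁅a, a'⁆ = 1) (hxy : ⁅x⁻¹, y⁻¹⁆ = 1) :
    ⁅a * x⁻¹, a' * y⁻¹⁆ = ⁅a, y⁆⁻¹ * ⁅a', x⁆ := by
  rw [sub_bil_left H hH ha (H.inv_mem hx) (H.mul_mem ha' (H.inv_mem hy)),
    sub_bil_right H hH ha ha' (H.inv_mem hy),
    sub_bil_right H hH (H.inv_mem hx) ha' (H.inv_mem hy),
    haa, hxy, sub_inv_right H hH ha hy, sub_inv_left H hH hx ha',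
    commutatorElement_inv (g₁ := x) (g₂ := a'), one_mul, mul_one]

end relclass2

theorem le_normalizer_of_conj_mem {G : Type*} [Group G] {H K : Subgroup G}
    (hc : ∀ g ∈ H, ∀ k ∈ K, g * k * g⁻¹ ∈ K) : H ≤ Subgroup.normalizer (K : Set G) := by
  intro g hg
  rw [Subgroup.mem_set_normalizer_iff]
  intro k
  constructor
  · exact hc g hg k
  · intro hk
    have := hc g⁻¹ (H.inv_mem hg) _ hk
    have e : g⁻¹ * (g * k * g⁻¹) * g⁻¹⁻¹ = k := by group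
    rwa [e] at this

theorem odd_dvd_choose_two {e : ℕ} (he : Odd e) : e ∣ e.choose 2 := by
  obtain ⟨k, rfl⟩ := he
  refine ⟨k, ?_⟩
  rw [Nat.choose_two_right, Nat.add_sub_cancel]
  have : (2 * k + 1) * (2 * k) = 2 * ((2 * k + 1) * k) := by ring
  rw [this, Nat.mul_div_cancel_left _ (by norm_num : 0 < 2)]

theorem exists_pow_sq {S : Type*} [Group S] {p : ℕ} [Fact p.Prime] (hS : IsPGroup p S)
    (hp : p ≠ 2) (b : S) : ∃ m : ℕ, (b ^ 2) ^ m = b := by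
  apply exists_pow_eq_self_of_coprime
  obtain ⟨k, hk⟩ := IsPGroup.iff_orderOf.1 hS b
  rw [hk]
  apply Nat.Coprime.pow_right
  exact (Nat.coprime_primes Nat.prime_two Fact.out).2 (Ne.symm hp)

variable {S : Type*} [Group S]

theorem pow_eq_one_of_mem {A : Subgroup S} {a : S} (ha : a ∈ A) :
    a ^ Monoid.exponent A = 1 := by
  have := congrArg Subtype.val (Monoid.pow_exponent_eq_one (⟨a, ha⟩ : A))
  simpa using this

/-- `b⁻¹ A b` -/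
abbrev cj (A : Subgroup S) (b : S) : Subgroup S := A.map (MulAut.conj b⁻¹).toMonoidHom

theorem mem_cj {A : Subgroup S} {b x : S} : x ∈ cj A b ↔ b * x * b⁻¹ ∈ A := by
  constructor
  · rintro ⟨a, ha, rfl⟩
    have : b * ((MulAut.conj b⁻¹).toMonoidHom a) * b⁻¹ = a := by
      simp [mul_assoc]
    rw [this]; exact ha
  · intro h
    refine ⟨b * x * b⁻¹, h, ?_⟩
    simp [mul_assoc]

theorem conj_mem_cj {A : Subgroup S} {b a : S} (ha : a ∈ A) : b⁻¹ * a * b ∈ cj A b := by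
  rw [mem_cj]
  have e : b * (b⁻¹ * a * b) * b⁻¹ = a := by group
  rw [e]; exact ha

theorem exists_of_mem_cj {A : Subgroup S} {b x : S} (hx : x ∈ cj A b) :
    ∃ a ∈ A, x = b⁻¹ * a * b :=
  ⟨b * x * b⁻¹, mem_cj.1 hx, by group⟩

theorem card_cj (A : Subgroup S) (b : S) : Nat.card (cj A b) = Nat.card A :=
  (Nat.card_congr (A.equivMapOfInjective _ (MulAut.conj b⁻¹).injective).toEquiv).symm

theorem pow_eq_one_of_mem_cj {A : Subgroup S} {b x : S} (hx : x ∈ cj A b) :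
    x ^ Monoid.exponent A = 1 := by
  have h1 := pow_eq_one_of_mem (mem_cj.1 hx)
  rw [conj_pow] at h1
  have : x ^ Monoid.exponent A = b⁻¹ * (b * x ^ Monoid.exponent A * b⁻¹) * b := by group
  rw [this, h1]; group

/-- the generating set `{[a, b⁻¹]}` -/
abbrev gens (A : Subgroup S) (b : S) : Set S := {g : S | ∃ a ∈ A, g = a * b⁻¹ * a⁻¹ * b}

/-- `A*` -/
abbrev star (A : Subgroup S) (b : S) : Subgroup S :=
  (A ⊓ cj A b) ⊔ Subgroup.closure (gens A b)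

theorem conj_sq_eq (b a : S) :
    b⁻¹ * (b⁻¹ * a * b) * b = a * (a⁻¹ * (b⁻¹ * a * b)) * (a⁻¹ * (b⁻¹ * a * b)) *
      ⁅(a⁻¹ * (b⁻¹ * a * b))⁻¹, b⁻¹⁆ := by
  simp only [commutatorElement_def]; group

structure Hyp (A B : Subgroup S) (b : S) : Prop where
  nB : B.Normal
  cA : ∀ x ∈ A, ∀ y ∈ A, x * y = y * x
  hBA : ⁅B, B⁆ ≤ A
  hb : b ∈ B
  hbN : b ∈ Subgroup.normalizer ((Subgroup.normalizer (A : Set S)) : Set S)

namespace Hyp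

variable {A B : Subgroup S} {b : S} (h : Hyp A B b)
include h

theorem cj_le_normalizer : cj A b ≤ Subgroup.normalizer (A : Set S) := by
  intro x hx
  rw [mem_cj] at hx
  have h1 : b * x * b⁻¹ ∈ Subgroup.normalizer (A : Set S) := Subgroup.le_normalizer hx
  exact ((Subgroup.mem_set_normalizer_iff.1 h.hbN) x).2 h1

theorem normalizer_le_normalizer_cj :
    Subgroup.normalizer (A : Set S) ≤ Subgroup.normalizer (cj A b : Set S) := by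
  intro g hg
  have hg' : b * g * b⁻¹ ∈ Subgroup.normalizer (A : Set S) :=
    ((Subgroup.mem_set_normalizer_iff.1 h.hbN) g).1 hg
  rw [Subgroup.mem_set_normalizer_iff] at hg' ⊢
  intro x
  have := hg' (b * x * b⁻¹)
  have e : b * g * b⁻¹ * (b * x * b⁻¹) * (b * g * b⁻¹)⁻¹ = b * (g * x * g⁻¹) * b⁻¹ := by group
  rw [e] at this
  exact mem_cj.trans (this.trans mem_cj.symm)

theorem A_le_normalizer_cj : A ≤ Subgroup.normalizer (cj A b : Set S) :=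
  Subgroup.le_normalizer.trans h.normalizer_le_normalizer_cj

theorem HH_le_normalizer : A ⊔ cj A b ≤ Subgroup.normalizer (A : Set S) :=
  sup_le Subgroup.le_normalizer h.cj_le_normalizer

theorem HH_le_normalizer_cj : A ⊔ cj A b ≤ Subgroup.normalizer (cj A b : Set S) :=
  sup_le h.A_le_normalizer_cj Subgroup.le_normalizer

theorem cj_comm {x y : S} (hx : x ∈ cj A b) (hy : y ∈ cj A b) : x * y = y * x := by
  rw [mem_cj] at hx hy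
  have := h.cA _ hx _ hy
  have e : b * (x * y) * b⁻¹ = b * (y * x) * b⁻¹ := by
    calc b * (x * y) * b⁻¹ = (b * x * b⁻¹) * (b * y * b⁻¹) := by group
      _ = (b * y * b⁻¹) * (b * x * b⁻¹) := this
      _ = b * (y * x) * b⁻¹ := by group
  exact mul_left_cancel (mul_right_cancel e)

theorem comm_mem_Z {a x : S} (ha : a ∈ A) (hx : x ∈ cj A b) : ⁅a, x⁆ ∈ A ⊓ cj A b := by
  refine Subgroup.mem_inf.2 ⟨?_, ?_⟩
  · have hxN := h.cj_le_normalizer hx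
    have h1 : x * a⁻¹ * x⁻¹ ∈ A :=
      (Subgroup.mem_set_normalizer_iff.1 hxN a⁻¹).1 (A.inv_mem ha)
    have e : ⁅a, x⁆ = a * (x * a⁻¹ * x⁻¹) := by simp only [commutatorElement_def]; group
    rw [e]; exact A.mul_mem ha h1
  · have haN := h.A_le_normalizer_cj ha
    have h1 : a * x * a⁻¹ ∈ cj A b := (Subgroup.mem_set_normalizer_iff.1 haN x).1 hx
    have e : ⁅a, x⁆ = (a * x * a⁻¹) * x⁻¹ := by simp only [commutatorElement_def]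
    rw [e]; exact (cj A b).mul_mem h1 ((cj A b).inv_mem hx)

theorem comm_mem_Z' {a x : S} (hx : x ∈ cj A b) (ha : a ∈ A) : ⁅x, a⁆ ∈ A ⊓ cj A b := by
  rw [← commutatorElement_inv (g₁ := a) (g₂ := x)]
  exact inv_mem (h.comm_mem_Z ha hx)

theorem mem_HH {g : S} (hg : g ∈ A ⊔ cj A b) : ∃ a ∈ A, ∃ x ∈ cj A b, a * x = g := by
  have := Subgroup.coe_mul_of_left_le_normalizer_right A (cj A b) h.A_le_normalizer_cj
  have hg' : g ∈ ((A ⊔ cj A b : Subgroup S) : Set S) := hg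
  rw [this] at hg'
  exact Set.mem_mul.1 hg'

theorem Z_comm {z g : S} (hz : z ∈ A ⊓ cj A b) (hg : g ∈ A ⊔ cj A b) : z * g = g * z := by
  obtain ⟨a, ha, x, hx, rfl⟩ := h.mem_HH hg
  have hz' := Subgroup.mem_inf.1 hz
  rw [← mul_assoc, h.cA z hz'.1 a ha, mul_assoc, h.cj_comm hz'.2 hx, mul_assoc]

theorem comm_A_HH {a g : S} (ha : a ∈ A) (hg : g ∈ A ⊔ cj A b) : ⁅a, g⁆ ∈ A ⊓ cj A b := by
  obtain ⟨a', ha', x', hx', rfl⟩ := h.mem_HH hg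
  rw [Class2.comm_mul_right]
  have h1 : ⁅a, a'⁆ = 1 := commutatorElement_eq_one_iff_mul_comm.2 (h.cA a ha a' ha')
  have hz := h.comm_mem_Z ha hx'
  have h2 : a' * ⁅a, x'⁆ * a'⁻¹ = ⁅a, x'⁆ := by
    rw [← h.Z_comm hz (Subgroup.mem_sup_left ha'), mul_inv_cancel_right]
  rw [h1, h2, one_mul]; exact hz

theorem comm_cj_HH {x g : S} (hx : x ∈ cj A b) (hg : g ∈ A ⊔ cj A b) :
    ⁅x, g⁆ ∈ A ⊓ cj A b := by
  obtain ⟨a', ha', x', hx', rfl⟩ := h.mem_HH hg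
  rw [Class2.comm_mul_right]
  have h1 : ⁅x, x'⁆ = 1 := commutatorElement_eq_one_iff_mul_comm.2 (h.cj_comm hx hx')
  simp only [h1, mul_one, mul_inv_cancel]
  exact h.comm_mem_Z' hx ha'

theorem comm_HH {g k : S} (hg : g ∈ A ⊔ cj A b) (hk : k ∈ A ⊔ cj A b) :
    ⁅g, k⁆ ∈ A ⊓ cj A b := by
  obtain ⟨a, ha, x, hx, rfl⟩ := h.mem_HH hg
  rw [Class2.comm_mul_left]
  have hz1 := h.comm_cj_HH hx hk
  have hz2 := h.comm_A_HH ha hk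
  have h2 : a * ⁅x, k⁆ * a⁻¹ = ⁅x, k⁆ := by
    rw [← h.Z_comm hz1 (Subgroup.mem_sup_left ha), mul_inv_cancel_right]
  rw [h2]; exact (A ⊓ cj A b).mul_mem hz1 hz2

theorem hH : ∀ x ∈ A ⊔ cj A b, ∀ y ∈ A ⊔ cj A b, ∀ z ∈ A ⊔ cj A b,
    z * ⁅x, y⁆ = ⁅x, y⁆ * z :=
  fun _ hx _ hy _ hz => (h.Z_comm (h.comm_HH hx hy) hz).symm

omit h in
theorem Z_le_HH : A ⊓ cj A b ≤ A ⊔ cj A b := inf_le_left.trans le_sup_left

omit h in
theorem theta_mem_HH {a : S} (ha : a ∈ A) : a * b⁻¹ * a⁻¹ * b ∈ A ⊔ cj A b := by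
  have e : a * b⁻¹ * a⁻¹ * b = a * (b⁻¹ * a⁻¹ * b) := by group
  rw [e]
  exact Subgroup.mul_mem_sup ha (conj_mem_cj (A.inv_mem ha))

theorem theta_mem_B {a : S} : a * b⁻¹ * a⁻¹ * b ∈ B :=
  B.mul_mem (h.nB.conj_mem b⁻¹ (B.inv_mem h.hb) a) h.hb

omit h in
theorem closure_le_HH : Subgroup.closure (gens A b) ≤ A ⊔ cj A b := by
  rw [Subgroup.closure_le]
  rintro g ⟨a, ha, rfl⟩
  exact theta_mem_HH ha

theorem star_le_HH : star A b ≤ A ⊔ cj A b := sup_le Z_le_HH closure_le_HH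

omit h in
theorem theta_mem_star {a : S} (ha : a ∈ A) : a * b⁻¹ * a⁻¹ * b ∈ star A b :=
  Subgroup.mem_sup_right (Subgroup.subset_closure ⟨a, ha, rfl⟩)

theorem comm_le_Z : ⁅B, B⁆ ≤ A ⊓ cj A b := by
  have := h.nB
  refine le_inf h.hBA ?_
  intro g hg
  refine mem_cj.2 (h.hBA ?_)
  exact (inferInstance : (⁅B, B⁆).Normal).conj_mem g hg b

theorem inf_B_le_Z : A ⊓ B ≤ A ⊓ cj A b := by
  intro a ha
  obtain ⟨haA, haB⟩ := Subgroup.mem_inf.1 ha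
  refine Subgroup.mem_inf.2 ⟨haA, mem_cj.2 ?_⟩
  have e : b * a * b⁻¹ = ⁅b, a⁆ * a := by simp only [commutatorElement_def]; group
  rw [e]
  exact A.mul_mem (h.hBA (Subgroup.commutator_mem_commutator h.hb haB)) haA

theorem HH_inf_B_le_star : (A ⊔ cj A b) ⊓ B ≤ star A b := by
  intro g hg
  obtain ⟨hgH, hgB⟩ := Subgroup.mem_inf.1 hg
  obtain ⟨a, ha, x, hx, rfl⟩ := h.mem_HH hgH
  obtain ⟨a2, ha2, rfl⟩ := exists_of_mem_cj hx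
  have ht : a2⁻¹ * b⁻¹ * a2⁻¹⁻¹ * b ∈ star A b := theta_mem_star (A.inv_mem ha2)
  have htB : a2⁻¹ * b⁻¹ * a2⁻¹⁻¹ * b ∈ B := h.theta_mem_B
  have e : a * (b⁻¹ * a2 * b) = (a * a2) * (a2⁻¹ * b⁻¹ * a2⁻¹⁻¹ * b) := by group
  have haa2B : a * a2 ∈ B := by
    have e' : a * a2 = (a * (b⁻¹ * a2 * b)) * (a2⁻¹ * b⁻¹ * a2⁻¹⁻¹ * b)⁻¹ := by group
    rw [e']; exact B.mul_mem hgB (B.inv_mem htB)
  rw [e]
  refine (star A b).mul_mem ?_ ht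
  exact Subgroup.mem_sup_left
    (h.inf_B_le_Z (Subgroup.mem_inf.2 ⟨A.mul_mem ha ha2, haa2B⟩))

theorem conj_mem_Z {x : S} (hx : x ∈ A ⊓ cj A b) : b⁻¹ * x * b ∈ A ⊓ cj A b := by
  obtain ⟨hxA, hxA1⟩ := Subgroup.mem_inf.1 hx
  have hy : b * x * b⁻¹ ∈ A := mem_cj.1 hxA1
  have hcA : (b * x * b⁻¹)⁻¹ * x ∈ A := A.mul_mem (A.inv_mem hy) hxA
  have hcB : (b * x * b⁻¹)⁻¹ * x ∈ B := by
    have e : (b * x * b⁻¹)⁻¹ * x = b * (x⁻¹ * b⁻¹ * x) := by group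
    rw [e]
    exact B.mul_mem h.hb (h.nB.conj_mem' b⁻¹ (B.inv_mem h.hb) x)
  have hw : ⁅((b * x * b⁻¹)⁻¹ * x)⁻¹, b⁻¹⁆ ∈ A :=
    h.hBA (Subgroup.commutator_mem_commutator (B.inv_mem hcB) (B.inv_mem h.hb))
  have e : b⁻¹ * x * b = x * ((b * x * b⁻¹)⁻¹ * x) * ⁅((b * x * b⁻¹)⁻¹ * x)⁻¹, b⁻¹⁆ := by
    simp only [commutatorElement_def]; group
  refine Subgroup.mem_inf.2 ⟨?_, conj_mem_cj hxA⟩
  rw [e]; exact A.mul_mem (A.mul_mem hxA hcA) hw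

omit h in
theorem c_mem_HH {a : S} (ha : a ∈ A) : a⁻¹ * (b⁻¹ * a * b) ∈ A ⊔ cj A b :=
  Subgroup.mul_mem_sup (A.inv_mem ha) (conj_mem_cj ha)

theorem c_mem_B (a : S) : a⁻¹ * (b⁻¹ * a * b) ∈ B := by
  have e : a⁻¹ * (b⁻¹ * a * b) = (a⁻¹ * b⁻¹ * a) * b := by group
  rw [e]; exact B.mul_mem (h.nB.conj_mem' b⁻¹ (B.inv_mem h.hb) a) h.hb

theorem w_mem_Z (a : S) : ⁅(a⁻¹ * (b⁻¹ * a * b))⁻¹, b⁻¹⁆ ∈ A ⊓ cj A b :=
  h.comm_le_Z
    (Subgroup.commutator_mem_commutator (B.inv_mem (h.c_mem_B a)) (B.inv_mem h.hb))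

theorem conj_sq_mem_HH {a : S} (ha : a ∈ A) : b⁻¹ * (b⁻¹ * a * b) * b ∈ A ⊔ cj A b := by
  rw [conj_sq_eq]
  exact mul_mem (mul_mem (mul_mem (Subgroup.mem_sup_left ha) (c_mem_HH ha)) (c_mem_HH ha))
    (Z_le_HH (h.w_mem_Z a))

theorem conj_beta {a a' : S} (ha : a ∈ A) (ha' : a' ∈ A) :
    b⁻¹ * ⁅a, b⁻¹ * a' * b⁆ * b = ⁅a', b⁻¹ * a * b⁆ := by
  have hxm : b⁻¹ * a * b ∈ cj A b := conj_mem_cj ha
  have hym : b⁻¹ * a' * b ∈ cj A b := conj_mem_cj ha'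
  have e1 : b⁻¹ * ⁅a, b⁻¹ * a' * b⁆ * b = ⁅b⁻¹ * a * b, b⁻¹ * (b⁻¹ * a' * b) * b⁆ := by
    have := conjugate_commutatorElement (g₁ := a) (g₂ := b⁻¹ * a' * b) (g₃ := b⁻¹)
    simpa only [inv_inv] using this
  have hxy : ⁅b⁻¹ * a * b, b⁻¹ * a' * b⁆ = 1 :=
    commutatorElement_eq_one_iff_mul_comm.2 (h.cj_comm hxm hym)
  have hwz := h.w_mem_Z a'
  have hxw : ⁅b⁻¹ * a * b, ⁅(a'⁻¹ * (b⁻¹ * a' * b))⁻¹, b⁻¹⁆⁆ = 1 :=
    commutatorElement_eq_one_iff_mul_comm.2 (h.Z_comm hwz (Subgroup.mem_sup_right hxm)).symm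
  rw [e1, conj_sq_eq b a', sub_lemmaII _ h.hH (Subgroup.mem_sup_right hxm)
    (Subgroup.mem_sup_left ha') (Subgroup.mem_sup_right hym) (Z_le_HH hwz) hxy hxw,
    commutatorElement_inv]

theorem beta_symm (hodd : ∃ m : ℕ, (b ^ 2) ^ m = b) {a a' : S} (ha : a ∈ A) (ha' : a' ∈ A) :
    ⁅a', b⁻¹ * a * b⁆ = ⁅a, b⁻¹ * a' * b⁆ := by
  have h1 : b⁻¹ * ⁅a, b⁻¹ * a' * b⁆ * b = ⁅a', b⁻¹ * a * b⁆ := h.conj_beta ha ha'
  have h2 : b⁻¹ * ⁅a', b⁻¹ * a * b⁆ * b = ⁅a, b⁻¹ * a' * b⁆ := h.conj_beta ha' ha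
  have h3 : Commute (b ^ 2) ⁅a, b⁻¹ * a' * b⁆ := by
    have h5 : b⁻¹ * (b⁻¹ * ⁅a, b⁻¹ * a' * b⁆ * b) * b = ⁅a, b⁻¹ * a' * b⁆ := by rw [h1, h2]
    have h6 : b ^ 2 * (b⁻¹ * (b⁻¹ * ⁅a, b⁻¹ * a' * b⁆ * b) * b) = ⁅a, b⁻¹ * a' * b⁆ * b ^ 2 := by
      rw [pow_two]; simp only [mul_assoc, mul_inv_cancel_left]
    rw [h5] at h6
    exact h6
  obtain ⟨m, hm⟩ := hodd
  have h4 : Commute b ⁅a, b⁻¹ * a' * b⁆ := by
    have := h3.pow_left m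
    rwa [hm] at this
  rw [← h1, mul_assoc, ← h4.eq, inv_mul_cancel_left]

theorem theta_comm_odd (hodd : ∃ m : ℕ, (b ^ 2) ^ m = b) {a a' : S} (ha : a ∈ A)
    (ha' : a' ∈ A) :
    (a * b⁻¹ * a⁻¹ * b) * (a' * b⁻¹ * a'⁻¹ * b) =
      (a' * b⁻¹ * a'⁻¹ * b) * (a * b⁻¹ * a⁻¹ * b) := by
  rw [← commutatorElement_eq_one_iff_mul_comm]
  have e : ∀ c : S, c * b⁻¹ * c⁻¹ * b = c * (b⁻¹ * c * b)⁻¹ := fun c => by group
  have hxm : b⁻¹ * a * b ∈ cj A b := conj_mem_cj ha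
  have hym : b⁻¹ * a' * b ∈ cj A b := conj_mem_cj ha'
  have haa : ⁅a, a'⁆ = 1 := commutatorElement_eq_one_iff_mul_comm.2 (h.cA a ha a' ha')
  have hxy : ⁅(b⁻¹ * a * b)⁻¹, (b⁻¹ * a' * b)⁻¹⁆ = 1 :=
    commutatorElement_eq_one_iff_mul_comm.2 (h.cj_comm (inv_mem hxm) (inv_mem hym))
  rw [e a, e a', sub_lemmaI _ h.hH (Subgroup.mem_sup_left ha) (Subgroup.mem_sup_left ha')
    (Subgroup.mem_sup_right hxm) (Subgroup.mem_sup_right hym) haa hxy,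
    h.beta_symm hodd ha ha', inv_mul_cancel]

theorem star_comm (hT : ∀ a ∈ A, ∀ a' ∈ A, (a * b⁻¹ * a⁻¹ * b) * (a' * b⁻¹ * a'⁻¹ * b) =
      (a' * b⁻¹ * a'⁻¹ * b) * (a * b⁻¹ * a⁻¹ * b)) :
    IsMulCommutative (star A b) := by
  have e : star A b =
      Subgroup.closure (((A ⊓ cj A b : Subgroup S) : Set S) ∪ gens A b) := by
    rw [Subgroup.closure_union, Subgroup.closure_eq]
  rw [e]
  apply Subgroup.isMulCommutative_closure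
  rintro x (hx | ⟨a, ha, rfl⟩) y (hy | ⟨a', ha', rfl⟩)
  · exact h.cA x (Subgroup.mem_inf.1 hx).1 y (Subgroup.mem_inf.1 hy).1
  · exact h.Z_comm hx (theta_mem_HH ha')
  · exact (h.Z_comm hy (theta_mem_HH ha)).symm
  · exact hT a ha a' ha'

theorem theta_mul {a a' : S} (ha : a ∈ A) (ha' : a' ∈ A) :
    (a * b⁻¹ * a⁻¹ * b) * (a' * b⁻¹ * a'⁻¹ * b) =
      ⁅b⁻¹ * a⁻¹ * b, a'⁆ * (a * a' * b⁻¹ * (a * a')⁻¹ * b) := by
  have hζ := h.comm_mem_Z' (conj_mem_cj (b := b) (A.inv_mem ha)) ha'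
  have hαα' : (b⁻¹ * a⁻¹ * b) * (b⁻¹ * a'⁻¹ * b) = (b⁻¹ * a'⁻¹ * b) * (b⁻¹ * a⁻¹ * b) :=
    h.cj_comm (conj_mem_cj (A.inv_mem ha)) (conj_mem_cj (A.inv_mem ha'))
  calc (a * b⁻¹ * a⁻¹ * b) * (a' * b⁻¹ * a'⁻¹ * b)
      = a * ⁅b⁻¹ * a⁻¹ * b, a'⁆ * a' * ((b⁻¹ * a⁻¹ * b) * (b⁻¹ * a'⁻¹ * b)) := by
        simp only [commutatorElement_def]; group
    _ = ⁅b⁻¹ * a⁻¹ * b, a'⁆ * a * a' * ((b⁻¹ * a'⁻¹ * b) * (b⁻¹ * a⁻¹ * b)) := by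
        rw [hαα', ← h.Z_comm hζ (Subgroup.mem_sup_left ha)]
    _ = ⁅b⁻¹ * a⁻¹ * b, a'⁆ * (a * a' * b⁻¹ * (a * a')⁻¹ * b) := by
        simp only [commutatorElement_def]; group

/-- the set `{z [a, b⁻¹]}` is a subgroup -/
def W (h : Hyp A B b) : Subgroup S where
  carrier := {g | ∃ z ∈ A ⊓ cj A b, ∃ a ∈ A, g = z * (a * b⁻¹ * a⁻¹ * b)}
  mul_mem' := by
    rintro _ _ ⟨z, hz, a, ha, rfl⟩ ⟨z', hz', a', ha', rfl⟩
    have hζ := h.comm_mem_Z' (conj_mem_cj (b := b) (A.inv_mem ha)) ha'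
    refine ⟨z * z' * ⁅b⁻¹ * a⁻¹ * b, a'⁆, mul_mem (mul_mem hz hz') hζ, a * a',
      A.mul_mem ha ha', ?_⟩
    have hc : (a * b⁻¹ * a⁻¹ * b) * z' = z' * (a * b⁻¹ * a⁻¹ * b) :=
      (h.Z_comm hz' (theta_mem_HH ha)).symm
    have key := h.theta_mul ha ha'
    calc z * (a * b⁻¹ * a⁻¹ * b) * (z' * (a' * b⁻¹ * a'⁻¹ * b))
        = z * ((a * b⁻¹ * a⁻¹ * b) * z') * (a' * b⁻¹ * a'⁻¹ * b) := by
          simp only [mul_assoc]
      _ = z * (z' * (a * b⁻¹ * a⁻¹ * b)) * (a' * b⁻¹ * a'⁻¹ * b) := by rw [hc]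
      _ = z * z' * ((a * b⁻¹ * a⁻¹ * b) * (a' * b⁻¹ * a'⁻¹ * b)) := by
          simp only [mul_assoc]
      _ = z * z' * (⁅b⁻¹ * a⁻¹ * b, a'⁆ * (a * a' * b⁻¹ * (a * a')⁻¹ * b)) := by rw [key]
      _ = z * z' * ⁅b⁻¹ * a⁻¹ * b, a'⁆ * (a * a' * b⁻¹ * (a * a')⁻¹ * b) := by
          rw [← mul_assoc]
  one_mem' := ⟨1, one_mem _, 1, one_mem _, by group⟩
  inv_mem' := by
    rintro _ ⟨z, hz, a, ha, rfl⟩
    have hζ := h.comm_mem_Z' (conj_mem_cj (b := b) (A.inv_mem ha)) (A.inv_mem ha)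
    have hzz : z⁻¹ * ⁅b⁻¹ * a⁻¹ * b, a⁻¹⁆⁻¹ ∈ A ⊓ cj A b := mul_mem (inv_mem hz) (inv_mem hζ)
    refine ⟨z⁻¹ * ⁅b⁻¹ * a⁻¹ * b, a⁻¹⁆⁻¹, hzz, a⁻¹, A.inv_mem ha, ?_⟩
    apply inv_eq_of_mul_eq_one_right
    have hc := h.Z_comm hzz (theta_mem_HH ha)
    have key := h.theta_mul ha (A.inv_mem ha)
    calc z * (a * b⁻¹ * a⁻¹ * b) *
          (z⁻¹ * ⁅b⁻¹ * a⁻¹ * b, a⁻¹⁆⁻¹ * (a⁻¹ * b⁻¹ * a⁻¹⁻¹ * b))
        = z * ((a * b⁻¹ * a⁻¹ * b) * (z⁻¹ * ⁅b⁻¹ * a⁻¹ * b, a⁻¹⁆⁻¹)) *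
            (a⁻¹ * b⁻¹ * a⁻¹⁻¹ * b) := by simp only [mul_assoc]
      _ = z * ((z⁻¹ * ⁅b⁻¹ * a⁻¹ * b, a⁻¹⁆⁻¹) * (a * b⁻¹ * a⁻¹ * b)) *
            (a⁻¹ * b⁻¹ * a⁻¹⁻¹ * b) := by rw [hc]
      _ = z * (z⁻¹ * ⁅b⁻¹ * a⁻¹ * b, a⁻¹⁆⁻¹) *
            ((a * b⁻¹ * a⁻¹ * b) * (a⁻¹ * b⁻¹ * a⁻¹⁻¹ * b)) := by simp only [mul_assoc]
      _ = z * (z⁻¹ * ⁅b⁻¹ * a⁻¹ * b, a⁻¹⁆⁻¹) *
            (⁅b⁻¹ * a⁻¹ * b, a⁻¹⁆ * (a * a⁻¹ * b⁻¹ * (a * a⁻¹)⁻¹ * b)) := by rw [key]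
      _ = 1 := by simp only [commutatorElement_def]; group

theorem star_le_W : star A b ≤ W h := by
  refine sup_le ?_ ?_
  · intro z hz
    exact ⟨z, hz, 1, A.one_mem, by group⟩
  · rw [Subgroup.closure_le]
    rintro g ⟨a, ha, rfl⟩
    exact ⟨1, one_mem _, a, ha, by rw [one_mul]⟩

theorem exists_of_mem_star {g : S} (hg : g ∈ star A b) :
    ∃ z ∈ A ⊓ cj A b, ∃ a ∈ A, g = z * (a * b⁻¹ * a⁻¹ * b) :=
  h.star_le_W hg

theorem star_sup_cj : star A b ⊔ cj A b = A ⊔ cj A b := by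
  apply le_antisymm
  · exact sup_le h.star_le_HH le_sup_right
  · refine sup_le ?_ le_sup_right
    intro a ha
    have e : a = (a * b⁻¹ * a⁻¹ * b) * (b⁻¹ * a * b) := by group
    rw [e]
    exact Subgroup.mul_mem_sup (theta_mem_star ha) (conj_mem_cj ha)

theorem star_inf_cj : star A b ⊓ cj A b = A ⊓ cj A b := by
  apply le_antisymm
  · intro g hg
    obtain ⟨hg1, hg2⟩ := Subgroup.mem_inf.1 hg
    obtain ⟨z, hz, a, ha, rfl⟩ := h.exists_of_mem_star hg1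
    obtain ⟨hzA, hzA1⟩ := Subgroup.mem_inf.1 hz
    have hα : b⁻¹ * a⁻¹ * b ∈ cj A b := conj_mem_cj (A.inv_mem ha)
    have haA1 : a ∈ cj A b := by
      have e : a = z⁻¹ * (z * (a * b⁻¹ * a⁻¹ * b)) * (b⁻¹ * a⁻¹ * b)⁻¹ := by group
      rw [e]
      exact mul_mem (mul_mem (inv_mem hzA1) hg2) (inv_mem hα)
    have haZ : a ∈ A ⊓ cj A b := Subgroup.mem_inf.2 ⟨ha, haA1⟩
    have hαZ : b⁻¹ * a⁻¹ * b ∈ A ⊓ cj A b := h.conj_mem_Z (inv_mem haZ)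
    refine Subgroup.mem_inf.2 ⟨?_, hg2⟩
    have e : z * (a * b⁻¹ * a⁻¹ * b) = z * a * (b⁻¹ * a⁻¹ * b) := by group
    rw [e]
    exact mul_mem (mul_mem hzA ha) (Subgroup.mem_inf.1 hαZ).1
  · exact le_inf le_sup_left inf_le_right

theorem card_star [Finite S] : Nat.card (star A b) = Nat.card A := by
  have h1 := Cfsg.H5.card_sup_mul_card_inf (H := star A b) (N := cj A b)
    (h.star_le_HH.trans h.HH_le_normalizer_cj)
  have h2 := Cfsg.H5.card_sup_mul_card_inf (H := A) (N := cj A b) h.A_le_normalizer_cj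
  rw [h.star_sup_cj, h.star_inf_cj] at h1
  rw [h1] at h2
  exact Nat.eq_of_mul_eq_mul_right Nat.card_pos h2

theorem claim4 [Finite S] (hbA : b ∉ Subgroup.normalizer (A : Set S)) :
    A ⊓ B < star A b ⊓ B := by
  refine lt_of_le_of_ne (le_inf (h.inf_B_le_Z.trans le_sup_left) inf_le_right) ?_
  intro heq
  apply hbA
  have hinv : b⁻¹ ∈ Subgroup.normalizer (A : Set S) := by
    apply Subgroup.mem_normalizer_fintype
    intro a ha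
    have ht : a⁻¹ * b⁻¹ * a⁻¹⁻¹ * b ∈ A ⊓ B := by
      rw [heq]
      exact Subgroup.mem_inf.2 ⟨theta_mem_star (A.inv_mem ha), h.theta_mem_B⟩
    have e : b⁻¹ * a * b⁻¹⁻¹ = a * (a⁻¹ * b⁻¹ * a⁻¹⁻¹ * b) := by group
    rw [e]; exact A.mul_mem ha (Subgroup.mem_inf.1 ht).1
  simpa using inv_mem hinv

theorem claim5 (hnot : ¬ B ≤ Subgroup.normalizer (A : Set S)) : star A b ⊓ B < B := by
  refine lt_of_le_of_ne inf_le_right ?_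
  intro heq
  apply hnot
  have : B ≤ star A b := inf_eq_right.1 heq
  exact this.trans (h.star_le_HH.trans h.HH_le_normalizer)

theorem claim6 : A ≤ Subgroup.normalizer (star A b : Set S) := by
  apply le_normalizer_of_conj_mem
  intro a ha k hk
  have hkH := h.star_le_HH hk
  have e : a * k * a⁻¹ = ⁅a, k⁆ * k := by simp only [commutatorElement_def]; group
  rw [e]
  exact mul_mem (Subgroup.mem_sup_left (h.comm_A_HH ha hkH)) hk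

theorem claim7 : star A b ≤ Subgroup.normalizer (A : Set S) :=
  h.star_le_HH.trans h.HH_le_normalizer

theorem conj_theta_mem {a : S} (ha : a ∈ A) :
    b⁻¹ * (a * b⁻¹ * a⁻¹ * b) * b ∈ (A ⊔ cj A b) ⊓ B := by
  refine Subgroup.mem_inf.2 ⟨?_, ?_⟩
  · have e : b⁻¹ * (a * b⁻¹ * a⁻¹ * b) * b =
        (b⁻¹ * a * b) * (b⁻¹ * (b⁻¹ * a * b) * b)⁻¹ := by simp [mul_assoc]
    rw [e]
    exact mul_mem (Subgroup.mem_sup_right (conj_mem_cj ha)) (inv_mem (h.conj_sq_mem_HH ha))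
  · exact h.nB.conj_mem' _ h.theta_mem_B b

theorem claim8 [Finite S] : b ∈ Subgroup.normalizer (star A b : Set S) := by
  have hinv : b⁻¹ ∈ Subgroup.normalizer (star A b : Set S) := by
    apply Subgroup.mem_normalizer_fintype
    intro g hg
    obtain ⟨z, hz, a, ha, rfl⟩ := h.exists_of_mem_star hg
    have e : b⁻¹ * (z * (a * b⁻¹ * a⁻¹ * b)) * b⁻¹⁻¹ =
        (b⁻¹ * z * b) * (b⁻¹ * (a * b⁻¹ * a⁻¹ * b) * b) := by group
    rw [e]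
    exact mul_mem (Subgroup.mem_sup_left (h.conj_mem_Z hz))
      (h.HH_inf_B_le_star (h.conj_theta_mem ha))
  simpa using inv_mem hinv

theorem claim9 [Finite S] (hbA : b ∉ Subgroup.normalizer (A : Set S)) :
    Subgroup.normalizer (A : Set S) < Subgroup.normalizer (star A b : Set S) := by
  have hle : Subgroup.normalizer (A : Set S) ≤ Subgroup.normalizer (star A b : Set S) := by
    apply le_normalizer_of_conj_mem
    intro g hg k hk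
    obtain ⟨z, hz, a, ha, rfl⟩ := h.exists_of_mem_star hk
    have hg1 := h.normalizer_le_normalizer_cj hg
    have e : g * (z * (a * b⁻¹ * a⁻¹ * b)) * g⁻¹ =
        (g * z * g⁻¹) * ((g * a * g⁻¹) * (g * (b⁻¹ * a⁻¹ * b) * g⁻¹)) := by group
    rw [e]
    refine mul_mem (Subgroup.mem_sup_left (Subgroup.mem_inf.2 ⟨?_, ?_⟩))
      (h.HH_inf_B_le_star (Subgroup.mem_inf.2 ⟨?_, ?_⟩))
    · exact (Subgroup.mem_set_normalizer_iff.1 hg z).1 (Subgroup.mem_inf.1 hz).1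
    · exact (Subgroup.mem_set_normalizer_iff.1 hg1 z).1 (Subgroup.mem_inf.1 hz).2
    · exact Subgroup.mul_mem_sup ((Subgroup.mem_set_normalizer_iff.1 hg a).1 ha)
        ((Subgroup.mem_set_normalizer_iff.1 hg1 _).1 (conj_mem_cj (A.inv_mem ha)))
    · have e2 : (g * a * g⁻¹) * (g * (b⁻¹ * a⁻¹ * b) * g⁻¹) =
          g * (a * b⁻¹ * a⁻¹ * b) * g⁻¹ := by group
      rw [e2]; exact h.nB.conj_mem _ h.theta_mem_B g
  refine lt_of_le_of_ne hle ?_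
  intro heq
  apply hbA
  rw [heq]
  exact h.claim8

theorem claim10 [Finite S] {p : ℕ} [Fact p.Prime] (hS : IsPGroup p S) (hp : p ≠ 2) :
    Monoid.exponent (star A b) ∣ Monoid.exponent A := by
  have hodd : Odd (Monoid.exponent A) := by
    obtain ⟨n, hn⟩ := IsPGroup.iff_card.1 (hS.to_subgroup A)
    have hdvd : Monoid.exponent A ∣ p ^ n := hn ▸ Group.exponent_dvd_nat_card
    obtain ⟨k, -, hk⟩ := (Nat.dvd_prime_pow (Fact.out)).1 hdvd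
    rw [hk]
    exact ((Fact.out : p.Prime).eq_two_or_odd'.resolve_left hp).pow
  obtain ⟨m, hm⟩ := odd_dvd_choose_two hodd
  apply Monoid.exponent_dvd_of_forall_pow_eq_one
  intro g
  have hg1 : (g : S) ^ Monoid.exponent A = 1 := by
    obtain ⟨z, hz, a, ha, hg⟩ := h.exists_of_mem_star g.2
    rw [hg]
    have hcomm : Commute z (a * b⁻¹ * a⁻¹ * b) := h.Z_comm hz (theta_mem_HH ha)
    rw [hcomm.mul_pow, pow_eq_one_of_mem (Subgroup.mem_inf.1 hz).1, one_mul]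
    have e1 : a * b⁻¹ * a⁻¹ * b = a * (b⁻¹ * a⁻¹ * b) := by group
    have hα : b⁻¹ * a⁻¹ * b ∈ cj A b := conj_mem_cj (A.inv_mem ha)
    rw [e1, sub_mul_pow_eq _ h.hH (Subgroup.mem_sup_left ha) (Subgroup.mem_sup_right hα),
      pow_eq_one_of_mem ha, pow_eq_one_of_mem_cj hα, one_mul, one_mul, hm, pow_mul,
      pow_eq_one_of_mem (Subgroup.mem_inf.1 (h.comm_mem_Z' hα ha)).1, one_pow]
  exact Subtype.ext (by simpa using hg1)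

end Hyp

end Cfsg.H5.GlaubRepl
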