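import Mathlib
import Cfsg.Agent.H5.GlaubRepl

set_option autoImplicit false

/-! The replacement property for families closed under Glauberman replacement. -/

namespace Cfsg.H5.GlaubRepl

open scoped commutatorElement

theorem exists_mem_normalizer_not_mem {S : Type*} [Group S] [Group.IsNilpotent S]
    (B N : Subgroup S) [hBn : B.Normal] (hBN : ¬ B ≤ N) :
    ∃ b ∈ B, b ∈ Subgroup.normalizer (N : Set S) ∧ b ∉ N := by
  obtain ⟨n, hn⟩ := Group.IsNilpotent.nilpotent' (G := S)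
  by_contra hcon
  push Not at hcon
  have key : ∀ i, B ⊓ Subgroup.upperCentralSeries S i ≤ N := by
    intro i
    induction i with
    | zero => rw [Subgroup.upperCentralSeries_zero, inf_bot_eq]; exact bot_le
    | succ j ih =>
      have hle : B ⊓ Subgroup.upperCentralSeries S (j + 1) ≤
          Subgroup.normalizer (N : Set S) := by
        apply le_normalizer_of_conj_mem
        intro g hg k hk
        obtain ⟨hgB, hgZ⟩ := Subgroup.mem_inf.1 hg
        have h1 : ⁅g, k⁆ ∈ Subgroup.upperCentralSeries S j :=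
          Subgroup.mem_upperCentralSeries_succ_iff.1 hgZ k
        have h2 : ⁅g, k⁆ ∈ B := by
          have e : ⁅g, k⁆ = g * (k * g⁻¹ * k⁻¹) := by
            simp only [commutatorElement_def]; group
          rw [e]; exact B.mul_mem hgB (hBn.conj_mem _ (B.inv_mem hgB) k)
        have h3 := ih (Subgroup.mem_inf.2 ⟨h2, h1⟩)
        have e : g * k * g⁻¹ = ⁅g, k⁆ * k := by simp only [commutatorElement_def]; group
        rw [e]; exact N.mul_mem h3 hk
      intro b hb
      exact hcon b (Subgroup.mem_inf.1 hb).1 (hle hb)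
  apply hBN
  have := key n
  rwa [hn, inf_top_eq] at this

theorem Hyp.star_comm_odd {S : Type*} [Group S] {A B : Subgroup S} {b : S} (h : Hyp A B b)
    {p : ℕ} [Fact p.Prime] (hS : IsPGroup p S) (hp : p ≠ 2) : IsMulCommutative (star A b) :=
  h.star_comm (fun _ ha _ ha' => h.theta_comm_odd (exists_pow_sq hS hp b) ha ha')

theorem star_le_of_normal {S : Type*} [Group S] {U D : Subgroup S} [hD : D.Normal] (b : S)
    (hU : U ≤ D) : star U b ≤ D := by
  refine sup_le (inf_le_left.trans hU) ?_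
  rw [Subgroup.closure_le]
  rintro g ⟨a, ha, rfl⟩
  have e : a * b⁻¹ * a⁻¹ * b = a * (b⁻¹ * a⁻¹ * b) := by group
  rw [e]
  exact D.mul_mem (hU ha) (hD.conj_mem' _ (D.inv_mem (hU ha)) b)

theorem replacement_property {S : Type*} [Group S] [Finite S] {p : ℕ} [Fact p.Prime]
    (hS : IsPGroup p S) (B : Subgroup S) [B.Normal] (𝒜 : Set (Subgroup S))
    (hab : ∀ U ∈ 𝒜, IsMulCommutative U)
    (hcl : ∀ U ∈ 𝒜, ∀ b : S, Hyp U B b → b ∉ Subgroup.normalizer (U : Set S) →
      star U b ∈ 𝒜)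
    (hex : ∃ U ∈ 𝒜, ⁅B, B⁆ ≤ U ∧ ¬ B ≤ U) :
    ∃ A ∈ 𝒜, ⁅B, B⁆ ≤ A ∧ ¬ B ≤ A ∧ B ≤ Subgroup.normalizer (A : Set S) := by
  have : Group.IsNilpotent S := hS.isNilpotent
  obtain ⟨U, ⟨hU, hBU, hnBU⟩, hmax⟩ :=
    Set.exists_max_image {U | U ∈ 𝒜 ∧ ⁅B, B⁆ ≤ U ∧ ¬ B ≤ U}
      (fun U => Nat.card ↥(U ⊓ B)) (Set.toFinite _)
      (by obtain ⟨U, hU⟩ := hex; exact ⟨U, hU⟩)
  refine ⟨U, hU, hBU, hnBU, ?_⟩
  by_contra hnot
  obtain ⟨b, hbB, hbNN, hbN⟩ :=
    exists_mem_normalizer_not_mem B (Subgroup.normalizer (U : Set S)) hnot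
  have := hab U hU
  have h : Hyp U B b :=
    ⟨inferInstance, fun x hx y hy => congrArg Subtype.val (mul_comm' (⟨x, hx⟩ : U) ⟨y, hy⟩),
      hBU, hbB, hbNN⟩
  have hstar := hcl U hU b h hbN
  have h4 := h.claim4 hbN
  have h5 := h.claim5 hnot
  have hnle : ¬ B ≤ star U b := fun hle => h5.ne (inf_eq_right.2 hle)
  have hmem : star U b ∈ {U | U ∈ 𝒜 ∧ ⁅B, B⁆ ≤ U ∧ ¬ B ≤ U} :=
    ⟨hstar, h.comm_le_Z.trans le_sup_left, hnle⟩
  have hle := hmax _ hmem
  exact h4.ne (Subgroup.eq_of_le_of_card_ge h4.le hle)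

/-- membership of `A*` in the family of abelian subgroups of `D` of largest order -/
theorem star_mem_maxAbelian {S : Type*} [Group S] [Finite S] {p : ℕ} [Fact p.Prime]
    (hS : IsPGroup p S) (hp : p ≠ 2) (D : Subgroup S) [D.Normal] {B : Subgroup S} {b : S}
    (U₀ : Subgroup ↥D) (h : Hyp (U₀.map D.subtype) B b) :
    IsMulCommutative ((star (U₀.map D.subtype) b).subgroupOf D) ∧
      Nat.card ((star (U₀.map D.subtype) b).subgroupOf D) = Nat.card U₀ ∧
      ((star (U₀.map D.subtype) b).subgroupOf D).map D.subtype = star (U₀.map D.subtype) b := by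
  have hle : star (U₀.map D.subtype) b ≤ D := star_le_of_normal b (Subgroup.map_subtype_le U₀)
  have := h.star_comm_odd hS hp
  refine ⟨inferInstance, ?_, Subgroup.map_subgroupOf_eq_of_le hle⟩
  rw [Nat.card_congr (Subgroup.subgroupOfEquivOfLe hle).toEquiv, h.card_star]
  exact (Nat.card_congr (U₀.equivMapOfInjective D.subtype D.subtype_injective).toEquiv).symm

/-- exponent `p` is inherited by `A*` -/
theorem star_pow_eq_one {S : Type*} [Group S] [Finite S] {p : ℕ} [Fact p.Prime]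
    (hS : IsPGroup p S) (hp : p ≠ 2) (D : Subgroup S) {B : Subgroup S} {b : S}
    (U₀ : Subgroup ↥D) (hU₀ : ∀ a ∈ U₀, a ^ p = 1) (h : Hyp (U₀.map D.subtype) B b) :
    ∀ g ∈ (star (U₀.map D.subtype) b).subgroupOf D, g ^ p = 1 := by
  intro g hg
  have hg' : (g : S) ∈ star (U₀.map D.subtype) b := Subgroup.mem_subgroupOf.1 hg
  have h10 := h.claim10 hS hp
  have hU : Monoid.exponent (U₀.map D.subtype) ∣ p := by
    apply Monoid.exponent_dvd_of_forall_pow_eq_one
    rintro ⟨x, d, hd, rfl⟩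
    apply Subtype.ext
    have := congrArg Subtype.val (hU₀ d hd)
    simpa using this
  have h1 := pow_eq_one_of_mem hg'
  obtain ⟨k, hk⟩ := h10.trans hU
  have h2 : (g : S) ^ p = 1 := by
    calc (g : S) ^ p = (g : S) ^ (Monoid.exponent (star (U₀.map D.subtype) b) * k) := by
          rw [← hk]
      _ = 1 := by rw [pow_mul, h1, one_pow]
  exact Subtype.ext (by simpa using h2)

end Cfsg.H5.GlaubRepl
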