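import Mathlib

set_option autoImplicit false

/-! Families of abelian subgroups of bounded exponent and of largest order, inside a subgroup `P`
of a group `G`; the subgroup they generate and its `e`-torsion centre. -/

namespace Cfsg.H5.ZJ

variable {G : Type*} [Group G]

/-- abelian of exponent dividing `e` (`e = 0`: just abelian) -/
def Good (e : ℕ) (A : Subgroup G) : Prop :=
  (∀ x ∈ A, ∀ y ∈ A, x * y = y * x) ∧ ∀ a ∈ A, a ^ e = 1

/-- the good subgroups of `P` of largest order -/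
def fam (e : ℕ) (P : Subgroup G) : Set (Subgroup G) :=
  {A | A ≤ P ∧ Good e A ∧ ∀ A' : Subgroup G, A' ≤ P → Good e A' → Nat.card A' ≤ Nat.card A}

/-- the Thompson-type subgroup -/
def J (e : ℕ) (P : Subgroup G) : Subgroup G := sSup (fam e P)

/-- the `e`-torsion of the centre of `K` -/
def Zc (e : ℕ) (K : Subgroup G) : Subgroup G where
  carrier := {z | z ∈ K ∧ (∀ x ∈ K, x * z = z * x) ∧ z ^ e = 1}
  one_mem' := ⟨K.one_mem, fun x _ => by rw [mul_one, one_mul], one_pow e⟩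
  mul_mem' := by
    rintro a b ⟨ha, hac, hae⟩ ⟨hb, hbc, hbe⟩
    refine ⟨K.mul_mem ha hb, fun x hx => ?_, ?_⟩
    · rw [← mul_assoc, hac x hx, mul_assoc, hbc x hx, mul_assoc]
    · have hcomm : Commute a b := (hbc a ha)
      rw [hcomm.mul_pow, hae, hbe, one_mul]
  inv_mem' := by
    rintro a ⟨ha, hac, hae⟩
    refine ⟨K.inv_mem ha, fun x hx => ?_, by rw [inv_pow, hae, inv_one]⟩
    have := hac x hx
    calc x * a⁻¹ = a⁻¹ * (a * x) * a⁻¹ := by group
      _ = a⁻¹ * (x * a) * a⁻¹ := by rw [this]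
      _ = a⁻¹ * x := by group

/-- `Z_e(J_e(P))` -/
def Z (e : ℕ) (P : Subgroup G) : Subgroup G := Zc e (J e P)

theorem mem_Zc {e : ℕ} {K : Subgroup G} {z : G} :
    z ∈ Zc e K ↔ z ∈ K ∧ (∀ x ∈ K, x * z = z * x) ∧ z ^ e = 1 := Iff.rfl

theorem Zc_le {e : ℕ} {K : Subgroup G} : Zc e K ≤ K := fun _ h => h.1

theorem good_bot (e : ℕ) : Good e (⊥ : Subgroup G) := by
  refine ⟨fun x hx y hy => ?_, fun a ha => ?_⟩
  · rw [Subgroup.mem_bot.1 hx, Subgroup.mem_bot.1 hy]
  · rw [Subgroup.mem_bot.1 ha, one_pow]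

theorem good_mono {e : ℕ} {A A' : Subgroup G} (h : A' ≤ A) (hA : Good e A) : Good e A' :=
  ⟨fun x hx y hy => hA.1 x (h hx) y (h hy), fun a ha => hA.2 a (h ha)⟩

theorem good_Zc (e : ℕ) (K : Subgroup G) : Good e (Zc e K) :=
  ⟨fun x hx y hy => hy.2.1 x hx.1, fun a ha => ha.2.2⟩

theorem fam_nonempty [Finite G] (e : ℕ) (P : Subgroup G) : (fam e P).Nonempty := by
  obtain ⟨A, ⟨hAP, hA⟩, hmax⟩ := Set.exists_max_image {A : Subgroup G | A ≤ P ∧ Good e A}
    (fun A => Nat.card A) (Set.toFinite _) ⟨⊥, bot_le, good_bot e⟩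
  exact ⟨A, hAP, hA, fun A' hA'P hA' => hmax A' ⟨hA'P, hA'⟩⟩

theorem le_J {e : ℕ} {P A : Subgroup G} (hA : A ∈ fam e P) : A ≤ J e P := le_sSup hA

theorem J_le {e : ℕ} {P : Subgroup G} : J e P ≤ P := sSup_le fun _ hA => hA.1

theorem Z_le_J {e : ℕ} {P : Subgroup G} : Z e P ≤ J e P := Zc_le

theorem Z_le {e : ℕ} {P : Subgroup G} : Z e P ≤ P := Z_le_J.trans J_le

/-- the join of two commuting good subgroups is good -/
theorem good_sup {e : ℕ} {A X : Subgroup G} (hA : Good e A) (hX : Good e X)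
    (hAX : ∀ a ∈ A, ∀ x ∈ X, a * x = x * a) : Good e (A ⊔ X) := by
  have h1 : A ⊔ X ≤ Subgroup.centralizer (A : Set G) := by
    refine sup_le ?_ ?_
    · intro g hg
      rw [Subgroup.mem_centralizer_iff]
      intro a ha
      exact hA.1 a ha g hg
    · intro g hg
      rw [Subgroup.mem_centralizer_iff]
      intro a ha
      exact hAX a ha g hg
  have h2 : A ⊔ X ≤ Subgroup.centralizer (X : Set G) := by
    refine sup_le ?_ ?_
    · intro g hg
      rw [Subgroup.mem_centralizer_iff]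
      intro x hx
      exact (hAX g hg x hx).symm
    · intro g hg
      rw [Subgroup.mem_centralizer_iff]
      intro x hx
      exact hX.1 x hx g hg
  have h3 : A ⊔ X ≤ Subgroup.centralizer ((A ⊔ X : Subgroup G) : Set G) := by
    rw [Subgroup.le_centralizer_iff]
    exact sup_le (Subgroup.le_centralizer_iff.1 h1) (Subgroup.le_centralizer_iff.1 h2)
  have hcomm : ∀ x ∈ A ⊔ X, ∀ y ∈ A ⊔ X, x * y = y * x := by
    intro x hx y hy
    have := Subgroup.mem_centralizer_iff.1 (h3 hy) x hx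
    exact this
  refine ⟨hcomm, ?_⟩
  intro g hg
  have hcl : A ⊔ X = Subgroup.closure ((A : Set G) ∪ X) := by
    rw [Subgroup.closure_union, Subgroup.closure_eq, Subgroup.closure_eq]
  have hg' : g ∈ Subgroup.closure ((A : Set G) ∪ X) := hcl ▸ hg
  induction hg' using Subgroup.closure_induction with
  | mem x hx =>
    rcases hx with hx | hx
    · exact hA.2 x hx
    · exact hX.2 x hx
  | one => exact one_pow e
  | mul x y hx hy ihx ihy =>
    have hx' : x ∈ A ⊔ X := hcl ▸ hx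
    have hy' : y ∈ A ⊔ X := hcl ▸ hy
    have hc : Commute x y := hcomm x hx' y hy'
    rw [hc.mul_pow, ihx hx', ihy hy', one_mul]
  | inv x hx ih =>
    have hx' : x ∈ A ⊔ X := hcl ▸ hx
    rw [inv_pow, ih hx', inv_one]

theorem Z_le_of_mem_fam [Finite G] {e : ℕ} {P A : Subgroup G} (hA : A ∈ fam e P) :
    Z e P ≤ A := by
  have hgood : Good e (A ⊔ Z e P) := by
    apply good_sup hA.2.1 (good_Zc e _)
    intro a ha x hx
    exact hx.2.1 a (le_J hA ha)
  have hle : A ⊔ Z e P ≤ P := sup_le hA.1 Z_le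
  have hcard := hA.2.2 _ hle hgood
  have heq : A = A ⊔ Z e P := Subgroup.eq_of_le_of_card_ge le_sup_left hcard
  rw [heq]
  exact le_sup_right

theorem mem_fam_of_le {e : ℕ} {P R A : Subgroup G} (hRP : R ≤ P) (hA : A ∈ fam e P)
    (hAR : A ≤ R) : A ∈ fam e R :=
  ⟨hAR, hA.2.1, fun A' hA'R hA' => hA.2.2 A' (hA'R.trans hRP) hA'⟩

theorem fam_subset_of_le [Finite G] {e : ℕ} {P R A₀ : Subgroup G} (hRP : R ≤ P)
    (hA₀ : A₀ ∈ fam e P) (hA₀R : A₀ ≤ R) : fam e R ⊆ fam e P := by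
  intro A hA
  refine ⟨hA.1.trans hRP, hA.2.1, fun A' hA'P hA' => ?_⟩
  exact (hA₀.2.2 A' hA'P hA').trans (hA.2.2 A₀ hA₀R hA₀.2.1)

theorem Z_le_Z [Finite G] {e : ℕ} {P R A₀ : Subgroup G} (hRP : R ≤ P)
    (hA₀ : A₀ ∈ fam e P) (hA₀R : A₀ ≤ R) : Z e P ≤ Z e R := by
  intro z hz
  have hJ : J e R ≤ J e P := sSup_le_sSup (fam_subset_of_le hRP hA₀ hA₀R)
  refine ⟨le_J (mem_fam_of_le hRP hA₀ hA₀R) (Z_le_of_mem_fam hA₀ hz), fun x hx => ?_, hz.2.2⟩
  exact hz.2.1 x (hJ hx)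

theorem Z_eq_of_J_le [Finite G] {e : ℕ} {P R : Subgroup G} (hRP : R ≤ P)
    (hJ : J e P ≤ R) : Z e R = Z e P := by
  obtain ⟨A₀, hA₀⟩ := fam_nonempty e P
  have h1 : fam e R = fam e P := by
    apply Set.Subset.antisymm
    · exact fam_subset_of_le hRP hA₀ ((le_J hA₀).trans hJ)
    · intro A hA
      exact mem_fam_of_le hRP hA ((le_J hA).trans hJ)
  unfold Z J
  rw [h1]

/-! ### invariance under automorphisms -/

theorem good_map {e : ℕ} {A : Subgroup G} (φ : G ≃* G) (hA : Good e A) :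
    Good e (A.map φ.toMonoidHom) := by
  refine ⟨?_, ?_⟩
  · rintro _ ⟨x, hx, rfl⟩ _ ⟨y, hy, rfl⟩
    rw [← map_mul, ← map_mul, hA.1 x hx y hy]
  · rintro _ ⟨a, ha, rfl⟩
    rw [← map_pow, hA.2 a ha, map_one]

theorem card_map_equiv (A : Subgroup G) (φ : G ≃* G) :
    Nat.card (A.map φ.toMonoidHom) = Nat.card A :=
  (Nat.card_congr (A.equivMapOfInjective _ φ.injective).toEquiv).symm

theorem map_symm_map (A : Subgroup G) (φ : G ≃* G) :
    (A.map φ.toMonoidHom).map φ.symm.toMonoidHom = A := by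
  rw [Subgroup.map_map]
  have : φ.symm.toMonoidHom.comp φ.toMonoidHom = MonoidHom.id G := by
    ext x; simp
  rw [this, Subgroup.map_id]

theorem map_map_symm (A : Subgroup G) (φ : G ≃* G) :
    (A.map φ.symm.toMonoidHom).map φ.toMonoidHom = A := by
  rw [Subgroup.map_map]
  have : φ.toMonoidHom.comp φ.symm.toMonoidHom = MonoidHom.id G := by
    ext x; simp
  rw [this, Subgroup.map_id]

theorem fam_map {e : ℕ} {P A : Subgroup G} (φ : G ≃* G) (hA : A ∈ fam e P) :
    A.map φ.toMonoidHom ∈ fam e (P.map φ.toMonoidHom) := by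
  refine ⟨Subgroup.map_mono hA.1, good_map φ hA.2.1, fun A' hA'P hA' => ?_⟩
  have h1 : A'.map φ.symm.toMonoidHom ≤ P := by
    have := Subgroup.map_mono (f := φ.symm.toMonoidHom) hA'P
    rwa [map_symm_map] at this
  have h2 := hA.2.2 _ h1 (good_map φ.symm hA')
  rw [card_map_equiv] at h2
  rw [card_map_equiv]
  exact h2

theorem J_map_le {e : ℕ} (P : Subgroup G) (φ : G ≃* G) :
    (J e P).map φ.toMonoidHom ≤ J e (P.map φ.toMonoidHom) := by
  rw [Subgroup.map_le_iff_le_comap]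
  apply sSup_le
  intro A hA
  rw [← Subgroup.map_le_iff_le_comap]
  exact le_J (fam_map φ hA)

theorem J_map {e : ℕ} (P : Subgroup G) (φ : G ≃* G) :
    (J e P).map φ.toMonoidHom = J e (P.map φ.toMonoidHom) := by
  apply le_antisymm (J_map_le P φ)
  have h := J_map_le (e := e) (P.map φ.toMonoidHom) φ.symm
  rw [map_symm_map] at h
  have h2 := Subgroup.map_mono (f := φ.toMonoidHom) h
  rwa [map_map_symm] at h2

theorem Zc_map_le {e : ℕ} (K : Subgroup G) (φ : G ≃* G) :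
    (Zc e K).map φ.toMonoidHom ≤ Zc e (K.map φ.toMonoidHom) := by
  rintro _ ⟨z, hz, rfl⟩
  refine ⟨Subgroup.mem_map_of_mem _ hz.1, ?_, ?_⟩
  · rintro _ ⟨x, hx, rfl⟩
    rw [← map_mul, ← map_mul, hz.2.1 x hx]
  · rw [← map_pow, hz.2.2, map_one]

theorem Zc_map {e : ℕ} (K : Subgroup G) (φ : G ≃* G) :
    (Zc e K).map φ.toMonoidHom = Zc e (K.map φ.toMonoidHom) := by
  apply le_antisymm (Zc_map_le K φ)
  have h := Zc_map_le (e := e) (K.map φ.toMonoidHom) φ.symm
  rw [map_symm_map] at h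
  have h2 := Subgroup.map_mono (f := φ.toMonoidHom) h
  rwa [map_map_symm] at h2

theorem Z_map {e : ℕ} (P : Subgroup G) (φ : G ≃* G) :
    (Z e P).map φ.toMonoidHom = Z e (P.map φ.toMonoidHom) := by
  unfold Z
  rw [Zc_map, J_map]

/-- the normalizer of `R` normalizes `Z e R` -/
theorem normalizer_le_normalizer_Z {e : ℕ} (R : Subgroup G) :
    Subgroup.normalizer (R : Set G) ≤ Subgroup.normalizer (Z e R : Set G) := by
  intro g hg
  rw [Subgroup.mem_normalizer_iff_map_conj_eq] at hg ⊢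
  have := Z_map (e := e) R (MulAut.conj g)
  rw [show R.map (MulAut.conj g).toMonoidHom = R from hg] at this
  exact this

end Cfsg.H5.ZJ
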