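import Mathlib
import Cfsg.Agent.H5.GlaubFamily
import Cfsg.Agent.H5.ZJDefs

set_option autoImplicit false

/-! Glauberman replacement inside a `p`-subgroup `P` of a group `G`, and its consequences for the
family `fam e P`. -/

namespace Cfsg.H5.ZJ

open scoped commutatorElement
open Cfsg.H5.GlaubRepl

variable {G : Type*} [Group G]

theorem card_lt_of_lt [Finite G] {H K : Subgroup G} (h : H < K) : Nat.card H < Nat.card K := by
  by_contra hcon
  push Not at hcon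
  exact h.ne (Subgroup.eq_of_le_of_card_ge h.le hcon)

theorem card_subgroupOf_of_le {H P : Subgroup G} (h : H ≤ P) :
    Nat.card (H.subgroupOf P) = Nat.card H :=
  Nat.card_congr (Subgroup.subgroupOfEquivOfLe h).toEquiv

theorem inf_subgroupOf (A B P : Subgroup G) :
    (A ⊓ B).subgroupOf P = A.subgroupOf P ⊓ B.subgroupOf P := by
  ext x
  simp [Subgroup.mem_subgroupOf]

/-- the exponent bound passes to `A*` -/
theorem star_pow_eq_one' {S : Type*} [Group S] [Finite S] {p : ℕ} [Fact p.Prime]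
    (hS : IsPGroup p S) (hp : p ≠ 2) {A B : Subgroup S} {b : S} (h : Hyp A B b) {e : ℕ}
    (hA : ∀ a ∈ A, a ^ e = 1) : ∀ g ∈ star A b, g ^ e = 1 := by
  intro g hg
  have h10 := h.claim10 hS hp
  have hU : Monoid.exponent A ∣ e := by
    apply Monoid.exponent_dvd_of_forall_pow_eq_one
    rintro ⟨x, hx⟩
    exact Subtype.ext (by simpa using hA x hx)
  have h1 := pow_eq_one_of_mem hg
  obtain ⟨k, hk⟩ := h10.trans hU
  rw [hk, pow_mul, h1, one_pow]

theorem replacement_G [Finite G] {p : ℕ} [Fact p.Prime] (hp : p ≠ 2) {e : ℕ}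
    {P B A : Subgroup G} (hP : IsPGroup p P) (hBP : B ≤ P)
    (hPB : P ≤ Subgroup.normalizer (B : Set G)) (hAP : A ≤ P) (hA : Good e A)
    (hBA : ⁅B, B⁆ ≤ A) (hnot : ¬ B ≤ Subgroup.normalizer (A : Set G)) :
    ∃ A' : Subgroup G, A' ≤ P ∧ Good e A' ∧ Nat.card A' = Nat.card A ∧
      Nat.card ↥(A ⊓ B) < Nat.card ↥(A' ⊓ B) ∧ ¬ B ≤ A' := by
  have hBn : (B.subgroupOf P).Normal := Subgroup.normal_subgroupOf_of_le_normalizer hPB
  have hnil : Group.IsNilpotent ↥P := hP.isNilpotent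
  have hnot' : ¬ B.subgroupOf P ≤
      Subgroup.normalizer ((A.subgroupOf P : Subgroup P) : Set P) := by
    intro hle
    apply hnot
    apply le_normalizer_of_conj_mem
    intro g hg k hk
    have hgP : g ∈ P := hBP hg
    have hkP : k ∈ P := hAP hk
    have h1 : (⟨g, hgP⟩ : P) ∈ Subgroup.normalizer ((A.subgroupOf P : Subgroup P) : Set P) :=
      hle (Subgroup.mem_subgroupOf.2 hg)
    have h2 := (Subgroup.mem_set_normalizer_iff.1 h1 ⟨k, hkP⟩).1 (Subgroup.mem_subgroupOf.2 hk)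
    exact Subgroup.mem_subgroupOf.1 h2
  obtain ⟨b, hbB, hbNN, hbN⟩ := exists_mem_normalizer_not_mem (B.subgroupOf P)
    (Subgroup.normalizer ((A.subgroupOf P : Subgroup P) : Set P)) hnot'
  have h : Hyp (A.subgroupOf P) (B.subgroupOf P) b := by
    refine ⟨hBn, ?_, ?_, hbB, hbNN⟩
    · intro x hx y hy
      exact Subtype.ext (hA.1 x (Subgroup.mem_subgroupOf.1 hx) y (Subgroup.mem_subgroupOf.1 hy))
    · rw [Subgroup.commutator_le]
      intro x hx y hy
      rw [Subgroup.mem_subgroupOf]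
      have : ((⁅x, y⁆ : P) : G) = ⁅(x : G), (y : G)⁆ := by simp [commutatorElement_def]
      rw [this]
      exact hBA (Subgroup.commutator_mem_commutator (Subgroup.mem_subgroupOf.1 hx)
        (Subgroup.mem_subgroupOf.1 hy))
  have hcomm := h.star_comm_odd hP hp
  have hexp := star_pow_eq_one' hP hp h (e := e)
    (fun a ha => Subtype.ext (by simpa using hA.2 _ (Subgroup.mem_subgroupOf.1 ha)))
  have hself : ((star (A.subgroupOf P) b).map P.subtype).subgroupOf P =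
      star (A.subgroupOf P) b :=
    Subgroup.comap_map_eq_self_of_injective P.subtype_injective _
  refine ⟨(star (A.subgroupOf P) b).map P.subtype, Subgroup.map_subtype_le _, ⟨?_, ?_⟩,
    ?_, ?_, ?_⟩
  · rintro _ ⟨x, hx, rfl⟩ _ ⟨y, hy, rfl⟩
    have h1 : x * y = y * x :=
      congrArg Subtype.val (mul_comm' (⟨x, hx⟩ : star (A.subgroupOf P) b) ⟨y, hy⟩)
    rw [← map_mul, ← map_mul, h1]
  · rintro _ ⟨a, ha, rfl⟩
    rw [← map_pow, hexp a ha, map_one]
  · exact (Nat.card_congr ((star (A.subgroupOf P) b).equivMapOfInjective _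
      P.subtype_injective).toEquiv).symm.trans (h.card_star.trans (card_subgroupOf_of_le hAP))
  · have h4 := card_lt_of_lt (h.claim4 hbN)
    have e1 : Nat.card ↥(A ⊓ B) = Nat.card ↥(A.subgroupOf P ⊓ B.subgroupOf P) := by
      rw [← inf_subgroupOf, card_subgroupOf_of_le (inf_le_left.trans hAP)]
    have e2 : Nat.card ↥((star (A.subgroupOf P) b).map P.subtype ⊓ B) =
        Nat.card ↥(star (A.subgroupOf P) b ⊓ B.subgroupOf P) := by
      rw [← card_subgroupOf_of_le (P := P) (inf_le_left.trans (Subgroup.map_subtype_le _)),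
        inf_subgroupOf, hself]
    rw [e1, e2]
    exact h4
  · intro hle
    have hle' : B.subgroupOf P ≤ star (A.subgroupOf P) b := by
      rw [← hself]
      intro x hx
      exact Subgroup.mem_subgroupOf.2 (hle (Subgroup.mem_subgroupOf.1 hx))
    exact (h.claim5 hnot').ne (inf_eq_right.2 hle')

theorem exists_normalized [Finite G] {p : ℕ} [Fact p.Prime] (hp : p ≠ 2) {e : ℕ}
    {P B : Subgroup G} (hP : IsPGroup p P) (hBP : B ≤ P)
    (hPB : P ≤ Subgroup.normalizer (B : Set G)) (hB' : ∀ A ∈ fam e P, ⁅B, B⁆ ≤ A) :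
    ∃ A ∈ fam e P, B ≤ Subgroup.normalizer (A : Set G) := by
  by_cases hex : ∃ A ∈ fam e P, ¬ B ≤ A
  · obtain ⟨A, ⟨hA, hnBA⟩, hmax⟩ := Set.exists_max_image {A | A ∈ fam e P ∧ ¬ B ≤ A}
      (fun A => Nat.card ↥(A ⊓ B)) (Set.toFinite _)
      (by obtain ⟨A, hA, h⟩ := hex; exact ⟨A, hA, h⟩)
    refine ⟨A, hA, ?_⟩
    by_contra hnot
    obtain ⟨A', hA'P, hA'g, hA'c, hlt, hnB⟩ :=
      replacement_G hp hP hBP hPB hA.1 hA.2.1 (hB' A hA) hnot
    have hA'mem : A' ∈ fam e P :=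
      ⟨hA'P, hA'g, fun A'' h1 h2 => (hA.2.2 A'' h1 h2).trans hA'c.symm.le⟩
    have : Nat.card ↥(A' ⊓ B) ≤ Nat.card ↥(A ⊓ B) := hmax A' ⟨hA'mem, hnB⟩
    omega
  · push Not at hex
    obtain ⟨A, hA⟩ := fam_nonempty e P
    exact ⟨A, hA, (hex A hA).trans Subgroup.le_normalizer⟩

theorem all_le [Finite G] {p : ℕ} [Fact p.Prime] (hp : p ≠ 2) {e : ℕ}
    {P B R : Subgroup G} (hP : IsPGroup p P) (hBP : B ≤ P)
    (hPB : P ≤ Subgroup.normalizer (B : Set G)) (hB' : ∀ A ∈ fam e P, ⁅B, B⁆ ≤ A)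
    (hquad : ∀ A ∈ fam e P, B ≤ Subgroup.normalizer (A : Set G) → A ≤ R)
    (hii : ∀ A ∈ fam e P, A ≤ R → B ≤ A) : ∀ A ∈ fam e P, A ≤ R := by
  by_contra hcon
  push Not at hcon
  obtain ⟨A, ⟨hA, hnAR⟩, hmax⟩ := Set.exists_max_image {A | A ∈ fam e P ∧ ¬ A ≤ R}
    (fun A => Nat.card ↥(A ⊓ B)) (Set.toFinite _)
    (by obtain ⟨A, hA, h⟩ := hcon; exact ⟨A, hA, h⟩)
  have hnot : ¬ B ≤ Subgroup.normalizer (A : Set G) := fun h => hnAR (hquad A hA h)
  obtain ⟨A', hA'P, hA'g, hA'c, hlt, hnB⟩ :=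
    replacement_G hp hP hBP hPB hA.1 hA.2.1 (hB' A hA) hnot
  have hA'mem : A' ∈ fam e P :=
    ⟨hA'P, hA'g, fun A'' h1 h2 => (hA.2.2 A'' h1 h2).trans hA'c.symm.le⟩
  by_cases hA'R : A' ≤ R
  · exact hnB (hii A' hA'mem hA'R)
  · have : Nat.card ↥(A' ⊓ B) ≤ Nat.card ↥(A ⊓ B) := hmax A' ⟨hA'mem, hA'R⟩
    omega

end Cfsg.H5.ZJ
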