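import Mathlib
import Cfsg.Prelude.Def_PLocal
import Cfsg.Agent.H5.ZJRepl
import Cfsg.Agent.H5.Cores
import Cfsg.Agent.Lib.Helper16.SylowInf

set_option autoImplicit false

/-! Glauberman's ZJ-theorem for the families `fam e`. -/

namespace Cfsg.H5.ZJ

open scoped commutatorElement
open Cfsg.H5.GlaubRepl

section general

variable {G : Type*} [Group G]

/-- if `[W, B] ≤ N` with `B`, `N` normal then `[⟨W^G⟩, B] ≤ N` -/
theorem commutator_normalClosure_le {W B N : Subgroup G} [hB : B.Normal] [hN : N.Normal]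
    (h : ⁅W, B⁆ ≤ N) : ⁅Subgroup.normalClosure (W : Set G), B⁆ ≤ N := by
  let M : Subgroup G :=
    { carrier := {x | ∀ y ∈ B, ⁅x, y⁆ ∈ N}
      one_mem' := fun y _ => by rw [commutatorElement_one_left]; exact N.one_mem
      mul_mem' := by
        intro x x' hx hx' y hy
        rw [Class2.comm_mul_left]
        exact N.mul_mem (hN.conj_mem _ (hx' y hy) x) (hx y hy)
      inv_mem' := by
        intro x hx y hy
        rw [commutatorElement_inv_left]
        have h1 : ⁅y, x⁆ ∈ N := by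
          rw [← commutatorElement_inv (g₁ := x) (g₂ := y)]
          exact N.inv_mem (hx y hy)
        exact hN.conj_mem' _ h1 x }
  have hMn : M.Normal := by
    refine ⟨fun x hx g y hy => ?_⟩
    have h1 : ⁅x, g⁻¹ * y * g⁆ ∈ N := hx _ (hB.conj_mem' y hy g)
    have h2 := hN.conj_mem _ h1 g
    rw [conjugate_commutatorElement] at h2
    have e : g * (g⁻¹ * y * g) * g⁻¹ = y := by group
    rwa [e] at h2
  have hWM : (W : Set G) ⊆ M := fun w hw y hy =>
    h (Subgroup.commutator_mem_commutator hw hy)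
  have hle : Subgroup.normalClosure (W : Set G) ≤ M := Subgroup.normalClosure_le_normal hWM
  rw [Subgroup.commutator_le]
  intro x hx y hy
  exact hle hx y hy

theorem commutator_lt_of_isPGroup [Finite G] {p : ℕ} [Fact p.Prime] {B : Subgroup G}
    (hB : IsPGroup p B) (hne : B ≠ ⊥) : ⁅B, B⁆ < B := by
  have hnil : Group.IsNilpotent B := hB.isNilpotent
  have hnt : Nontrivial B := (Subgroup.nontrivial_iff_ne_bot B).2 hne
  have h := Group.IsSolvable.commutator_lt_top_of_nontrivial B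
  have h2 := Subgroup.map_subtype_lt_map_subtype.2 h
  rwa [Subgroup.map_subtype_commutator, ← MonoidHom.range_eq_map, Subgroup.range_subtype] at h2

theorem normalizer_inf_le (X Y : Subgroup G) :
    Subgroup.normalizer (X : Set G) ⊓ Subgroup.normalizer (Y : Set G) ≤
      Subgroup.normalizer ((X ⊓ Y : Subgroup G) : Set G) := by
  intro g hg
  obtain ⟨h1, h2⟩ := Subgroup.mem_inf.1 hg
  rw [Subgroup.mem_set_normalizer_iff] at h1 h2 ⊢
  intro x
  exact ⟨fun hx => ⟨(h1 x).1 hx.1, (h2 x).1 hx.2⟩, fun hx => ⟨(h1 x).2 hx.1, (h2 x).2 hx.2⟩⟩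

/-- the preimage of `O_p(G / C_G(B))` -/
def Lq (p : ℕ) (B : Subgroup G) [B.Normal] : Subgroup G :=
  (Cfsg.pCore p (G ⧸ Subgroup.centralizer (B : Set G))).comap
    (QuotientGroup.mk' (Subgroup.centralizer (B : Set G)))

instance Lq_normal (p : ℕ) (B : Subgroup G) [B.Normal] : (Lq p B).Normal := by
  have := Cfsg.H5.pCore_normal p (G ⧸ Subgroup.centralizer (B : Set G))
  unfold Lq
  infer_instance

theorem mem_Lq {p : ℕ} {B : Subgroup G} [B.Normal] {a : G} :
    a ∈ Lq p B ↔ (QuotientGroup.mk a : G ⧸ Subgroup.centralizer (B : Set G)) ∈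
      Cfsg.pCore p (G ⧸ Subgroup.centralizer (B : Set G)) := Iff.rfl

theorem centralizer_le_Lq (p : ℕ) (B : Subgroup G) [B.Normal] :
    Subgroup.centralizer (B : Set G) ≤ Lq p B := by
  intro c hc
  rw [mem_Lq, (QuotientGroup.eq_one_iff c).2 hc]
  exact one_mem _

theorem le_Lq_of_normalizes {p : ℕ} {B A : Subgroup G} [B.Normal] (hst : Cfsg.IsPStableOn p B)
    (hAc : ∀ x ∈ A, ∀ y ∈ A, x * y = y * x) (hBA : B ≤ Subgroup.normalizer (A : Set G)) :
    A ≤ Lq p B := by
  intro a ha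
  rw [mem_Lq]
  apply hst a
  have hzp : Subgroup.zpowers a ≤ A := Subgroup.zpowers_le.2 ha
  have h1 : ⁅B, Subgroup.zpowers a⁆ ≤ A := by
    rw [Subgroup.commutator_le]
    intro b hb w hw
    have hb' := hBA hb
    have h2 : b * w * b⁻¹ ∈ A := (Subgroup.mem_set_normalizer_iff.1 hb' w).1 (hzp hw)
    have e : ⁅b, w⁆ = (b * w * b⁻¹) * w⁻¹ := by simp only [commutatorElement_def]
    rw [e]; exact A.mul_mem h2 (A.inv_mem (hzp hw))
  rw [eq_bot_iff]
  refine (Subgroup.commutator_mono h1 hzp).trans ?_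
  rw [Subgroup.commutator_le]
  intro x hx y hy
  rw [Subgroup.mem_bot, commutatorElement_eq_one_iff_mul_comm]
  exact hAc x hx y hy

end general

section main

variable {G : Type*} [Group G] [Finite G] {p : ℕ} [Fact p.Prime]

theorem Lq_decomp (S : Sylow p G) (B : Subgroup G) [B.Normal] {c : G} (hc : c ∈ Lq p B) :
    ∃ r ∈ (S : Subgroup G) ⊓ Lq p B, ∃ c₀ ∈ Subgroup.centralizer (B : Set G), c = r * c₀ := by
  have hn := Cfsg.H5.pCore_normal p (G ⧸ Subgroup.centralizer (B : Set G))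
  have hpg := Cfsg.H5.pCore_isPGroup p (G ⧸ Subgroup.centralizer (B : Set G))
  have hle := hpg.le_sylow_of_normal
    (S.mapSurjective (QuotientGroup.mk'_surjective (Subgroup.centralizer (B : Set G))))
  have h1 : (QuotientGroup.mk' (Subgroup.centralizer (B : Set G))) c ∈
      (S : Subgroup G).map (QuotientGroup.mk' (Subgroup.centralizer (B : Set G))) := by
    have := hle (mem_Lq.1 hc)
    rwa [Sylow.coe_mapSurjective] at this
  obtain ⟨r, hr, hrc⟩ := h1
  have h2 : r⁻¹ * c ∈ Subgroup.centralizer (B : Set G) := QuotientGroup.eq.1 hrc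
  have hrL : r ∈ Lq p B := by
    rw [mem_Lq]
    have : (QuotientGroup.mk r : G ⧸ Subgroup.centralizer (B : Set G)) = QuotientGroup.mk c :=
      hrc
    rw [this]; exact mem_Lq.1 hc
  exact ⟨r, Subgroup.mem_inf.2 ⟨hr, hrL⟩, r⁻¹ * c, h2, by group⟩

theorem inf_normal (hp : p ≠ 2) (e : ℕ)
    (hst : ∀ (P : Subgroup G) [P.Normal], IsPGroup p P → Cfsg.IsPStableOn p P)
    (S : Sylow p G) :
    ∀ n : ℕ, ∀ B : Subgroup G, B.Normal → IsPGroup p B → Nat.card B = n →
      (Z e (S : Subgroup G) ⊓ B).Normal := by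
  intro n
  induction n using Nat.strong_induction_on with
  | _ n ih =>
  intro B hBn hBp hcard
  haveI := hBn
  have hSp : IsPGroup p (S : Subgroup G) := S.isPGroup'
  have hBS : B ≤ S := hBp.le_sylow_of_normal S
  have hSB : (S : Subgroup G) ≤ Subgroup.normalizer (B : Set G) := by
    rw [Subgroup.normalizer_eq_top_iff.2 hBn]; exact le_top
  have hZS : (S : Subgroup G) ≤ Subgroup.normalizer (Z e (S : Subgroup G) : Set G) :=
    Subgroup.le_normalizer.trans (normalizer_le_normalizer_Z _)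
  -- Step 1: `B` is the normal closure of `W`
  by_cases h1 : Subgroup.normalClosure ((Z e (S : Subgroup G) ⊓ B : Subgroup G) : Set G) = B
  swap
  · have hle : Subgroup.normalClosure ((Z e (S : Subgroup G) ⊓ B : Subgroup G) : Set G) ≤ B :=
      Subgroup.normalClosure_le_normal (fun x hx => hx.2)
    have hlt : Nat.card (Subgroup.normalClosure
        ((Z e (S : Subgroup G) ⊓ B : Subgroup G) : Set G)) < n := by
      rw [← hcard]; exact card_lt_of_lt (lt_of_le_of_ne hle h1)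
    have h2 := ih _ hlt _ Subgroup.normalClosure_normal (hBp.to_le hle) rfl
    have e1 : Z e (S : Subgroup G) ⊓
        Subgroup.normalClosure ((Z e (S : Subgroup G) ⊓ B : Subgroup G) : Set G) =
        Z e (S : Subgroup G) ⊓ B :=
      le_antisymm (inf_le_inf_left _ hle) (le_inf inf_le_left Subgroup.subset_normalClosure)
    rwa [e1] at h2
  -- Step 2
  by_cases hbot : B = ⊥
  · rw [hbot, inf_bot_eq]; infer_instance
  have hB'lt : ⁅B, B⁆ < B := commutator_lt_of_isPGroup hBp hbot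
  have hW'n : (Z e (S : Subgroup G) ⊓ ⁅B, B⁆).Normal :=
    ih _ (by rw [← hcard]; exact card_lt_of_lt hB'lt) ⁅B, B⁆ inferInstance
      (hBp.to_le hB'lt.le) rfl
  -- Steps 3, 4
  have hBBZ : ⁅B, B⁆ ≤ Z e (S : Subgroup G) := by
    have h3 : ⁅Z e (S : Subgroup G) ⊓ B, B⁆ ≤ Z e (S : Subgroup G) ⊓ ⁅B, B⁆ := by
      refine le_inf ?_ (Subgroup.commutator_mono inf_le_right le_rfl)
      rw [Subgroup.commutator_le]
      intro z hz b hb
      have hb' := hZS (hBS hb)
      have h5 : b * z⁻¹ * b⁻¹ ∈ Z e (S : Subgroup G) :=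
        (Subgroup.mem_set_normalizer_iff.1 hb' z⁻¹).1 (inv_mem hz.1)
      have e2 : ⁅z, b⁆ = z * (b * z⁻¹ * b⁻¹) := by simp only [commutatorElement_def]; group
      rw [e2]; exact mul_mem hz.1 h5
    have h4 := commutator_normalClosure_le (hN := hW'n) h3
    rw [h1] at h4
    exact h4.trans inf_le_left
  have hB' : ∀ A ∈ fam e (S : Subgroup G), ⁅B, B⁆ ≤ A :=
    fun A hA => hBBZ.trans (Z_le_of_mem_fam hA)
  -- the subgroup `R = S ∩ L`
  have hRS : (S : Subgroup G) ⊓ Lq p B ≤ S := inf_le_left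
  have hquad : ∀ A ∈ fam e (S : Subgroup G), B ≤ Subgroup.normalizer (A : Set G) →
      A ≤ (S : Subgroup G) ⊓ Lq p B :=
    fun A hA hBA => le_inf hA.1 (le_Lq_of_normalizes (hst B hBp) hA.2.1.1 hBA)
  obtain ⟨A₀, hA₀, hBA₀⟩ := exists_normalized hp hSp hBS hSB hB'
  have hA₀R := hquad A₀ hA₀ hBA₀
  have hZZ : Z e (S : Subgroup G) ≤ Z e ((S : Subgroup G) ⊓ Lq p B) := Z_le_Z hRS hA₀ hA₀R
  -- `Z(R) ∩ B` is normal
  have hB2n : (Z e ((S : Subgroup G) ⊓ Lq p B) ⊓ B).Normal := by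
    rw [← Subgroup.normalizer_eq_top_iff, eq_top_iff]
    intro g _
    obtain ⟨a, ha, c, hc, rfl⟩ := Cfsg.Agent.Lib.Helper16.frattini_inf_normal S (Lq p B) g
    obtain ⟨r, hr, c₀, hc₀, rfl⟩ := Lq_decomp S B hc
    have har : a * r ∈ Subgroup.normalizer (((S : Subgroup G) ⊓ Lq p B : Subgroup G) : Set G) :=
      mul_mem ha (Subgroup.le_normalizer hr)
    have h5 : a * r ∈ Subgroup.normalizer
        ((Z e ((S : Subgroup G) ⊓ Lq p B) ⊓ B : Subgroup G) : Set G) := by
      apply normalizer_inf_le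
      refine Subgroup.mem_inf.2 ⟨normalizer_le_normalizer_Z _ har, ?_⟩
      rw [Subgroup.normalizer_eq_top_iff.2 hBn]; trivial
    have h6 : c₀ ∈ Subgroup.normalizer
        ((Z e ((S : Subgroup G) ⊓ Lq p B) ⊓ B : Subgroup G) : Set G) := by
      apply Subgroup.centralizer_le_normalizer
      exact Subgroup.centralizer_le (fun x hx => hx.2) hc₀
    rw [← mul_assoc]; exact mul_mem h5 h6
  -- minimality again
  by_cases hB2 : Z e ((S : Subgroup G) ⊓ Lq p B) ⊓ B = B
  swap
  · have hlt : Nat.card ↥(Z e ((S : Subgroup G) ⊓ Lq p B) ⊓ B) < n := by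
      rw [← hcard]; exact card_lt_of_lt (lt_of_le_of_ne inf_le_right hB2)
    have h2 := ih _ hlt _ hB2n (hBp.to_le inf_le_right) rfl
    have e1 : Z e (S : Subgroup G) ⊓ (Z e ((S : Subgroup G) ⊓ Lq p B) ⊓ B) =
        Z e (S : Subgroup G) ⊓ B :=
      le_antisymm (inf_le_inf_left _ inf_le_right)
        (le_inf inf_le_left (le_inf (inf_le_left.trans hZZ) inf_le_right))
    rwa [e1] at h2
  have hBZR : B ≤ Z e ((S : Subgroup G) ⊓ Lq p B) := inf_eq_right.1 hB2
  have hii : ∀ A ∈ fam e (S : Subgroup G), A ≤ (S : Subgroup G) ⊓ Lq p B → B ≤ A :=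
    fun A hA hAR => hBZR.trans (Z_le_of_mem_fam (mem_fam_of_le hRS hA hAR))
  have hall := all_le hp hSp hBS hSB hB' hquad hii
  have hJR : J e (S : Subgroup G) ≤ (S : Subgroup G) ⊓ Lq p B := sSup_le hall
  have hZeq : Z e ((S : Subgroup G) ⊓ Lq p B) = Z e (S : Subgroup G) := Z_eq_of_J_le hRS hJR
  rw [← hZeq]; exact hB2n

/-- the ZJ-theorem, normality -/
theorem Z_normal (hp : p ≠ 2) (e : ℕ)
    (hc : Subgroup.centralizer (Cfsg.pCore p G : Set G) ≤ Cfsg.pCore p G)
    (hst : ∀ (P : Subgroup G) [P.Normal], IsPGroup p P → Cfsg.IsPStableOn p P)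
    (S : Sylow p G) : (Z e (S : Subgroup G)).Normal := by
  have hQn := Cfsg.H5.pCore_normal p G
  have hQp := Cfsg.H5.pCore_isPGroup p G
  have h1 := inf_normal hp e hst S _ (Cfsg.pCore p G) hQn hQp rfl
  suffices hle : Z e (S : Subgroup G) ≤ Cfsg.pCore p G by rwa [inf_eq_left.2 hle] at h1
  haveI := hQn
  intro z hz
  have hZS : (S : Subgroup G) ≤ Subgroup.normalizer (Z e (S : Subgroup G) : Set G) :=
    Subgroup.le_normalizer.trans (normalizer_le_normalizer_Z _)
  have hQS : Cfsg.pCore p G ≤ S := hQp.le_sylow_of_normal S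
  have hquad : ⁅⁅Cfsg.pCore p G, Subgroup.zpowers z⁆, Subgroup.zpowers z⁆ = ⊥ := by
    have hzp : Subgroup.zpowers z ≤ Z e (S : Subgroup G) := Subgroup.zpowers_le.2 hz
    have h2 : ⁅Cfsg.pCore p G, Subgroup.zpowers z⁆ ≤ Z e (S : Subgroup G) := by
      rw [Subgroup.commutator_le]
      intro q hq w hw
      have hq' := hZS (hQS hq)
      have h3 : q * w * q⁻¹ ∈ Z e (S : Subgroup G) :=
        (Subgroup.mem_set_normalizer_iff.1 hq' w).1 (hzp hw)
      have e2 : ⁅q, w⁆ = (q * w * q⁻¹) * w⁻¹ := by simp only [commutatorElement_def]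
      rw [e2]; exact mul_mem h3 (inv_mem (hzp hw))
    rw [eq_bot_iff]
    refine (Subgroup.commutator_mono h2 hzp).trans ?_
    rw [Subgroup.commutator_le]
    intro x hx y hy
    rw [Subgroup.mem_bot, commutatorElement_eq_one_iff_mul_comm]
    exact (good_Zc e _).1 x hx y hy
  have hmem : z ∈ Lq p (Cfsg.pCore p G) := mem_Lq.2 (hst (Cfsg.pCore p G) hQp z hquad)
  have hLp : IsPGroup p (Lq p (Cfsg.pCore p G)) := by
    unfold Lq
    apply IsPGroup.comap_of_ker_isPGroup (Cfsg.H5.pCore_isPGroup p _)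
    rw [QuotientGroup.ker_mk']
    exact hQp.to_le hc
  exact Cfsg.H5.le_pCore (Lq_normal p _) hLp hmem

/-- the ZJ-theorem -/
theorem Z_characteristic (hp : p ≠ 2) (e : ℕ)
    (hc : Subgroup.centralizer (Cfsg.pCore p G : Set G) ≤ Cfsg.pCore p G)
    (hst : ∀ (P : Subgroup G) [P.Normal], IsPGroup p P → Cfsg.IsPStableOn p P)
    (S : Sylow p G) : (Z e (S : Subgroup G)).Characteristic := by
  rw [Subgroup.characteristic_iff_map_eq]
  intro φ
  rw [Z_map]
  have hco : ((φ • S : Sylow p G) : Subgroup G) = (S : Subgroup G).map φ.toMonoidHom := rfl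
  obtain ⟨g, hg⟩ := MulAction.exists_smul_eq G (φ • S) S
  have hn := Z_normal hp e hc hst (φ • S)
  have hco2 : ((g • (φ • S) : Sylow p G) : Subgroup G) =
      ((φ • S : Sylow p G) : Subgroup G).map (MulAut.conj g).toMonoidHom := rfl
  have h2 : Z e ((g • (φ • S) : Sylow p G) : Subgroup G) =
      Z e ((φ • S : Sylow p G) : Subgroup G) := by
    rw [hco2, ← Z_map]
    have hgn : g ∈ Subgroup.normalizer (Z e ((φ • S : Sylow p G) : Subgroup G) : Set G) := by
      rw [Subgroup.normalizer_eq_top_iff.2 hn]; trivial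
    exact Subgroup.mem_normalizer_iff_map_conj_eq.1 hgn
  rw [hg, hco] at h2
  exact h2.symm

end main

end Cfsg.H5.ZJ
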