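import Mathlib
import Cfsg.Prelude.Def_DStar
import Cfsg.Prelude.Def_PLocal
import Cfsg.Agent.H5.ZJMain
import Cfsg.Agent.S3061
import Cfsg.Agent.Lib.Helper1.Frattini

/-!
# The `D*`-theorem of Glauberman and Solomon

`dStarOf_normal`: in a `p`-stable group `G` with `C_G(O_p(G)) ≤ O_p(G)` the subgroup `D*(S)` of a
Sylow `p`-subgroup `S` is normal.
-/

set_option autoImplicit false
set_option linter.style.haveILetI false

namespace Cfsg.H5.DStar

open Cfsg
open scoped commutatorElement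

section general

variable {G : Type*} [Group G]

/-- the class-two condition -/
def Cl2 (A : Subgroup G) (x : G) : Prop :=
  ⁅⁅A ⊔ Subgroup.zpowers x, A ⊔ Subgroup.zpowers x⁆, A ⊔ Subgroup.zpowers x⁆ = ⊥

theorem cl2_map {H : Type*} [Group H] (f : G →* H) (hf : Function.Injective f) (A : Subgroup G)
    (x : G) : Cl2 (A.map f) (f x) ↔ Cl2 A x := by
  unfold Cl2
  rw [← MonoidHom.map_zpowers, ← Subgroup.map_sup, ← Subgroup.map_commutator,
    ← Subgroup.map_commutator, Subgroup.map_eq_bot_iff_of_injective _ hf]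

/-- images of members under automorphisms are members -/
theorem map_mem_dStarFamily {S : Type*} [Group S] (φ : S ≃* S) {A : Subgroup S}
    (hA : A ∈ Cfsg.dStarFamily S) : A.map φ.toMonoidHom ∈ Cfsg.dStarFamily S := by
  obtain ⟨hAc, hAx⟩ := hA
  refine ⟨Subgroup.map_isMulCommutative A _, ?_⟩
  intro x hx
  rintro _ ⟨a, ha, rfl⟩
  have h1 : Cl2 (A.map φ.toMonoidHom) (φ.toMonoidHom (φ.symm x)) := by
    have : φ.toMonoidHom (φ.symm x) = x := φ.apply_symm_apply x
    rw [this]; exact hx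
  rw [cl2_map _ φ.injective] at h1
  have h2 := hAx (φ.symm x) h1 a ha
  have h3 := congrArg φ h2
  rw [map_mul, map_mul, φ.apply_symm_apply] at h3
  exact h3

instance dStar_characteristic (S : Type*) [Group S] : (Cfsg.dStar S).Characteristic := by
  rw [Subgroup.characteristic_iff_map_le]
  intro φ
  rw [Subgroup.map_le_iff_le_comap]
  unfold Cfsg.dStar
  apply sSup_le
  intro A hA
  rw [← Subgroup.map_le_iff_le_comap]
  exact le_sSup (map_mem_dStarFamily φ hA)

theorem dStarOf_le (P : Subgroup G) : Cfsg.dStarOf P ≤ P := Subgroup.map_subtype_le _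

theorem normalizer_le_normalizer_dStarOf (P : Subgroup G) :
    Subgroup.normalizer (P : Set G) ≤ Subgroup.normalizer (Cfsg.dStarOf P : Set G) :=
  Cfsg.Agent.Lib.Helper1.normalizer_le_normalizer_map_of_characteristic P (Cfsg.dStar ↥P)

/-- the universal property of `D*(P)` -/
theorem le_dStarOf {P A : Subgroup G} (hAP : A ≤ P) (hAc : ∀ x ∈ A, ∀ y ∈ A, x * y = y * x)
    (hA : ∀ x ∈ P, Cl2 A x → ∀ a ∈ A, a * x = x * a) : A ≤ Cfsg.dStarOf P := by
  have hmap : (A.subgroupOf P).map P.subtype = A := by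
    rw [Subgroup.subgroupOf_map_subtype, inf_eq_left.2 hAP]
  have hmem : A.subgroupOf P ∈ Cfsg.dStarFamily ↥P := by
    refine ⟨⟨⟨?_⟩⟩, ?_⟩
    · rintro ⟨x, hx⟩ ⟨y, hy⟩
      apply Subtype.ext
      apply Subtype.ext
      exact hAc _ (Subgroup.mem_subgroupOf.1 hx) _ (Subgroup.mem_subgroupOf.1 hy)
    · intro x hx a ha
      have h1 : Cl2 ((A.subgroupOf P).map P.subtype) (P.subtype x) :=
        (cl2_map P.subtype P.subtype_injective _ x).2 hx
      rw [hmap] at h1
      apply Subtype.ext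
      exact hA x x.2 h1 a (Subgroup.mem_subgroupOf.1 ha)
  unfold Cfsg.dStarOf Cfsg.dStar
  rw [← hmap]
  exact Subgroup.map_mono (le_sSup hmem)

end general

section finite

variable {G : Type*} [Group G] [Finite G] {p : ℕ} [Fact p.Prime]

theorem dStarOf_comm {P : Subgroup G} (hP : IsPGroup p P) :
    ∀ x ∈ Cfsg.dStarOf P, ∀ y ∈ Cfsg.dStarOf P, x * y = y * x := by
  have h := (Cfsg.Agent.S3061.result hP).1
  rintro _ ⟨x, hx, rfl⟩ _ ⟨y, hy, rfl⟩
  have := h.is_comm.comm (⟨x, hx⟩ : Cfsg.dStar ↥P) ⟨y, hy⟩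
  have h2 := congrArg (fun z : Cfsg.dStar ↥P => ((z : ↥P) : G)) this
  exact h2

theorem dStarOf_spec {P : Subgroup G} (hP : IsPGroup p P) {x : G} (hx : x ∈ P)
    (hcl : Cl2 (Cfsg.dStarOf P) x) : ∀ a ∈ Cfsg.dStarOf P, a * x = x * a := by
  have h := (Cfsg.Agent.S3061.result hP).2
  have h1 : Cl2 (Cfsg.dStar ↥P) (⟨x, hx⟩ : ↥P) :=
    (cl2_map P.subtype P.subtype_injective _ _).1 hcl
  rintro _ ⟨a, ha, rfl⟩
  have h2 := h ⟨x, hx⟩ h1 a ha
  exact congrArg Subtype.val h2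

open Cfsg.H5.ZJ in
theorem inf_normal
    (hst : ∀ (P : Subgroup G) [P.Normal], IsPGroup p P → Cfsg.IsPStableOn p P)
    (S : Sylow p G) :
    ∀ n : ℕ, ∀ B : Subgroup G, B.Normal → IsPGroup p B → Nat.card B = n →
      (Cfsg.dStarOf (S : Subgroup G) ⊓ B).Normal := by
  intro n
  induction n using Nat.strong_induction_on with
  | _ n ih =>
  intro B hBn hBp hcard
  haveI := hBn
  have hSp : IsPGroup p (S : Subgroup G) := S.isPGroup'
  have hBS : B ≤ S := hBp.le_sylow_of_normal S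
  have hDS : (S : Subgroup G) ≤ Subgroup.normalizer (Cfsg.dStarOf (S : Subgroup G) : Set G) :=
    Subgroup.le_normalizer.trans (normalizer_le_normalizer_dStarOf _)
  have hRS : (S : Subgroup G) ⊓ Lq p B ≤ S := inf_le_left
  have hRp : IsPGroup p ((S : Subgroup G) ⊓ Lq p B : Subgroup G) := hSp.to_le hRS
  -- `D ≤ R`
  have hDR : Cfsg.dStarOf (S : Subgroup G) ≤ (S : Subgroup G) ⊓ Lq p B :=
    le_inf (dStarOf_le _) (le_Lq_of_normalizes (hst B hBp) (dStarOf_comm hSp) (hBS.trans hDS))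
  -- `D ≤ D*(R)`
  have hDD : Cfsg.dStarOf (S : Subgroup G) ≤ Cfsg.dStarOf ((S : Subgroup G) ⊓ Lq p B) := by
    apply le_dStarOf hDR (dStarOf_comm hSp)
    intro x hx hcl
    exact dStarOf_spec hSp (hRS hx) hcl
  -- `D*(R) ∩ B` is normal
  have hB2n : (Cfsg.dStarOf ((S : Subgroup G) ⊓ Lq p B) ⊓ B).Normal := by
    rw [← Subgroup.normalizer_eq_top_iff, eq_top_iff]
    intro g _
    obtain ⟨a, ha, c, hc, rfl⟩ := Cfsg.Agent.Lib.Helper16.frattini_inf_normal S (Lq p B) g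
    obtain ⟨r, hr, c₀, hc₀, rfl⟩ := Lq_decomp S B hc
    have har : a * r ∈ Subgroup.normalizer (((S : Subgroup G) ⊓ Lq p B : Subgroup G) : Set G) :=
      mul_mem ha (Subgroup.le_normalizer hr)
    have h5 : a * r ∈ Subgroup.normalizer
        ((Cfsg.dStarOf ((S : Subgroup G) ⊓ Lq p B) ⊓ B : Subgroup G) : Set G) := by
      apply normalizer_inf_le
      refine Subgroup.mem_inf.2 ⟨normalizer_le_normalizer_dStarOf _ har, ?_⟩
      rw [Subgroup.normalizer_eq_top_iff.2 hBn]; trivial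
    have h6 : c₀ ∈ Subgroup.normalizer
        ((Cfsg.dStarOf ((S : Subgroup G) ⊓ Lq p B) ⊓ B : Subgroup G) : Set G) := by
      apply Subgroup.centralizer_le_normalizer
      exact Subgroup.centralizer_le (fun x hx => hx.2) hc₀
    rw [← mul_assoc]; exact mul_mem h5 h6
  by_cases hB2 : Cfsg.dStarOf ((S : Subgroup G) ⊓ Lq p B) ⊓ B = B
  swap
  · have hlt : Nat.card ↥(Cfsg.dStarOf ((S : Subgroup G) ⊓ Lq p B) ⊓ B) < n := by
      rw [← hcard]; exact card_lt_of_lt (lt_of_le_of_ne inf_le_right hB2)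
    have h2 := ih _ hlt _ hB2n (hBp.to_le inf_le_right) rfl
    have e1 : Cfsg.dStarOf (S : Subgroup G) ⊓ (Cfsg.dStarOf ((S : Subgroup G) ⊓ Lq p B) ⊓ B) =
        Cfsg.dStarOf (S : Subgroup G) ⊓ B :=
      le_antisymm (inf_le_inf_left _ inf_le_right)
        (le_inf inf_le_left (le_inf (inf_le_left.trans hDD) inf_le_right))
    rwa [e1] at h2
  have hBD : B ≤ Cfsg.dStarOf ((S : Subgroup G) ⊓ Lq p B) := inf_eq_right.1 hB2
  -- `D*(R) ≤ D`
  have hDD' : Cfsg.dStarOf ((S : Subgroup G) ⊓ Lq p B) ≤ Cfsg.dStarOf (S : Subgroup G) := by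
    apply le_dStarOf ((dStarOf_le _).trans hRS) (dStarOf_comm hRp)
    intro x hx hcl
    have hxL : x ∈ Lq p B := by
      rw [mem_Lq]
      apply hst B hBp x
      rw [eq_bot_iff]
      unfold Cl2 at hcl
      rw [← hcl]
      have h1 : B ≤ Cfsg.dStarOf ((S : Subgroup G) ⊓ Lq p B) ⊔ Subgroup.zpowers x :=
        hBD.trans le_sup_left
      have h2 : Subgroup.zpowers x ≤
          Cfsg.dStarOf ((S : Subgroup G) ⊓ Lq p B) ⊔ Subgroup.zpowers x := le_sup_right
      exact Subgroup.commutator_mono (Subgroup.commutator_mono h1 h2) h2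
    exact dStarOf_spec hRp (Subgroup.mem_inf.2 ⟨hx, hxL⟩) hcl
  rw [le_antisymm hDD hDD']
  exact hB2n

open Cfsg.H5.ZJ in
/-- **The `D*`-theorem** -/
theorem dStarOf_normal
    (hc : Subgroup.centralizer (Cfsg.pCore p G : Set G) ≤ Cfsg.pCore p G)
    (hst : ∀ (P : Subgroup G) [P.Normal], IsPGroup p P → Cfsg.IsPStableOn p P)
    (S : Sylow p G) : (Cfsg.dStarOf (S : Subgroup G)).Normal := by
  have hQn := Cfsg.H5.pCore_normal p G
  have hQp := Cfsg.H5.pCore_isPGroup p G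
  have h1 := inf_normal hst S _ (Cfsg.pCore p G) hQn hQp rfl
  suffices hle : Cfsg.dStarOf (S : Subgroup G) ≤ Cfsg.pCore p G by rwa [inf_eq_left.2 hle] at h1
  haveI := hQn
  have hSp : IsPGroup p (S : Subgroup G) := S.isPGroup'
  have hDS : (S : Subgroup G) ≤ Subgroup.normalizer (Cfsg.dStarOf (S : Subgroup G) : Set G) :=
    Subgroup.le_normalizer.trans (normalizer_le_normalizer_dStarOf _)
  have hQS : Cfsg.pCore p G ≤ S := hQp.le_sylow_of_normal S
  have hle : Cfsg.dStarOf (S : Subgroup G) ≤ Lq p (Cfsg.pCore p G) :=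
    le_Lq_of_normalizes (hst _ hQp) (dStarOf_comm hSp) (hQS.trans hDS)
  have hLp : IsPGroup p (Lq p (Cfsg.pCore p G)) := by
    unfold Lq
    apply IsPGroup.comap_of_ker_isPGroup (Cfsg.H5.pCore_isPGroup p _)
    rw [QuotientGroup.ker_mk']
    exact hQp.to_le hc
  exact hle.trans (Cfsg.H5.le_pCore (Lq_normal p _) hLp)

end finite

end Cfsg.H5.DStar
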