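import Mathlib

/-!
# Subgroups of `SL(2, K)` generated by `p`-elements

`isPGroup_range`: a finite group `Γ` generated by `p`-elements with an abelian Sylow `2`-subgroup
has a `p`-group as image under any homomorphism to `SL(2, K)`, `K` a field of odd
characteristic `p`.
-/

set_option autoImplicit false
set_option linter.style.haveILetI false

namespace Cfsg.H5.SL2

open Matrix

section Mat

variable {K : Type*} [Field K]

/-- in a ring, `y^2 = 0` gives `(1+y)^n = 1 + n y` -/
theorem one_add_pow_of_sq_zero {A : Type*} [Ring A] {y : A} (h : y * y = 0) (n : ℕ) :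
    (1 + y) ^ n = 1 + n • y := by
  induction n with
  | zero => simp
  | succ n ih =>
    rw [pow_succ, ih]
    simp only [mul_add, add_mul, mul_one, one_mul, smul_mul_assoc, h, smul_zero, add_zero,
      add_smul, one_smul]
    abel

/-- in a ring, `(x-1)^2 = 0` gives `x^n = 1 + n (x-1)` -/
theorem ring_quad_pow {A : Type*} [Ring A] {x : A} (h : (x - 1) * (x - 1) = 0) (n : ℕ) :
    x ^ n = 1 + n • (x - 1) := by
  have := one_add_pow_of_sq_zero h n
  rwa [add_sub_cancel] at this

/-- Cayley–Hamilton for `2 × 2` matrices -/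
theorem cayley_hamilton (X : Matrix (Fin 2) (Fin 2) K) :
    X * X = X.trace • X - X.det • (1 : Matrix (Fin 2) (Fin 2) K) := by
  ext i j
  fin_cases i <;> fin_cases j <;>
    simp [Matrix.mul_apply, Fin.sum_univ_two, Matrix.trace_fin_two, Matrix.det_fin_two] <;> ring

/-- a matrix commuting with a non-scalar `2 × 2` matrix `X` lies in `K + K X` -/
theorem exists_smul_add_of_commute {X Y : Matrix (Fin 2) (Fin 2) K} (hXY : X * Y = Y * X)
    (hX : ∀ c : K, X ≠ c • (1 : Matrix (Fin 2) (Fin 2) K)) :
    ∃ α β : K, Y = α • (1 : Matrix (Fin 2) (Fin 2) K) + β • X := by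
  have h00 := congrFun (congrFun hXY 0) 0
  have h01 := congrFun (congrFun hXY 0) 1
  have h10 := congrFun (congrFun hXY 1) 0
  have h11 := congrFun (congrFun hXY 1) 1
  simp only [Matrix.mul_apply, Fin.sum_univ_two] at h00 h01 h10 h11
  by_cases hb : X 0 1 = 0
  · by_cases hc : X 1 0 = 0
    · by_cases had : X 0 0 = X 1 1
      · exfalso
        apply hX (X 0 0)
        ext i j
        fin_cases i <;> fin_cases j <;> simp [hb, hc, had]
      · have had' : X 0 0 - X 1 1 ≠ 0 := sub_ne_zero.2 had
        rw [hb] at h01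
        rw [hc] at h10
        have hf : Y 0 1 = 0 := by
          have : Y 0 1 * (X 0 0 - X 1 1) = 0 := by linear_combination h01
          exact (mul_eq_zero.1 this).resolve_right had'
        have hg : Y 1 0 = 0 := by
          have : Y 1 0 * (X 0 0 - X 1 1) = 0 := by linear_combination -h10
          exact (mul_eq_zero.1 this).resolve_right had'
        refine ⟨Y 0 0 - (Y 0 0 - Y 1 1) / (X 0 0 - X 1 1) * X 0 0,
          (Y 0 0 - Y 1 1) / (X 0 0 - X 1 1), ?_⟩
        ext i j
        fin_cases i <;> fin_cases j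
        · simp
        · simp [hb, hf]
        · simp [hc, hg]
        · simp only [Fin.mk_one, Fin.isValue, Matrix.add_apply, Matrix.smul_apply,
            Matrix.one_apply_eq, smul_eq_mul, mul_one]
          field_simp
          ring
    · refine ⟨Y 0 0 - Y 1 0 / X 1 0 * X 0 0, Y 1 0 / X 1 0, ?_⟩
      ext i j
      fin_cases i <;> fin_cases j
      · simp
      · simp only [Fin.zero_eta, Fin.mk_one, Fin.isValue, Matrix.add_apply, Matrix.smul_apply,
          smul_eq_mul]
        rw [Matrix.one_apply_ne (by decide)]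
        field_simp
        linear_combination h11
      · simp only [Fin.zero_eta, Fin.mk_one, Fin.isValue, Matrix.add_apply, Matrix.smul_apply,
          smul_eq_mul]
        rw [Matrix.one_apply_ne (by decide)]
        field_simp
        ring
      · simp only [Fin.mk_one, Fin.isValue, Matrix.add_apply, Matrix.smul_apply,
          Matrix.one_apply_eq, smul_eq_mul, mul_one]
        field_simp
        linear_combination -h10
  · refine ⟨Y 0 0 - Y 0 1 / X 0 1 * X 0 0, Y 0 1 / X 0 1, ?_⟩
    ext i j
    fin_cases i <;> fin_cases j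
    · simp
    · simp only [Fin.zero_eta, Fin.mk_one, Fin.isValue, Matrix.add_apply, Matrix.smul_apply,
        smul_eq_mul]
      rw [Matrix.one_apply_ne (by decide)]
      field_simp
      ring
    · simp only [Fin.zero_eta, Fin.mk_one, Fin.isValue, Matrix.add_apply, Matrix.smul_apply,
        smul_eq_mul]
      rw [Matrix.one_apply_ne (by decide)]
      field_simp
      linear_combination h00
    · simp only [Fin.mk_one, Fin.isValue, Matrix.add_apply, Matrix.smul_apply,
        Matrix.one_apply_eq, smul_eq_mul, mul_one]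
      field_simp
      linear_combination h01

/-- two matrices commuting with a non-scalar `2 × 2` matrix commute -/
theorem commute_of_commute {X Y Z : Matrix (Fin 2) (Fin 2) K}
    (hX : ∀ c : K, X ≠ c • (1 : Matrix (Fin 2) (Fin 2) K)) (hXY : X * Y = Y * X)
    (hXZ : X * Z = Z * X) : Y * Z = Z * Y := by
  obtain ⟨α, β, rfl⟩ := exists_smul_add_of_commute hXY hX
  obtain ⟨α', β', rfl⟩ := exists_smul_add_of_commute hXZ hX
  have h : Commute (α • (1 : Matrix (Fin 2) (Fin 2) K) + β • X)
      (α' • (1 : Matrix (Fin 2) (Fin 2) K) + β' • X) := by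
    apply Commute.add_left <;> apply Commute.add_right
    · exact ((Commute.one_left _).smul_left _).smul_right _
    · exact ((Commute.one_left _).smul_left _).smul_right _
    · exact ((Commute.one_right _).smul_left _).smul_right _
    · exact ((Commute.refl X).smul_left _).smul_right _
  exact h.eq


/-- commuting `2 × 2` matrices of determinant one with equal trace `t`, `t² ≠ 4`, are equal or
"inverse" to each other -/
theorem eq_or_eq_of_commute {X Y : Matrix (Fin 2) (Fin 2) K} (hdX : X.det = 1) (hdY : Y.det = 1)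
    (htr : Y.trace = X.trace) (hXY : X * Y = Y * X)
    (hX : ∀ c : K, X ≠ c • (1 : Matrix (Fin 2) (Fin 2) K)) (h2 : (2 : K) ≠ 0)
    (ht : X.trace ^ 2 ≠ 4) :
    Y = X ∨ Y = X.trace • (1 : Matrix (Fin 2) (Fin 2) K) - X := by
  obtain ⟨α, β, rfl⟩ := exists_smul_add_of_commute hXY hX
  rw [Matrix.trace_fin_two] at htr
  rw [Matrix.det_fin_two] at hdX hdY
  simp only [Matrix.add_apply, Matrix.smul_apply, Matrix.one_apply_eq, smul_eq_mul, mul_one,
    Matrix.one_apply_ne (show (0 : Fin 2) ≠ 1 by decide),
    Matrix.one_apply_ne (show (1 : Fin 2) ≠ 0 by decide), mul_zero, zero_add] at htr hdY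
  rw [Matrix.trace_fin_two] at htr ht ⊢
  have key : (1 - β ^ 2) * ((X 0 0 + X 1 1) ^ 2 - 4) = 0 := by
    linear_combination 4 * hdY - 4 * β ^ 2 * hdX -
      (2 * α + β * (X 0 0 + X 1 1) + (X 0 0 + X 1 1)) * htr
  have hβ : (1 - β) * (1 + β) = 0 := by
    rcases mul_eq_zero.1 key with h | h
    · linear_combination h
    · exact absurd (sub_eq_zero.1 h) ht
  rcases mul_eq_zero.1 hβ with h | h
  · left
    have hβ1 : β = 1 := by linear_combination -h
    subst hβ1
    have hα : α = 0 := by
      have : 2 * α = 0 := by linear_combination htr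
      exact (mul_eq_zero.1 this).resolve_left h2
    rw [hα, zero_smul, zero_add, one_smul]
  · right
    have hβ1 : β = -1 := by linear_combination h
    subst hβ1
    have hα : α = X 0 0 + X 1 1 := by
      have : 2 * (α - (X 0 0 + X 1 1)) = 0 := by linear_combination htr
      exact sub_eq_zero.1 ((mul_eq_zero.1 this).resolve_left h2)
    rw [hα, neg_one_smul, sub_eq_add_neg]

/-- a determinant-one `2 × 2` matrix of trace `±2` and order prime to the characteristic is `±1` -/
theorem eq_one_or_neg_one_of_trace_sq {X : Matrix (Fin 2) (Fin 2) K} (hdX : X.det = 1)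
    (ht : X.trace ^ 2 = 4) (n : ℕ) (hn : (n : K) ≠ 0) (h2 : (2 : K) ≠ 0) (hXn : X ^ n = 1) :
    X = 1 ∨ X = -1 := by
  have hCH := cayley_hamilton X
  rw [hdX, one_smul] at hCH
  have ht' : (X.trace - 2) * (X.trace + 2) = 0 := by linear_combination ht
  rcases mul_eq_zero.1 ht' with h | h
  · left
    have ht2 : X.trace = 2 := by linear_combination h
    rw [ht2] at hCH
    have hq : (X - 1) * (X - 1) = 0 := by
      have : (X - 1) * (X - 1) = X * X - (2 : K) • X + 1 := by
        rw [two_smul]; noncomm_ring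
      rw [this, hCH]; abel
    have := ring_quad_pow hq n
    rw [hXn] at this
    have h3 : n • (X - 1) = 0 := by
      have h4 : (1 : Matrix (Fin 2) (Fin 2) K) + 0 = 1 + n • (X - 1) := by rw [add_zero]; exact this
      exact (add_left_cancel h4).symm
    rw [← Nat.cast_smul_eq_nsmul K, smul_eq_zero] at h3
    exact sub_eq_zero.1 (h3.resolve_left hn)
  · right
    have ht2 : X.trace = -2 := by linear_combination h
    rw [ht2] at hCH
    have hq : (-X - 1) * (-X - 1) = 0 := by
      have : (-X - 1) * (-X - 1) = X * X - (-2 : K) • X + 1 := by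
        rw [neg_smul, two_smul]; noncomm_ring
      rw [this, hCH]; abel
    have := ring_quad_pow hq (2 * n)
    have hpow : (-X) ^ (2 * n) = 1 := by
      rw [Even.neg_pow (even_two_mul n), mul_comm, pow_mul, hXn, one_pow]
    rw [hpow] at this
    have h3 : (2 * n) • (-X - 1) = 0 := by
      have h4 : (1 : Matrix (Fin 2) (Fin 2) K) + 0 = 1 + (2 * n) • (-X - 1) := by
        rw [add_zero]; exact this
      exact (add_left_cancel h4).symm
    rw [← Nat.cast_smul_eq_nsmul K, smul_eq_zero] at h3
    have h2n : ((2 * n : ℕ) : K) ≠ 0 := by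
      rw [Nat.cast_mul, Nat.cast_ofNat]
      exact mul_ne_zero h2 hn
    have h5 := sub_eq_zero.1 (h3.resolve_left h2n)
    rw [← h5, neg_neg]

/-- the inverse in `SL(2, K)` as `tr • 1 - X` -/
theorem coe_inv_eq (x : SpecialLinearGroup (Fin 2) K) :
    ((x⁻¹ : SpecialLinearGroup (Fin 2) K) : Matrix (Fin 2) (Fin 2) K) =
      (x : Matrix (Fin 2) (Fin 2) K).trace • (1 : Matrix (Fin 2) (Fin 2) K) -
        (x : Matrix (Fin 2) (Fin 2) K) := by
  rw [Matrix.SpecialLinearGroup.coe_inv, Matrix.adjugate_fin_two, Matrix.trace_fin_two]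
  ext i j
  fin_cases i <;> fin_cases j <;> simp

/-- a scalar matrix in `SL(2, K)` squares to one -/
theorem scalar_mul_self {x : SpecialLinearGroup (Fin 2) K} {c : K}
    (hx : (x : Matrix (Fin 2) (Fin 2) K) = c • (1 : Matrix (Fin 2) (Fin 2) K)) : x * x = 1 := by
  have hd := x.det_coe
  rw [hx, Matrix.det_smul, Matrix.det_one, mul_one, Fintype.card_fin] at hd
  apply Subtype.ext
  rw [Matrix.SpecialLinearGroup.coe_mul, hx, Matrix.SpecialLinearGroup.coe_one, smul_mul_smul_comm,
    mul_one, ← pow_two, hd, one_smul]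

end Mat


section Group

variable {K : Type*} [Field K] {p : ℕ} [hp : Fact p.Prime] [CharP K p]

omit hp in
theorem two_ne_zero_of_char (hp' : p.Prime) (hp2 : p ≠ 2) : (2 : K) ≠ 0 := by
  intro h
  have h1 : ((2 : ℕ) : K) = 0 := by exact_mod_cast h
  rw [CharP.cast_eq_zero_iff K p] at h1
  exact hp2 ((Nat.prime_dvd_prime_iff_eq hp' Nat.prime_two).1 h1)

omit hp in
theorem cast_ne_zero_of_coprime (hp' : p.Prime) {n : ℕ} (hn : n.Coprime p) : (n : K) ≠ 0 := by
  intro h
  rw [CharP.cast_eq_zero_iff K p] at h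
  have := Nat.dvd_gcd h (dvd_refl p)
  rw [hn, Nat.dvd_one] at this
  exact hp'.one_lt.ne' this

/-- **Key lemma.** If `x ∈ SL(2, K)` has order prime to `p` and commutes with a conjugate
`g x g⁻¹`, then `g x g⁻¹ ∈ {x, x⁻¹}`. -/
theorem conj_eq_or_eq_inv (hp2 : p ≠ 2) (x g : SpecialLinearGroup (Fin 2) K) (n : ℕ)
    (hn : n.Coprime p) (hxn : x ^ n = 1) (hc : x * (g * x * g⁻¹) = (g * x * g⁻¹) * x) :
    g * x * g⁻¹ = x ∨ g * x * g⁻¹ = x⁻¹ := by
  have h2 : (2 : K) ≠ 0 := two_ne_zero_of_char hp.out hp2
  have hnK : (n : K) ≠ 0 := cast_ne_zero_of_coprime hp.out hn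
  by_cases hs : ∃ c : K, (x : Matrix (Fin 2) (Fin 2) K) = c • (1 : Matrix (Fin 2) (Fin 2) K)
  · obtain ⟨c, hc'⟩ := hs
    left
    apply Subtype.ext
    rw [Matrix.SpecialLinearGroup.coe_mul, Matrix.SpecialLinearGroup.coe_mul, hc', Matrix.mul_smul,
      Matrix.smul_mul, mul_one, ← Matrix.SpecialLinearGroup.coe_mul, mul_inv_cancel,
      Matrix.SpecialLinearGroup.coe_one]
  · push Not at hs
    have hXY : (x : Matrix (Fin 2) (Fin 2) K) * ((g * x * g⁻¹ : SpecialLinearGroup (Fin 2) K) :
        Matrix (Fin 2) (Fin 2) K) = ((g * x * g⁻¹ : SpecialLinearGroup (Fin 2) K) :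
        Matrix (Fin 2) (Fin 2) K) * (x : Matrix (Fin 2) (Fin 2) K) := by
      rw [← Matrix.SpecialLinearGroup.coe_mul, ← Matrix.SpecialLinearGroup.coe_mul, hc]
    have htr : ((g * x * g⁻¹ : SpecialLinearGroup (Fin 2) K) : Matrix (Fin 2) (Fin 2) K).trace =
        (x : Matrix (Fin 2) (Fin 2) K).trace := by
      rw [Matrix.SpecialLinearGroup.coe_mul, Matrix.trace_mul_comm,
        ← Matrix.SpecialLinearGroup.coe_mul, inv_mul_cancel_left]
    by_cases ht : (x : Matrix (Fin 2) (Fin 2) K).trace ^ 2 = 4
    · exfalso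
      have hXn : (x : Matrix (Fin 2) (Fin 2) K) ^ n = 1 := by
        rw [← Matrix.SpecialLinearGroup.coe_pow, hxn, Matrix.SpecialLinearGroup.coe_one]
      rcases eq_one_or_neg_one_of_trace_sq x.det_coe ht n hnK h2 hXn with h | h
      · exact hs 1 (by rw [h, one_smul])
      · exact hs (-1) (by rw [h, neg_one_smul])
    · rcases eq_or_eq_of_commute x.det_coe (g * x * g⁻¹).det_coe htr hXY hs h2 ht with h | h
      · left; exact Subtype.ext h
      · right
        apply Subtype.ext
        rw [h, coe_inv_eq]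

variable {Γ : Type*} [Group Γ] [Finite Γ]

omit [Finite Γ] in
/-- **Uniform lemma.** In a finite subgroup of `SL(2, K)`, an abelian `p'`-subgroup of odd index
is central in its normalizer. -/
theorem normalizer_le_centralizer (hp2 : p ≠ 2) (ι : Γ →* SpecialLinearGroup (Fin 2) K)
    (hι : Function.Injective ι) (R : Subgroup Γ) (hRc : ∀ x ∈ R, ∀ y ∈ R, x * y = y * x)
    (hRp : (Nat.card R).Coprime p) (hodd : Odd R.index) :
    Subgroup.normalizer (R : Set Γ) ≤ Subgroup.centralizer (R : Set Γ) := by
  intro g hg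
  have hsq : ∀ x ∈ R, g * x * g⁻¹ = x ∨ g * x * g⁻¹ = x⁻¹ := by
    intro x hx
    have hy : g * x * g⁻¹ ∈ R := (Subgroup.mem_normalizer_iff.1 hg x).1 hx
    have hxn : x ^ Nat.card R = 1 := by
      have h1 : (⟨x, hx⟩ : R) ^ Nat.card R = 1 := pow_card_eq_one'
      have h2 := congrArg Subtype.val h1
      rw [Subgroup.coe_pow] at h2
      exact h2
    have h3 := conj_eq_or_eq_inv hp2 (ι x) (ι g) (Nat.card R) hRp
      (by rw [← map_pow, hxn, map_one])
      (by rw [← map_inv, ← map_mul, ← map_mul, ← map_mul, ← map_mul, hRc x hx _ hy])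
    rcases h3 with h | h
    · left; apply hι; rw [map_mul, map_mul, map_inv]; exact h
    · right; apply hι; rw [map_mul, map_mul, map_inv, map_inv]; exact h
  have h2 : g ^ 2 ∈ Subgroup.centralizer (R : Set Γ) := by
    rw [Subgroup.mem_centralizer_iff]
    intro x hx
    have h3 : g * (g * x * g⁻¹) * g⁻¹ = x := by
      rcases hsq x hx with h | h
      · rw [h, h]
      · rw [h, ← conj_inv, h, inv_inv]
    calc x * g ^ 2 = (g * (g * x * g⁻¹) * g⁻¹) * g ^ 2 := by rw [h3]
      _ = g ^ 2 * x := by rw [pow_two]; group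
  have hnorm : ((Subgroup.centralizer (R : Set Γ)).subgroupOf
      (Subgroup.normalizer (R : Set Γ))).Normal := by
    rw [← Subgroup.normalizerMonoidHom_ker]
    infer_instance
  have hm := Subgroup.pow_index_mem ((Subgroup.centralizer (R : Set Γ)).subgroupOf
      (Subgroup.normalizer (R : Set Γ))) (⟨g, hg⟩ : Subgroup.normalizer (R : Set Γ))
  rw [Subgroup.mem_subgroupOf, Subgroup.coe_pow] at hm
  have hRC : R ≤ Subgroup.centralizer (R : Set Γ) := by
    intro x hx
    rw [Subgroup.mem_centralizer_iff]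
    intro y hy
    exact hRc y hy x hx
  have hmodd : Odd ((Subgroup.centralizer (R : Set Γ)).subgroupOf
      (Subgroup.normalizer (R : Set Γ))).index := by
    have h3 : (Subgroup.centralizer (R : Set Γ)).relIndex (Subgroup.normalizer (R : Set Γ)) ∣
        R.relIndex (Subgroup.normalizer (R : Set Γ)) :=
      Subgroup.relIndex_dvd_of_le_left _ hRC
    have h4 : R.relIndex (Subgroup.normalizer (R : Set Γ)) ∣ R.index :=
      Dvd.intro _ (Subgroup.relIndex_mul_index Subgroup.le_normalizer)
    exact Odd.of_dvd_nat hodd (h3.trans h4)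
  obtain ⟨k, hk⟩ := hmodd
  rw [hk] at hm
  have h5 : g = ((g ^ 2) ^ k)⁻¹ * g ^ (2 * k + 1) := by
    have h6 : g ^ (2 * k + 1) = (g ^ 2) ^ k * g := by rw [pow_succ, pow_mul]
    rw [h6, inv_mul_cancel_left]
  rw [h5]
  exact Subgroup.mul_mem _ (Subgroup.inv_mem _ (Subgroup.pow_mem _ h2 k)) hm

omit [Finite Γ] in
/-- **Burnside.** A Sylow `r`-subgroup central in its normalizer is trivial if the group is
generated by elements of order prime to `r`. -/
theorem sylow_eq_bot [Finite Γ] {r : ℕ} [Fact r.Prime] (R : Sylow r Γ)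
    (hN : Subgroup.normalizer (R : Set Γ) ≤ Subgroup.centralizer (R : Set Γ))
    (S : Set Γ) (hS : Subgroup.closure S = ⊤)
    (hSr : ∀ g ∈ S, ∃ n : ℕ, n.Coprime r ∧ g ^ n = 1) : (R : Subgroup Γ) = ⊥ := by
  have hker : (MonoidHom.transferSylow R hN).ker = ⊤ := by
    rw [eq_top_iff, ← hS, Subgroup.closure_le]
    intro g hg
    obtain ⟨n, hn, hgn⟩ := hSr g hg
    rw [SetLike.mem_coe, MonoidHom.mem_ker]
    obtain ⟨y, hy⟩ : ∃ y, y = MonoidHom.transferSylow R hN g := ⟨_, rfl⟩
    rw [← hy]
    have h1 : y ^ n = 1 := by rw [hy, ← map_pow, hgn, map_one]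
    obtain ⟨k, hk⟩ := (R.2 : IsPGroup r R) y
    have h3 : orderOf y ∣ Nat.gcd n (r ^ k) :=
      Nat.dvd_gcd (orderOf_dvd_of_pow_eq_one h1) (orderOf_dvd_of_pow_eq_one hk)
    have h4 : Nat.gcd n (r ^ k) = 1 := Nat.Coprime.pow_right k hn
    rw [h4, Nat.dvd_one] at h3
    exact orderOf_eq_one_iff.1 h3
  have hc := MonoidHom.ker_transferSylow_isComplement' R hN
  rw [hker] at hc
  exact Subgroup.isComplement'_top_left.1 hc

/-- **Core theorem**, injective form. -/
theorem isPGroup_of_injective (hp2 : p ≠ 2) (ι : Γ →* SpecialLinearGroup (Fin 2) K)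
    (hι : Function.Injective ι) (S : Set Γ) (hS : Subgroup.closure S = ⊤)
    (hSp : ∀ g ∈ S, ∃ j : ℕ, g ^ (p ^ j) = 1) (T : Sylow 2 Γ)
    (hT : ∀ x ∈ T, ∀ y ∈ T, x * y = y * x) : IsPGroup p Γ := by
  have hpp : p.Prime := hp.out
  have h2p : Nat.Coprime 2 p := (Nat.coprime_primes Nat.prime_two hpp).2 (Ne.symm hp2)
  -- step A: the order is odd
  have hTbot : (T : Subgroup Γ) = ⊥ := by
    apply sylow_eq_bot T _ S hS
    · intro g hg
      obtain ⟨j, hj⟩ := hSp g hg
      exact ⟨p ^ j, (Nat.Coprime.pow_left j h2p.symm), hj⟩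
    · apply normalizer_le_centralizer hp2 ι hι T hT
      · obtain ⟨n, hn⟩ := IsPGroup.iff_card.1 T.2
        rw [hn]
        exact Nat.Coprime.pow_left n h2p
      · rw [← Nat.not_even_iff_odd, even_iff_two_dvd]
        exact T.not_dvd_index
  have h2 : ¬ 2 ∣ Nat.card Γ := by
    have := T.not_dvd_index
    rwa [hTbot, Subgroup.index_bot] at this
  -- step B
  have hprime : ∀ r : ℕ, r.Prime → r ∣ Nat.card Γ → r = p := by
    intro r hr hrd
    by_contra hrp
    haveI : Fact r.Prime := ⟨hr⟩
    have hr2 : r ≠ 2 := by rintro rfl; exact h2 hrd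
    have hrpc : Nat.Coprime r p := (Nat.coprime_primes hr hpp).2 hrp
    have h2r : Nat.Coprime 2 r := (Nat.coprime_primes Nat.prime_two hr).2 (Ne.symm hr2)
    obtain ⟨R⟩ : Nonempty (Sylow r Γ) := inferInstance
    have hRbot : (R : Subgroup Γ) = ⊥ := by
      apply sylow_eq_bot R _ S hS
      · intro g hg
        obtain ⟨j, hj⟩ := hSp g hg
        exact ⟨p ^ j, (Nat.Coprime.pow_left j hrpc.symm), hj⟩
      · apply normalizer_le_centralizer hp2 ι hι R
        · -- `R` is abelian
          intro x hx y hy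
          by_cases hne : Nontrivial (R : Subgroup Γ)
          · haveI := hne
            have hcen : Nontrivial (Subgroup.center (R : Subgroup Γ)) :=
              IsPGroup.center_nontrivial R.2
            obtain ⟨z, hz⟩ := exists_ne (1 : Subgroup.center (R : Subgroup Γ))
            have hz1 : ((z : (R : Subgroup Γ)) : Γ) ≠ 1 := by
              intro h
              apply hz
              apply Subtype.ext
              apply Subtype.ext
              exact h
            have hzc : ∀ w ∈ (R : Subgroup Γ), w * ((z : (R : Subgroup Γ)) : Γ) =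
                ((z : (R : Subgroup Γ)) : Γ) * w := by
              intro w hw
              have := Subgroup.mem_center_iff.1 z.2 ⟨w, hw⟩
              exact congrArg Subtype.val this
            have hzns : ∀ c : K, ((ι ((z : (R : Subgroup Γ)) : Γ) : SpecialLinearGroup (Fin 2) K) :
                Matrix (Fin 2) (Fin 2) K) ≠ c • (1 : Matrix (Fin 2) (Fin 2) K) := by
              intro c hc
              have h3 := scalar_mul_self hc
              rw [← map_mul, ← map_one ι] at h3
              have h4 : ((z : (R : Subgroup Γ)) : Γ) ^ 2 = 1 := by rw [pow_two]; exact hι h3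
              obtain ⟨k, hk⟩ := (R.2 : IsPGroup r R) (z : (R : Subgroup Γ))
              have h5 : ((z : (R : Subgroup Γ)) : Γ) ^ (r ^ k) = 1 := by
                have := congrArg Subtype.val hk
                simpa using this
              have h6 : orderOf ((z : (R : Subgroup Γ)) : Γ) ∣ Nat.gcd 2 (r ^ k) :=
                Nat.dvd_gcd (orderOf_dvd_of_pow_eq_one h4) (orderOf_dvd_of_pow_eq_one h5)
              have h7 : Nat.gcd 2 (r ^ k) = 1 := Nat.Coprime.pow_right k h2r
              rw [h7, Nat.dvd_one] at h6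
              exact hz1 (orderOf_eq_one_iff.1 h6)
            have hcomm : ∀ w ∈ (R : Subgroup Γ),
                ((ι ((z : (R : Subgroup Γ)) : Γ) : SpecialLinearGroup (Fin 2) K) :
                  Matrix (Fin 2) (Fin 2) K) * ((ι w : SpecialLinearGroup (Fin 2) K) :
                  Matrix (Fin 2) (Fin 2) K) = ((ι w : SpecialLinearGroup (Fin 2) K) :
                  Matrix (Fin 2) (Fin 2) K) *
                  ((ι ((z : (R : Subgroup Γ)) : Γ) : SpecialLinearGroup (Fin 2) K) :
                  Matrix (Fin 2) (Fin 2) K) := by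
              intro w hw
              rw [← Matrix.SpecialLinearGroup.coe_mul, ← Matrix.SpecialLinearGroup.coe_mul,
                ← map_mul, ← map_mul, hzc w hw]
            have h8 := commute_of_commute hzns (hcomm x hx) (hcomm y hy)
            apply hι
            rw [map_mul, map_mul]
            apply Subtype.ext
            rw [Matrix.SpecialLinearGroup.coe_mul, Matrix.SpecialLinearGroup.coe_mul]
            exact h8
          · rw [not_nontrivial_iff_subsingleton] at hne
            have : (⟨x, hx⟩ : (R : Subgroup Γ)) = ⟨y, hy⟩ := Subsingleton.elim _ _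
            have hxy : x = y := congrArg Subtype.val this
            rw [hxy]
        · obtain ⟨n, hn⟩ := IsPGroup.iff_card.1 R.2
          rw [hn]
          exact Nat.Coprime.pow_left n hrpc
        · rw [← Nat.not_even_iff_odd, even_iff_two_dvd]
          intro h
          exact h2 (h.trans (Subgroup.index_dvd_card _))
    have := R.not_dvd_index
    rw [hRbot, Subgroup.index_bot] at this
    exact this hrd
  have hcard := Nat.eq_prime_pow_of_unique_prime_dvd (Nat.card_pos (α := Γ)).ne'
    (fun {d} hd hdd => hprime d hd hdd)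
  exact IsPGroup.of_card hcard

/-- **Core theorem.** -/
theorem isPGroup_range (hp2 : p ≠ 2) (φ : Γ →* SpecialLinearGroup (Fin 2) K)
    (S : Set Γ) (hS : Subgroup.closure S = ⊤)
    (hSp : ∀ g ∈ S, ∃ j : ℕ, g ^ (p ^ j) = 1) (T : Sylow 2 Γ)
    (hT : ∀ x ∈ T, ∀ y ∈ T, x * y = y * x) : IsPGroup p φ.range := by
  have hf : Function.Surjective φ.rangeRestrict := φ.rangeRestrict_surjective
  haveI : Finite φ.range := Finite.of_surjective _ hf
  refine isPGroup_of_injective hp2 φ.range.subtype φ.range.subtype_injective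
    (φ.rangeRestrict '' S) ?_ ?_ (T.mapSurjective hf) ?_
  · rw [← MonoidHom.map_closure, hS, ← MonoidHom.range_eq_map, MonoidHom.range_eq_top]
    exact hf
  · rintro _ ⟨g, hg, rfl⟩
    obtain ⟨j, hj⟩ := hSp g hg
    exact ⟨j, by rw [← map_pow, hj, map_one]⟩
  · intro x hx y hy
    have hx1 : x ∈ ((T.mapSurjective hf : Sylow 2 φ.range) : Subgroup φ.range) := hx
    have hy1 : y ∈ ((T.mapSurjective hf : Sylow 2 φ.range) : Subgroup φ.range) := hy
    rw [Sylow.coe_mapSurjective] at hx1 hy1
    obtain ⟨x', hx', rfl⟩ := hx1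
    obtain ⟨y', hy', rfl⟩ := hy1
    rw [← map_mul, ← map_mul, hT x' hx' y' hy']

end Group

end Cfsg.H5.SL2
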