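import Mathlib
import Cfsg.Agent.Lib.Helper16.SL2Borel
import Cfsg.Agent.H5.SL2Core

/-!
# Matrix computations in `SL(2, F)` for Dickson's theorem
-/

set_option autoImplicit false

namespace Cfsg.H5.Dickson

open Matrix Cfsg.Agent.Lib.Helper16 Cfsg.H5.SL2

section Mat

variable {F : Type*} [Field F]

/-- the lower unitriangular matrix -/
def lowerSL2 (b : F) : SpecialLinearGroup (Fin 2) F :=
  ⟨!![1, 0; b, 1], by simp [Matrix.det_fin_two]⟩

theorem lowerSL2_apply (b : F) : ((lowerSL2 b : SpecialLinearGroup (Fin 2) F) :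
    Matrix (Fin 2) (Fin 2) F) = !![1, 0; b, 1] := rfl

theorem lowerSL2_zero : lowerSL2 (0 : F) = 1 := by
  apply Subtype.ext
  change !![1, 0; 0, 1] = (1 : Matrix (Fin 2) (Fin 2) F)
  exact Matrix.one_fin_two.symm

theorem lowerSL2_add (a b : F) : lowerSL2 (a + b) = lowerSL2 a * lowerSL2 b := by
  apply Subtype.ext
  rw [Matrix.SpecialLinearGroup.coe_mul]
  change !![1, 0; a + b, 1] = !![1, 0; a, 1] * !![1, 0; b, 1]
  rw [Matrix.mul_fin_two]
  apply mat_fin_two_congr <;> ring

theorem lowerSL2_inv (a : F) : (lowerSL2 a)⁻¹ = lowerSL2 (-a) := by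
  rw [inv_eq_iff_mul_eq_one, ← lowerSL2_add, add_neg_cancel, lowerSL2_zero]

theorem lowerSL2_pow (a : F) (k : ℕ) : lowerSL2 a ^ k = lowerSL2 (k • a) := by
  induction k with
  | zero => rw [pow_zero, zero_smul, lowerSL2_zero]
  | succ k ih => rw [pow_succ, ih, succ_nsmul, lowerSL2_add]

theorem upperSL2_inv (a : F) : (upperSL2 a)⁻¹ = upperSL2 (-a) := by
  rw [inv_eq_iff_mul_eq_one, ← upperSL2_add, add_neg_cancel, upperSL2_zero]

/-- the `(1,0)` entry of a conjugate of an upper unitriangular matrix -/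
theorem conj_upper_10 (g : SpecialLinearGroup (Fin 2) F) (s : F) :
    ((g * upperSL2 s * g⁻¹ : SpecialLinearGroup (Fin 2) F) : Matrix (Fin 2) (Fin 2) F) 1 0 =
      -((g : Matrix (Fin 2) (Fin 2) F) 1 0) ^ 2 * s := by
  rw [Matrix.SpecialLinearGroup.coe_mul, Matrix.SpecialLinearGroup.coe_mul,
    Matrix.SpecialLinearGroup.coe_inv, Matrix.adjugate_fin_two, upperSL2_apply]
  simp [Matrix.mul_apply, Fin.sum_univ_two]
  ring

/-- an element conjugating a non-trivial upper unitriangular matrix into the Borel subgroup lies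
in the Borel subgroup -/
theorem mem_borel_of_conj_upper {g : SpecialLinearGroup (Fin 2) F} {s : F} (hs : s ≠ 0)
    (h : g * upperSL2 s * g⁻¹ ∈ borelSL2 F) : g ∈ borelSL2 F := by
  rw [mem_borelSL2, conj_upper_10] at h
  rw [mem_borelSL2]
  have h1 : ((g : Matrix (Fin 2) (Fin 2) F) 1 0) ^ 2 = 0 := by
    rcases mul_eq_zero.1 h with h2 | h2
    · exact neg_eq_zero.1 h2
    · exact absurd h2 hs
  exact pow_eq_zero_iff (two_ne_zero) |>.1 h1

omit [Field F] in
theorem mat_fin_two_inj {x y z w x' y' z' w' : F} (h : !![x, y; z, w] = !![x', y'; z', w']) :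
    x = x' ∧ y = y' ∧ z = z' ∧ w = w' := by
  have h00 := congrFun (congrFun h 0) 0
  have h01 := congrFun (congrFun h 0) 1
  have h10 := congrFun (congrFun h 1) 0
  have h11 := congrFun (congrFun h 1) 1
  simp only [Matrix.of_apply, Matrix.cons_val', Matrix.cons_val_zero, Matrix.cons_val_one,
    Matrix.cons_val_fin_one] at h00 h01 h10 h11
  exact ⟨h00, h01, h10, h11⟩

/-- the commutant of a non-trivial upper unitriangular matrix -/
theorem commute_upper {y : SpecialLinearGroup (Fin 2) F} {s : F} (hs : s ≠ 0)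
    (h : upperSL2 s * y = y * upperSL2 s) :
    (y : Matrix (Fin 2) (Fin 2) F) 1 0 = 0 ∧
      (y : Matrix (Fin 2) (Fin 2) F) 0 0 = (y : Matrix (Fin 2) (Fin 2) F) 1 1 := by
  have h' := congrArg (fun M : SpecialLinearGroup (Fin 2) F => (M : Matrix (Fin 2) (Fin 2) F)) h
  simp only [Matrix.SpecialLinearGroup.coe_mul, upperSL2_apply] at h'
  rw [Matrix.eta_fin_two (y : Matrix (Fin 2) (Fin 2) F), Matrix.mul_fin_two, Matrix.mul_fin_two]
    at h'
  obtain ⟨e00, e01, -, -⟩ := mat_fin_two_inj h'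
  have h1 : s * (y : Matrix (Fin 2) (Fin 2) F) 1 0 = 0 := by linear_combination e00
  have h2 : (y : Matrix (Fin 2) (Fin 2) F) 1 0 = 0 := (mul_eq_zero.1 h1).resolve_left hs
  refine ⟨h2, ?_⟩
  have h3 : s * ((y : Matrix (Fin 2) (Fin 2) F) 0 0 - (y : Matrix (Fin 2) (Fin 2) F) 1 1) = 0 := by
    linear_combination -e01
  exact sub_eq_zero.1 ((mul_eq_zero.1 h3).resolve_left hs)

/-- matrices `[[e, b], [0, e]]` commute with upper unitriangular matrices -/
theorem commute_upper_of {y : SpecialLinearGroup (Fin 2) F}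
    (h10 : (y : Matrix (Fin 2) (Fin 2) F) 1 0 = 0)
    (h : (y : Matrix (Fin 2) (Fin 2) F) 0 0 = (y : Matrix (Fin 2) (Fin 2) F) 1 1) (s : F) :
    upperSL2 s * y = y * upperSL2 s := by
  apply Subtype.ext
  rw [Matrix.SpecialLinearGroup.coe_mul, Matrix.SpecialLinearGroup.coe_mul, upperSL2_apply,
    Matrix.eta_fin_two (y : Matrix (Fin 2) (Fin 2) F), Matrix.mul_fin_two, Matrix.mul_fin_two,
    h10, h]
  apply mat_fin_two_congr <;> ring

/-- an element of the Borel subgroup with diagonal entry `1` is unitriangular -/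
theorem mem_unip_of_borel {y : SpecialLinearGroup (Fin 2) F} (hy : y ∈ borelSL2 F)
    (h : (y : Matrix (Fin 2) (Fin 2) F) 0 0 = 1) : y ∈ unipSL2 F := by
  have h10 : (y : Matrix (Fin 2) (Fin 2) F) 1 0 = 0 := hy
  have hdet := y.2
  rw [Matrix.det_fin_two, h10, h, mul_zero, sub_zero, one_mul] at hdet
  exact ⟨h, h10, hdet⟩

/-- in the Borel subgroup the product of the diagonal entries is one -/
theorem borel_diag {y : SpecialLinearGroup (Fin 2) F} (hy : y ∈ borelSL2 F) :
    (y : Matrix (Fin 2) (Fin 2) F) 0 0 * (y : Matrix (Fin 2) (Fin 2) F) 1 1 = 1 := by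
  have h10 : (y : Matrix (Fin 2) (Fin 2) F) 1 0 = 0 := hy
  have hdet := y.2
  rw [Matrix.det_fin_two, h10, mul_zero, sub_zero] at hdet
  exact hdet

/-- the `(0,0)` entry is multiplicative on the Borel subgroup -/
theorem mul_00_of_borel (x : SpecialLinearGroup (Fin 2) F) {y : SpecialLinearGroup (Fin 2) F}
    (hy : y ∈ borelSL2 F) :
    ((x * y : SpecialLinearGroup (Fin 2) F) : Matrix (Fin 2) (Fin 2) F) 0 0 =
      (x : Matrix (Fin 2) (Fin 2) F) 0 0 * (y : Matrix (Fin 2) (Fin 2) F) 0 0 := by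
  have h10 : (y : Matrix (Fin 2) (Fin 2) F) 1 0 = 0 := hy
  rw [Matrix.SpecialLinearGroup.coe_mul, Matrix.mul_apply, Fin.sum_univ_two, h10, mul_zero,
    add_zero]

/-- an element commuting with a Borel element with distinct eigenvalues is in the Borel
subgroup -/
theorem mem_borel_of_commute {g y : SpecialLinearGroup (Fin 2) F} (hg : g ∈ borelSL2 F)
    (hd : (g : Matrix (Fin 2) (Fin 2) F) 0 0 ^ 2 ≠ 1) (h : g * y = y * g) : y ∈ borelSL2 F := by
  have hg10 : (g : Matrix (Fin 2) (Fin 2) F) 1 0 = 0 := hg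
  have hdiag := borel_diag hg
  have h' := congrArg (fun M : SpecialLinearGroup (Fin 2) F => (M : Matrix (Fin 2) (Fin 2) F)) h
  simp only [Matrix.SpecialLinearGroup.coe_mul] at h'
  rw [Matrix.eta_fin_two (y : Matrix (Fin 2) (Fin 2) F),
    Matrix.eta_fin_two (g : Matrix (Fin 2) (Fin 2) F), Matrix.mul_fin_two, Matrix.mul_fin_two,
    hg10] at h'
  obtain ⟨-, -, e10, -⟩ := mat_fin_two_inj h'
  rw [mem_borelSL2]
  have h1 : ((g : Matrix (Fin 2) (Fin 2) F) 0 0 ^ 2 - 1) * (y : Matrix (Fin 2) (Fin 2) F) 1 0 = 0 := by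
    linear_combination (-(g : Matrix (Fin 2) (Fin 2) F) 0 0) * e10 +
      (y : Matrix (Fin 2) (Fin 2) F) 1 0 * hdiag
  exact (mul_eq_zero.1 h1).resolve_left (sub_ne_zero.2 hd)

/-- conjugating an upper unitriangular matrix by a matrix with vanishing `(0,0)` entry gives a
lower unitriangular matrix -/
theorem conj_upper_of_00 {w : SpecialLinearGroup (Fin 2) F}
    (h00 : (w : Matrix (Fin 2) (Fin 2) F) 0 0 = 0) (s : F) :
    w * upperSL2 s * w⁻¹ = lowerSL2 (-((w : Matrix (Fin 2) (Fin 2) F) 1 0) ^ 2 * s) := by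
  have hdet := w.2
  rw [Matrix.det_fin_two, h00, zero_mul, zero_sub] at hdet
  apply Subtype.ext
  rw [Matrix.SpecialLinearGroup.coe_mul, Matrix.SpecialLinearGroup.coe_mul,
    Matrix.SpecialLinearGroup.coe_inv, Matrix.adjugate_fin_two, upperSL2_apply, lowerSL2_apply,
    Matrix.eta_fin_two (w : Matrix (Fin 2) (Fin 2) F), Matrix.mul_fin_two, Matrix.mul_fin_two, h00]
  apply mat_fin_two_congr
  · simp only [Matrix.of_apply, Matrix.cons_val', Matrix.cons_val_zero, Matrix.cons_val_one,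
      Matrix.cons_val_fin_one]
    linear_combination hdet
  · simp only [Matrix.of_apply, Matrix.cons_val', Matrix.cons_val_zero, Matrix.cons_val_one,
      Matrix.cons_val_fin_one]
    ring
  · simp only [Matrix.of_apply, Matrix.cons_val', Matrix.cons_val_zero, Matrix.cons_val_one,
      Matrix.cons_val_fin_one]
    ring
  · simp only [Matrix.of_apply, Matrix.cons_val', Matrix.cons_val_zero, Matrix.cons_val_one,
      Matrix.cons_val_fin_one]
    linear_combination hdet


/-- an element commuting with a non-trivial element of trace `2` has trace `±2` -/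
theorem trace_sq_of_commute {x y : SpecialLinearGroup (Fin 2) F} (h2 : (2 : F) ≠ 0)
    (htr : (x : Matrix (Fin 2) (Fin 2) F).trace = 2) (hx1 : x ≠ 1) (h : x * y = y * x) :
    (y : Matrix (Fin 2) (Fin 2) F).trace ^ 2 = 4 := by
  have hns : ∀ c : F, (x : Matrix (Fin 2) (Fin 2) F) ≠ c • (1 : Matrix (Fin 2) (Fin 2) F) := by
    intro c hc
    apply hx1
    have h1 : c = 1 := by
      rw [hc, Matrix.trace_fin_two] at htr
      simp only [Matrix.smul_apply, Matrix.one_apply_eq, smul_eq_mul, mul_one] at htr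
      have : 2 * (c - 1) = 0 := by linear_combination htr
      exact sub_eq_zero.1 ((mul_eq_zero.1 this).resolve_left h2)
    apply Subtype.ext
    rw [hc, h1, one_smul, Matrix.SpecialLinearGroup.coe_one]
  have hXY : (x : Matrix (Fin 2) (Fin 2) F) * (y : Matrix (Fin 2) (Fin 2) F) =
      (y : Matrix (Fin 2) (Fin 2) F) * (x : Matrix (Fin 2) (Fin 2) F) := by
    rw [← Matrix.SpecialLinearGroup.coe_mul, ← Matrix.SpecialLinearGroup.coe_mul, h]
  obtain ⟨α, β, hαβ⟩ := exists_smul_add_of_commute hXY hns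
  have hdX := x.2
  have hdY := y.2
  rw [hαβ] at hdY ⊢
  rw [Matrix.det_fin_two] at hdX hdY
  rw [Matrix.trace_fin_two] at htr ⊢
  simp only [Matrix.add_apply, Matrix.smul_apply, Matrix.one_apply_eq, smul_eq_mul, mul_one,
    Matrix.one_apply_ne (show (0 : Fin 2) ≠ 1 by decide),
    Matrix.one_apply_ne (show (1 : Fin 2) ≠ 0 by decide), mul_zero, zero_add] at hdY ⊢
  linear_combination 4 * hdY - 4 * β ^ 2 * hdX +
    (β ^ 2 * ((x : Matrix (Fin 2) (Fin 2) F) 0 0 +
      (x : Matrix (Fin 2) (Fin 2) F) 1 1 + 2)) * htr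

/-- an involution of `SL(2, F)` is `±1` -/
theorem eq_one_or_neg_one_of_mul_self {y : SpecialLinearGroup (Fin 2) F} (h2 : (2 : F) ≠ 0)
    (h : y * y = 1) : y = 1 ∨ y = -1 := by
  have hCH := cayley_hamilton (y : Matrix (Fin 2) (Fin 2) F)
  have hyy : (y : Matrix (Fin 2) (Fin 2) F) * (y : Matrix (Fin 2) (Fin 2) F) = 1 := by
    rw [← Matrix.SpecialLinearGroup.coe_mul, h, Matrix.SpecialLinearGroup.coe_one]
  rw [hyy, y.2, one_smul] at hCH
  set t := (y : Matrix (Fin 2) (Fin 2) F).trace with ht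
  have h1 : t • (y : Matrix (Fin 2) (Fin 2) F) = (2 : F) • (1 : Matrix (Fin 2) (Fin 2) F) := by
    rw [two_smul]
    have := hCH
    rw [eq_sub_iff_add_eq] at this
    exact this.symm
  have ht0 : t ≠ 0 := by
    intro h0
    rw [h0, zero_smul] at h1
    have := congrFun (congrFun h1 0) 0
    simp only [Matrix.zero_apply, Matrix.smul_apply, Matrix.one_apply_eq, smul_eq_mul,
      mul_one] at this
    exact h2 this.symm
  have h3 : (y : Matrix (Fin 2) (Fin 2) F) = (2 / t) • (1 : Matrix (Fin 2) (Fin 2) F) := by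
    have : (y : Matrix (Fin 2) (Fin 2) F) = t⁻¹ • (t • (y : Matrix (Fin 2) (Fin 2) F)) := by
      rw [smul_smul, inv_mul_cancel₀ ht0, one_smul]
    rw [this, h1, smul_smul, div_eq_inv_mul]
  have hd := y.2
  rw [h3, Matrix.det_smul, Matrix.det_one, mul_one, Fintype.card_fin] at hd
  have h4 : (2 / t - 1) * (2 / t + 1) = 0 := by linear_combination hd
  rcases mul_eq_zero.1 h4 with h5 | h5
  · left
    apply Subtype.ext
    rw [h3, sub_eq_zero.1 h5, one_smul, Matrix.SpecialLinearGroup.coe_one]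
  · right
    apply Subtype.ext
    rw [h3, eq_neg_of_add_eq_zero_left h5, neg_smul, one_smul, Matrix.SpecialLinearGroup.coe_neg,
      Matrix.SpecialLinearGroup.coe_one]

/-- the `(1,0)` entry used in the doubly transitive case -/
theorem entry_10_of_00 {w : SpecialLinearGroup (Fin 2) F}
    (h00 : (w : Matrix (Fin 2) (Fin 2) F) 0 0 = 0) (a b : F) :
    ((w⁻¹ * (upperSL2 a * lowerSL2 b) : SpecialLinearGroup (Fin 2) F) :
      Matrix (Fin 2) (Fin 2) F) 1 0 = -((w : Matrix (Fin 2) (Fin 2) F) 1 0) * (1 + a * b) := by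
  rw [Matrix.SpecialLinearGroup.coe_mul, Matrix.SpecialLinearGroup.coe_mul,
    Matrix.SpecialLinearGroup.coe_inv, Matrix.adjugate_fin_two, upperSL2_apply, lowerSL2_apply,
    Matrix.mul_fin_two, Matrix.mul_fin_two, h00]
  simp only [Matrix.of_apply, Matrix.cons_val', Matrix.cons_val_zero, Matrix.cons_val_one,
    Matrix.cons_val_fin_one]
  ring

theorem ne_zero_10_of_00 {w : SpecialLinearGroup (Fin 2) F}
    (h00 : (w : Matrix (Fin 2) (Fin 2) F) 0 0 = 0) : (w : Matrix (Fin 2) (Fin 2) F) 1 0 ≠ 0 := by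
  intro h
  have hdet := w.2
  rw [Matrix.det_fin_two, h00, h, zero_mul, mul_zero, sub_zero] at hdet
  exact zero_ne_one hdet

/-- conjugating by a suitable upper unitriangular matrix kills the `(0,0)` entry -/
theorem conj_00 (w : SpecialLinearGroup (Fin 2) F)
    (hc : (w : Matrix (Fin 2) (Fin 2) F) 1 0 ≠ 0) :
    ((upperSL2 (-((w : Matrix (Fin 2) (Fin 2) F) 0 0 / (w : Matrix (Fin 2) (Fin 2) F) 1 0)) * w *
      (upperSL2 (-((w : Matrix (Fin 2) (Fin 2) F) 0 0 / (w : Matrix (Fin 2) (Fin 2) F) 1 0)))⁻¹ :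
      SpecialLinearGroup (Fin 2) F) : Matrix (Fin 2) (Fin 2) F) 0 0 = 0 := by
  rw [upperSL2_inv, Matrix.SpecialLinearGroup.coe_mul, Matrix.SpecialLinearGroup.coe_mul,
    upperSL2_apply, upperSL2_apply, Matrix.eta_fin_two (w : Matrix (Fin 2) (Fin 2) F),
    Matrix.mul_fin_two, Matrix.mul_fin_two]
  simp only [Matrix.of_apply, Matrix.cons_val', Matrix.cons_val_zero, Matrix.cons_val_one,
    Matrix.cons_val_fin_one]
  field_simp
  ring

/-- every non-trivial element of trace `2` is conjugate to an upper unitriangular matrix -/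
theorem exists_conj_upper {x : SpecialLinearGroup (Fin 2) F}
    (htr : (x : Matrix (Fin 2) (Fin 2) F).trace = 2) (hx1 : x ≠ 1) :
    ∃ (t : SpecialLinearGroup (Fin 2) F) (s : F), s ≠ 0 ∧ t * x * t⁻¹ = upperSL2 s := by
  have hdet := x.2
  rw [Matrix.det_fin_two] at hdet
  rw [Matrix.trace_fin_two] at htr
  have key : ∀ y : SpecialLinearGroup (Fin 2) F, y ≠ 1 → y ∈ unipSL2 F →
      ∃ s : F, s ≠ 0 ∧ y = upperSL2 s := by
    intro y hy1 hy
    refine ⟨(y : Matrix (Fin 2) (Fin 2) F) 0 1, ?_, eq_upperSL2_of_mem hy⟩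
    intro h0
    apply hy1
    rw [eq_upperSL2_of_mem hy, h0, upperSL2_zero]
  by_cases hc : (x : Matrix (Fin 2) (Fin 2) F) 1 0 = 0
  · -- already upper triangular
    have h00 : (x : Matrix (Fin 2) (Fin 2) F) 0 0 = 1 := by
      rw [hc, mul_zero, sub_zero] at hdet
      have : ((x : Matrix (Fin 2) (Fin 2) F) 0 0 - 1) ^ 2 = 0 := by
        linear_combination (x : Matrix (Fin 2) (Fin 2) F) 0 0 * htr - hdet
      exact sub_eq_zero.1 (pow_eq_zero_iff (two_ne_zero) |>.1 this)
    obtain ⟨s, hs, hxs⟩ := key x hx1 (mem_unip_of_borel hc h00)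
    exact ⟨1, s, hs, by rw [one_mul, inv_one, mul_one, hxs]⟩
  · -- conjugate by the matrix with first column the fixed vector
    set c := (x : Matrix (Fin 2) (Fin 2) F) 1 0 with hcdef
    set d := (x : Matrix (Fin 2) (Fin 2) F) 1 1 with hddef
    let t : SpecialLinearGroup (Fin 2) F := ⟨!![0, c⁻¹; -c, 1 - d], by
      rw [Matrix.det_fin_two_of]
      field_simp
      ring⟩
    have hmem : t * x * t⁻¹ ∈ unipSL2 F := by
      have hcoe : ((t * x * t⁻¹ : SpecialLinearGroup (Fin 2) F) : Matrix (Fin 2) (Fin 2) F) =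
          !![0, c⁻¹; -c, 1 - d] * (x : Matrix (Fin 2) (Fin 2) F) * !![1 - d, -c⁻¹; c, 0] := by
        rw [Matrix.SpecialLinearGroup.coe_mul, Matrix.SpecialLinearGroup.coe_mul,
          Matrix.SpecialLinearGroup.coe_inv]
        show !![0, c⁻¹; -c, 1 - d] * (x : Matrix (Fin 2) (Fin 2) F) *
          Matrix.adjugate !![0, c⁻¹; -c, 1 - d] = _
        rw [Matrix.adjugate_fin_two_of]
        congr 2
        simp
      have h2 : t * x * t⁻¹ ∈ borelSL2 F ∧
          ((t * x * t⁻¹ : SpecialLinearGroup (Fin 2) F) : Matrix (Fin 2) (Fin 2) F) 0 0 = 1 := by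
        rw [mem_borelSL2, hcoe, Matrix.eta_fin_two (x : Matrix (Fin 2) (Fin 2) F),
          Matrix.mul_fin_two, Matrix.mul_fin_two]
        simp only [Matrix.of_apply, Matrix.cons_val', Matrix.cons_val_zero, Matrix.cons_val_one,
          Matrix.cons_val_fin_one]
        constructor
        · rw [← hcdef, ← hddef]
          linear_combination c * hdet - c * htr
        · rw [← hcdef, ← hddef]
          field_simp
          ring
      exact mem_unip_of_borel h2.1 h2.2
    have hne : t * x * t⁻¹ ≠ 1 := by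
      intro h
      apply hx1
      have : x = t⁻¹ * (t * x * t⁻¹) * t := by group
      rw [this, h]; group
    obtain ⟨s, hs, hxs⟩ := key _ hne hmem
    exact ⟨t, s, hs, hxs⟩

end Mat


section Gen

variable {F : Type*} [Field F]

/-- `SL(2, F)` is generated by the upper and lower unitriangular matrices -/
theorem eq_top_of_upper_lower (K : Subgroup (SpecialLinearGroup (Fin 2) F))
    (hu : ∀ a : F, upperSL2 a ∈ K) (hl : ∀ b : F, lowerSL2 b ∈ K) : K = ⊤ := by
  have key : ∀ g : SpecialLinearGroup (Fin 2) F, (g : Matrix (Fin 2) (Fin 2) F) 1 0 ≠ 0 →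
      g ∈ K := by
    intro g hc
    have hdet := g.2
    rw [Matrix.det_fin_two] at hdet
    have e : g = upperSL2 (((g : Matrix (Fin 2) (Fin 2) F) 0 0 - 1) /
        (g : Matrix (Fin 2) (Fin 2) F) 1 0) * lowerSL2 ((g : Matrix (Fin 2) (Fin 2) F) 1 0) *
        upperSL2 (((g : Matrix (Fin 2) (Fin 2) F) 1 1 - 1) /
          (g : Matrix (Fin 2) (Fin 2) F) 1 0) := by
      apply Subtype.ext
      rw [Matrix.SpecialLinearGroup.coe_mul, Matrix.SpecialLinearGroup.coe_mul, upperSL2_apply,
        upperSL2_apply, lowerSL2_apply, Matrix.mul_fin_two, Matrix.mul_fin_two]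
      refine (Matrix.eta_fin_two (g : Matrix (Fin 2) (Fin 2) F)).trans ?_
      apply mat_fin_two_congr
      · field_simp
        ring
      · field_simp
        linear_combination (-1 : F) * hdet
      · ring
      · field_simp
        ring
    rw [e]
    exact K.mul_mem (K.mul_mem (hu _) (hl _)) (hu _)
  rw [eq_top_iff]
  intro g _
  by_cases hc : (g : Matrix (Fin 2) (Fin 2) F) 1 0 = 0
  · have h1 : ((lowerSL2 1 * g : SpecialLinearGroup (Fin 2) F) : Matrix (Fin 2) (Fin 2) F) 1 0 ≠ 0 := by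
      rw [Matrix.SpecialLinearGroup.coe_mul, lowerSL2_apply, Matrix.mul_apply, Fin.sum_univ_two, hc]
      simp only [Matrix.of_apply, Matrix.cons_val', Matrix.cons_val_zero, Matrix.cons_val_one,
        Matrix.cons_val_fin_one, one_mul, mul_zero, add_zero]
      intro h0
      have hdet := g.2
      rw [Matrix.det_fin_two, hc, h0, zero_mul, mul_zero, sub_zero] at hdet
      exact zero_ne_one hdet
    have h2 := key _ h1
    have e : g = (lowerSL2 1)⁻¹ * (lowerSL2 1 * g) := by group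
    rw [e]
    exact K.mul_mem (K.inv_mem (hl 1)) h2
  · exact key g hc

end Gen

section CharPsec

variable {F : Type*} [Field F] {p : ℕ} [hp : Fact p.Prime] [CharP F p]

/-- an element of `SL(2, F)` of trace `±2` has `p`-th power `±1` -/
theorem pow_p_of_trace_sq (hp2 : p ≠ 2) {y : SpecialLinearGroup (Fin 2) F}
    (ht : (y : Matrix (Fin 2) (Fin 2) F).trace ^ 2 = 4) : y ^ p = 1 ∨ y ^ p = -1 := by
  have hCH := cayley_hamilton (y : Matrix (Fin 2) (Fin 2) F)
  rw [y.2, one_smul] at hCH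
  have ht' : ((y : Matrix (Fin 2) (Fin 2) F).trace - 2) *
      ((y : Matrix (Fin 2) (Fin 2) F).trace + 2) = 0 := by linear_combination ht
  have hpF : ∀ M : Matrix (Fin 2) (Fin 2) F, p • M = 0 := by
    intro M
    rw [← Nat.cast_smul_eq_nsmul F, CharP.cast_eq_zero F p, zero_smul]
  rcases mul_eq_zero.1 ht' with h | h
  · left
    have ht2 : (y : Matrix (Fin 2) (Fin 2) F).trace = 2 := by linear_combination h
    rw [ht2] at hCH
    have hq : ((y : Matrix (Fin 2) (Fin 2) F) - 1) * ((y : Matrix (Fin 2) (Fin 2) F) - 1) = 0 := by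
      have : ((y : Matrix (Fin 2) (Fin 2) F) - 1) * ((y : Matrix (Fin 2) (Fin 2) F) - 1) =
          (y : Matrix (Fin 2) (Fin 2) F) * (y : Matrix (Fin 2) (Fin 2) F) -
            (2 : F) • (y : Matrix (Fin 2) (Fin 2) F) + 1 := by
        rw [two_smul]; noncomm_ring
      rw [this, hCH]; abel
    have h3 := ring_quad_pow hq p
    rw [hpF, add_zero] at h3
    apply Subtype.ext
    rw [Matrix.SpecialLinearGroup.coe_pow, h3, Matrix.SpecialLinearGroup.coe_one]
  · right
    have ht2 : (y : Matrix (Fin 2) (Fin 2) F).trace = -2 := by linear_combination h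
    rw [ht2] at hCH
    have hq : (-(y : Matrix (Fin 2) (Fin 2) F) - 1) * (-(y : Matrix (Fin 2) (Fin 2) F) - 1) = 0 := by
      have : (-(y : Matrix (Fin 2) (Fin 2) F) - 1) * (-(y : Matrix (Fin 2) (Fin 2) F) - 1) =
          (y : Matrix (Fin 2) (Fin 2) F) * (y : Matrix (Fin 2) (Fin 2) F) -
            (-2 : F) • (y : Matrix (Fin 2) (Fin 2) F) + 1 := by
        rw [neg_smul, two_smul]; noncomm_ring
      rw [this, hCH]; abel
    have h3 := ring_quad_pow hq p
    rw [hpF, add_zero] at h3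
    have hodd : Odd p := hp.out.odd_of_ne_two hp2
    rw [Odd.neg_pow hodd] at h3
    apply Subtype.ext
    rw [Matrix.SpecialLinearGroup.coe_pow, Matrix.SpecialLinearGroup.coe_neg,
      Matrix.SpecialLinearGroup.coe_one, ← h3, neg_neg]

/-- the matrix part of the twisted embedding -/
noncomputable def twistMat (p : ℕ) [Fact p.Prime] [CharP F p] (a : F)
    (M : Matrix (Fin 2) (Fin 2) (ZMod p)) : Matrix (Fin 2) (Fin 2) F :=
  !![ZMod.castHom (dvd_refl p) F (M 0 0), a * ZMod.castHom (dvd_refl p) F (M 0 1);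
    a⁻¹ * ZMod.castHom (dvd_refl p) F (M 1 0), ZMod.castHom (dvd_refl p) F (M 1 1)]

theorem twistMat_one (a : F) : twistMat p a (1 : Matrix (Fin 2) (Fin 2) (ZMod p)) = 1 := by
  unfold twistMat
  simp only [Matrix.one_apply_eq, map_one,
    Matrix.one_apply_ne (show (0 : Fin 2) ≠ 1 by decide),
    Matrix.one_apply_ne (show (1 : Fin 2) ≠ 0 by decide), map_zero, mul_zero]
  exact Matrix.one_fin_two.symm

theorem twistMat_mul {a : F} (ha : a ≠ 0) (M N : Matrix (Fin 2) (Fin 2) (ZMod p)) :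
    twistMat p a (M * N) = twistMat p a M * twistMat p a N := by
  have haa : a * a⁻¹ = 1 := mul_inv_cancel₀ ha
  unfold twistMat
  simp only [Matrix.mul_apply, Fin.sum_univ_two, map_add, map_mul]
  rw [Matrix.mul_fin_two]
  apply mat_fin_two_congr
  · linear_combination (-(ZMod.castHom (dvd_refl p) F (M 0 1)
      * ZMod.castHom (dvd_refl p) F (N 1 0))) * haa
  · ring
  · ring
  · linear_combination (-(ZMod.castHom (dvd_refl p) F (M 1 0)
      * ZMod.castHom (dvd_refl p) F (N 0 1))) * haa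

theorem det_twistMat {a : F} (ha : a ≠ 0) (M : Matrix (Fin 2) (Fin 2) (ZMod p)) :
    (twistMat p a M).det = ZMod.castHom (dvd_refl p) F M.det := by
  have haa : a * a⁻¹ = 1 := mul_inv_cancel₀ ha
  unfold twistMat
  rw [Matrix.det_fin_two_of, Matrix.det_fin_two, map_sub, map_mul, map_mul]
  linear_combination (-(ZMod.castHom (dvd_refl p) F (M 0 1)
      * ZMod.castHom (dvd_refl p) F (M 1 0))) * haa

/-- the twisted embedding `SL(2, ZMod p) → SL(2, F)`, conjugation by `diag(a, 1)` -/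
noncomputable def twist (p : ℕ) [Fact p.Prime] [CharP F p] (a : F) (ha : a ≠ 0) :
    SpecialLinearGroup (Fin 2) (ZMod p) →* SpecialLinearGroup (Fin 2) F where
  toFun g := ⟨twistMat p a (g : Matrix (Fin 2) (Fin 2) (ZMod p)), by
    rw [det_twistMat ha, g.2, map_one]⟩
  map_one' := by
    apply Subtype.ext
    show twistMat p a ((1 : SpecialLinearGroup (Fin 2) (ZMod p)) :
      Matrix (Fin 2) (Fin 2) (ZMod p)) = ((1 : SpecialLinearGroup (Fin 2) F) :
      Matrix (Fin 2) (Fin 2) F)
    rw [Matrix.SpecialLinearGroup.coe_one, twistMat_one, Matrix.SpecialLinearGroup.coe_one]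
  map_mul' := by
    intro g h
    apply Subtype.ext
    show twistMat p a ((g * h : SpecialLinearGroup (Fin 2) (ZMod p)) :
      Matrix (Fin 2) (Fin 2) (ZMod p)) = twistMat p a (g : Matrix (Fin 2) (Fin 2) (ZMod p)) *
        twistMat p a (h : Matrix (Fin 2) (Fin 2) (ZMod p))
    rw [Matrix.SpecialLinearGroup.coe_mul, twistMat_mul ha]

theorem twist_coe (a : F) (ha : a ≠ 0) (g : SpecialLinearGroup (Fin 2) (ZMod p)) :
    ((twist p a ha g : SpecialLinearGroup (Fin 2) F) : Matrix (Fin 2) (Fin 2) F) =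
      twistMat p a (g : Matrix (Fin 2) (Fin 2) (ZMod p)) := rfl

theorem twist_injective (a : F) (ha : a ≠ 0) : Function.Injective (twist p a ha) := by
  intro g h hgh
  have h1 := congrArg (fun M : SpecialLinearGroup (Fin 2) F => (M : Matrix (Fin 2) (Fin 2) F)) hgh
  simp only [twist_coe] at h1
  unfold twistMat at h1
  obtain ⟨e00, e01, e10, e11⟩ := mat_fin_two_inj h1
  have hinj := (ZMod.castHom (dvd_refl p) F).injective
  have hai : a⁻¹ ≠ 0 := inv_ne_zero ha
  apply Subtype.ext
  rw [Matrix.eta_fin_two (g : Matrix (Fin 2) (Fin 2) (ZMod p)),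
    Matrix.eta_fin_two (h : Matrix (Fin 2) (Fin 2) (ZMod p))]
  apply mat_fin_two_congr
  · exact hinj e00
  · exact hinj (mul_left_cancel₀ ha e01)
  · exact hinj (mul_left_cancel₀ hai e10)
  · exact hinj e11

theorem twist_upper (a : F) (ha : a ≠ 0) : twist p a ha (upperSL2 1) = upperSL2 a := by
  apply Subtype.ext
  rw [twist_coe, upperSL2_apply, upperSL2_apply]
  unfold twistMat
  apply mat_fin_two_congr <;> simp

theorem twist_lower (a : F) (ha : a ≠ 0) : twist p a ha (lowerSL2 1) = lowerSL2 a⁻¹ := by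
  apply Subtype.ext
  rw [twist_coe, lowerSL2_apply, lowerSL2_apply]
  unfold twistMat
  apply mat_fin_two_congr <;> simp

/-- `SL(2, ZMod p)` is generated by the two elementary matrices -/
theorem closure_upper_lower_zmod :
    Subgroup.closure {upperSL2 (1 : ZMod p), lowerSL2 (1 : ZMod p)} = ⊤ := by
  apply eq_top_of_upper_lower
  · intro a
    have : upperSL2 a = upperSL2 (1 : ZMod p) ^ a.val := by
      rw [upperSL2_pow, nsmul_eq_mul, mul_one, ZMod.natCast_zmod_val]
    rw [this]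
    exact Subgroup.pow_mem _ (Subgroup.subset_closure (by simp)) _
  · intro b
    have : lowerSL2 b = lowerSL2 (1 : ZMod p) ^ b.val := by
      rw [lowerSL2_pow, nsmul_eq_mul, mul_one, ZMod.natCast_zmod_val]
    rw [this]
    exact Subgroup.pow_mem _ (Subgroup.subset_closure (by simp)) _

/-- a subgroup containing `[[1, a], [0, 1]]` and `[[1, 0], [a⁻¹, 1]]` contains a copy of
`SL(2, p)` -/
theorem exists_copy_of_upper_lower (H : Subgroup (SpecialLinearGroup (Fin 2) F)) {a : F}
    (ha : a ≠ 0) (hu : upperSL2 a ∈ H) (hl : lowerSL2 a⁻¹ ∈ H) :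
    ∃ K : Subgroup (SpecialLinearGroup (Fin 2) F), K ≤ H ∧
      Nonempty (K ≃* SpecialLinearGroup (Fin 2) (ZMod p)) := by
  refine ⟨(twist p a ha).range, ?_, ⟨(MonoidHom.ofInjective (twist_injective a ha)).symm⟩⟩
  rw [MonoidHom.range_eq_map, ← closure_upper_lower_zmod, MonoidHom.map_closure,
    Subgroup.closure_le]
  rintro _ ⟨g, hg, rfl⟩
  rcases hg with rfl | rfl
  · rw [twist_upper]; exact hu
  · rw [twist_lower]; exact hl

end CharPsec

end Cfsg.H5.Dickson
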