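import Mathlib

/-!
# The class equation of a group whose non-central elements have abelian centralizers

`CT Γ`: centralizers of non-central elements are abelian.  For such a group the non-central
elements are partitioned into the classes `Cl x` (elements whose centralizer is conjugate to
`C(x)`), and `|Cl x| * |N(C(x))| = |Γ| * (|C(x)| - |Z(Γ)|)`.

`klein_main` is the numerical analysis of the class equation used for Dickson's theorem on
subgroups of `SL(2, q)` with a non-normal Sylow `p`-subgroup.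
-/

set_option autoImplicit false

namespace Cfsg.H5.Klein

open Subgroup

section Count

variable {Γ : Type*} [Group Γ]

/-- the number of elements outside the normal subgroup `Z` that are conjugate into `A`, where
`A` is "TI modulo `Z`" -/
theorem card_conjSet [Finite Γ] (A Z : Subgroup Γ) [hZ : Z.Normal] (hZA : Z ≤ A)
    (hTI : ∀ g x : Γ, x ∈ A → x ∉ Z → g * x * g⁻¹ ∈ A → g ∈ normalizer (A : Set Γ)) :
    Nat.card {x : Γ | x ∉ Z ∧ ∃ g : Γ, g * x * g⁻¹ ∈ A} * Nat.card (normalizer (A : Set Γ))
      = Nat.card Γ * (Nat.card A - Nat.card Z) := by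
  classical
  let _ : Fintype Γ := Fintype.ofFinite Γ
  set N : Subgroup Γ := normalizer (A : Set Γ) with hN
  let r : Γ → Γ → Prop := fun g x => x ∉ Z ∧ g * x * g⁻¹ ∈ A
  have hconjZ : ∀ g x : Γ, x ∉ Z → g * x * g⁻¹ ∉ Z := by
    intro g x hx h
    apply hx
    have h1 := hZ.conj_mem _ h g⁻¹
    have h2 : g⁻¹ * (g * x * g⁻¹) * g⁻¹⁻¹ = x := by group
    rwa [h2] at h1
  have hcomm : ∑ g : Γ, (Finset.univ.filter (fun x => r g x)).card
      = ∑ x : Γ, (Finset.univ.filter (fun g => r g x)).card := by
    simp_rw [Finset.card_filter]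
    exact Finset.sum_comm
  -- the rows
  have hrow : ∀ g : Γ, (Finset.univ.filter (fun x => r g x)).card = Nat.card A - Nat.card Z := by
    intro g
    have h1 : (Finset.univ.filter (fun x => r g x)).card
        = (Finset.univ.filter (fun a : Γ => a ∈ A ∧ a ∉ Z)).card := by
      apply Finset.card_nbij' (fun x => g * x * g⁻¹) (fun a => g⁻¹ * a * g)
      · intro x hx
        have hx' := (Finset.mem_filter.1 hx).2
        exact Finset.mem_filter.2 ⟨Finset.mem_univ _, hx'.2, hconjZ g x hx'.1⟩
      · intro a ha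
        have ha' := (Finset.mem_filter.1 ha).2
        refine Finset.mem_filter.2 ⟨Finset.mem_univ _, ?_, ?_⟩
        · have := hconjZ g⁻¹ a ha'.2
          rwa [inv_inv] at this
        · have : g * (g⁻¹ * a * g) * g⁻¹ = a := by group
          rw [this]; exact ha'.1
      · intro x _
        show g⁻¹ * (g * x * g⁻¹) * g = x
        group
      · intro a _
        show g * (g⁻¹ * a * g) * g⁻¹ = a
        group
    rw [h1]
    have h2 : (Finset.univ.filter (fun a : Γ => a ∈ A ∧ a ∉ Z))
        = (Finset.univ.filter (fun a : Γ => a ∈ A)) \ (Finset.univ.filter (fun a : Γ => a ∈ Z)) := by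
      ext a
      simp only [Finset.mem_filter, Finset.mem_univ, true_and, Finset.mem_sdiff]
    have h3 : (Finset.univ.filter (fun a : Γ => a ∈ Z)) ⊆ (Finset.univ.filter (fun a : Γ => a ∈ A)) := by
      intro a ha
      simp only [Finset.mem_filter, Finset.mem_univ, true_and] at ha ⊢
      exact hZA ha
    have h4 := Finset.card_sdiff_add_card_eq_card h3
    have h5 : Nat.card A = (Finset.univ.filter (fun a : Γ => a ∈ A)).card := by
      rw [Nat.card_eq_fintype_card, Fintype.card_subtype]
    have h6 : Nat.card Z = (Finset.univ.filter (fun a : Γ => a ∈ Z)).card := by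
      rw [Nat.card_eq_fintype_card, Fintype.card_subtype]
    rw [h2, h5, h6]
    omega
  -- the columns
  have hcol : ∀ x : Γ, (Finset.univ.filter (fun g => r g x)).card
      = if x ∈ {x : Γ | x ∉ Z ∧ ∃ g : Γ, g * x * g⁻¹ ∈ A} then Nat.card N else 0 := by
    intro x
    split_ifs with hx
    · obtain ⟨hx1, g₀, hg₀⟩ := hx
      have h1 : (Finset.univ.filter (fun g => r g x)).card
          = (Finset.univ.filter (fun n : Γ => n ∈ N)).card := by
        apply Finset.card_nbij' (fun g => g * g₀⁻¹) (fun n => n * g₀)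
        · intro g hg
          have hg' := (Finset.mem_filter.1 hg).2
          refine Finset.mem_filter.2 ⟨Finset.mem_univ _, ?_⟩
          apply hTI (g * g₀⁻¹) (g₀ * x * g₀⁻¹) hg₀ (hconjZ g₀ x hx1)
          have : g * g₀⁻¹ * (g₀ * x * g₀⁻¹) * (g * g₀⁻¹)⁻¹ = g * x * g⁻¹ := by group
          rw [this]; exact hg'.2
        · intro n hn
          have hn' : n ∈ N := (Finset.mem_filter.1 hn).2
          refine Finset.mem_filter.2 ⟨Finset.mem_univ _, hx1, ?_⟩
          have : n * g₀ * x * (n * g₀)⁻¹ = n * (g₀ * x * g₀⁻¹) * n⁻¹ := by group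
          rw [this]
          exact (Subgroup.mem_normalizer_iff.1 hn' _).1 hg₀
        · intro g _
          show g * g₀⁻¹ * g₀ = g
          group
        · intro n _
          show n * g₀ * g₀⁻¹ = n
          group
      rw [h1, Nat.card_eq_fintype_card, Fintype.card_subtype]
    · rw [Finset.card_eq_zero, Finset.filter_eq_empty_iff]
      intro g _ hg
      exact hx ⟨hg.1, g, hg.2⟩
  simp_rw [hrow, hcol] at hcomm
  rw [Finset.sum_const, Finset.card_univ, smul_eq_mul, Finset.sum_ite, Finset.sum_const_zero,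
    add_zero, Finset.sum_const, smul_eq_mul] at hcomm
  rw [Nat.card_eq_fintype_card (α := Γ), hcomm]
  congr 1
  rw [Nat.card_eq_fintype_card, Fintype.card_subtype]

/-- orbit–stabilizer for the conjugation action of a subgroup `K` on an element `x` -/
theorem card_conj_orbit [Finite Γ] (K : Subgroup Γ) (x : Γ) :
    Nat.card {y : Γ | ∃ k ∈ K, y = k * x * k⁻¹} *
      Nat.card (K ⊓ centralizer ({x} : Set Γ) : Subgroup Γ) = Nat.card K := by
  classical
  let _ : Fintype Γ := Fintype.ofFinite Γ
  set C : Subgroup Γ := K ⊓ centralizer ({x} : Set Γ) with hC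
  let r : Γ → Γ → Prop := fun k y => k ∈ K ∧ y = k * x * k⁻¹
  have hcomm : ∑ k : Γ, (Finset.univ.filter (fun y => r k y)).card
      = ∑ y : Γ, (Finset.univ.filter (fun k => r k y)).card := by
    simp_rw [Finset.card_filter]
    exact Finset.sum_comm
  have hrow : ∀ k : Γ, (Finset.univ.filter (fun y => r k y)).card = if k ∈ K then 1 else 0 := by
    intro k
    split_ifs with hk
    · rw [Finset.card_eq_one]
      refine ⟨k * x * k⁻¹, ?_⟩
      ext y
      simp only [Finset.mem_filter, Finset.mem_univ, true_and, Finset.mem_singleton, r]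
      exact ⟨fun h => h.2, fun h => ⟨hk, h⟩⟩
    · rw [Finset.card_eq_zero, Finset.filter_eq_empty_iff]
      intro y _ hy
      exact hk hy.1
  have hcol : ∀ y : Γ, (Finset.univ.filter (fun k => r k y)).card
      = if y ∈ {y : Γ | ∃ k ∈ K, y = k * x * k⁻¹} then Nat.card C else 0 := by
    intro y
    split_ifs with hy
    · obtain ⟨k₀, hk₀, hy0⟩ := hy
      have h1 : (Finset.univ.filter (fun k => r k y)).card
          = (Finset.univ.filter (fun c : Γ => c ∈ C)).card := by
        apply Finset.card_nbij' (fun k => k₀⁻¹ * k) (fun c => k₀ * c)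
        · intro k hk
          have hk' := (Finset.mem_filter.1 hk).2
          refine Finset.mem_filter.2 ⟨Finset.mem_univ _, ?_⟩
          rw [hC, Subgroup.mem_inf, Subgroup.mem_centralizer_singleton_iff]
          refine ⟨K.mul_mem (K.inv_mem hk₀) hk'.1, ?_⟩
          have e1 : k * x * k⁻¹ = k₀ * x * k₀⁻¹ := by rw [← hk'.2, hy0]
          have e2 : x * (k₀⁻¹ * k) = k₀⁻¹ * (k₀ * x * k₀⁻¹) * k := by group
          have e3 : k₀⁻¹ * k * x = k₀⁻¹ * (k * x * k⁻¹) * k := by group
          rw [e2, e3, e1]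
        · intro c hc
          have hc' : c ∈ C := (Finset.mem_filter.1 hc).2
          rw [hC, Subgroup.mem_inf, Subgroup.mem_centralizer_singleton_iff] at hc'
          refine Finset.mem_filter.2 ⟨Finset.mem_univ _, K.mul_mem hk₀ hc'.1, ?_⟩
          have e1 : k₀ * c * x * (k₀ * c)⁻¹ = k₀ * (c * x) * c⁻¹ * k₀⁻¹ := by group
          rw [hy0, e1, hc'.2]
          group
        · intro k _
          show k₀ * (k₀⁻¹ * k) = k
          group
        · intro c _
          show k₀⁻¹ * (k₀ * c) = c
          group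
      rw [h1, Nat.card_eq_fintype_card, Fintype.card_subtype]
    · rw [Finset.card_eq_zero, Finset.filter_eq_empty_iff]
      intro k _ hk
      exact hy ⟨k, hk.1, hk.2⟩
  simp_rw [hrow, hcol] at hcomm
  rw [Finset.sum_ite, Finset.sum_const_zero, add_zero, Finset.sum_const, smul_eq_mul, mul_one,
    Finset.sum_ite, Finset.sum_const_zero, add_zero, Finset.sum_const, smul_eq_mul] at hcomm
  have h1 : Nat.card K = (Finset.univ.filter (fun k : Γ => k ∈ K)).card := by
    rw [Nat.card_eq_fintype_card, Fintype.card_subtype]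
  have h2 : Nat.card {y : Γ | ∃ k ∈ K, y = k * x * k⁻¹}
      = (Finset.univ.filter (fun y : Γ => y ∈ {y : Γ | ∃ k ∈ K, y = k * x * k⁻¹})).card := by
    rw [Nat.card_eq_fintype_card, Fintype.card_subtype]
  rw [h1, h2, hcomm]

end Count


section CTsec

variable {Γ : Type*} [Group Γ]

/-- centralizers of non-central elements are abelian -/
def CT (Γ : Type*) [Group Γ] : Prop :=
  ∀ x y w : Γ, x ∉ center Γ → Commute x y → Commute x w → Commute y w

/-- the non-central elements commuting with a conjugate of `x` -/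
def Cl (x : Γ) : Set Γ := {y | y ∉ center Γ ∧ ∃ h : Γ, Commute (h * x * h⁻¹) y}

theorem mem_Cl {x y : Γ} : y ∈ Cl x ↔ y ∉ center Γ ∧ ∃ h : Γ, Commute (h * x * h⁻¹) y := Iff.rfl

theorem mem_cent {x y : Γ} : y ∈ centralizer ({x} : Set Γ) ↔ Commute x y := by
  rw [Subgroup.mem_centralizer_singleton_iff]
  exact ⟨fun h => h.symm, fun h => h.symm⟩

theorem conj_not_mem_center {x : Γ} (hx : x ∉ center Γ) (h : Γ) : h * x * h⁻¹ ∉ center Γ := by
  intro hc
  apply hx
  have h1 := (inferInstance : (center Γ).Normal).conj_mem _ hc h⁻¹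
  have h2 : h⁻¹ * (h * x * h⁻¹) * h⁻¹⁻¹ = x := by group
  rwa [h2] at h1

theorem commute_conj_iff (x y h : Γ) : Commute (h * x * h⁻¹) y ↔ Commute x (h⁻¹ * y * h) := by
  constructor
  · intro e
    have e' : h * x * h⁻¹ * y = y * (h * x * h⁻¹) := e
    show x * (h⁻¹ * y * h) = h⁻¹ * y * h * x
    have e1 : x * (h⁻¹ * y * h) = h⁻¹ * (h * x * h⁻¹ * y) * h := by group
    rw [e1, e']
    group
  · intro e
    have e' : x * (h⁻¹ * y * h) = h⁻¹ * y * h * x := e
    show h * x * h⁻¹ * y = y * (h * x * h⁻¹)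
    have e1 : h * x * h⁻¹ * y = h * (x * (h⁻¹ * y * h)) * h⁻¹ := by group
    rw [e1, e']
    group

theorem commute_conj_conj {x y : Γ} (e : Commute x y) (h : Γ) :
    Commute (h * x * h⁻¹) (h * y * h⁻¹) := by
  rw [commute_conj_iff]
  have : h⁻¹ * (h * y * h⁻¹) * h = y := by group
  rw [this]
  exact e

theorem centralizer_eq_of_commute (hCT : CT Γ) {x y : Γ} (hx : x ∉ center Γ)
    (hy : y ∉ center Γ) (h : Commute x y) :
    centralizer ({x} : Set Γ) = centralizer {y} := by
  ext w
  rw [mem_cent, mem_cent]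
  exact ⟨fun hw => hCT x y w hx h hw, fun hw => hCT y x w hy h.symm hw⟩

theorem centralizer_conj (x h : Γ) : centralizer ({h * x * h⁻¹} : Set Γ) =
    (centralizer ({x} : Set Γ)).map (MulAut.conj h).toMonoidHom := by
  ext w
  rw [mem_cent, Subgroup.mem_map_equiv, mem_cent, MulAut.conj_symm_apply, commute_conj_iff]

theorem card_centralizer_conj (x h : Γ) : Nat.card (centralizer ({h * x * h⁻¹} : Set Γ)) =
    Nat.card (centralizer ({x} : Set Γ)) := by
  rw [centralizer_conj]
  exact Subgroup.card_map_of_injective (MulAut.conj h).injective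

theorem card_normalizer_centralizer_conj (x h : Γ) :
    Nat.card (normalizer (centralizer ({h * x * h⁻¹} : Set Γ) : Set Γ)) =
      Nat.card (normalizer (centralizer ({x} : Set Γ) : Set Γ)) := by
  rw [centralizer_conj, ← Subgroup.map_equiv_normalizer_eq]
  exact Subgroup.card_map_of_injective (MulAut.conj h).injective

theorem mem_Cl_self {x : Γ} (hx : x ∉ center Γ) : x ∈ Cl x :=
  ⟨hx, 1, by simp⟩

theorem centralizer_of_mem_Cl (hCT : CT Γ) {x y : Γ} (hx : x ∉ center Γ) (hy : y ∈ Cl x) :
    ∃ h : Γ, centralizer ({y} : Set Γ) = centralizer {h * x * h⁻¹} := by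
  obtain ⟨hy1, h, hh⟩ := hy
  exact ⟨h, (centralizer_eq_of_commute hCT (conj_not_mem_center hx h) hy1 hh).symm⟩

theorem card_centralizer_of_mem_Cl (hCT : CT Γ) {x y : Γ} (hx : x ∉ center Γ) (hy : y ∈ Cl x) :
    Nat.card (centralizer ({y} : Set Γ)) = Nat.card (centralizer ({x} : Set Γ)) := by
  obtain ⟨h, hh⟩ := centralizer_of_mem_Cl hCT hx hy
  rw [hh, card_centralizer_conj]

theorem card_normalizer_of_mem_Cl (hCT : CT Γ) {x y : Γ} (hx : x ∉ center Γ) (hy : y ∈ Cl x) :
    Nat.card (normalizer (centralizer ({y} : Set Γ) : Set Γ)) =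
      Nat.card (normalizer (centralizer ({x} : Set Γ) : Set Γ)) := by
  obtain ⟨h, hh⟩ := centralizer_of_mem_Cl hCT hx hy
  rw [hh, card_normalizer_centralizer_conj]

theorem Cl_eq_of_mem (hCT : CT Γ) {x y : Γ} (hx : x ∉ center Γ) (hy : y ∈ Cl x) :
    Cl y = Cl x := by
  obtain ⟨hy1, h, hh⟩ := hy
  ext w
  constructor
  · rintro ⟨hw, k, hk⟩
    refine ⟨hw, k * h, ?_⟩
    have e1 : k * h * x * (k * h)⁻¹ = k * (h * x * h⁻¹) * k⁻¹ := by group
    rw [e1]
    exact hCT (k * y * k⁻¹) _ _ (conj_not_mem_center hy1 k) (commute_conj_conj hh k).symm hk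
  · rintro ⟨hw, k, hk⟩
    refine ⟨hw, k * h⁻¹, ?_⟩
    have e1 : k * x * k⁻¹ = (k * h⁻¹) * (h * x * h⁻¹) * (k * h⁻¹)⁻¹ := by group
    have e2 := commute_conj_conj hh (k * h⁻¹)
    rw [← e1] at e2
    exact hCT (k * x * k⁻¹) _ _ (conj_not_mem_center hx k) e2 hk

theorem Cl_disjoint (hCT : CT Γ) {x y : Γ} (hx : x ∉ center Γ) (hy : y ∉ center Γ)
    (hyx : y ∉ Cl x) : Disjoint (Cl x) (Cl y) := by
  rw [Set.disjoint_left]
  intro w hwx hwy
  apply hyx
  rw [← Cl_eq_of_mem hCT hx hwx, Cl_eq_of_mem hCT hy hwy]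
  exact mem_Cl_self hy

theorem Cl_subset_not_center (x : Γ) : ∀ y ∈ Cl x, y ∉ center Γ := fun _ h => h.1

/-- the class count -/
theorem card_Cl [Finite Γ] (hCT : CT Γ) {x : Γ} (hx : x ∉ center Γ) :
    Nat.card (Cl x) * Nat.card (normalizer (centralizer ({x} : Set Γ) : Set Γ)) =
      Nat.card Γ * (Nat.card (centralizer ({x} : Set Γ)) - Nat.card (center Γ)) := by
  have hTI : ∀ g y : Γ, y ∈ centralizer ({x} : Set Γ) → y ∉ center Γ →
      g * y * g⁻¹ ∈ centralizer ({x} : Set Γ) →
      g ∈ normalizer (centralizer ({x} : Set Γ) : Set Γ) := by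
    intro g y hy hyZ hgy
    rw [mem_cent] at hy hgy
    have h1 := centralizer_eq_of_commute hCT hx hyZ hy
    have h2 := centralizer_eq_of_commute hCT hx (conj_not_mem_center hyZ g) hgy
    rw [centralizer_conj, ← h1] at h2
    rw [Subgroup.mem_normalizer_iff]
    intro w
    constructor
    · intro hw
      rw [h2]
      exact ⟨w, hw, rfl⟩
    · intro hw
      rw [h2, Subgroup.mem_map_equiv, MulAut.conj_symm_apply] at hw
      have e : g⁻¹ * (g * w * g⁻¹) * g = w := by group
      rwa [e] at hw
  have h1 := card_conjSet (centralizer ({x} : Set Γ)) (center Γ)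
    (Subgroup.center_le_centralizer _) hTI
  have h2 : {y : Γ | y ∉ center Γ ∧ ∃ g : Γ, g * y * g⁻¹ ∈ centralizer ({x} : Set Γ)} = Cl x := by
    ext y
    simp only [Set.mem_ofPred_eq, Cl]
    constructor
    · rintro ⟨hy, g, hg⟩
      refine ⟨hy, g⁻¹, ?_⟩
      rw [mem_cent] at hg
      rw [commute_conj_iff, inv_inv]
      exact hg
    · rintro ⟨hy, g, hg⟩
      refine ⟨hy, g⁻¹, ?_⟩
      rw [mem_cent]
      rw [commute_conj_iff] at hg
      rw [inv_inv]
      exact hg
  rw [h2] at h1
  exact h1

/-- the class count, without subtraction -/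
theorem card_Cl' [Finite Γ] (hCT : CT Γ) {x : Γ} (hx : x ∉ center Γ) :
    Nat.card (Cl x) * Nat.card (normalizer (centralizer ({x} : Set Γ) : Set Γ)) +
      Nat.card Γ * Nat.card (center Γ) =
      Nat.card Γ * Nat.card (centralizer ({x} : Set Γ)) := by
  rw [card_Cl hCT hx, ← Nat.mul_add, Nat.sub_add_cancel]
  exact Subgroup.card_le_of_le (Subgroup.center_le_centralizer _)

/-- the centralizer of a non-central element has at least twice the order of the centre -/
theorem two_mul_card_center_le [Finite Γ] {x : Γ} (hx : x ∉ center Γ) :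
    2 * Nat.card (center Γ) ≤ Nat.card (centralizer ({x} : Set Γ)) := by
  have hle : center Γ ≤ centralizer ({x} : Set Γ) := Subgroup.center_le_centralizer _
  obtain ⟨k, hk⟩ := Subgroup.card_dvd_of_le hle
  have hpos : 0 < Nat.card (center Γ) := Nat.card_pos
  have hne : Nat.card (center Γ) ≠ Nat.card (centralizer ({x} : Set Γ)) := by
    intro h
    have := Subgroup.eq_of_le_of_card_ge hle h.ge
    apply hx
    rw [this, mem_cent]
  rcases Nat.lt_or_ge k 2 with h | h
  · interval_cases k
    · rw [mul_zero] at hk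
      have : 0 < Nat.card (centralizer ({x} : Set Γ)) := Nat.card_pos
      omega
    · rw [mul_one] at hk
      exact absurd hk.symm hne
  · rw [hk]
    calc 2 * Nat.card (center Γ) = Nat.card (center Γ) * 2 := by ring
      _ ≤ Nat.card (center Γ) * k := Nat.mul_le_mul_left _ h

end CTsec

section Arith

theorem arith_final (f n r d : ℕ) (heq : f * n * r + 2 * f = r * d * n + 2 * f * n)
    (hcop : Nat.Coprime f r) (hodd : Odd r) (hr3 : 3 ≤ r) (hd2 : 2 ≤ d) (hdr : d + 1 ≤ r)
    (hn : 2 ≤ n) :
    n = r + 1 ∨ (r = 3 ∧ d = 2 ∧ n = 10 ∧ f = 5) := by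
  obtain ⟨n', rfl⟩ : ∃ n', n = n' + 1 := ⟨n - 1, by omega⟩
  have hn' : 1 ≤ n' := by omega
  -- r ∣ 2 f n'
  have h1 : f * (n' + 1) * r = r * d * (n' + 1) + 2 * f * n' := by
    have : f * (n' + 1) * r + 2 * f = (r * d * (n' + 1) + 2 * f * n') + 2 * f := by
      rw [heq]; ring
    exact Nat.add_right_cancel this
  have h2 : r ∣ 2 * f * n' := by
    have h3 : r ∣ r * d * (n' + 1) + 2 * f * n' := by
      rw [← h1]; exact Dvd.intro_left _ rfl
    have h4 : r ∣ r * d * (n' + 1) := by
      rw [mul_assoc]; exact Dvd.intro _ rfl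
    exact (Nat.dvd_add_right h4).1 h3
  have hr2 : Nat.Coprime r 2 := by
    rw [Nat.coprime_two_right]; exact hodd
  have h5 : r ∣ n' := by
    have h6 : r ∣ (2 * f) * n' := h2
    have hc : Nat.Coprime r (2 * f) := Nat.Coprime.mul_right hr2 hcop.symm
    exact hc.dvd_of_dvd_mul_left h6
  obtain ⟨m, rfl⟩ := h5
  have hm : 1 ≤ m := by
    rcases Nat.eq_zero_or_pos m with h | h
    · subst h; omega
    · exact h
  have hrpos : 0 < r := by omega
  -- cancel r
  have h7 : f * (r * m + 1) = d * (r * m + 1) + 2 * f * m := by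
    have : r * (f * (r * m + 1)) = r * (d * (r * m + 1) + 2 * f * m) := by
      calc r * (f * (r * m + 1)) = f * (r * m + 1) * r := by ring
        _ = r * d * (r * m + 1) + 2 * f * (r * m) := h1
        _ = r * (d * (r * m + 1) + 2 * f * m) := by ring
    exact Nat.eq_of_mul_eq_mul_left hrpos this
  obtain ⟨r', rfl⟩ : ∃ r', r = r' + 2 := ⟨r - 2, by omega⟩
  have hr' : 1 ≤ r' := by omega
  -- k = r' m + 1
  have h8 : f * (r' * m + 1) = d * (r' * m + 1) + 2 * d * m := by
    have : f * (r' * m + 1) + 2 * f * m = (d * (r' * m + 1) + 2 * d * m) + 2 * f * m := by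
      calc f * (r' * m + 1) + 2 * f * m = f * ((r' + 2) * m + 1) := by ring
        _ = d * ((r' + 2) * m + 1) + 2 * f * m := h7
        _ = (d * (r' * m + 1) + 2 * d * m) + 2 * f * m := by ring
    exact Nat.add_right_cancel this
  have h9 : (r' * m + 1) ∣ 2 * d * m := by
    have h10 : (r' * m + 1) ∣ d * (r' * m + 1) + 2 * d * m := by
      rw [← h8]; exact Dvd.intro_left _ rfl
    exact (Nat.dvd_add_right (Dvd.intro_left _ rfl)).1 h10
  have hkm : Nat.Coprime (r' * m + 1) m := by
    have : r' * m + 1 = 1 + r' * m := by ring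
    rw [this, Nat.coprime_add_mul_right_left]
    exact Nat.coprime_one_left m
  have h11 : (r' * m + 1) ∣ 2 * d := hkm.dvd_of_dvd_mul_right h9
  have h12 : r' * m + 1 ≤ 2 * d := Nat.le_of_dvd (by omega) h11
  obtain hm1 | hm2 | hm3 : m = 1 ∨ m = 2 ∨ 3 ≤ m := by omega
  · left; subst hm1; ring
  · exfalso
    subst hm2
    have hk2 : Nat.Coprime (r' * 2 + 1) 2 := by
      rw [Nat.coprime_two_right]
      exact ⟨r', by ring⟩
    have h13 : (r' * 2 + 1) ∣ d := hk2.dvd_of_dvd_mul_left h11
    have := Nat.le_of_dvd (by omega) h13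
    omega
  · right
    have h13 : r' * 3 ≤ r' * m := Nat.mul_le_mul_left _ hm3
    have hr1 : r' = 1 := by omega
    subst hr1
    have hm3' : m = 3 := by omega
    subst hm3'
    have hd : d = 2 := by omega
    subst hd
    refine ⟨rfl, rfl, rfl, ?_⟩
    omega


theorem arith_A (z r d n A : ℕ) (hz : 0 < z) (hr3 : 3 ≤ r) (hd2 : 2 ≤ d)
    (hEu : A * (z * r * d) + (z * r * d * n) * z = (z * r * d * n) * (z * r)) :
    A + n * z = n * z * r := by
  have hpos : 0 < z * r * d := Nat.mul_pos (Nat.mul_pos hz (by omega)) (by omega)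
  have : (z * r * d) * (A + n * z) = (z * r * d) * (n * z * r) := by
    calc (z * r * d) * (A + n * z) = A * (z * r * d) + (z * r * d * n) * z := by ring
      _ = (z * r * d * n) * (z * r) := hEu
      _ = (z * r * d) * (n * z * r) := by ring
  exact Nat.eq_of_mul_eq_mul_left hpos this

theorem arith_B1 (z r d n B : ℕ) (hz : 0 < z) (hd2 : 2 ≤ d)
    (hEg : B * (z * d) + (z * r * d * n) * z = (z * r * d * n) * (z * d)) :
    B + r * n * z = r * n * z * d := by
  have hpos : 0 < z * d := Nat.mul_pos hz (by omega)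
  have : (z * d) * (B + r * n * z) = (z * d) * (r * n * z * d) := by
    calc (z * d) * (B + r * n * z) = B * (z * d) + (z * r * d * n) * z := by ring
      _ = (z * r * d * n) * (z * d) := hEg
      _ = (z * d) * (r * n * z * d) := by ring
  exact Nat.eq_of_mul_eq_mul_left hpos this

theorem arith_B2 (z r d n B : ℕ) (hz : 0 < z) (hd2 : 2 ≤ d)
    (hEg : B * (2 * (z * d)) + (z * r * d * n) * z = (z * r * d * n) * (z * d)) :
    2 * B + r * n * z = r * n * z * d := by
  have hpos : 0 < z * d := Nat.mul_pos hz (by omega)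
  have : (z * d) * (2 * B + r * n * z) = (z * d) * (r * n * z * d) := by
    calc (z * d) * (2 * B + r * n * z) = B * (2 * (z * d)) + (z * r * d * n) * z := by ring
      _ = (z * r * d * n) * (z * d) := hEg
      _ = (z * d) * (r * n * z * d) := by ring
  exact Nat.eq_of_mul_eq_mul_left hpos this

theorem arith_case1 (z r d n A B ρ : ℕ) (hz : 0 < z) (hr3 : 3 ≤ r) (hd2 : 2 ≤ d) (hn : 2 ≤ n)
    (hA : A + n * z = n * z * r) (hB : B + r * n * z = r * n * z * d)
    (hpart : z * r * d * n = z + A + B + ρ) (hb : z * r * d * n ≤ 4 * ρ) : False := by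
  have h6 : 6 ≤ r * d := by nlinarith
  have h1 : n * z * 6 ≤ n * z * (r * d) := Nat.mul_le_mul_left _ h6
  have h2 : z * r * d * n = n * z * (r * d) := by ring
  have h3 : n * z * r = r * n * z := by ring
  have h4 : r * n * z * d = z * r * d * n := by ring
  have h5 : 0 < n * z := Nat.mul_pos (by omega) hz
  omega

theorem arith_case2a (z r d n A B ρ : ℕ)
    (hA : A + n * z = n * z * r) (hB : 2 * B + r * n * z = r * n * z * d)
    (hpart : z * r * d * n = z + A + B + ρ) :
    2 * ρ + n * z * r + 2 * z = z * r * d * n + 2 * (n * z) := by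
  have h3 : n * z * r = r * n * z := by ring
  have h4 : r * n * z * d = z * r * d * n := by ring
  omega

theorem arith_case2b (z r d n ρ : ℕ) (hz : 0 < z) (hr3 : 3 ≤ r) (hn : 2 ≤ n)
    (h : 2 * ρ + n * z * r + 2 * z = z * r * d * n + 2 * (n * z))
    (hb : z * r * d * n ≤ 2 * ρ) : False := by
  have h1 : n * z * 3 ≤ n * z * r := Nat.mul_le_mul_left _ hr3
  have h5 : 0 < n * z := Nat.mul_pos (by omega) hz
  omega

theorem arith_case2c (z r d n ρ f : ℕ) (hz : 0 < z)
    (h : 2 * ρ + n * z * r + 2 * z = z * r * d * n + 2 * (n * z))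
    (hx : ρ * (2 * (z * f)) + (z * r * d * n) * z = (z * r * d * n) * (z * f)) :
    f * n * r + 2 * f = r * d * n + 2 * f * n := by
  have h1 : z * (f * (2 * ρ)) + z * (z * r * d * n) = z * ((z * r * d * n) * f) := by
    calc z * (f * (2 * ρ)) + z * (z * r * d * n) = ρ * (2 * (z * f)) + (z * r * d * n) * z := by ring
      _ = (z * r * d * n) * (z * f) := hx
      _ = z * ((z * r * d * n) * f) := by ring
  have h2 : f * (2 * ρ) + z * r * d * n = (z * r * d * n) * f := by
    have : z * (f * (2 * ρ) + z * r * d * n) = z * ((z * r * d * n) * f) := by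
      rw [Nat.mul_add]; exact h1
    exact Nat.eq_of_mul_eq_mul_left hz this
  have h3 : f * (2 * ρ + n * z * r + 2 * z) = f * (z * r * d * n + 2 * (n * z)) := by rw [h]
  have h4 : z * (f * n * r + 2 * f) = z * (r * d * n + 2 * f * n) := by
    have e1 : f * (2 * ρ + n * z * r + 2 * z) = f * (2 * ρ) + z * (f * n * r + 2 * f) := by ring
    have e2 : f * (z * r * d * n + 2 * (n * z)) = (z * r * d * n) * f + z * (2 * f * n) := by ring
    have e3 : z * (r * d * n + 2 * f * n) = z * r * d * n + z * (2 * f * n) := by ring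
    rw [e1, e2] at h3
    rw [e3]
    omega
  exact Nat.eq_of_mul_eq_mul_left hz h4

end Arith

section Main

variable {Γ : Type*} [Group Γ]

/-- **Numerical analysis of the class equation** (Dickson).  `u` plays the role of a non-trivial
element of a Sylow `p`-subgroup `U` (`|C(u)| = z r`, `|N(C(u))| = z r d`), `g` of a generator of
a complement of `U` in `N(U)` modulo the centre (`|C(g)| = z d`). -/
theorem klein_main [Finite Γ] (hCT : CT Γ) (z r d n : ℕ) (hz : Nat.card (center Γ) = z)
    (u g : Γ) (hu : u ∉ center Γ) (hg : g ∉ center Γ)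
    (hCu : Nat.card (centralizer ({u} : Set Γ)) = z * r)
    (hNu : Nat.card (normalizer (centralizer ({u} : Set Γ) : Set Γ)) = z * r * d)
    (hΓ : Nat.card Γ = z * r * d * n)
    (hCg : Nat.card (centralizer ({g} : Set Γ)) = z * d)
    (hr3 : 3 ≤ r) (hrodd : Odd r) (hd2 : 2 ≤ d) (hdr : d + 1 ≤ r) (hn : 2 ≤ n)
    (hss : ∀ x : Γ, x ∉ center Γ → x ∉ Cl u →
      Nat.card (normalizer (centralizer ({x} : Set Γ) : Set Γ)) ≤
        2 * Nat.card (centralizer ({x} : Set Γ)))
    (hcop : ∀ x : Γ, x ∉ center Γ → x ∉ Cl u →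
      (Nat.card (centralizer ({x} : Set Γ))).Coprime r) :
    n = r + 1 ∨ (r = 3 ∧ d = 2 ∧ n = 10 ∧
      Nat.card (normalizer (centralizer ({g} : Set Γ) : Set Γ)) = 2 * (z * d) ∧
      ∃ x : Γ, x ∉ center Γ ∧ Nat.card (centralizer ({x} : Set Γ)) = z * 5 ∧
        ∀ y : Γ, y ∉ center Γ → y ∈ Cl u ∨ y ∈ Cl g ∨ y ∈ Cl x) := by
  classical
  have hzpos : 0 < z := hz ▸ Nat.card_pos
  -- `g ∉ Cl u`
  have hgu : g ∉ Cl u := by
    intro h
    have h1 := card_centralizer_of_mem_Cl hCT hu h
    rw [hCg, hCu] at h1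
    have : d = r := Nat.eq_of_mul_eq_mul_left hzpos h1
    omega
  have hEu := card_Cl' hCT hu
  rw [hNu, hΓ, hz, hCu] at hEu
  have hA := arith_A z r d n _ hzpos hr3 hd2 hEu
  have hEg := card_Cl' hCT hg
  rw [hΓ, hz, hCg] at hEg
  -- the normalizer of `C(g)`
  have hνg1 : z * d ∣ Nat.card (normalizer (centralizer ({g} : Set Γ) : Set Γ)) := by
    rw [← hCg]; exact Subgroup.card_dvd_of_le Subgroup.le_normalizer
  have hνg2 : Nat.card (normalizer (centralizer ({g} : Set Γ) : Set Γ)) ≤ 2 * (z * d) := by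
    rw [← hCg]; exact hss g hg hgu
  have hνgpos : 0 < Nat.card (normalizer (centralizer ({g} : Set Γ) : Set Γ)) := Nat.card_pos
  have hzd : 0 < z * d := Nat.mul_pos hzpos (by omega)
  have hνg3 : Nat.card (normalizer (centralizer ({g} : Set Γ) : Set Γ)) = z * d ∨
      Nat.card (normalizer (centralizer ({g} : Set Γ) : Set Γ)) = 2 * (z * d) := by
    obtain ⟨k, hk⟩ := hνg1
    rcases Nat.lt_or_ge k 3 with h | h
    · interval_cases k
      · rw [hk] at hνgpos; simp at hνgpos
      · left; rw [hk, mul_one]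
      · right; rw [hk]; ring
    · exfalso
      have : z * d * 3 ≤ z * d * k := Nat.mul_le_mul_left _ h
      omega
  -- the partition
  set R : Set Γ := {y | y ∉ center Γ ∧ y ∉ Cl u ∧ y ∉ Cl g} with hR
  have hzn : ((center Γ : Subgroup Γ) : Set Γ).ncard = z := by
    rw [← hz]; exact (Nat.card_coe_set_eq _).symm
  have hpart : z * r * d * n = z + Nat.card (Cl u) + Nat.card (Cl g) + R.ncard := by
    have h1 : (Set.univ : Set Γ) = ((((center Γ : Subgroup Γ) : Set Γ) ∪ Cl u) ∪ Cl g) ∪ R := by
      ext y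
      simp only [Set.mem_univ, Set.mem_union, true_iff]
      by_cases h1 : y ∈ ((center Γ : Subgroup Γ) : Set Γ)
      · left; left; left; exact h1
      · by_cases h2 : y ∈ Cl u
        · left; left; right; exact h2
        · by_cases h3 : y ∈ Cl g
          · left; right; exact h3
          · right; exact ⟨h1, h2, h3⟩
    have d1 : Disjoint ((((center Γ : Subgroup Γ) : Set Γ) ∪ Cl u) ∪ Cl g) R := by
      rw [Set.disjoint_left]
      rintro y ((hy | hy) | hy) ⟨h1, h2, h3⟩
      · exact h1 hy
      · exact h2 hy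
      · exact h3 hy
    have d2 : Disjoint (((center Γ : Subgroup Γ) : Set Γ) ∪ Cl u) (Cl g) := by
      rw [Set.disjoint_left]
      rintro y (hy | hy) h3
      · exact h3.1 hy
      · exact (Set.disjoint_left.1 (Cl_disjoint hCT hu hg hgu)) hy h3
    have d3 : Disjoint ((center Γ : Subgroup Γ) : Set Γ) (Cl u) := by
      rw [Set.disjoint_left]
      intro y hy h2
      exact h2.1 hy
    rw [← hΓ, ← Set.ncard_univ, h1, Set.ncard_union_eq d1 (Set.toFinite _) (Set.toFinite _),
      Set.ncard_union_eq d2 (Set.toFinite _) (Set.toFinite _),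
      Set.ncard_union_eq d3 (Set.toFinite _) (Set.toFinite _), hzn,
      Nat.card_coe_set_eq, Nat.card_coe_set_eq]
  -- classes inside `R`
  have hsub : ∀ x ∈ R, Cl x ⊆ R := by
    rintro x ⟨hx1, hx2, hx3⟩ w hw
    refine ⟨hw.1, ?_, ?_⟩
    · intro hwu
      apply hx2
      rw [← Cl_eq_of_mem hCT hu hwu, Cl_eq_of_mem hCT hx1 hw]
      exact mem_Cl_self hx1
    · intro hwg
      apply hx3
      rw [← Cl_eq_of_mem hCT hg hwg, Cl_eq_of_mem hCT hx1 hw]
      exact mem_Cl_self hx1
  have hbound : ∀ x : Γ, x ∉ center Γ → x ∉ Cl u → z * r * d * n ≤ 4 * Nat.card (Cl x) := by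
    intro x hx hxu
    have h1 := card_Cl' hCT hx
    have h2 := two_mul_card_center_le hx
    have h3 := hss x hx hxu
    rw [hΓ] at h1
    have hc : 0 < Nat.card (centralizer ({x} : Set Γ)) := Nat.card_pos
    have h4 : z * r * d * n * Nat.card (centralizer ({x} : Set Γ)) ≤
        4 * Nat.card (Cl x) * Nat.card (centralizer ({x} : Set Γ)) := by
      have e1 := Nat.mul_le_mul_left (Nat.card (Cl x)) h3
      have e2 := Nat.mul_le_mul_left (z * r * d * n) h2
      nlinarith
    exact Nat.le_of_mul_le_mul_right h4 hc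
  have hbound1 : ∀ x : Γ, x ∉ center Γ →
      Nat.card (normalizer (centralizer ({x} : Set Γ) : Set Γ)) =
        Nat.card (centralizer ({x} : Set Γ)) → z * r * d * n ≤ 2 * Nat.card (Cl x) := by
    intro x hx hxν
    have h1 := card_Cl' hCT hx
    have h2 := two_mul_card_center_le hx
    rw [hΓ, hxν] at h1
    have hc : 0 < Nat.card (centralizer ({x} : Set Γ)) := Nat.card_pos
    have h4 : z * r * d * n * Nat.card (centralizer ({x} : Set Γ)) ≤
        2 * Nat.card (Cl x) * Nat.card (centralizer ({x} : Set Γ)) := by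
      have e2 := Nat.mul_le_mul_left (z * r * d * n) h2
      nlinarith
    exact Nat.le_of_mul_le_mul_right h4 hc
  have hRle : ∀ x ∈ R, Nat.card (Cl x) ≤ R.ncard := by
    intro x hx
    rw [Nat.card_coe_set_eq]
    exact Set.ncard_le_ncard (hsub x hx) (Set.toFinite _)
  rcases hνg3 with hν | hν
  · -- `N(C(g)) = C(g)` is impossible
    exfalso
    rw [hν] at hEg
    have hB := arith_B1 z r d n _ hzpos hd2 hEg
    have hRpos : R.Nonempty := by
      by_contra hne
      rw [Set.not_nonempty_iff_eq_empty] at hne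
      rw [hne, Set.ncard_empty] at hpart
      have h3 : n * z * r = r * n * z := by ring
      have h4 : r * n * z * d = z * r * d * n := by ring
      have h5 : 0 < n * z := Nat.mul_pos (by omega) hzpos
      have h6 : 1 * z ≤ n * z := Nat.mul_le_mul_right _ (by omega)
      have h7 : 2 * z ≤ n * z := Nat.mul_le_mul_right _ hn
      omega
    obtain ⟨x, hx⟩ := hRpos
    have h1 := hbound x hx.1 hx.2.1
    have h2 := hRle x hx
    exact arith_case1 z r d n _ _ _ hzpos hr3 hd2 hn hA hB hpart (by omega)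
  · rw [hν] at hEg
    have hB := arith_B2 z r d n _ hzpos hd2 hEg
    have hρ := arith_case2a z r d n _ _ _ hA hB hpart
    have hRpos : R.Nonempty := by
      by_contra hne
      rw [Set.not_nonempty_iff_eq_empty] at hne
      rw [hne, Set.ncard_empty] at hρ
      have h1 : n * z * r * 2 ≤ n * z * r * d := Nat.mul_le_mul_left _ hd2
      have h2 : n * z * r * d = z * r * d * n := by ring
      have h3 : 2 * z ≤ n * z := Nat.mul_le_mul_right _ hn
      have h5 : 0 < n * z * r := Nat.mul_pos (Nat.mul_pos (by omega) hzpos) (by omega)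
      omega
    obtain ⟨x, hx⟩ := hRpos
    have hxR := hRle x hx
    -- the normalizer of `C(x)`
    have hνx1 : Nat.card (centralizer ({x} : Set Γ)) ∣
        Nat.card (normalizer (centralizer ({x} : Set Γ) : Set Γ)) :=
      Subgroup.card_dvd_of_le Subgroup.le_normalizer
    have hνx2 := hss x hx.1 hx.2.1
    have hνxpos : 0 < Nat.card (normalizer (centralizer ({x} : Set Γ) : Set Γ)) := Nat.card_pos
    have hcxpos : 0 < Nat.card (centralizer ({x} : Set Γ)) := Nat.card_pos
    have hνx3 : Nat.card (normalizer (centralizer ({x} : Set Γ) : Set Γ)) =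
        Nat.card (centralizer ({x} : Set Γ)) ∨
        Nat.card (normalizer (centralizer ({x} : Set Γ) : Set Γ)) =
        2 * Nat.card (centralizer ({x} : Set Γ)) := by
      obtain ⟨k, hk⟩ := hνx1
      rcases Nat.lt_or_ge k 3 with h | h
      · interval_cases k
        · rw [hk] at hνxpos; simp at hνxpos
        · left; rw [hk, mul_one]
        · right; rw [hk]; ring
      · exfalso
        have : Nat.card (centralizer ({x} : Set Γ)) * 3 ≤
          Nat.card (centralizer ({x} : Set Γ)) * k := Nat.mul_le_mul_left _ h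
        omega
    rcases hνx3 with hνx | hνx
    · exfalso
      have h1 := hbound1 x hx.1 hνx
      exact arith_case2b z r d n _ hzpos hr3 hn hρ (by omega)
    · -- `R = Cl x`
      have hRx : R ⊆ Cl x := by
        intro x' hx'
        by_contra hx'x
        have h1 := hbound x hx.1 hx.2.1
        have h2 := hbound x' hx'.1 hx'.2.1
        have hdisj := Cl_disjoint hCT hx.1 hx'.1 hx'x
        have h3 : (Cl x ∪ Cl x').ncard ≤ R.ncard :=
          Set.ncard_le_ncard (Set.union_subset (hsub x hx) (hsub x' hx')) (Set.toFinite _)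
        rw [Set.ncard_union_eq hdisj (Set.toFinite _) (Set.toFinite _),
          ← Nat.card_coe_set_eq, ← Nat.card_coe_set_eq] at h3
        exact arith_case2b z r d n _ hzpos hr3 hn hρ (by omega)
      have hReq : R = Cl x := Set.Subset.antisymm hRx (hsub x hx)
      have hEx := card_Cl' hCT hx.1
      rw [hνx, hΓ, hz] at hEx
      -- `|C(x)| = z f`
      obtain ⟨f, hf⟩ : z ∣ Nat.card (centralizer ({x} : Set Γ)) := by
        rw [← hz]; exact Subgroup.card_dvd_of_le (Subgroup.center_le_centralizer _)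
      rw [hf, Nat.card_coe_set_eq, ← hReq] at hEx
      have hfin := arith_case2c z r d n _ f hzpos hρ hEx
      have hcopf : Nat.Coprime f r := by
        have := hcop x hx.1 hx.2.1
        rw [hf] at this
        exact Nat.Coprime.coprime_dvd_left (Dvd.intro_left _ rfl) this
      rcases arith_final f n r d hfin hcopf hrodd hr3 hd2 hdr hn with h | ⟨h1, h2, h3, h4⟩
      · left; exact h
      · right
        refine ⟨h1, h2, h3, hν, x, hx.1, ?_, ?_⟩
        · rw [hf, h4]
        · intro y hy
          by_cases hyu : y ∈ Cl u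
          · left; exact hyu
          · by_cases hyg : y ∈ Cl g
            · right; left; exact hyg
            · right; right
              exact hRx ⟨hy, hyu, hyg⟩

end Main

section Extra

variable {Γ : Type*} [Group Γ]

/-- an element conjugating `x` into its own centralizer normalizes the centralizer -/
theorem mem_normalizer_centralizer (hCT : CT Γ) {x g : Γ} (hx : x ∉ center Γ)
    (h : Commute x (g * x * g⁻¹)) : g ∈ normalizer (centralizer ({x} : Set Γ) : Set Γ) := by
  have h2 := centralizer_eq_of_commute hCT hx (conj_not_mem_center hx g) h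
  rw [centralizer_conj] at h2
  rw [Subgroup.mem_normalizer_iff]
  intro w
  constructor
  · intro hw
    rw [h2]
    exact ⟨w, hw, rfl⟩
  · intro hw
    rw [h2, Subgroup.mem_map_equiv, MulAut.conj_symm_apply] at hw
    have e : g⁻¹ * (g * w * g⁻¹) * g = w := by group
    rwa [e] at hw

end Extra

end Cfsg.H5.Klein
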