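import Mathlib
import Cfsg.Agent.H5.KleinEq
import Cfsg.Agent.H5.DicksonSL2

/-!
# The `p`-local structure of a finite subgroup of `SL(2, F)` with a non-normal Sylow `p`-subgroup

`Γ` is a finite group with an injective homomorphism `ι : Γ →* SL(2, F)`, `F` a field of odd
characteristic `p`.
-/

set_option autoImplicit false
set_option linter.style.haveILetI false

namespace Cfsg.H5.Dickson

open Matrix Subgroup Cfsg.Agent.Lib.Helper16 Cfsg.H5.SL2 Cfsg.H5.Klein

section Basic

variable {F : Type*} [Field F] {Γ : Type*} [Group Γ]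
  {ι : Γ →* SpecialLinearGroup (Fin 2) F}

/-- an element whose image is scalar is central -/
theorem mem_center_of_scalar (hι : Function.Injective ι) {x : Γ} {c : F}
    (h : ((ι x : SpecialLinearGroup (Fin 2) F) : Matrix (Fin 2) (Fin 2) F) =
      c • (1 : Matrix (Fin 2) (Fin 2) F)) : x ∈ center Γ := by
  rw [Subgroup.mem_center_iff]
  intro y
  apply hι
  rw [map_mul, map_mul]
  apply Subtype.ext
  rw [Matrix.SpecialLinearGroup.coe_mul, Matrix.SpecialLinearGroup.coe_mul, h, Matrix.smul_mul,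
    Matrix.mul_smul, one_mul, mul_one]

theorem not_scalar_of_not_mem_center (hι : Function.Injective ι) {x : Γ} (hx : x ∉ center Γ) :
    ∀ c : F, ((ι x : SpecialLinearGroup (Fin 2) F) : Matrix (Fin 2) (Fin 2) F) ≠
      c • (1 : Matrix (Fin 2) (Fin 2) F) :=
  fun _ h => hx (mem_center_of_scalar hι h)

theorem coe_commute_of_commute {x y : Γ} (h : Commute x y) :
    ((ι x : SpecialLinearGroup (Fin 2) F) : Matrix (Fin 2) (Fin 2) F) *
      ((ι y : SpecialLinearGroup (Fin 2) F) : Matrix (Fin 2) (Fin 2) F) =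
    ((ι y : SpecialLinearGroup (Fin 2) F) : Matrix (Fin 2) (Fin 2) F) *
      ((ι x : SpecialLinearGroup (Fin 2) F) : Matrix (Fin 2) (Fin 2) F) := by
  rw [← Matrix.SpecialLinearGroup.coe_mul, ← Matrix.SpecialLinearGroup.coe_mul, ← map_mul,
    ← map_mul, h.eq]

theorem commute_of_coe_commute (hι : Function.Injective ι) {x y : Γ}
    (h : ((ι x : SpecialLinearGroup (Fin 2) F) : Matrix (Fin 2) (Fin 2) F) *
      ((ι y : SpecialLinearGroup (Fin 2) F) : Matrix (Fin 2) (Fin 2) F) =
    ((ι y : SpecialLinearGroup (Fin 2) F) : Matrix (Fin 2) (Fin 2) F) *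
      ((ι x : SpecialLinearGroup (Fin 2) F) : Matrix (Fin 2) (Fin 2) F)) : Commute x y := by
  apply hι
  rw [map_mul, map_mul]
  apply Subtype.ext
  rw [Matrix.SpecialLinearGroup.coe_mul, Matrix.SpecialLinearGroup.coe_mul]
  exact h

/-- a group embedded in `SL(2, F)` has abelian centralizers of non-central elements -/
theorem ct_of_injective (hι : Function.Injective ι) : CT Γ := by
  intro x y w hx hxy hxw
  exact commute_of_coe_commute hι (commute_of_commute (not_scalar_of_not_mem_center hι hx)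
    (coe_commute_of_commute hxy) (coe_commute_of_commute hxw))

/-- in a non-abelian group embedded in `SL(2, F)`, elements with non-scalar image are not
central -/
theorem not_mem_center_of_not_scalar (hι : Function.Injective ι)
    (hnc : ¬ ∀ a b : Γ, a * b = b * a) {x : Γ}
    (hns : ∀ c : F, ((ι x : SpecialLinearGroup (Fin 2) F) : Matrix (Fin 2) (Fin 2) F) ≠
      c • (1 : Matrix (Fin 2) (Fin 2) F)) : x ∉ center Γ := by
  intro hx
  apply hnc
  intro a b
  have h1 : Commute x a := (Subgroup.mem_center_iff.1 hx a).symm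
  have h2 : Commute x b := (Subgroup.mem_center_iff.1 hx b).symm
  exact (commute_of_coe_commute hι (commute_of_commute hns (coe_commute_of_commute h1)
    (coe_commute_of_commute h2))).eq

/-- a non-trivial element of trace `2` is not scalar -/
theorem not_scalar_of_trace_two {x : SpecialLinearGroup (Fin 2) F} (h2 : (2 : F) ≠ 0)
    (htr : (x : Matrix (Fin 2) (Fin 2) F).trace = 2) (hx1 : x ≠ 1) :
    ∀ c : F, (x : Matrix (Fin 2) (Fin 2) F) ≠ c • (1 : Matrix (Fin 2) (Fin 2) F) := by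
  intro c hc
  apply hx1
  have h1 : c = 1 := by
    rw [hc, Matrix.trace_fin_two] at htr
    simp only [Matrix.smul_apply, Matrix.one_apply_eq, smul_eq_mul, mul_one] at htr
    have : 2 * (c - 1) = 0 := by linear_combination htr
    exact sub_eq_zero.1 ((mul_eq_zero.1 this).resolve_left h2)
  apply Subtype.ext
  rw [hc, h1, one_smul, Matrix.SpecialLinearGroup.coe_one]

theorem isPGroup_zpowers {p : ℕ} {y : Γ} {k : ℕ} (h : y ^ (p ^ k) = 1) :
    IsPGroup p (zpowers y) := by
  rintro ⟨w, hw⟩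
  obtain ⟨m, rfl⟩ := mem_zpowers_iff.1 hw
  refine ⟨k, Subtype.ext ?_⟩
  rw [Subgroup.coe_pow, Subgroup.coe_one]
  show (y ^ m) ^ (p ^ k) = 1
  rw [← zpow_natCast, ← _root_.zpow_mul, mul_comm, _root_.zpow_mul, zpow_natCast, h, _root_.one_zpow]

end Basic

section PStruct

variable {F : Type*} [Field F] {p : ℕ} [hp : Fact p.Prime] [CharP F p]
  {Γ : Type*} [Group Γ] [Finite Γ] {ι : Γ →* SpecialLinearGroup (Fin 2) F}

omit [Finite Γ] in
theorem trace_of_pow (ι : Γ →* SpecialLinearGroup (Fin 2) F) {x : Γ} {k : ℕ}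
    (hx : x ^ (p ^ k) = 1) :
    ((ι x : SpecialLinearGroup (Fin 2) F) : Matrix (Fin 2) (Fin 2) F).trace = 2 := by
  apply trace_eq_two_of_pow_eq_one (p := p) _ k
  rw [← Matrix.SpecialLinearGroup.coe_pow, ← map_pow, hx, map_one,
    Matrix.SpecialLinearGroup.coe_one]

omit [Finite Γ] hp in
theorem pow_of_mem_sylow {P : Sylow p Γ} {w : Γ} (hw : w ∈ P) : ∃ k : ℕ, w ^ (p ^ k) = 1 := by
  obtain ⟨k, hk⟩ := P.2 ⟨w, hw⟩
  exact ⟨k, by simpa using congrArg Subtype.val hk⟩

omit [Finite Γ] hp in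
theorem not_comm_of_not_normal {P : Sylow p Γ} (hPn : ¬ (P : Subgroup Γ).Normal) :
    ¬ ∀ a b : Γ, a * b = b * a := by
  intro h
  apply hPn
  constructor
  intro n hn g
  have : g * n * g⁻¹ = n := by rw [h g n, mul_inv_cancel_right]
  rw [this]; exact hn

variable (hι : Function.Injective ι) (hp2 : p ≠ 2) (P : Sylow p Γ)
  (hPn : ¬ (P : Subgroup Γ).Normal)

include hι hp2 hPn

omit [Finite Γ] in
/-- non-trivial `p`-elements are not central -/
theorem pelement_not_mem_center {x : Γ} {k : ℕ} (hx : x ^ (p ^ k) = 1) (hx1 : x ≠ 1) :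
    x ∉ center Γ := by
  have h2 : (2 : F) ≠ 0 := two_ne_zero_of_char hp.out hp2
  have hιx1 : ι x ≠ 1 := fun h => hx1 (hι (by rw [h, map_one]))
  exact not_mem_center_of_not_scalar hι (not_comm_of_not_normal hPn)
    (not_scalar_of_trace_two h2 (trace_of_pow ι hx) hιx1)

/-- Sylow `p`-subgroups are abelian -/
theorem sylow_comm : ∀ x ∈ P, ∀ y ∈ P, Commute x y := by
  by_cases hbot : (P : Subgroup Γ) = ⊥
  · intro x hx y hy
    have hx' : x ∈ (P : Subgroup Γ) := hx
    have hy' : y ∈ (P : Subgroup Γ) := hy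
    rw [hbot, mem_bot] at hx' hy'
    rw [hx', hy']
  · haveI : Nontrivial ↥(P : Subgroup Γ) := (Subgroup.nontrivial_iff_ne_bot _).2 hbot
    have := P.2.center_nontrivial
    obtain ⟨c, hc1⟩ := exists_ne (1 : ↥(center ↥(P : Subgroup Γ)))
    have hc1' : ((c : ↥(P : Subgroup Γ)) : Γ) ≠ 1 := by
      intro h
      apply hc1
      apply Subtype.ext
      apply Subtype.ext
      exact h
    obtain ⟨k, hk⟩ := pow_of_mem_sylow (P := P) (c : ↥(P : Subgroup Γ)).2
    have hcΓ := pelement_not_mem_center hι hp2 P hPn hk hc1'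
    have hcomm : ∀ x ∈ P, Commute ((c : ↥(P : Subgroup Γ)) : Γ) x := by
      intro x hx
      have := Subgroup.mem_center_iff.1 c.2 ⟨x, hx⟩
      exact (congrArg Subtype.val this).symm
    intro x hx y hy
    exact ct_of_injective hι _ x y hcΓ (hcomm x hx) (hcomm y hy)

omit [Finite Γ] in
theorem not_mem_center_of_mem_sylow {u : Γ} (hu : u ∈ P) (hu1 : u ≠ 1) : u ∉ center Γ := by
  obtain ⟨k, hk⟩ := pow_of_mem_sylow hu
  exact pelement_not_mem_center hι hp2 P hPn hk hu1

/-- an element commuting with a non-trivial element of `P` centralizes `P` -/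
theorem centralizes_of_commute {u : Γ} (hu : u ∈ P) (hu1 : u ≠ 1) {y : Γ} (hy : Commute u y) :
    ∀ w ∈ P, Commute y w := by
  intro w hw
  exact ct_of_injective hι u y w (not_mem_center_of_mem_sylow hι hp2 P hPn hu hu1) hy
    (sylow_comm hι hp2 P hPn u hu w hw)

theorem centralizer_le_normalizer_sylow {u : Γ} (hu : u ∈ P) (hu1 : u ≠ 1) :
    centralizer ({u} : Set Γ) ≤ normalizer ((P : Subgroup Γ) : Set Γ) := by
  intro y hy
  apply Subgroup.centralizer_le_normalizer
  rw [mem_centralizer_iff]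
  intro w hw
  exact (centralizes_of_commute hι hp2 P hPn hu hu1 (mem_cent.1 hy) w hw).eq.symm

/-- the `p`-elements of `C(u)` lie in `P` -/
theorem mem_sylow_of_pow {u : Γ} (hu : u ∈ P) (hu1 : u ≠ 1) {y : Γ} (hy : Commute u y) {k : ℕ}
    (hyk : y ^ (p ^ k) = 1) : y ∈ P := by
  have hQ : IsPGroup p (zpowers y) := isPGroup_zpowers hyk
  have hyN : y ∈ normalizer ((P : Subgroup Γ) : Set Γ) :=
    centralizer_le_normalizer_sylow hι hp2 P hPn hu hu1 (mem_cent.2 hy)
  have h1 := hQ.inf_normalizer_sylow P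
  have hy2 : y ∈ zpowers y ⊓ normalizer (P : Set Γ) :=
    Subgroup.mem_inf.2 ⟨mem_zpowers y, hyN⟩
  rw [h1] at hy2
  exact (Subgroup.mem_inf.1 hy2).2

/-- the structure of `C(u)`: every element is a central element times an element of `P` -/
theorem exists_center_mul_mem {u : Γ} (hu : u ∈ P) (hu1 : u ≠ 1) {y : Γ} (hy : Commute u y) :
    ∃ ε ∈ center Γ, ε * y ∈ P := by
  have h2 : (2 : F) ≠ 0 := two_ne_zero_of_char hp.out hp2
  obtain ⟨k, hk⟩ := pow_of_mem_sylow hu
  have htr := trace_of_pow ι hk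
  have hιu1 : ι u ≠ 1 := fun h => hu1 (hι (by rw [h, map_one]))
  have hc : ι u * ι y = ι y * ι u := by rw [← map_mul, ← map_mul, hy.eq]
  have ht := trace_sq_of_commute h2 htr hιu1 hc
  rcases pow_p_of_trace_sq hp2 ht with h | h
  · refine ⟨1, one_mem _, ?_⟩
    rw [one_mul]
    apply mem_sylow_of_pow hι hp2 P hPn hu hu1 hy (k := 1)
    apply hι
    rw [map_pow, pow_one, h, map_one]
  · have hε : ι (y ^ p) = -1 := by rw [map_pow, h]
    have hεc : y ^ p ∈ center Γ := by
      apply mem_center_of_scalar hι (c := -1)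
      rw [hε, Matrix.SpecialLinearGroup.coe_neg, Matrix.SpecialLinearGroup.coe_one, neg_smul,
        one_smul]
    refine ⟨y ^ p, hεc, ?_⟩
    apply mem_sylow_of_pow hι hp2 P hPn hu hu1 (k := 1)
    · exact (hy.pow_right p).mul_right hy
    · apply hι
      have hodd : Odd p := hp.out.odd_of_ne_two hp2
      rw [map_pow, pow_one, map_mul, hε, map_one, neg_one_mul, Odd.neg_pow hodd, h, neg_neg]

/-- `|C(u)| = |Z(Γ)| |P|` -/
theorem card_centralizer_sylow {u : Γ} (hu : u ∈ P) (hu1 : u ≠ 1) :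
    Nat.card (centralizer ({u} : Set Γ)) = Nat.card (center Γ) * Nat.card P := by
  have hPC : ∀ w ∈ P, w ∈ centralizer ({u} : Set Γ) :=
    fun w hw => mem_cent.2 (sylow_comm hι hp2 P hPn u hu w hw)
  let f : ↥(center Γ) × ↥(P : Subgroup Γ) → ↥(centralizer ({u} : Set Γ)) :=
    fun x => ⟨x.1 * x.2, mul_mem (Subgroup.center_le_centralizer _ x.1.2) (hPC _ x.2.2)⟩
  have hinj : Function.Injective f := by
    rintro ⟨⟨a, ha⟩, ⟨b, hb⟩⟩ ⟨⟨a', ha'⟩, ⟨b', hb'⟩⟩ h
    have h1 : a * b = a' * b' := congrArg Subtype.val h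
    have h2 : a'⁻¹ * a = b' * b⁻¹ := by
      calc a'⁻¹ * a = a'⁻¹ * (a * b) * b⁻¹ := by group
        _ = a'⁻¹ * (a' * b') * b⁻¹ := by rw [h1]
        _ = b' * b⁻¹ := by group
    have h3 : b' * b⁻¹ = 1 := by
      by_contra hne
      have hmem : b' * b⁻¹ ∈ P := mul_mem hb' (inv_mem hb)
      apply not_mem_center_of_mem_sylow hι hp2 P hPn hmem hne
      rw [← h2]
      exact mul_mem (inv_mem ha') ha
    have h4 : b' = b := by rw [← mul_inv_eq_one]; exact h3
    have h5 : a' = a := by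
      rw [h3] at h2
      rw [← inv_mul_eq_one]; exact h2
    subst h4 h5
    rfl
  have hsurj : Function.Surjective f := by
    rintro ⟨y, hy⟩
    obtain ⟨ε, hε, hεy⟩ := exists_center_mul_mem hι hp2 P hPn hu hu1 (mem_cent.1 hy)
    refine ⟨(⟨ε⁻¹, inv_mem hε⟩, ⟨ε * y, hεy⟩), ?_⟩
    apply Subtype.ext
    show ε⁻¹ * (ε * y) = y
    group
  rw [← Nat.card_congr (Equiv.ofBijective f ⟨hinj, hsurj⟩), Nat.card_prod]

/-- `N(C(u)) = N(P)` -/
theorem normalizer_centralizer_eq {u : Γ} (hu : u ∈ P) (hu1 : u ≠ 1) :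
    normalizer (centralizer ({u} : Set Γ) : Set Γ) = normalizer ((P : Subgroup Γ) : Set Γ) := by
  have hCT := ct_of_injective hι
  have huc := not_mem_center_of_mem_sylow hι hp2 P hPn hu hu1
  have hPC : ∀ w ∈ P, w ∈ centralizer ({u} : Set Γ) :=
    fun w hw => mem_cent.2 (sylow_comm hι hp2 P hPn u hu w hw)
  apply le_antisymm
  · have key : ∀ g ∈ normalizer (centralizer ({u} : Set Γ) : Set Γ), ∀ w ∈ P,
        g * w * g⁻¹ ∈ P := by
      intro g hg w hw
      have h1 : g * w * g⁻¹ ∈ centralizer ({u} : Set Γ) :=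
        (mem_normalizer_iff.1 hg w).1 (hPC w hw)
      obtain ⟨k, hk⟩ := pow_of_mem_sylow hw
      apply mem_sylow_of_pow hι hp2 P hPn hu hu1 (mem_cent.1 h1) (k := k)
      rw [conj_pow, hk, mul_one, mul_inv_cancel]
    intro g hg
    rw [mem_normalizer_iff]
    intro w
    constructor
    · exact key g hg w
    · intro hw
      have := key g⁻¹ (inv_mem hg) _ hw
      have e : g⁻¹ * (g * w * g⁻¹) * g⁻¹⁻¹ = w := by group
      rwa [e] at this
  · intro g hg
    apply mem_normalizer_centralizer hCT huc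
    exact sylow_comm hι hp2 P hPn u hu _ ((mem_normalizer_iff.1 hg u).1 hu)


/-- `|N(P)| = |Z| |P| d` with `1 ≤ d ≤ |P| - 1` -/
theorem exists_d {u : Γ} (hu : u ∈ P) (hu1 : u ≠ 1) :
    ∃ d : ℕ, Nat.card (normalizer ((P : Subgroup Γ) : Set Γ)) =
      Nat.card (center Γ) * Nat.card P * d ∧ 1 ≤ d ∧ d + 1 ≤ Nat.card P := by
  have h1 := card_conj_orbit (normalizer ((P : Subgroup Γ) : Set Γ)) u
  have h2 : normalizer ((P : Subgroup Γ) : Set Γ) ⊓ centralizer ({u} : Set Γ) =
      centralizer ({u} : Set Γ) :=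
    inf_eq_right.2 (centralizer_le_normalizer_sylow hι hp2 P hPn hu hu1)
  rw [h2, card_centralizer_sylow hι hp2 P hPn hu hu1] at h1
  set O : Set Γ := {y : Γ | ∃ k ∈ normalizer ((P : Subgroup Γ) : Set Γ), y = k * u * k⁻¹} with hO
  refine ⟨Nat.card O, by rw [← h1]; ring, ?_, ?_⟩
  · have : Nonempty O := ⟨⟨u, 1, one_mem _, by simp⟩⟩
    exact Nat.card_pos
  · have hsub : O ⊆ ((P : Subgroup Γ) : Set Γ) \ {1} := by
      rintro y ⟨k, hk, rfl⟩
      refine ⟨(mem_normalizer_iff.1 hk u).1 hu, ?_⟩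
      intro h
      apply hu1
      have h' : k * u * k⁻¹ = 1 := h
      have : u = k⁻¹ * (k * u * k⁻¹) * k := by group
      rw [this, h']; group
    have h3 : O.ncard ≤ (((P : Subgroup Γ) : Set Γ) \ {1}).ncard :=
      Set.ncard_le_ncard hsub (Set.toFinite _)
    have h4 : (((P : Subgroup Γ) : Set Γ) \ {1}).ncard = ((P : Subgroup Γ) : Set Γ).ncard - 1 :=
      Set.ncard_sdiff_singleton_of_mem (one_mem _)
    have h5 : ((P : Subgroup Γ) : Set Γ).ncard = Nat.card P := (Nat.card_coe_set_eq _).symm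
    have h6 : 0 < Nat.card P := Nat.card_pos
    rw [Nat.card_coe_set_eq]
    omega

omit hι hp2 in
/-- the number of Sylow subgroups -/
theorem card_sylow_mul : Nat.card (Sylow p Γ) * Nat.card (normalizer ((P : Subgroup Γ) : Set Γ)) =
    Nat.card Γ ∧ 2 ≤ Nat.card (Sylow p Γ) := by
  have h1 := P.card_eq_index_normalizer
  have h2 := (normalizer ((P : Subgroup Γ) : Set Γ)).card_mul_index
  refine ⟨by rw [h1, mul_comm]; exact h2, ?_⟩
  have hpos : 0 < Nat.card (Sylow p Γ) := Nat.card_pos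
  by_contra hlt
  have h3 : Nat.card (Sylow p Γ) = 1 := by omega
  rw [h1, Subgroup.index_eq_one] at h3
  have h3' : normalizer ((P : Subgroup Γ) : Set Γ) = ⊤ := h3
  exact hPn (normalizer_eq_top_iff.1 h3')

/-- a non-trivial `p`-element lies in the class of `u` -/
theorem pelement_mem_Cl {u : Γ} (hu : u ∈ P) {x : Γ} {k : ℕ} (hx : x ^ (p ^ k) = 1)
    (hx1 : x ≠ 1) : x ∈ Cl u := by
  refine ⟨pelement_not_mem_center hι hp2 P hPn hx hx1, ?_⟩
  obtain ⟨S, hS⟩ := (isPGroup_zpowers hx).exists_le_sylow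
  obtain ⟨g, hg⟩ := MulAction.exists_smul_eq Γ P S
  have hxS : x ∈ ((g • P : Sylow p Γ) : Subgroup Γ) := by
    rw [hg]; exact hS (mem_zpowers x)
  rw [Sylow.coe_subgroup_smul, Subgroup.mem_pointwise_smul_iff_inv_smul_mem, MulAut.smul_def,
    MulAut.conj_inv_apply] at hxS
  refine ⟨g, ?_⟩
  rw [commute_conj_iff]
  exact sylow_comm hι hp2 P hPn u hu _ hxS

/-- elements of trace `±2` are central or in the class of `u` -/
theorem mem_Cl_of_trace_sq {u : Γ} (hu : u ∈ P) {x : Γ} (hxc : x ∉ center Γ)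
    (ht : ((ι x : SpecialLinearGroup (Fin 2) F) : Matrix (Fin 2) (Fin 2) F).trace ^ 2 = 4) :
    x ∈ Cl u := by
  rcases pow_p_of_trace_sq hp2 ht with h | h
  · have hx : x ^ (p ^ 1) = 1 := by
      apply hι; rw [map_pow, pow_one, h, map_one]
    have hx1 : x ≠ 1 := by
      rintro rfl
      exact hxc (one_mem _)
    exact pelement_mem_Cl hι hp2 P hPn hu hx hx1
  · have hε : ι (x ^ p) = -1 := by rw [map_pow, h]
    have hεc : x ^ p ∈ center Γ := by
      apply mem_center_of_scalar hι (c := -1)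
      rw [hε, Matrix.SpecialLinearGroup.coe_neg, Matrix.SpecialLinearGroup.coe_one, neg_smul,
        one_smul]
    have hx' : (x ^ p * x) ^ (p ^ 1) = 1 := by
      apply hι
      have hodd : Odd p := hp.out.odd_of_ne_two hp2
      rw [map_pow, pow_one, map_mul, hε, map_one, neg_one_mul, Odd.neg_pow hodd, h, neg_neg]
    have hx1 : x ^ p * x ≠ 1 := by
      intro h1
      apply hxc
      have : (x ^ p)⁻¹ = x := inv_eq_of_mul_eq_one_right h1
      rw [← this]
      exact inv_mem hεc
    obtain ⟨hc, g, hg⟩ := pelement_mem_Cl hι hp2 P hPn hu hx' hx1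
    refine ⟨hxc, g, ?_⟩
    -- `x = (x^p)⁻¹ * (x^p * x)` with `(x^p)⁻¹` central
    have hcen : Commute (g * u * g⁻¹) (x ^ p)⁻¹ :=
      (Subgroup.mem_center_iff.1 (inv_mem hεc) (g * u * g⁻¹))
    have := hcen.mul_right hg
    rwa [inv_mul_cancel_left] at this

/-- semisimple classes: `|N(C(x)) : C(x)| ≤ 2` -/
theorem card_normalizer_le {u : Γ} (hu : u ∈ P) {x : Γ} (hxc : x ∉ center Γ) (hxu : x ∉ Cl u) :
    Nat.card (normalizer (centralizer ({x} : Set Γ) : Set Γ)) ≤
      2 * Nat.card (centralizer ({x} : Set Γ)) := by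
  have h2 : (2 : F) ≠ 0 := two_ne_zero_of_char hp.out hp2
  have ht : ((ι x : SpecialLinearGroup (Fin 2) F) : Matrix (Fin 2) (Fin 2) F).trace ^ 2 ≠ 4 :=
    fun h => hxu (mem_Cl_of_trace_sq hι hp2 P hPn hu hxc h)
  have hns := not_scalar_of_not_mem_center hι hxc
  -- conjugates of `x` in `C(x)` are `x` or `x⁻¹`
  have key : ∀ g ∈ normalizer (centralizer ({x} : Set Γ) : Set Γ),
      g * x * g⁻¹ = x ∨ g * x * g⁻¹ = x⁻¹ := by
    intro g hg
    have h1 : g * x * g⁻¹ ∈ centralizer ({x} : Set Γ) :=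
      (mem_normalizer_iff.1 hg x).1 (mem_cent.2 (Commute.refl x))
    have hc := coe_commute_of_commute (ι := ι) (mem_cent.1 h1)
    have htr : ((ι (g * x * g⁻¹) : SpecialLinearGroup (Fin 2) F) :
        Matrix (Fin 2) (Fin 2) F).trace =
        ((ι x : SpecialLinearGroup (Fin 2) F) : Matrix (Fin 2) (Fin 2) F).trace := by
      rw [map_mul, map_mul, map_inv, Matrix.SpecialLinearGroup.coe_mul, Matrix.trace_mul_comm,
        ← Matrix.SpecialLinearGroup.coe_mul, inv_mul_cancel_left]
    rcases eq_or_eq_of_commute (ι x).2 (ι (g * x * g⁻¹)).2 htr hc hns h2 ht with h | h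
    · left
      exact hι (Subtype.ext h)
    · right
      apply hι
      apply Subtype.ext
      rw [h, map_inv, coe_inv_eq]
  by_cases hall : ∀ g ∈ normalizer (centralizer ({x} : Set Γ) : Set Γ),
      g ∈ centralizer ({x} : Set Γ)
  · have : normalizer (centralizer ({x} : Set Γ) : Set Γ) ≤ centralizer ({x} : Set Γ) := hall
    have := Subgroup.card_le_of_le this
    omega
  · push Not at hall
    obtain ⟨g₁, hg₁N, hg₁C⟩ := hall
    have hg₁ : g₁ * x * g₁⁻¹ = x⁻¹ := by
      rcases key g₁ hg₁N with h | h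
      · exfalso
        apply hg₁C
        rw [mem_cent]
        show x * g₁ = g₁ * x
        have : g₁ * x = (g₁ * x * g₁⁻¹) * g₁ := by group
        rw [this, h]
      · exact h
    have hsub : ((normalizer (centralizer ({x} : Set Γ) : Set Γ) : Subgroup Γ) : Set Γ) ⊆
        ((centralizer ({x} : Set Γ) : Subgroup Γ) : Set Γ) ∪
          (fun c => g₁ * c) '' ((centralizer ({x} : Set Γ) : Subgroup Γ) : Set Γ) := by
      intro g hg
      by_cases hgC : g ∈ centralizer ({x} : Set Γ)
      · left; exact hgC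
      · right
        refine ⟨g₁⁻¹ * g, ?_, by group⟩
        have hgx : g * x * g⁻¹ = x⁻¹ := by
          rcases key g hg with h | h
          · exfalso
            apply hgC
            rw [mem_cent]
            show x * g = g * x
            have : g * x = (g * x * g⁻¹) * g := by group
            rw [this, h]
          · exact h
        rw [SetLike.mem_coe, mem_cent]
        show x * (g₁⁻¹ * g) = g₁⁻¹ * g * x
        have e1 : g₁⁻¹ * x⁻¹ * g₁ = x := by
          rw [← hg₁]; group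
        have e2 : g * x = x⁻¹ * g := by
          have : g * x = (g * x * g⁻¹) * g := by group
          rw [this, hgx]
        calc x * (g₁⁻¹ * g) = (g₁⁻¹ * x⁻¹ * g₁) * (g₁⁻¹ * g) := by rw [e1]
          _ = g₁⁻¹ * (x⁻¹ * g) := by group
          _ = g₁⁻¹ * (g * x) := by rw [e2]
          _ = g₁⁻¹ * g * x := by group
    have h3 := Set.ncard_le_ncard hsub (Set.toFinite _)
    have h4 := Set.ncard_union_le ((centralizer ({x} : Set Γ) : Subgroup Γ) : Set Γ)
      ((fun c => g₁ * c) '' ((centralizer ({x} : Set Γ) : Subgroup Γ) : Set Γ))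
    have h5 := Set.ncard_image_le (f := fun c => g₁ * c)
      (s := ((centralizer ({x} : Set Γ) : Subgroup Γ) : Set Γ)) (Set.toFinite _)
    have h6 : ((normalizer (centralizer ({x} : Set Γ) : Set Γ) : Subgroup Γ) : Set Γ).ncard =
        Nat.card (normalizer (centralizer ({x} : Set Γ) : Set Γ)) := (Nat.card_coe_set_eq _).symm
    have h7 : ((centralizer ({x} : Set Γ) : Subgroup Γ) : Set Γ).ncard =
        Nat.card (centralizer ({x} : Set Γ)) := (Nat.card_coe_set_eq _).symm
    omega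

/-- semisimple centralizers have order prime to `p` -/
theorem coprime_card_centralizer {u : Γ} (hu : u ∈ P) (hu1 : u ≠ 1) {x : Γ}
    (hxc : x ∉ center Γ) (hxu : x ∉ Cl u) :
    (Nat.card (centralizer ({x} : Set Γ))).Coprime (Nat.card P) := by
  have hCT := ct_of_injective hι
  have huc := not_mem_center_of_mem_sylow hι hp2 P hPn hu hu1
  obtain ⟨k, hk⟩ := P.2.exists_card_eq
  have hk' : Nat.card P = p ^ k := hk
  rw [hk']
  apply Nat.Coprime.pow_right
  rw [Nat.coprime_comm, Nat.Prime.coprime_iff_not_dvd hp.out]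
  intro hdvd
  obtain ⟨y, hy⟩ := exists_prime_orderOf_dvd_card' p hdvd
  have hy1 : (y : Γ) ≠ 1 := by
    intro h
    have : y = 1 := Subtype.ext h
    rw [this, orderOf_one] at hy
    exact hp.out.one_lt.ne hy
  have hyp : (y : Γ) ^ (p ^ 1) = 1 := by
    rw [pow_one, ← Subgroup.coe_pow, ← hy, pow_orderOf_eq_one, Subgroup.coe_one]
  have hyCl := pelement_mem_Cl hι hp2 P hPn hu hyp hy1
  apply hxu
  rw [← Cl_eq_of_mem hCT huc hyCl]
  refine ⟨hxc, 1, ?_⟩
  rw [one_mul, inv_one, mul_one]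
  exact (mem_cent.1 y.2).symm

end PStruct


section Coord

variable {F : Type*} [Field F] {Γ : Type*} [Group Γ]

/-- the diagonal character on the preimage of the Borel subgroup -/
noncomputable def chi (ι : Γ →* SpecialLinearGroup (Fin 2) F) :
    ↥((borelSL2 F).comap ι) →* Fˣ where
  toFun g := Units.mk0 (((ι (g : Γ) : SpecialLinearGroup (Fin 2) F) :
    Matrix (Fin 2) (Fin 2) F) 0 0) (left_ne_zero_of_mul_eq_one (borel_diag g.2))
  map_one' := by
    apply Units.ext
    simp
  map_mul' := by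
    intro g h
    apply Units.ext
    rw [Units.val_mul, Units.val_mk0, Units.val_mk0, Units.val_mk0, Subgroup.coe_mul, map_mul,
      mul_00_of_borel _ h.2]

theorem chi_val (ι : Γ →* SpecialLinearGroup (Fin 2) F) (g : ↥((borelSL2 F).comap ι)) :
    ((chi ι g : Fˣ) : F) = ((ι (g : Γ) : SpecialLinearGroup (Fin 2) F) :
      Matrix (Fin 2) (Fin 2) F) 0 0 := rfl

end Coord

section PCoord

variable {F : Type*} [Field F] {p : ℕ} [hp : Fact p.Prime] [CharP F p]
  {Γ : Type*} [Group Γ] [Finite Γ] {ι : Γ →* SpecialLinearGroup (Fin 2) F}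

variable (hι : Function.Injective ι) (hp2 : p ≠ 2) (P : Sylow p Γ)
  (hPn : ¬ (P : Subgroup Γ).Normal) {u : Γ} (hu : u ∈ P) {s : F} (hs : s ≠ 0)
  (hιu : ι u = upperSL2 s)

include hs hιu in
omit [Finite Γ] hp [CharP F p] in
theorem ne_one_of_upper : u ≠ 1 := by
  rintro rfl
  rw [map_one] at hιu
  apply hs
  apply upperSL2_injective
  rw [← hιu, upperSL2_zero]

include hι hp2 hPn hu hs hιu

/-- `P` is the preimage of the unitriangular group -/
theorem mem_sylow_iff_unip {w : Γ} : w ∈ P ↔ ι w ∈ unipSL2 F := by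
  have h2 : (2 : F) ≠ 0 := two_ne_zero_of_char hp.out hp2
  have hu1 := ne_one_of_upper hs hιu
  constructor
  · intro hw
    have hc : ι u * ι w = ι w * ι u := by
      rw [← map_mul, ← map_mul, (sylow_comm hι hp2 P hPn u hu w hw).eq]
    rw [hιu] at hc
    obtain ⟨h10, h01⟩ := commute_upper hs hc
    obtain ⟨k, hk⟩ := pow_of_mem_sylow hw
    have htr := trace_of_pow ι hk
    rw [Matrix.trace_fin_two] at htr
    have h00 : ((ι w : SpecialLinearGroup (Fin 2) F) : Matrix (Fin 2) (Fin 2) F) 0 0 = 1 := by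
      have : 2 * (((ι w : SpecialLinearGroup (Fin 2) F) : Matrix (Fin 2) (Fin 2) F) 0 0 - 1) = 0 := by
        linear_combination htr + h01
      exact sub_eq_zero.1 ((mul_eq_zero.1 this).resolve_left h2)
    exact ⟨h00, h10, by rw [← h01, h00]⟩
  · intro hw
    have hwe := eq_upperSL2_of_mem hw
    have hc : Commute u w := by
      apply hι
      rw [map_mul, map_mul, hιu, hwe, ← upperSL2_add, ← upperSL2_add, add_comm]
    apply mem_sylow_of_pow hι hp2 P hPn hu hu1 hc (k := 1)
    apply hι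
    rw [map_pow, pow_one, hwe, upperSL2_pow, nsmul_eq_mul, CharP.cast_eq_zero F p, zero_mul,
      upperSL2_zero, map_one]

/-- `N(P)` is the preimage of the Borel subgroup -/
theorem normalizer_eq_comap_borel :
    normalizer ((P : Subgroup Γ) : Set Γ) = (borelSL2 F).comap ι := by
  have hiff := fun w => mem_sylow_iff_unip hι hp2 P hPn hu hs hιu (w := w)
  have key : ∀ g : Γ, ι g ∈ borelSL2 F → ∀ w ∈ P, g * w * g⁻¹ ∈ P := by
    intro g hg w hw
    rw [hiff, map_mul, map_mul, map_inv]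
    exact conj_mem_unipSL2 hg ((hiff w).1 hw)
  ext g
  rw [Subgroup.mem_comap]
  constructor
  · intro hg
    have h1 : g * u * g⁻¹ ∈ P := (mem_normalizer_iff.1 hg u).1 hu
    rw [hiff, map_mul, map_mul, map_inv, hιu] at h1
    exact mem_borel_of_conj_upper hs (unipSL2_le_borelSL2 h1)
  · intro hg
    rw [mem_normalizer_iff]
    intro w
    constructor
    · exact key g hg w
    · intro hw
      have hg' : ι g⁻¹ ∈ borelSL2 F := by rw [map_inv]; exact inv_mem hg
      have := key g⁻¹ hg' _ hw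
      have e : g⁻¹ * (g * w * g⁻¹) * g⁻¹⁻¹ = w := by group
      rwa [e] at this

/-- if `N(P) ≠ C(u)` there is a complement `C(g₀)` of `P` in `N(P)` -/
theorem exists_complement
    (hlt : Nat.card (centralizer ({u} : Set Γ)) <
      Nat.card (normalizer ((P : Subgroup Γ) : Set Γ))) :
    ∃ g₀ : Γ, g₀ ∉ center Γ ∧ Nat.card (centralizer ({g₀} : Set Γ)) * Nat.card P =
      Nat.card (normalizer ((P : Subgroup Γ) : Set Γ)) := by
  have hCT := ct_of_injective hι
  have hu1 := ne_one_of_upper hs hιu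
  have huc := not_mem_center_of_mem_sylow hι hp2 P hPn hu hu1
  have hiff := fun w => mem_sylow_iff_unip hι hp2 P hPn hu hs hιu (w := w)
  have hN := normalizer_eq_comap_borel hι hp2 P hPn hu hs hιu
  rw [hN] at hlt ⊢
  set B : Subgroup Γ := (borelSL2 F).comap ι with hB
  have hPB : (P : Subgroup Γ) ≤ B := by
    intro w hw
    exact unipSL2_le_borelSL2 ((hiff w).1 hw)
  -- the kernel of `chi`
  have hker : (chi ι).ker = (P : Subgroup Γ).subgroupOf B := by
    ext g
    rw [MonoidHom.mem_ker, Subgroup.mem_subgroupOf]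
    constructor
    · intro h
      have h00 : ((ι (g : Γ) : SpecialLinearGroup (Fin 2) F) :
          Matrix (Fin 2) (Fin 2) F) 0 0 = 1 := by
        have := congrArg Units.val h
        rwa [chi_val, Units.val_one] at this
      exact (hiff _).2 (mem_unip_of_borel g.2 h00)
    · intro h
      apply Units.ext
      rw [chi_val, Units.val_one]
      exact ((hiff _).1 h).1
  have hcard : Nat.card (chi ι).range * Nat.card P = Nat.card B := by
    have h1 := (chi ι).ker.card_mul_index
    rw [Subgroup.index_ker, hker] at h1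
    have h2 : Nat.card ((P : Subgroup Γ).subgroupOf B) = Nat.card P :=
      Nat.card_congr (Subgroup.subgroupOfEquivOfLe hPB).toEquiv
    rw [h2] at h1
    rw [mul_comm]; exact h1
  -- a generator of the image
  haveI : Finite (chi ι).range :=
    Finite.of_surjective (chi ι).rangeRestrict (chi ι).rangeRestrict_surjective
  obtain ⟨⟨γ, hγr⟩, hγ⟩ := IsCyclic.exists_generator (α := (chi ι).range)
  obtain ⟨g₀', rfl⟩ := hγr
  have hgen : ∀ y : ↥B, ∃ k : ℤ, chi ι y = (chi ι g₀') ^ k := by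
    intro y
    obtain ⟨k, hk⟩ := mem_zpowers_iff.1 (hγ ⟨chi ι y, ⟨y, rfl⟩⟩)
    refine ⟨k, ?_⟩
    have := congrArg Subtype.val hk
    rw [Subgroup.coe_zpow] at this
    exact this.symm
  set δ := ((ι (g₀' : Γ) : SpecialLinearGroup (Fin 2) F) : Matrix (Fin 2) (Fin 2) F) 0 0 with hδ
  have hδ2 : δ ^ 2 ≠ 1 := by
    intro h1
    have hle : B ≤ centralizer ({u} : Set Γ) := by
      intro y hy
      obtain ⟨k, hk⟩ := hgen ⟨y, hy⟩
      have hy2 : (((ι y : SpecialLinearGroup (Fin 2) F) : Matrix (Fin 2) (Fin 2) F) 0 0) ^ 2 = 1 := by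
        have hχ2 : (chi ι g₀') ^ 2 = 1 := by
          apply Units.ext
          rw [Units.val_pow_eq_pow_val, chi_val, Units.val_one]
          exact h1
        have h3 : (chi ι ⟨y, hy⟩) ^ 2 = 1 := by
          rw [hk, ← zpow_natCast, ← _root_.zpow_mul, mul_comm, _root_.zpow_mul, zpow_natCast, hχ2,
            _root_.one_zpow]
        have := congrArg Units.val h3
        rwa [Units.val_pow_eq_pow_val, chi_val, Units.val_one] at this
      have hdiag := borel_diag (show ι y ∈ borelSL2 F from hy)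
      have h00ne := left_ne_zero_of_mul_eq_one hdiag
      have h11 : ((ι y : SpecialLinearGroup (Fin 2) F) : Matrix (Fin 2) (Fin 2) F) 0 0 =
          ((ι y : SpecialLinearGroup (Fin 2) F) : Matrix (Fin 2) (Fin 2) F) 1 1 := by
        apply mul_left_cancel₀ h00ne
        rw [hdiag, ← pow_two, hy2]
      rw [mem_cent]
      apply hι
      rw [map_mul, map_mul, hιu]
      exact commute_upper_of hy h11 s
    have := Subgroup.card_le_of_le hle
    omega
  have hg₀B : ι (g₀' : Γ) ∈ borelSL2 F := g₀'.2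
  have hdiag₀ := borel_diag hg₀B
  have hg₀c : (g₀' : Γ) ∉ center Γ := by
    apply not_mem_center_of_not_scalar hι (not_comm_of_not_normal hPn)
    intro c hc
    have e0 : δ = c := by rw [hδ, hc]; simp
    have e1 : ((ι (g₀' : Γ) : SpecialLinearGroup (Fin 2) F) : Matrix (Fin 2) (Fin 2) F) 1 1 = c := by
      rw [hc]; simp
    apply hδ2
    rw [e1, ← e0] at hdiag₀
    rw [pow_two]; exact hdiag₀
  have hCB : centralizer ({(g₀' : Γ)} : Set Γ) ≤ B := by
    intro y hy
    have hc : ι (g₀' : Γ) * ι y = ι y * ι (g₀' : Γ) := by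
      rw [← map_mul, ← map_mul, (mem_cent.1 hy).eq]
    exact mem_borel_of_commute hg₀B hδ2 hc
  set χ' : ↥(centralizer ({(g₀' : Γ)} : Set Γ)) →* Fˣ :=
    (chi ι).comp (Subgroup.inclusion hCB) with hχ'
  have hinj : Function.Injective χ' := by
    rw [injective_iff_map_eq_one]
    intro y hy
    have h00 : ((ι (y : Γ) : SpecialLinearGroup (Fin 2) F) : Matrix (Fin 2) (Fin 2) F) 0 0 = 1 := by
      have := congrArg Units.val hy
      rwa [hχ', MonoidHom.comp_apply, chi_val, Units.val_one, Subgroup.coe_inclusion] at this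
    have hyP : (y : Γ) ∈ P := (hiff _).2 (mem_unip_of_borel (hCB y.2) h00)
    by_contra hy1
    have hy1' : (y : Γ) ≠ 1 := fun h => hy1 (Subtype.ext h)
    have hyc := not_mem_center_of_mem_sylow hι hp2 P hPn hyP hy1'
    have hcent := centralizer_eq_of_commute hCT huc hyc (sylow_comm hι hp2 P hPn u hu _ hyP)
    have hg₀y : (g₀' : Γ) ∈ centralizer ({(y : Γ)} : Set Γ) := mem_cent.2 (mem_cent.1 y.2).symm
    rw [← hcent, mem_cent] at hg₀y
    have hc : upperSL2 s * ι (g₀' : Γ) = ι (g₀' : Γ) * upperSL2 s := by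
      rw [← hιu, ← map_mul, ← map_mul, hg₀y.eq]
    obtain ⟨-, h01⟩ := commute_upper hs hc
    apply hδ2
    rw [← h01] at hdiag₀
    rw [pow_two]; exact hdiag₀
  have hrange : χ'.range = (chi ι).range := by
    apply le_antisymm
    · rintro _ ⟨y, rfl⟩
      exact ⟨Subgroup.inclusion hCB y, rfl⟩
    · rintro _ ⟨y, rfl⟩
      obtain ⟨k, hk⟩ := hgen y
      refine ⟨⟨(g₀' : Γ), mem_cent.2 (Commute.refl _)⟩ ^ k, ?_⟩
      rw [map_zpow, hk]
      rfl
  refine ⟨(g₀' : Γ), hg₀c, ?_⟩
  rw [Nat.card_congr (MonoidHom.ofInjective hinj).toEquiv, hrange]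
  exact hcard

end PCoord

end Cfsg.H5.Dickson
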