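import Mathlib
import Cfsg.Agent.H5.SL2Core
import Cfsg.Agent.Lib.Helper1.CoprimeSylow

/-!
# A `p`-element of `SL(2, K)` acting nontrivially on a `p'`-subgroup forces `p = 3`
-/

set_option autoImplicit false
set_option linter.style.haveILetI false

namespace Cfsg.H5.SL2

open Matrix
open scoped commutatorElement

/-- if a power `a ^ k` with `k` prime to the order of `a` commutes with `x`, so does `a` -/
theorem commute_of_pow_commute {G : Type*} [Group G] {a x : G} {k n : ℕ} (hn : a ^ n = 1)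
    (hkn : k.Coprime n) (h : Commute (a ^ k) x) : Commute a x := by
  have h1 : k.Coprime (orderOf a) :=
    Nat.Coprime.coprime_dvd_right (orderOf_dvd_of_pow_eq_one hn) hkn
  obtain ⟨m, hm⟩ := exists_pow_eq_self_of_coprime h1
  have := h.pow_left m
  rwa [hm] at this

/-- a finite `r`-group with nontrivial central quotient has an element of the second center outside
the center whose `r`-th power is central -/
theorem exists_second_center {P : Type*} [Group P] [Finite P] {r : ℕ} [Fact r.Prime]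
    (hP : IsPGroup r P) (hne : Subgroup.center P ≠ ⊤) :
    ∃ y : P, y ∉ Subgroup.center P ∧ y ^ r ∈ Subgroup.center P ∧
      ∀ g : P, ⁅y, g⁆ ∈ Subgroup.center P := by
  have hQ : IsPGroup r (P ⧸ Subgroup.center P) := hP.to_quotient _
  haveI : Nontrivial (P ⧸ Subgroup.center P) := by
    by_contra hnt
    rw [not_nontrivial_iff_subsingleton] at hnt
    apply hne
    rw [eq_top_iff]
    intro x _
    have : (QuotientGroup.mk x : P ⧸ Subgroup.center P) = 1 := Subsingleton.elim _ _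
    exact (QuotientGroup.eq_one_iff x).1 this
  haveI : Nontrivial (Subgroup.center (P ⧸ Subgroup.center P)) := hQ.center_nontrivial
  obtain ⟨z, hz⟩ := exists_ne (1 : Subgroup.center (P ⧸ Subgroup.center P))
  have hz1 : (z : P ⧸ Subgroup.center P) ≠ 1 := fun h => hz (Subtype.ext h)
  have hex : ∃ k : ℕ, (z : P ⧸ Subgroup.center P) ^ (r ^ k) = 1 := hQ _
  classical
  have hk0 : Nat.find hex ≠ 0 := by
    intro h0
    have := Nat.find_spec hex
    rw [h0, pow_zero, pow_one] at this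
    exact hz1 this
  obtain ⟨k, hk⟩ := Nat.exists_eq_succ_of_ne_zero hk0
  have hw1 : (z : P ⧸ Subgroup.center P) ^ (r ^ k) ≠ 1 := by
    have := Nat.find_min hex (m := k) (by rw [hk]; exact Nat.lt_succ_self k)
    exact this
  have hwr : ((z : P ⧸ Subgroup.center P) ^ (r ^ k)) ^ r = 1 := by
    have := Nat.find_spec hex
    rw [hk, Nat.succ_eq_add_one, pow_succ, pow_mul] at this
    exact this
  have hwc : (z : P ⧸ Subgroup.center P) ^ (r ^ k) ∈ Subgroup.center (P ⧸ Subgroup.center P) :=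
    Subgroup.pow_mem _ z.2 _
  obtain ⟨y, hy⟩ := QuotientGroup.mk_surjective ((z : P ⧸ Subgroup.center P) ^ (r ^ k))
  refine ⟨y, ?_, ?_, ?_⟩
  · intro hyc
    apply hw1
    rw [← hy]
    exact (QuotientGroup.eq_one_iff y).2 hyc
  · rw [← QuotientGroup.eq_one_iff, QuotientGroup.mk_pow, hy]
    exact hwr
  · intro g
    rw [← QuotientGroup.eq_one_iff]
    have h1 : (QuotientGroup.mk ⁅y, g⁆ : P ⧸ Subgroup.center P) =
        ⁅(QuotientGroup.mk y : P ⧸ Subgroup.center P), QuotientGroup.mk g⁆ :=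
      map_commutatorElement (QuotientGroup.mk' (Subgroup.center P)) y g
    rw [h1, hy, commutatorElement_eq_one_iff_mul_comm]
    exact (Subgroup.mem_center_iff.1 hwc _).symm

section SL2

variable {K : Type*} [Field K] {p : ℕ} [hp : Fact p.Prime] [CharP K p]

/-- a `p`-element of `SL(2, K)` has trace `2` -/
theorem trace_eq_two_of_pow (a : SpecialLinearGroup (Fin 2) K) (j : ℕ) (ha : a ^ (p ^ j) = 1) :
    (a : Matrix (Fin 2) (Fin 2) K).trace = 2 := by
  have hA : (a : Matrix (Fin 2) (Fin 2) K) ^ (p ^ j) = 1 := by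
    rw [← Matrix.SpecialLinearGroup.coe_pow, ha, Matrix.SpecialLinearGroup.coe_one]
  have hN : ((a : Matrix (Fin 2) (Fin 2) K) - 1) ^ (p ^ j) = 0 := by
    rw [sub_pow_char_pow_of_commute p j (Commute.one_right _), hA, one_pow, sub_self]
  have hdet : ((a : Matrix (Fin 2) (Fin 2) K) - 1).det = 0 := by
    have h1 := congrArg Matrix.det hN
    rw [Matrix.det_pow, Matrix.det_zero] at h1
    exact pow_eq_zero_iff (pow_pos hp.out.pos j).ne' |>.1 h1
  have hd := a.det_coe
  rw [Matrix.det_fin_two] at hdet hd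
  simp only [Matrix.sub_apply, Matrix.one_apply_eq,
    Matrix.one_apply_ne (show (0 : Fin 2) ≠ 1 by decide),
    Matrix.one_apply_ne (show (1 : Fin 2) ≠ 0 by decide), sub_zero] at hdet
  rw [Matrix.trace_fin_two]
  linear_combination hd - hdet

omit [CharP K p] in
/-- a nontrivial `p`-element of `SL(2, K)` is not scalar -/
theorem not_scalar_of_pow (hp2 : p ≠ 2) (a : SpecialLinearGroup (Fin 2) K) (j : ℕ)
    (ha : a ^ (p ^ j) = 1) (ha1 : a ≠ 1) :
    ∀ c : K, (a : Matrix (Fin 2) (Fin 2) K) ≠ c • (1 : Matrix (Fin 2) (Fin 2) K) := by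
  intro c hc
  have h3 := scalar_mul_self hc
  have h4 : a ^ 2 = 1 := by rw [pow_two]; exact h3
  have h2p : Nat.Coprime 2 p := (Nat.coprime_primes Nat.prime_two hp.out).2 (Ne.symm hp2)
  have h6 : orderOf a ∣ Nat.gcd 2 (p ^ j) :=
    Nat.dvd_gcd (orderOf_dvd_of_pow_eq_one h4) (orderOf_dvd_of_pow_eq_one ha)
  have h7 : Nat.gcd 2 (p ^ j) = 1 := Nat.Coprime.pow_right j h2p
  rw [h7, Nat.dvd_one] at h6
  exact ha1 (orderOf_eq_one_iff.1 h6)

/-- an element of `SL(2, K)` squaring to one is `±1` -/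
theorem eq_one_or_neg_one_of_mul_self (h2 : (2 : K) ≠ 0) (y : SpecialLinearGroup (Fin 2) K)
    (hy : y * y = 1) : y = 1 ∨ y = -1 := by
  have hCH := cayley_hamilton (y : Matrix (Fin 2) (Fin 2) K)
  rw [← Matrix.SpecialLinearGroup.coe_mul, hy, Matrix.SpecialLinearGroup.coe_one, y.det_coe,
    one_smul] at hCH
  -- `1 = t • Y - 1`
  have ht : (y : Matrix (Fin 2) (Fin 2) K).trace ≠ 0 := by
    intro h0
    rw [h0, zero_smul, zero_sub] at hCH
    have := congrFun (congrFun hCH 0) 0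
    simp only [Matrix.one_apply_eq, Matrix.neg_apply] at this
    apply h2
    linear_combination this
  have hY : (y : Matrix (Fin 2) (Fin 2) K) =
      (2 / (y : Matrix (Fin 2) (Fin 2) K).trace) • (1 : Matrix (Fin 2) (Fin 2) K) := by
    have h1 : (y : Matrix (Fin 2) (Fin 2) K).trace • (y : Matrix (Fin 2) (Fin 2) K) =
        (2 : K) • (1 : Matrix (Fin 2) (Fin 2) K) := by
      rw [two_smul]
      exact (eq_sub_iff_add_eq.1 hCH).symm
    calc (y : Matrix (Fin 2) (Fin 2) K)
        = ((y : Matrix (Fin 2) (Fin 2) K).trace)⁻¹ • ((y : Matrix (Fin 2) (Fin 2) K).trace •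
          (y : Matrix (Fin 2) (Fin 2) K)) := by rw [smul_smul, inv_mul_cancel₀ ht, one_smul]
      _ = _ := by rw [h1, smul_smul, div_eq_inv_mul]
  obtain ⟨c, hc⟩ : ∃ c : K, c = 2 / (y : Matrix (Fin 2) (Fin 2) K).trace := ⟨_, rfl⟩
  rw [← hc] at hY
  have hd := y.det_coe
  rw [hY, Matrix.det_smul, Matrix.det_one, mul_one, Fintype.card_fin] at hd
  have hc2 : (c - 1) * (c + 1) = 0 := by linear_combination hd
  rcases mul_eq_zero.1 hc2 with h | h
  · left
    apply Subtype.ext
    rw [hY, sub_eq_zero.1 h, one_smul, Matrix.SpecialLinearGroup.coe_one]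
  · right
    apply Subtype.ext
    have : c = -1 := by linear_combination h
    rw [hY, this, neg_one_smul, Matrix.SpecialLinearGroup.coe_neg,
      Matrix.SpecialLinearGroup.coe_one]

/-- the `p'`-elements commuting with a nontrivial `p`-element of `SL(2, K)` are `±1` -/
theorem eq_one_or_neg_one_of_commute_unipotent (hp2 : p ≠ 2)
    (a x : SpecialLinearGroup (Fin 2) K) (j : ℕ) (ha : a ^ (p ^ j) = 1) (ha1 : a ≠ 1) (m : ℕ)
    (hm : m.Coprime p) (hx : x ^ m = 1) (hc : a * x = x * a) : x = 1 ∨ x = -1 := by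
  have h2 : (2 : K) ≠ 0 := two_ne_zero_of_char hp.out hp2
  have hmK : (m : K) ≠ 0 := cast_ne_zero_of_coprime hp.out hm
  have hns := not_scalar_of_pow hp2 a j ha ha1
  have hXY : (a : Matrix (Fin 2) (Fin 2) K) * (x : Matrix (Fin 2) (Fin 2) K) =
      (x : Matrix (Fin 2) (Fin 2) K) * (a : Matrix (Fin 2) (Fin 2) K) := by
    rw [← Matrix.SpecialLinearGroup.coe_mul, ← Matrix.SpecialLinearGroup.coe_mul, hc]
  obtain ⟨α, β, hαβ⟩ := exists_smul_add_of_commute hXY hns
  have htr := trace_eq_two_of_pow a j ha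
  have hda := a.det_coe
  have hdx := x.det_coe
  rw [Matrix.trace_fin_two] at htr
  rw [Matrix.det_fin_two] at hda
  rw [hαβ, Matrix.det_fin_two] at hdx
  simp only [Matrix.add_apply, Matrix.smul_apply, Matrix.one_apply_eq, smul_eq_mul, mul_one,
    Matrix.one_apply_ne (show (0 : Fin 2) ≠ 1 by decide),
    Matrix.one_apply_ne (show (1 : Fin 2) ≠ 0 by decide), mul_zero, zero_add] at hdx
  have hab : (α + β) ^ 2 = 1 := by
    linear_combination hdx - β ^ 2 * hda - α * β * htr
  have htx : (x : Matrix (Fin 2) (Fin 2) K).trace ^ 2 = 4 := by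
    rw [hαβ, Matrix.trace_fin_two]
    simp only [Matrix.add_apply, Matrix.smul_apply, Matrix.one_apply_eq, smul_eq_mul, mul_one]
    linear_combination 4 * hab + (β * (2 * α + β * (a : Matrix (Fin 2) (Fin 2) K) 0 0 +
      β * (a : Matrix (Fin 2) (Fin 2) K) 1 1 + 2 * α + 2 * β)) * htr
  have hXm : (x : Matrix (Fin 2) (Fin 2) K) ^ m = 1 := by
    rw [← Matrix.SpecialLinearGroup.coe_pow, hx, Matrix.SpecialLinearGroup.coe_one]
  rcases eq_one_or_neg_one_of_trace_sq x.det_coe htx m hmK h2 hXm with h | h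
  · left; exact Subtype.ext h
  · right
    apply Subtype.ext
    rw [h, Matrix.SpecialLinearGroup.coe_neg, Matrix.SpecialLinearGroup.coe_one]

/-- a `p`-element normalizing an abelian `p'`-subgroup of `SL(2, K)` centralizes it -/
theorem commute_of_abelian_invariant (hp2 : p ≠ 2) (B : Subgroup (SpecialLinearGroup (Fin 2) K))
    (hBc : ∀ x ∈ B, ∀ y ∈ B, x * y = y * x) (hBp : (Nat.card B).Coprime p)
    (a : SpecialLinearGroup (Fin 2) K) (j : ℕ) (ha : a ^ (p ^ j) = 1)
    (haB : a ∈ Subgroup.normalizer (B : Set (SpecialLinearGroup (Fin 2) K))) :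
    ∀ x ∈ B, a * x = x * a := by
  intro x hx
  have hy : a * x * a⁻¹ ∈ B := (Subgroup.mem_normalizer_iff.1 haB x).1 hx
  have hxn : x ^ Nat.card B = 1 := by
    have h1 : (⟨x, hx⟩ : B) ^ Nat.card B = 1 := pow_card_eq_one'
    have h2 := congrArg Subtype.val h1
    rw [Subgroup.coe_pow] at h2
    exact h2
  have h3 : a * (a * x * a⁻¹) * a⁻¹ = x := by
    rcases conj_eq_or_eq_inv hp2 x a (Nat.card B) hBp hxn (hBc x hx _ hy) with h | h
    · rw [h, h]
    · rw [h, ← conj_inv, h, inv_inv]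
  have h4 : Commute (a ^ 2) x := by
    change a ^ 2 * x = x * a ^ 2
    calc a ^ 2 * x = (a * (a * x * a⁻¹) * a⁻¹) * a ^ 2 := by rw [pow_two]; group
      _ = x * a ^ 2 := by rw [h3]
  have h2p : Nat.Coprime 2 (p ^ j) :=
    Nat.Coprime.pow_right j ((Nat.coprime_primes Nat.prime_two hp.out).2 (Ne.symm hp2))
  exact (commute_of_pow_commute ha h2p h4).eq

omit hp [CharP K p] in
/-- `r`-subgroups of `SL(2, K)` are abelian for odd `r` -/
theorem commute_of_odd_pgroup {r : ℕ} [Fact r.Prime] (hr2 : r ≠ 2)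
    (P : Subgroup (SpecialLinearGroup (Fin 2) K)) [Finite P] (hP : IsPGroup r P) :
    ∀ x ∈ P, ∀ y ∈ P, x * y = y * x := by
  intro x hx y hy
  have h2r : Nat.Coprime 2 r :=
    (Nat.coprime_primes Nat.prime_two (Fact.out : r.Prime)).2 (Ne.symm hr2)
  by_cases hne : Nontrivial P
  · haveI := hne
    have hcen : Nontrivial (Subgroup.center P) := IsPGroup.center_nontrivial hP
    obtain ⟨z, hz⟩ := exists_ne (1 : Subgroup.center P)
    have hz1 : ((z : P) : SpecialLinearGroup (Fin 2) K) ≠ 1 := by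
      intro h
      apply hz
      apply Subtype.ext
      apply Subtype.ext
      exact h
    have hzc : ∀ w ∈ P, w * ((z : P) : SpecialLinearGroup (Fin 2) K) =
        ((z : P) : SpecialLinearGroup (Fin 2) K) * w := by
      intro w hw
      have := Subgroup.mem_center_iff.1 z.2 ⟨w, hw⟩
      exact congrArg Subtype.val this
    have hzns : ∀ c : K, ((((z : P) : SpecialLinearGroup (Fin 2) K)) :
        Matrix (Fin 2) (Fin 2) K) ≠ c • (1 : Matrix (Fin 2) (Fin 2) K) := by
      intro c hc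
      have h3 := scalar_mul_self hc
      have h4 : ((z : P) : SpecialLinearGroup (Fin 2) K) ^ 2 = 1 := by rw [pow_two]; exact h3
      obtain ⟨k, hk⟩ := hP (z : P)
      have h5 : ((z : P) : SpecialLinearGroup (Fin 2) K) ^ (r ^ k) = 1 := by
        have := congrArg Subtype.val hk
        simpa using this
      have h6 : orderOf ((z : P) : SpecialLinearGroup (Fin 2) K) ∣ Nat.gcd 2 (r ^ k) :=
        Nat.dvd_gcd (orderOf_dvd_of_pow_eq_one h4) (orderOf_dvd_of_pow_eq_one h5)
      have h7 : Nat.gcd 2 (r ^ k) = 1 := Nat.Coprime.pow_right k h2r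
      rw [h7, Nat.dvd_one] at h6
      exact hz1 (orderOf_eq_one_iff.1 h6)
    have hcomm : ∀ w ∈ P, ((((z : P) : SpecialLinearGroup (Fin 2) K)) :
        Matrix (Fin 2) (Fin 2) K) * (w : Matrix (Fin 2) (Fin 2) K) =
        (w : Matrix (Fin 2) (Fin 2) K) * ((((z : P) : SpecialLinearGroup (Fin 2) K)) :
        Matrix (Fin 2) (Fin 2) K) := by
      intro w hw
      rw [← Matrix.SpecialLinearGroup.coe_mul, ← Matrix.SpecialLinearGroup.coe_mul, hzc w hw]
    have h8 := commute_of_commute hzns (hcomm x hx) (hcomm y hy)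
    apply Subtype.ext
    rw [Matrix.SpecialLinearGroup.coe_mul, Matrix.SpecialLinearGroup.coe_mul]
    exact h8
  · rw [not_nontrivial_iff_subsingleton] at hne
    have : (⟨x, hx⟩ : P) = ⟨y, hy⟩ := Subsingleton.elim _ _
    have hxy : x = y := congrArg Subtype.val this
    rw [hxy]

omit [CharP K p] in
theorem neg_one_mul_self : (-1 : SpecialLinearGroup (Fin 2) K) * (-1) = 1 := by
  apply Subtype.ext
  simp

theorem neg_one_ne_one (hp2 : p ≠ 2) : (-1 : SpecialLinearGroup (Fin 2) K) ≠ 1 := by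
  intro h
  have h2 : (2 : K) ≠ 0 := two_ne_zero_of_char hp.out hp2
  have h1 := congrArg (fun x : SpecialLinearGroup (Fin 2) K =>
    (x : Matrix (Fin 2) (Fin 2) K) 0 0) h
  simp only [Matrix.SpecialLinearGroup.coe_neg, Matrix.SpecialLinearGroup.coe_one,
    Matrix.neg_apply, Matrix.one_apply_eq] at h1
  apply h2
  linear_combination -h1

omit hp [CharP K p] in
theorem neg_one_comm (x : SpecialLinearGroup (Fin 2) K) :
    (-1 : SpecialLinearGroup (Fin 2) K) * x = x * (-1) := by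
  apply Subtype.ext
  simp

omit hp [CharP K p] in
/-- the image of the center of `P` is normalized by `N(P)` -/
theorem normalizer_le_normalizer_center {G : Type*} [Group G] (P : Subgroup G) :
    Subgroup.normalizer (P : Set G) ≤
      Subgroup.normalizer (((Subgroup.center P).map P.subtype : Subgroup G) : Set G) := by
  apply Cfsg.Agent.Lib.Helper1.le_normalizer_of_forall_conj_mem
  rintro x hx _ ⟨z, hz, rfl⟩
  have hxz : x * (z : G) * x⁻¹ ∈ P := (Subgroup.mem_normalizer_iff.1 hx _).1 z.2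
  have hz' : z ∈ Subgroup.center P := hz
  refine ⟨⟨_, hxz⟩, ?_, rfl⟩
  rw [SetLike.mem_coe, Subgroup.mem_center_iff]
  intro g
  apply Subtype.ext
  have hg' : x⁻¹ * (g : G) * x ∈ P := by
    have := (Subgroup.mem_normalizer_iff.1 hx (x⁻¹ * (g : G) * x)).2
    apply this
    have e : x * (x⁻¹ * (g : G) * x) * x⁻¹ = g := by group
    rw [e]
    exact g.2
  have h1 := Subgroup.mem_center_iff.1 hz' ⟨_, hg'⟩
  have h2 : x⁻¹ * (g : G) * x * (z : G) = (z : G) * (x⁻¹ * (g : G) * x) := congrArg Subtype.val h1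
  change (g : G) * (x * (z : G) * x⁻¹) = x * (z : G) * x⁻¹ * (g : G)
  calc (g : G) * (x * (z : G) * x⁻¹) = x * (x⁻¹ * (g : G) * x * (z : G)) * x⁻¹ := by group
    _ = x * ((z : G) * (x⁻¹ * (g : G) * x)) * x⁻¹ := by rw [h2]
    _ = x * (z : G) * x⁻¹ * (g : G) := by group

/-- **The `2`-group case.** A `p`-element of `SL(2, K)` acting nontrivially on a `2`-subgroup
forces `p = 3`. -/
theorem p_eq_three_of_two_group (hp2 : p ≠ 2) (P : Subgroup (SpecialLinearGroup (Fin 2) K))
    [Finite P] (hP : IsPGroup 2 P) (a : SpecialLinearGroup (Fin 2) K) (j : ℕ)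
    (ha : a ^ (p ^ j) = 1)
    (haP : a ∈ Subgroup.normalizer (P : Set (SpecialLinearGroup (Fin 2) K)))
    (hna : ∃ x ∈ P, a * x ≠ x * a) : p = 3 := by
  by_contra hp3
  have hpp : p.Prime := hp.out
  have h2 : (2 : K) ≠ 0 := two_ne_zero_of_char hpp hp2
  have h2p : Nat.Coprime 2 p := (Nat.coprime_primes Nat.prime_two hpp).2 (Ne.symm hp2)
  have h3p : Nat.Coprime 3 p := (Nat.coprime_primes Nat.prime_three hpp).2 (Ne.symm hp3)
  have ha1 : a ≠ 1 := by
    rintro rfl
    obtain ⟨x, _, hx⟩ := hna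
    exact hx (by rw [one_mul, mul_one])
  obtain ⟨n2, hn2⟩ := IsPGroup.iff_card.1 hP
  have hPp : (Nat.card P).Coprime p := by rw [hn2]; exact Nat.Coprime.pow_left _ h2p
  have hpowP : ∀ x ∈ P, x ^ Nat.card P = 1 := by
    intro x hx
    have h1 : (⟨x, hx⟩ : P) ^ Nat.card P = 1 := pow_card_eq_one'
    have h2 := congrArg Subtype.val h1
    rw [Subgroup.coe_pow] at h2
    exact h2
  have hCa : ∀ x ∈ P, a * x = x * a → x = 1 ∨ x = -1 := fun x hx hc =>
    eq_one_or_neg_one_of_commute_unipotent hp2 a x j ha ha1 (Nat.card P) hPp (hpowP x hx) hc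
  have hconj : ∀ x ∈ P, a * x * a⁻¹ ∈ P := fun x hx => (Subgroup.mem_normalizer_iff.1 haP x).1 hx
  -- the center
  obtain ⟨B, hB⟩ : ∃ B : Subgroup (SpecialLinearGroup (Fin 2) K),
      B = (Subgroup.center P).map P.subtype := ⟨_, rfl⟩
  have hBmem : ∀ z, z ∈ B ↔ z ∈ P ∧ ∀ g ∈ P, g * z = z * g := by
    intro z
    rw [hB]
    constructor
    · rintro ⟨z', hz', rfl⟩
      exact ⟨z'.2, fun g hg => congrArg Subtype.val (Subgroup.mem_center_iff.1 hz' ⟨g, hg⟩)⟩
    · rintro ⟨hzP, hz⟩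
      exact ⟨⟨z, hzP⟩, Subgroup.mem_center_iff.2 (fun g => Subtype.ext (hz g g.2)), rfl⟩
  have hBc : ∀ x ∈ B, ∀ y ∈ B, x * y = y * x := by
    intro x hx y hy
    exact ((hBmem y).1 hy).2 x ((hBmem x).1 hx).1
  have hBP : B ≤ P := fun z hz => ((hBmem z).1 hz).1
  have hBp : (Nat.card B).Coprime p :=
    Nat.Coprime.coprime_dvd_left (Subgroup.card_dvd_of_le hBP) hPp
  have haB : a ∈ Subgroup.normalizer (B : Set (SpecialLinearGroup (Fin 2) K)) := by
    rw [hB]
    exact normalizer_le_normalizer_center P haP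
  have haBc := commute_of_abelian_invariant hp2 B hBc hBp a j ha haB
  have hBpm : ∀ z ∈ B, z = 1 ∨ z = -1 := fun z hz => hCa z (hBP hz) (haBc z hz)
  have hcen : Subgroup.center P ≠ ⊤ := by
    intro htop
    obtain ⟨x, hx, hxa⟩ := hna
    apply hxa
    apply haBc
    rw [hB]
    exact ⟨⟨x, hx⟩, by rw [htop]; trivial, rfl⟩
  obtain ⟨y', hy1, hy2, hy3⟩ := exists_second_center hP hcen
  obtain ⟨y, hy⟩ : ∃ y : SpecialLinearGroup (Fin 2) K, y = (y' : SpecialLinearGroup (Fin 2) K) :=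
    ⟨_, rfl⟩
  have hyP : y ∈ P := by rw [hy]; exact y'.2
  have hyB : y ∉ B := by
    rw [hB]
    rintro ⟨z, hz, hzy⟩
    apply hy1
    have : z = y' := Subtype.ext (by rw [← hy]; exact hzy)
    rwa [this] at hz
  have hyy : y * y ∈ B := by
    rw [hB]
    exact ⟨y' ^ 2, hy2, by rw [hy, pow_two]; rfl⟩
  have hyg : ∀ g ∈ P, y * g * y⁻¹ * g⁻¹ ∈ B := by
    intro g hg
    rw [hB]
    refine ⟨⁅y', ⟨g, hg⟩⁆, hy3 _, ?_⟩
    rw [hy, commutatorElement_def]
    rfl
  -- the central involution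
  obtain ⟨ε, hε⟩ : ∃ ε : SpecialLinearGroup (Fin 2) K, ε = -1 := ⟨_, rfl⟩
  have hεc : ∀ x, ε * x = x * ε := by intro x; rw [hε]; exact neg_one_comm x
  have hε2 : ε * ε = 1 := by rw [hε]; exact neg_one_mul_self
  rw [← hε] at hBpm hCa
  have hy_ne : ¬ (y = 1 ∨ y = ε) := by
    rintro (h | h)
    · exact hyB (h ▸ B.one_mem)
    · apply hyB
      rw [hBmem]
      refine ⟨hyP, fun g _ => ?_⟩
      rw [h]
      exact (hεc g).symm
  have hya : a * y ≠ y * a := fun h => hy_ne (hCa y hyP h)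
  have hyy' : y * y = ε := by
    rcases hBpm _ hyy with h | h
    · exfalso
      apply hy_ne
      rw [hε]
      exact eq_one_or_neg_one_of_mul_self h2 y h
    · exact h
  -- conjugates of `y` by powers of `a` do not commute with `y`
  have hkey : ∀ (b : SpecialLinearGroup (Fin 2) K) (k : ℕ), b = a ^ k → (2 * k).Coprime (p ^ j) →
      y * (b * y * b⁻¹) ≠ (b * y * b⁻¹) * y := by
    intro b k hb hk hcomm
    rcases conj_eq_or_eq_inv hp2 y b (Nat.card P) hPp (hpowP y hyP) hcomm with h | h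
    · have h4 : Commute (a ^ k) y := by
        rw [← hb]
        change b * y = y * b
        calc b * y = (b * y * b⁻¹) * b := by group
          _ = y * b := by rw [h]
      exact hya (commute_of_pow_commute ha (Nat.Coprime.coprime_mul_left hk) h4).eq
    · have h3 : b * (b * y * b⁻¹) * b⁻¹ = y := by rw [h, ← conj_inv, h, inv_inv]
      have h4 : Commute (a ^ (2 * k)) y := by
        rw [mul_comm 2 k, pow_mul, ← hb]
        change b ^ 2 * y = y * b ^ 2
        calc b ^ 2 * y = (b * (b * y * b⁻¹) * b⁻¹) * b ^ 2 := by rw [pow_two]; group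
          _ = y * b ^ 2 := by rw [h3]
      exact hya (commute_of_pow_commute ha hk h4).eq
  have h21 : (2 * 1).Coprime (p ^ j) := Nat.Coprime.pow_right j (by simpa using h2p)
  have h22 : (2 * 2).Coprime (p ^ j) :=
    Nat.Coprime.pow_right j (Nat.Coprime.mul_left h2p h2p)
  obtain ⟨y₁, hy₁⟩ : ∃ y₁, y₁ = a * y * a⁻¹ := ⟨_, rfl⟩
  obtain ⟨y₂, hy₂⟩ : ∃ y₂, y₂ = a * y₁ * a⁻¹ := ⟨_, rfl⟩
  have hy₁P : y₁ ∈ P := by rw [hy₁]; exact hconj y hyP
  have hy₂P : y₂ ∈ P := by rw [hy₂]; exact hconj y₁ hy₁P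
  have hy₂eq : y₂ = (a * a) * y * (a * a)⁻¹ := by rw [hy₂, hy₁]; group
  -- conjugation relations
  have hconjrel : ∀ w ∈ P, y * w ≠ w * y → MulAut.conj y w = ε * w := by
    intro w hw hne
    rw [MulAut.conj_apply]
    rcases hBpm _ (hyg w hw) with h | h
    · exfalso
      apply hne
      calc y * w = (y * w * y⁻¹ * w⁻¹) * (w * y) := by group
        _ = w * y := by rw [h, one_mul]
    · calc y * w * y⁻¹ = (y * w * y⁻¹ * w⁻¹) * w := by group
        _ = ε * w := by rw [h]
  have R01 : MulAut.conj y y₁ = ε * y₁ :=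
    hconjrel y₁ hy₁P (by rw [hy₁]; exact hkey a 1 (pow_one a).symm h21)
  have R02 : MulAut.conj y y₂ = ε * y₂ :=
    hconjrel y₂ hy₂P (by rw [hy₂eq]; exact hkey (a * a) 2 (pow_two a).symm h22)
  have hcε : ∀ g, MulAut.conj g ε = ε := by
    intro g
    rw [MulAut.conj_apply, ← hεc, mul_inv_cancel_right]
  have hself : ∀ g : SpecialLinearGroup (Fin 2) K, MulAut.conj g g = g := by
    intro g
    rw [MulAut.conj_apply, mul_inv_cancel_right]
  -- `conj w y = ε y` from `conj y w = ε w`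
  have hswap : ∀ w, MulAut.conj y w = ε * w → MulAut.conj w y = ε * y := by
    intro w hw
    rw [MulAut.conj_apply] at hw ⊢
    have h1 : y * w = ε * w * y := by
      calc y * w = (y * w * y⁻¹) * y := by group
        _ = ε * w * y := by rw [hw]
    have h2 : w * y = ε * (y * w) := by
      rw [h1, ← mul_assoc, ← mul_assoc, hε2, one_mul]
    calc w * y * w⁻¹ = ε * (y * w) * w⁻¹ := by rw [h2]
      _ = ε * y := by group
  have R1 : MulAut.conj y₁ y = ε * y := hswap y₁ R01
  have R2 : MulAut.conj y₂ y = ε * y := hswap y₂ R02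
  have R12 : MulAut.conj y₂ y₁ = ε * y₁ := by
    have h1 : MulAut.conj y₂ y₁ = MulAut.conj a (MulAut.conj y₁ y) := by
      simp only [MulAut.conj_apply, hy₂, hy₁]
      group
    rw [h1, R1, map_mul, hcε, MulAut.conj_apply, ← hy₁]
  -- the element `s = y₂ y₁ y`
  obtain ⟨s, hs⟩ : ∃ s, s = y₂ * y₁ * y := ⟨_, rfl⟩
  have hsy : MulAut.conj s y = y := by
    rw [hs, map_mul, map_mul, MulAut.mul_apply, MulAut.mul_apply, hself, R1, map_mul, hcε, R2,
      ← mul_assoc, hε2, one_mul]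
  have hsy₁ : MulAut.conj s y₁ = y₁ := by
    rw [hs, map_mul, map_mul, MulAut.mul_apply, MulAut.mul_apply, R01, map_mul, hcε, hself,
      map_mul, hcε, R12, ← mul_assoc, hε2, one_mul]
  have hsy' : y * s = s * y := by
    rw [MulAut.conj_apply] at hsy
    calc y * s = (s * y * s⁻¹) * s := by rw [hsy]
      _ = s * y := by group
  have hsy₁' : s * y₁ = y₁ * s := by
    rw [MulAut.conj_apply] at hsy₁
    calc s * y₁ = (s * y₁ * s⁻¹) * s := by group
      _ = y₁ * s := by rw [hsy₁]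
  -- `s` is scalar
  have hyns : ∀ c : K, (y : Matrix (Fin 2) (Fin 2) K) ≠ c • (1 : Matrix (Fin 2) (Fin 2) K) := by
    intro c hc
    have h3 := scalar_mul_self hc
    rw [hyy'] at h3
    rw [hε] at h3
    exact neg_one_ne_one hp2 h3
  have hYS : (y : Matrix (Fin 2) (Fin 2) K) * (s : Matrix (Fin 2) (Fin 2) K) =
      (s : Matrix (Fin 2) (Fin 2) K) * (y : Matrix (Fin 2) (Fin 2) K) := by
    rw [← Matrix.SpecialLinearGroup.coe_mul, ← Matrix.SpecialLinearGroup.coe_mul, hsy']
  obtain ⟨α, β, hαβ⟩ := exists_smul_add_of_commute hYS hyns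
  have hSY₁ : (s : Matrix (Fin 2) (Fin 2) K) * (y₁ : Matrix (Fin 2) (Fin 2) K) =
      (y₁ : Matrix (Fin 2) (Fin 2) K) * (s : Matrix (Fin 2) (Fin 2) K) := by
    rw [← Matrix.SpecialLinearGroup.coe_mul, ← Matrix.SpecialLinearGroup.coe_mul, hsy₁']
  have hYY₁ : (y₁ : Matrix (Fin 2) (Fin 2) K) * (y : Matrix (Fin 2) (Fin 2) K) =
      -((y : Matrix (Fin 2) (Fin 2) K) * (y₁ : Matrix (Fin 2) (Fin 2) K)) := by
    have h1 : y₁ * y = ε * (y * y₁) := by
      have := R1
      rw [MulAut.conj_apply] at this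
      calc y₁ * y = (y₁ * y * y₁⁻¹) * y₁ := by group
        _ = ε * y * y₁ := by rw [this]
        _ = ε * (y * y₁) := by group
    have h2 := congrArg (fun x : SpecialLinearGroup (Fin 2) K =>
      (x : Matrix (Fin 2) (Fin 2) K)) h1
    simp only [Matrix.SpecialLinearGroup.coe_mul, hε, Matrix.SpecialLinearGroup.coe_neg,
      neg_mul, one_mul] at h2
    exact h2
  have hβ : β = 0 := by
    rw [hαβ] at hSY₁
    simp only [add_mul, mul_add, smul_mul_assoc, mul_smul_comm, one_mul, mul_one] at hSY₁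
    have h1 := add_left_cancel hSY₁
    rw [hYY₁, smul_neg] at h1
    have h3 : (2 * β) • ((y : Matrix (Fin 2) (Fin 2) K) * (y₁ : Matrix (Fin 2) (Fin 2) K)) = 0 := by
      rw [mul_smul, two_smul]
      nth_rewrite 2 [h1]
      rw [add_neg_cancel]
    have h4 := congrArg (fun M : Matrix (Fin 2) (Fin 2) K =>
      M * (((y * y₁)⁻¹ : SpecialLinearGroup (Fin 2) K) : Matrix (Fin 2) (Fin 2) K)) h3
    simp only [smul_mul_assoc, zero_mul] at h4
    rw [← Matrix.SpecialLinearGroup.coe_mul, ← Matrix.SpecialLinearGroup.coe_mul, mul_inv_cancel,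
      Matrix.SpecialLinearGroup.coe_one] at h4
    have h5 := congrFun (congrFun h4 0) 0
    simp only [Matrix.smul_apply, Matrix.one_apply_eq, smul_eq_mul, mul_one,
      Matrix.zero_apply] at h5
    exact (mul_eq_zero.1 h5).resolve_left h2
  have hs1 : s = 1 ∨ s = ε := by
    rw [hε]
    apply eq_one_or_neg_one_of_mul_self h2
    apply scalar_mul_self (c := α)
    rw [hαβ, hβ, zero_smul, add_zero]
  have hsc : ∀ g, MulAut.conj g s = s := by
    intro g
    rcases hs1 with h | h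
    · rw [h, map_one]
    · rw [h]; exact hcε g
  -- `a³` centralizes `y`
  obtain ⟨y₃, hy₃⟩ : ∃ y₃, y₃ = a * y₂ * a⁻¹ := ⟨_, rfl⟩
  have h5 : y₃ * y₂ * y₁ = y₂ * y₁ * y := by
    have h6 := hsc a
    rw [hs, map_mul, map_mul, MulAut.conj_apply, MulAut.conj_apply, MulAut.conj_apply, ← hy₁,
      ← hy₂, ← hy₃] at h6
    exact h6
  have h6 : y₃ = y := by
    have h7 : y₃ = MulAut.conj y₂ (MulAut.conj y₁ y) := by
      rw [MulAut.conj_apply, MulAut.conj_apply]
      calc y₃ = (y₃ * y₂ * y₁) * y₁⁻¹ * y₂⁻¹ := by group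
        _ = (y₂ * y₁ * y) * y₁⁻¹ * y₂⁻¹ := by rw [h5]
        _ = y₂ * (y₁ * y * y₁⁻¹) * y₂⁻¹ := by group
    rw [h7, R1, map_mul, hcε, R2, ← mul_assoc, hε2, one_mul]
  have h7 : Commute (a ^ 3) y := by
    change a ^ 3 * y = y * a ^ 3
    have h8 : y₃ = a ^ 3 * y * (a ^ 3)⁻¹ := by
      rw [hy₃, hy₂, hy₁, pow_succ, pow_two]
      group
    rw [h8] at h6
    calc a ^ 3 * y = (a ^ 3 * y * (a ^ 3)⁻¹) * a ^ 3 := by group
      _ = y * a ^ 3 := by rw [h6]
  exact hya (commute_of_pow_commute ha (Nat.Coprime.pow_right j h3p) h7).eq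

/-- **`p = 3`.** A `p`-element of `SL(2, K)` (`K` finite of odd characteristic `p`) normalizing
a `p'`-subgroup `R` without centralizing it exists only for `p = 3`. -/
theorem p_eq_three [Finite K] (hp2 : p ≠ 2) (R : Subgroup (SpecialLinearGroup (Fin 2) K))
    (hR : (Nat.card R).Coprime p) (a : SpecialLinearGroup (Fin 2) K) (j : ℕ)
    (ha : a ^ (p ^ j) = 1)
    (haR : a ∈ Subgroup.normalizer (R : Set (SpecialLinearGroup (Fin 2) K)))
    (hna : ∃ x ∈ R, a * x ≠ x * a) : p = 3 := by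
  by_contra hp3
  have hpp : p.Prime := hp.out
  obtain ⟨x₀, hx₀, hx₀a⟩ := hna
  apply hx₀a
  -- coprime action of `⟨a⟩` on `R`
  have hcardA : Nat.card (Subgroup.zpowers a) ∣ p ^ j := by
    rw [Nat.card_zpowers]
    exact orderOf_dvd_of_pow_eq_one ha
  have hact : Cfsg.Agent.Lib.Helper1.CoprimeAct (Subgroup.zpowers a) R := by
    refine ⟨Subgroup.zpowers_le.2 haR, ?_, Or.inl ?_⟩
    · exact Nat.Coprime.coprime_dvd_left hcardA (Nat.Coprime.pow_left j hR.symm)
    · apply Group.isSolvable_of_comm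
      rintro ⟨x, hx⟩ ⟨y, hy⟩
      rw [Subgroup.mem_zpowers_iff] at hx hy
      obtain ⟨m, rfl⟩ := hx
      obtain ⟨n, rfl⟩ := hy
      apply Subtype.ext
      exact (Commute.zpow_zpow_self a m n).eq
  -- the centralizer of `a` in `R`
  obtain ⟨C, hC⟩ : ∃ C : Subgroup (SpecialLinearGroup (Fin 2) K),
      C = R ⊓ Subgroup.centralizer {a} := ⟨_, rfl⟩
  have hCmem : ∀ x, x ∈ C ↔ x ∈ R ∧ a * x = x * a := by
    intro x
    rw [hC, Subgroup.mem_inf, Subgroup.mem_centralizer_singleton_iff]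
    constructor
    · rintro ⟨h1, h2⟩; exact ⟨h1, h2.symm⟩
    · rintro ⟨h1, h2⟩; exact ⟨h1, h2.symm⟩
  have hCR : C ≤ R := by rw [hC]; exact inf_le_left
  have hsyl : ∀ r : ℕ, r.Prime → (Nat.card R).factorization r ≤ (Nat.card C).factorization r := by
    intro r hr
    haveI : Fact r.Prime := ⟨hr⟩
    obtain ⟨Q, hQ⟩ := hact.exists_invariant_sylSet r
    have haQ : a ∈ Subgroup.normalizer (Q.1 : Set (SpecialLinearGroup (Fin 2) K)) :=
      hQ (Subgroup.mem_zpowers a)
    have hQp : IsPGroup r Q.1 := IsPGroup.of_card Q.2.2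
    have hQcop : (Nat.card Q.1).Coprime p :=
      Nat.Coprime.coprime_dvd_left (Subgroup.card_dvd_of_le Q.2.1) hR
    have hQC : Q.1 ≤ C := by
      intro x hx
      rw [hCmem]
      refine ⟨Q.2.1 hx, ?_⟩
      by_cases hr2 : r = 2
      · subst hr2
        by_contra hne
        exact hp3 (p_eq_three_of_two_group hp2 Q.1 hQp a j ha haQ ⟨x, hx, hne⟩)
      · exact commute_of_abelian_invariant hp2 Q.1 (commute_of_odd_pgroup hr2 Q.1 hQp) hQcop a j
          ha haQ x hx
    have h1 : r ^ (Nat.card R).factorization r ∣ Nat.card C := by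
      rw [← Q.2.2]
      exact Subgroup.card_dvd_of_le hQC
    exact (Nat.Prime.pow_dvd_iff_le_factorization hr Nat.card_pos.ne').1 h1
  have hdvd : Nat.card R ∣ Nat.card C :=
    (Nat.factorization_prime_le_iff_dvd Nat.card_pos.ne' Nat.card_pos.ne').1 hsyl
  have hCeq : C = R :=
    Subgroup.eq_of_le_of_card_ge hCR (Nat.le_of_dvd Nat.card_pos hdvd)
  have := (hCmem x₀).1 (hCeq ▸ hx₀)
  exact this.2

/-- a `p`-element normalizing a `p`-subgroup `U` of `SL(2, K)` centralizes it -/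
theorem commute_of_pgroup_invariant (hp2 : p ≠ 2) (U : Subgroup (SpecialLinearGroup (Fin 2) K))
    [Finite U] (hU : IsPGroup p U) (g : SpecialLinearGroup (Fin 2) K) (i : ℕ)
    (hg : g ^ (p ^ i) = 1) (hgU : ∀ u ∈ U, g * u * g⁻¹ ∈ U) : ∀ u ∈ U, g * u = u * g := by
  intro u hu
  by_cases hu1 : u = 1
  · rw [hu1, mul_one, one_mul]
  have hpp : p.Prime := hp.out
  have h2 : (2 : K) ≠ 0 := two_ne_zero_of_char hpp hp2
  obtain ⟨k, hk⟩ := hU ⟨u, hu⟩
  have huk : u ^ (p ^ k) = 1 := by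
    have := congrArg Subtype.val hk
    simpa using this
  have hu'k : (g * u * g⁻¹) ^ (p ^ k) = 1 := by
    rw [conj_pow, huk, mul_one, mul_inv_cancel]
  have hcomm : u * (g * u * g⁻¹) = (g * u * g⁻¹) * u :=
    commute_of_odd_pgroup hp2 U hU u hu _ (hgU u hu)
  have hns := not_scalar_of_pow hp2 u k huk hu1
  have hXY : (u : Matrix (Fin 2) (Fin 2) K) * ((g * u * g⁻¹ : SpecialLinearGroup (Fin 2) K) :
      Matrix (Fin 2) (Fin 2) K) = ((g * u * g⁻¹ : SpecialLinearGroup (Fin 2) K) :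
      Matrix (Fin 2) (Fin 2) K) * (u : Matrix (Fin 2) (Fin 2) K) := by
    rw [← Matrix.SpecialLinearGroup.coe_mul, ← Matrix.SpecialLinearGroup.coe_mul, hcomm]
  obtain ⟨α, β, hαβ⟩ := exists_smul_add_of_commute hXY hns
  have htr := trace_eq_two_of_pow u k huk
  have htr' := trace_eq_two_of_pow (g * u * g⁻¹) k hu'k
  rw [hαβ, Matrix.trace_add, Matrix.trace_smul, Matrix.trace_smul, htr, Matrix.trace_one,
    Fintype.card_fin] at htr'
  simp only [smul_eq_mul, Nat.cast_ofNat] at htr'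
  have hα : α = 1 - β := by
    have : 2 * (α + β - 1) = 0 := by linear_combination htr'
    have := (mul_eq_zero.1 this).resolve_left h2
    linear_combination this
  -- `G U = U' G`
  have hGU : (g : Matrix (Fin 2) (Fin 2) K) * (u : Matrix (Fin 2) (Fin 2) K) =
      ((g * u * g⁻¹ : SpecialLinearGroup (Fin 2) K) : Matrix (Fin 2) (Fin 2) K) *
        (g : Matrix (Fin 2) (Fin 2) K) := by
    rw [← Matrix.SpecialLinearGroup.coe_mul, ← Matrix.SpecialLinearGroup.coe_mul,
      inv_mul_cancel_right]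
  rw [hαβ, hα] at hGU
  have hGN : (g : Matrix (Fin 2) (Fin 2) K) * ((u : Matrix (Fin 2) (Fin 2) K) - 1) =
      β • (((u : Matrix (Fin 2) (Fin 2) K) - 1) * (g : Matrix (Fin 2) (Fin 2) K)) := by
    rw [mul_sub, mul_one, hGU, sub_mul, one_mul, smul_sub, add_mul, smul_mul_assoc, one_mul,
      smul_mul_assoc, sub_smul, one_smul]
    abel
  have hpow : ∀ n : ℕ, (g : Matrix (Fin 2) (Fin 2) K) ^ n * ((u : Matrix (Fin 2) (Fin 2) K) - 1) =
      β ^ n • (((u : Matrix (Fin 2) (Fin 2) K) - 1) * (g : Matrix (Fin 2) (Fin 2) K) ^ n) := by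
    intro n
    induction n with
    | zero => simp
    | succ n ih =>
      rw [pow_succ, mul_assoc, hGN, mul_smul_comm, ← mul_assoc, ih, smul_mul_assoc, smul_smul,
        mul_assoc, ← pow_succ, ← pow_succ']
  have hGp : (g : Matrix (Fin 2) (Fin 2) K) ^ (p ^ i) = 1 := by
    rw [← Matrix.SpecialLinearGroup.coe_pow, hg, Matrix.SpecialLinearGroup.coe_one]
  have h3 := hpow (p ^ i)
  rw [hGp, one_mul, mul_one] at h3
  have hN0 : (u : Matrix (Fin 2) (Fin 2) K) - 1 ≠ 0 := by
    intro h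
    apply hu1
    apply Subtype.ext
    rw [Matrix.SpecialLinearGroup.coe_one]
    exact sub_eq_zero.1 h
  have hβ : β ^ (p ^ i) = 1 := by
    have h4 : (1 - β ^ (p ^ i)) • ((u : Matrix (Fin 2) (Fin 2) K) - 1) = 0 := by
      rw [sub_smul, one_smul, ← h3, sub_self]
    rcases smul_eq_zero.1 h4 with h | h
    · exact (sub_eq_zero.1 h).symm
    · exact absurd h hN0
  have hβ1 : β = 1 := by
    have h5 : (β - 1) ^ (p ^ i) = 0 := by rw [sub_pow_char_pow, hβ, one_pow, sub_self]
    exact sub_eq_zero.1 (pow_eq_zero_iff (pow_pos hpp.pos i).ne' |>.1 h5)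
  rw [hβ1, one_smul] at hGN
  apply Subtype.ext
  rw [Matrix.SpecialLinearGroup.coe_mul, Matrix.SpecialLinearGroup.coe_mul]
  have h6 := hGN
  rw [mul_sub, sub_mul, mul_one, one_mul] at h6
  exact sub_left_injective h6

/-- a subgroup of `SL(2, K)` generated by `p`-elements with a nontrivial normal `p`-subgroup is a
`p`-group -/
theorem isPGroup_closure_of_normal_pgroup (hp2 : p ≠ 2)
    (S : Set (SpecialLinearGroup (Fin 2) K)) (hSp : ∀ g ∈ S, ∃ i : ℕ, g ^ (p ^ i) = 1)
    (U : Subgroup (SpecialLinearGroup (Fin 2) K)) [Finite U] (hU : IsPGroup p U) (hUne : U ≠ ⊥)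
    (hSU : ∀ g ∈ S, ∀ u ∈ U, g * u * g⁻¹ ∈ U) : IsPGroup p (Subgroup.closure S) := by
  obtain ⟨u, hu, hu1⟩ : ∃ u ∈ U, u ≠ 1 := by
    by_contra hcon
    push Not at hcon
    apply hUne
    rw [eq_bot_iff]
    intro x hx
    rw [Subgroup.mem_bot]
    exact hcon x hx
  obtain ⟨k, hk⟩ := hU ⟨u, hu⟩
  have huk : u ^ (p ^ k) = 1 := by
    have := congrArg Subtype.val hk
    simpa using this
  have hns := not_scalar_of_pow hp2 u k huk hu1
  -- every element of the closure commutes with `u`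
  have hcu : ∀ g ∈ Subgroup.closure S, u * g = g * u := by
    have hle : Subgroup.closure S ≤ Subgroup.centralizer {u} := by
      rw [Subgroup.closure_le]
      intro g hg
      obtain ⟨i, hi⟩ := hSp g hg
      rw [SetLike.mem_coe, Subgroup.mem_centralizer_singleton_iff]
      exact commute_of_pgroup_invariant hp2 U hU g i hi (hSU g hg) u hu
    intro g hg
    have := hle hg
    rw [Subgroup.mem_centralizer_singleton_iff] at this
    exact this.symm
  have hab : ∀ g ∈ Subgroup.closure S, ∀ h ∈ Subgroup.closure S, g * h = h * g := by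
    intro g hg h hh
    have h1 : (u : Matrix (Fin 2) (Fin 2) K) * (g : Matrix (Fin 2) (Fin 2) K) =
        (g : Matrix (Fin 2) (Fin 2) K) * (u : Matrix (Fin 2) (Fin 2) K) := by
      rw [← Matrix.SpecialLinearGroup.coe_mul, ← Matrix.SpecialLinearGroup.coe_mul, hcu g hg]
    have h2 : (u : Matrix (Fin 2) (Fin 2) K) * (h : Matrix (Fin 2) (Fin 2) K) =
        (h : Matrix (Fin 2) (Fin 2) K) * (u : Matrix (Fin 2) (Fin 2) K) := by
      rw [← Matrix.SpecialLinearGroup.coe_mul, ← Matrix.SpecialLinearGroup.coe_mul, hcu h hh]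
    have h3 := commute_of_commute hns h1 h2
    apply Subtype.ext
    rw [Matrix.SpecialLinearGroup.coe_mul, Matrix.SpecialLinearGroup.coe_mul]
    exact h3
  -- an abelian group generated by `p`-elements is a `p`-group
  have hall : ∀ g ∈ Subgroup.closure S, ∃ i : ℕ, g ^ (p ^ i) = 1 := by
    intro g hg
    induction hg using Subgroup.closure_induction with
    | mem x hx => exact hSp x hx
    | one => exact ⟨0, one_pow _⟩
    | mul x y hx hy ihx ihy =>
      obtain ⟨i, hi⟩ := ihx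
      obtain ⟨i', hi'⟩ := ihy
      refine ⟨i + i', ?_⟩
      have hc : Commute x y := hab x hx y hy
      rw [hc.mul_pow, pow_add, pow_mul, hi, one_pow, mul_comm (p ^ i) (p ^ i'), pow_mul, hi',
        one_pow, one_mul]
    | inv x hx ih =>
      obtain ⟨i, hi⟩ := ih
      exact ⟨i, by rw [inv_pow, hi, inv_one]⟩
  intro g
  obtain ⟨i, hi⟩ := hall g g.2
  exact ⟨i, Subtype.ext (by rw [Subgroup.coe_pow]; exact hi)⟩

end SL2

end Cfsg.H5.SL2
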