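import Mathlib
import Cfsg.Agent.H5.SL2Three
import Cfsg.Agent.Lib.Helper10.UniqueOrderP
import Cfsg.Agent.Lib.Helper23.SL23Recog

/-!
# The quaternion group and `SL(2, 3)` inside `SL(2, K)`

`K` a finite field of odd characteristic `p`, `a` a `p`-element of `SL(2, K)` normalizing a
`p'`-subgroup `R` without centralizing it. Then (`p = 3` and) `R` is a quaternion group of order `8`
and `R ⊔ ⟨a⟩` is isomorphic to `SL(2, 3)`.
-/

set_option autoImplicit false
set_option linter.style.haveILetI false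

namespace Cfsg.H5.SL2

open Matrix
open scoped commutatorElement

section SL2

variable {K : Type*} [Field K] {p : ℕ} [hp : Fact p.Prime] [CharP K p]

/-- **Structure data of the `2`-group case.** A `p`-element `a` of `SL(2, K)` acting nontrivially
on a `2`-subgroup `P`: there is `y ∈ P` with `y² = -1`, anticommuting with `a y a⁻¹`, and with all
commutators `[y, g]`, `g ∈ P`, equal to `±1`. -/
theorem two_group_data (hp2 : p ≠ 2) (P : Subgroup (SpecialLinearGroup (Fin 2) K))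
    [Finite P] (hP : IsPGroup 2 P) (a : SpecialLinearGroup (Fin 2) K) (j : ℕ)
    (ha : a ^ (p ^ j) = 1)
    (haP : a ∈ Subgroup.normalizer (P : Set (SpecialLinearGroup (Fin 2) K)))
    (hna : ∃ x ∈ P, a * x ≠ x * a) :
    ∃ y ∈ P, y * y = -1 ∧ MulAut.conj y (a * y * a⁻¹) = -1 * (a * y * a⁻¹) ∧
      ∀ g ∈ P, y * g * y⁻¹ * g⁻¹ = 1 ∨ y * g * y⁻¹ * g⁻¹ = -1 := by
  have hpp : p.Prime := hp.out
  have h2 : (2 : K) ≠ 0 := two_ne_zero_of_char hpp hp2
  have h2p : Nat.Coprime 2 p := (Nat.coprime_primes Nat.prime_two hpp).2 (Ne.symm hp2)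
  have ha1 : a ≠ 1 := by
    rintro rfl
    obtain ⟨x, _, hx⟩ := hna
    exact hx (by rw [one_mul, mul_one])
  obtain ⟨n2, hn2⟩ := IsPGroup.iff_card.1 hP
  have hPp : (Nat.card P).Coprime p := by rw [hn2]; exact Nat.Coprime.pow_left _ h2p
  have hpowP : ∀ x ∈ P, x ^ Nat.card P = 1 := by
    intro x hx
    have h1 : (⟨x, hx⟩ : P) ^ Nat.card P = 1 := pow_card_eq_one'
    have h2 := congrArg Subtype.val h1
    rw [Subgroup.coe_pow] at h2
    exact h2
  have hCa : ∀ x ∈ P, a * x = x * a → x = 1 ∨ x = -1 := fun x hx hc =>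
    eq_one_or_neg_one_of_commute_unipotent hp2 a x j ha ha1 (Nat.card P) hPp (hpowP x hx) hc
  have hconj : ∀ x ∈ P, a * x * a⁻¹ ∈ P := fun x hx => (Subgroup.mem_normalizer_iff.1 haP x).1 hx
  -- the center
  obtain ⟨B, hB⟩ : ∃ B : Subgroup (SpecialLinearGroup (Fin 2) K),
      B = (Subgroup.center P).map P.subtype := ⟨_, rfl⟩
  have hBmem : ∀ z, z ∈ B ↔ z ∈ P ∧ ∀ g ∈ P, g * z = z * g := by
    intro z
    rw [hB]
    constructor
    · rintro ⟨z', hz', rfl⟩
      exact ⟨z'.2, fun g hg => congrArg Subtype.val (Subgroup.mem_center_iff.1 hz' ⟨g, hg⟩)⟩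
    · rintro ⟨hzP, hz⟩
      exact ⟨⟨z, hzP⟩, Subgroup.mem_center_iff.2 (fun g => Subtype.ext (hz g g.2)), rfl⟩
  have hBc : ∀ x ∈ B, ∀ y ∈ B, x * y = y * x := by
    intro x hx y hy
    exact ((hBmem y).1 hy).2 x ((hBmem x).1 hx).1
  have hBP : B ≤ P := fun z hz => ((hBmem z).1 hz).1
  have hBp : (Nat.card B).Coprime p :=
    Nat.Coprime.coprime_dvd_left (Subgroup.card_dvd_of_le hBP) hPp
  have haB : a ∈ Subgroup.normalizer (B : Set (SpecialLinearGroup (Fin 2) K)) := by
    rw [hB]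
    exact normalizer_le_normalizer_center P haP
  have haBc := commute_of_abelian_invariant hp2 B hBc hBp a j ha haB
  have hBpm : ∀ z ∈ B, z = 1 ∨ z = -1 := fun z hz => hCa z (hBP hz) (haBc z hz)
  have hcen : Subgroup.center P ≠ ⊤ := by
    intro htop
    obtain ⟨x, hx, hxa⟩ := hna
    apply hxa
    apply haBc
    rw [hB]
    exact ⟨⟨x, hx⟩, by rw [htop]; trivial, rfl⟩
  obtain ⟨y', hy1, hy2, hy3⟩ := exists_second_center hP hcen
  obtain ⟨y, hy⟩ : ∃ y : SpecialLinearGroup (Fin 2) K, y = (y' : SpecialLinearGroup (Fin 2) K) :=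
    ⟨_, rfl⟩
  have hyP : y ∈ P := by rw [hy]; exact y'.2
  have hyB : y ∉ B := by
    rw [hB]
    rintro ⟨z, hz, hzy⟩
    apply hy1
    have : z = y' := Subtype.ext (by rw [← hy]; exact hzy)
    rwa [this] at hz
  have hyy : y * y ∈ B := by
    rw [hB]
    exact ⟨y' ^ 2, hy2, by rw [hy, pow_two]; rfl⟩
  have hyg : ∀ g ∈ P, y * g * y⁻¹ * g⁻¹ ∈ B := by
    intro g hg
    rw [hB]
    refine ⟨⁅y', ⟨g, hg⟩⁆, hy3 _, ?_⟩
    rw [hy, commutatorElement_def]
    rfl
  -- the central involution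
  obtain ⟨ε, hε⟩ : ∃ ε : SpecialLinearGroup (Fin 2) K, ε = -1 := ⟨_, rfl⟩
  have hεc : ∀ x, ε * x = x * ε := by intro x; rw [hε]; exact neg_one_comm x
  have hε2 : ε * ε = 1 := by rw [hε]; exact neg_one_mul_self
  rw [← hε] at hBpm hCa
  have hy_ne : ¬ (y = 1 ∨ y = ε) := by
    rintro (h | h)
    · exact hyB (h ▸ B.one_mem)
    · apply hyB
      rw [hBmem]
      refine ⟨hyP, fun g _ => ?_⟩
      rw [h]
      exact (hεc g).symm
  have hya : a * y ≠ y * a := fun h => hy_ne (hCa y hyP h)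
  have hyy' : y * y = ε := by
    rcases hBpm _ hyy with h | h
    · exfalso
      apply hy_ne
      rw [hε]
      exact eq_one_or_neg_one_of_mul_self h2 y h
    · exact h
  -- conjugates of `y` by powers of `a` do not commute with `y`
  have hkey : ∀ (b : SpecialLinearGroup (Fin 2) K) (k : ℕ), b = a ^ k → (2 * k).Coprime (p ^ j) →
      y * (b * y * b⁻¹) ≠ (b * y * b⁻¹) * y := by
    intro b k hb hk hcomm
    rcases conj_eq_or_eq_inv hp2 y b (Nat.card P) hPp (hpowP y hyP) hcomm with h | h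
    · have h4 : Commute (a ^ k) y := by
        rw [← hb]
        change b * y = y * b
        calc b * y = (b * y * b⁻¹) * b := by group
          _ = y * b := by rw [h]
      exact hya (commute_of_pow_commute ha (Nat.Coprime.coprime_mul_left hk) h4).eq
    · have h3 : b * (b * y * b⁻¹) * b⁻¹ = y := by rw [h, ← conj_inv, h, inv_inv]
      have h4 : Commute (a ^ (2 * k)) y := by
        rw [mul_comm 2 k, pow_mul, ← hb]
        change b ^ 2 * y = y * b ^ 2
        calc b ^ 2 * y = (b * (b * y * b⁻¹) * b⁻¹) * b ^ 2 := by rw [pow_two]; group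
          _ = y * b ^ 2 := by rw [h3]
      exact hya (commute_of_pow_commute ha hk h4).eq
  have h21 : (2 * 1).Coprime (p ^ j) := Nat.Coprime.pow_right j (by simpa using h2p)
  obtain ⟨y₁, hy₁⟩ : ∃ y₁, y₁ = a * y * a⁻¹ := ⟨_, rfl⟩
  have hy₁P : y₁ ∈ P := by rw [hy₁]; exact hconj y hyP
  -- conjugation relations
  have hconjrel : ∀ w ∈ P, y * w ≠ w * y → MulAut.conj y w = ε * w := by
    intro w hw hne
    rw [MulAut.conj_apply]
    rcases hBpm _ (hyg w hw) with h | h
    · exfalso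
      apply hne
      calc y * w = (y * w * y⁻¹ * w⁻¹) * (w * y) := by group
        _ = w * y := by rw [h, one_mul]
    · calc y * w * y⁻¹ = (y * w * y⁻¹ * w⁻¹) * w := by group
        _ = ε * w := by rw [h]
  have R01 : MulAut.conj y y₁ = ε * y₁ :=
    hconjrel y₁ hy₁P (by rw [hy₁]; exact hkey a 1 (pow_one a).symm h21)
  refine ⟨y, hyP, by rw [hyy', hε], ?_, ?_⟩
  · rw [← hy₁, R01, hε]
  · intro g hg
    have := hBpm _ (hyg g hg)
    rw [hε] at this
    exact this

/-- an element of `SL(2, K)` commuting with two anticommuting elements is `±1` -/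
theorem eq_one_or_neg_one_of_commute_pair (hp2 : p ≠ 2) (y y₁ s : SpecialLinearGroup (Fin 2) K)
    (hyy : y * y = -1) (hanti : y₁ * y = -1 * (y * y₁)) (hsy : y * s = s * y)
    (hsy₁ : s * y₁ = y₁ * s) : s = 1 ∨ s = -1 := by
  have h2 : (2 : K) ≠ 0 := two_ne_zero_of_char hp.out hp2
  have hyns : ∀ c : K, (y : Matrix (Fin 2) (Fin 2) K) ≠ c • (1 : Matrix (Fin 2) (Fin 2) K) := by
    intro c hc
    have h3 := scalar_mul_self hc
    rw [hyy] at h3
    exact neg_one_ne_one hp2 h3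
  have hYS : (y : Matrix (Fin 2) (Fin 2) K) * (s : Matrix (Fin 2) (Fin 2) K) =
      (s : Matrix (Fin 2) (Fin 2) K) * (y : Matrix (Fin 2) (Fin 2) K) := by
    rw [← Matrix.SpecialLinearGroup.coe_mul, ← Matrix.SpecialLinearGroup.coe_mul, hsy]
  obtain ⟨α, β, hαβ⟩ := exists_smul_add_of_commute hYS hyns
  have hSY₁ : (s : Matrix (Fin 2) (Fin 2) K) * (y₁ : Matrix (Fin 2) (Fin 2) K) =
      (y₁ : Matrix (Fin 2) (Fin 2) K) * (s : Matrix (Fin 2) (Fin 2) K) := by
    rw [← Matrix.SpecialLinearGroup.coe_mul, ← Matrix.SpecialLinearGroup.coe_mul, hsy₁]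
  have hYY₁ : (y₁ : Matrix (Fin 2) (Fin 2) K) * (y : Matrix (Fin 2) (Fin 2) K) =
      -((y : Matrix (Fin 2) (Fin 2) K) * (y₁ : Matrix (Fin 2) (Fin 2) K)) := by
    have h2' := congrArg (fun x : SpecialLinearGroup (Fin 2) K =>
      (x : Matrix (Fin 2) (Fin 2) K)) hanti
    simp only [Matrix.SpecialLinearGroup.coe_mul, Matrix.SpecialLinearGroup.coe_neg,
      neg_mul, one_mul] at h2'
    exact h2'
  have hβ : β = 0 := by
    rw [hαβ] at hSY₁
    simp only [add_mul, mul_add, smul_mul_assoc, mul_smul_comm, one_mul, mul_one] at hSY₁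
    have h1 := add_left_cancel hSY₁
    rw [hYY₁, smul_neg] at h1
    have h3 : (2 * β) • ((y : Matrix (Fin 2) (Fin 2) K) * (y₁ : Matrix (Fin 2) (Fin 2) K)) = 0 := by
      rw [mul_smul, two_smul]
      nth_rewrite 2 [h1]
      rw [add_neg_cancel]
    have h4 := congrArg (fun M : Matrix (Fin 2) (Fin 2) K =>
      M * (((y * y₁)⁻¹ : SpecialLinearGroup (Fin 2) K) : Matrix (Fin 2) (Fin 2) K)) h3
    simp only [smul_mul_assoc, zero_mul] at h4
    rw [← Matrix.SpecialLinearGroup.coe_mul, ← Matrix.SpecialLinearGroup.coe_mul, mul_inv_cancel,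
      Matrix.SpecialLinearGroup.coe_one] at h4
    have h5 := congrFun (congrFun h4 0) 0
    simp only [Matrix.smul_apply, Matrix.one_apply_eq, smul_eq_mul, mul_one,
      Matrix.zero_apply] at h5
    exact (mul_eq_zero.1 h5).resolve_left h2
  apply eq_one_or_neg_one_of_mul_self h2
  apply scalar_mul_self (c := α)
  rw [hαβ, hβ, zero_smul, add_zero]

/-- **The quaternion group.** A `2`-subgroup of `SL(2, K)` on which a `p`-element acts
nontrivially is a quaternion group of order `8`. -/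
theorem quaternion_of_two_group (hp2 : p ≠ 2) (P : Subgroup (SpecialLinearGroup (Fin 2) K))
    [Finite P] (hP : IsPGroup 2 P) (a : SpecialLinearGroup (Fin 2) K) (j : ℕ)
    (ha : a ^ (p ^ j) = 1)
    (haP : a ∈ Subgroup.normalizer (P : Set (SpecialLinearGroup (Fin 2) K)))
    (hna : ∃ x ∈ P, a * x ≠ x * a) : Nonempty (P ≃* QuaternionGroup 2) := by
  obtain ⟨y, hyP, hyy, hR01, hcomm⟩ := two_group_data hp2 P hP a j ha haP hna
  obtain ⟨ε, hε⟩ : ∃ ε : SpecialLinearGroup (Fin 2) K, ε = -1 := ⟨_, rfl⟩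
  rw [← hε] at hyy hR01 hcomm
  have hεc : ∀ x, ε * x = x * ε := by intro x; rw [hε]; exact neg_one_comm x
  have hε2 : ε * ε = 1 := by rw [hε]; exact neg_one_mul_self
  have hε1 : ε ≠ 1 := by rw [hε]; exact neg_one_ne_one hp2
  obtain ⟨y₁, hy₁⟩ : ∃ y₁, y₁ = a * y * a⁻¹ := ⟨_, rfl⟩
  rw [← hy₁] at hR01
  have hconj : ∀ x ∈ P, a * x * a⁻¹ ∈ P := fun x hx => (Subgroup.mem_normalizer_iff.1 haP x).1 hx
  have hconj' : ∀ x ∈ P, a⁻¹ * x * a ∈ P := by
    intro x hx
    apply (Subgroup.mem_normalizer_iff.1 haP (a⁻¹ * x * a)).2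
    have e : a * (a⁻¹ * x * a) * a⁻¹ = x := by group
    rw [e]
    exact hx
  have hy₁P : y₁ ∈ P := by rw [hy₁]; exact hconj y hyP
  have hcε : ∀ g, MulAut.conj g ε = ε := by
    intro g
    rw [MulAut.conj_apply, ← hεc, mul_inv_cancel_right]
  have hself : ∀ g : SpecialLinearGroup (Fin 2) K, MulAut.conj g g = g := by
    intro g
    rw [MulAut.conj_apply, mul_inv_cancel_right]
  have hswap : ∀ u w : SpecialLinearGroup (Fin 2) K,
      MulAut.conj u w = ε * w → MulAut.conj w u = ε * u := by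
    intro u w hw
    rw [MulAut.conj_apply] at hw ⊢
    have h1 : u * w = ε * w * u := by
      calc u * w = (u * w * u⁻¹) * u := by group
        _ = ε * w * u := by rw [hw]
    have h2 : w * u = ε * (u * w) := by
      rw [h1, ← mul_assoc, ← mul_assoc, hε2, one_mul]
    calc w * u * w⁻¹ = ε * (u * w) * w⁻¹ := by rw [h2]
      _ = ε * u := by group
  have hswap1 : ∀ u w : SpecialLinearGroup (Fin 2) K,
      MulAut.conj u w = w → MulAut.conj w u = u := by
    intro u w hw
    rw [MulAut.conj_apply] at hw ⊢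
    have h1 : u * w = w * u := by
      calc u * w = (u * w * u⁻¹) * u := by group
        _ = w * u := by rw [hw]
    calc w * u * w⁻¹ = (u * w) * w⁻¹ := by rw [h1]
      _ = u := by group
  have R1 : MulAut.conj y₁ y = ε * y := hswap y y₁ hR01
  have hy₁y₁ : y₁ * y₁ = ε := by
    rw [hy₁]
    calc a * y * a⁻¹ * (a * y * a⁻¹) = a * (y * y) * a⁻¹ := by group
      _ = ε := by rw [hyy, ← hεc a, mul_inv_cancel_right]
  have hanti : y₁ * y = ε * (y * y₁) := by
    have := R1
    rw [MulAut.conj_apply] at this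
    calc y₁ * y = (y₁ * y * y₁⁻¹) * y₁ := by group
      _ = ε * y * y₁ := by rw [this]
      _ = ε * (y * y₁) := by group
  -- commutation signs
  have c0 : ∀ g ∈ P, MulAut.conj g y = y ∨ MulAut.conj g y = ε * y := by
    intro g hg
    rcases hcomm g hg with h | h
    · left
      apply hswap1
      rw [MulAut.conj_apply]
      calc y * g * y⁻¹ = (y * g * y⁻¹ * g⁻¹) * g := by group
        _ = g := by rw [h, one_mul]
    · right
      apply hswap
      rw [MulAut.conj_apply]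
      calc y * g * y⁻¹ = (y * g * y⁻¹ * g⁻¹) * g := by group
        _ = ε * g := by rw [h]
  have c1 : ∀ g ∈ P, MulAut.conj g y₁ = y₁ ∨ MulAut.conj g y₁ = ε * y₁ := by
    intro g hg
    have h1 : MulAut.conj g y₁ = MulAut.conj a (MulAut.conj (a⁻¹ * g * a) y) := by
      simp only [MulAut.conj_apply, hy₁]
      group
    rcases c0 _ (hconj' g hg) with h | h
    · left
      rw [h1, h, MulAut.conj_apply, ← hy₁]
    · right
      rw [h1, h, map_mul, hcε, MulAut.conj_apply, ← hy₁]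
  have hscal : ∀ h : SpecialLinearGroup (Fin 2) K, MulAut.conj h y = y → MulAut.conj h y₁ = y₁ →
      h = 1 ∨ h = ε := by
    intro h h0 h1
    rw [hε]
    rw [MulAut.conj_apply] at h0 h1
    refine eq_one_or_neg_one_of_commute_pair hp2 y y₁ h (hε ▸ hyy) (hε ▸ hanti) ?_ ?_
    · calc y * h = (h * y * h⁻¹) * h := by rw [h0]
        _ = h * y := by group
    · calc h * y₁ = (h * y₁ * h⁻¹) * h := by group
        _ = y₁ * h := by rw [h1]
  -- the cyclic subgroup generated by `y`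
  obtain ⟨Z, hZ⟩ : ∃ Z : Subgroup (SpecialLinearGroup (Fin 2) K), Z = Subgroup.zpowers y :=
    ⟨_, rfl⟩
  have hyZ : y ∈ Z := by rw [hZ]; exact Subgroup.mem_zpowers y
  have hεZ : ε ∈ Z := by rw [← hyy]; exact Z.mul_mem hyZ hyZ
  have hσ : ∀ σ : SpecialLinearGroup (Fin 2) K, (σ = 1 ∨ σ = ε) → σ ∈ Z ∧ ∀ x, σ * x = x * σ := by
    rintro σ (rfl | rfl)
    · exact ⟨Z.one_mem, fun x => by rw [one_mul, mul_one]⟩
    · exact ⟨hεZ, hεc⟩
  have hall' : ∀ g ∈ P, g ∈ Z ∨ y₁⁻¹ * g ∈ Z := by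
    intro g hg
    rcases c0 g hg with h0 | h0 <;> rcases c1 g hg with h1 | h1
    · left
      exact (hσ g (hscal g h0 h1)).1
    · left
      have hA : MulAut.conj (g * y) y = y := by
        rw [map_mul, MulAut.mul_apply, hself, h0]
      have hB : MulAut.conj (g * y) y₁ = y₁ := by
        rw [map_mul, MulAut.mul_apply, hR01, map_mul, hcε, h1, ← mul_assoc, hε2, one_mul]
      obtain ⟨hσZ, _⟩ := hσ _ (hscal _ hA hB)
      have e : g = (g * y) * y⁻¹ := by group
      rw [e]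
      exact Z.mul_mem hσZ (Z.inv_mem hyZ)
    · right
      have hA : MulAut.conj (g * y₁) y = y := by
        rw [map_mul, MulAut.mul_apply, R1, map_mul, hcε, h0, ← mul_assoc, hε2, one_mul]
      have hB : MulAut.conj (g * y₁) y₁ = y₁ := by
        rw [map_mul, MulAut.mul_apply, hself, h1]
      obtain ⟨σ, hσdef⟩ : ∃ σ, σ = g * y₁ := ⟨_, rfl⟩
      rw [← hσdef] at hA hB
      obtain ⟨hσZ, hσc⟩ := hσ _ (hscal _ hA hB)
      have e : y₁⁻¹ * g = σ * ε⁻¹ := by
        calc y₁⁻¹ * g = y₁⁻¹ * (g * y₁) * y₁⁻¹ := by group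
          _ = y₁⁻¹ * σ * y₁⁻¹ := by rw [hσdef]
          _ = σ * y₁⁻¹ * y₁⁻¹ := by rw [← hσc y₁⁻¹]
          _ = σ * (y₁ * y₁)⁻¹ := by group
          _ = σ * ε⁻¹ := by rw [hy₁y₁]
      rw [e]
      exact Z.mul_mem hσZ (Z.inv_mem hεZ)
    · right
      have hA : MulAut.conj (g * (y * y₁)) y = y := by
        rw [map_mul, map_mul, MulAut.mul_apply, MulAut.mul_apply, R1, map_mul, hcε, hself,
          map_mul, hcε, h0, ← mul_assoc, hε2, one_mul]
      have hB : MulAut.conj (g * (y * y₁)) y₁ = y₁ := by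
        rw [map_mul, map_mul, MulAut.mul_apply, MulAut.mul_apply, hself, hR01, map_mul, hcε, h1,
          ← mul_assoc, hε2, one_mul]
      obtain ⟨σ, hσdef⟩ : ∃ σ, σ = g * (y * y₁) := ⟨_, rfl⟩
      rw [← hσdef] at hA hB
      obtain ⟨hσZ, hσc⟩ := hσ _ (hscal _ hA hB)
      have e : y₁⁻¹ * g = σ * ε⁻¹ * y⁻¹ := by
        calc y₁⁻¹ * g = y₁⁻¹ * (g * (y * y₁)) * y₁⁻¹ * y⁻¹ := by group
          _ = y₁⁻¹ * σ * y₁⁻¹ * y⁻¹ := by rw [hσdef]
          _ = σ * y₁⁻¹ * y₁⁻¹ * y⁻¹ := by rw [← hσc y₁⁻¹]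
          _ = σ * (y₁ * y₁)⁻¹ * y⁻¹ := by group
          _ = σ * ε⁻¹ * y⁻¹ := by rw [hy₁y₁]
      rw [e]
      exact Z.mul_mem (Z.mul_mem hσZ (Z.inv_mem hεZ)) (Z.inv_mem hyZ)
  -- the recognition theorem
  have hzp : ∀ g : P, (g : SpecialLinearGroup (Fin 2) K) ∈ Z →
      g ∈ Subgroup.zpowers (⟨y, hyP⟩ : P) := by
    intro g hg
    rw [hZ] at hg
    obtain ⟨k, hk⟩ := Subgroup.mem_zpowers_iff.1 hg
    rw [Subgroup.mem_zpowers_iff]
    exact ⟨k, Subtype.ext (by rw [Subgroup.coe_zpow]; exact hk)⟩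
  haveI : NeZero 2 := ⟨by norm_num⟩
  have hoy : orderOf y = 2 * 2 := by
    have h1 : ¬ y ^ 2 ^ 1 = 1 := by
      rw [pow_one, pow_two, hyy]
      exact hε1
    have h2 : y ^ 2 ^ (1 + 1) = 1 := by
      have e : y ^ 2 ^ (1 + 1) = (y * y) * (y * y) := by
        norm_num [pow_succ, mul_assoc]
      rw [e, hyy, hε2]
    rw [orderOf_eq_prime_pow h1 h2]
    norm_num
  refine Cfsg.Agent.Lib.Helper10.nonempty_mulEquiv_quaternionGroup 2 (⟨y, hyP⟩ : P) ⟨y₁, hy₁P⟩
    ?_ ?_ ?_ ?_ ?_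
  · rw [Subgroup.orderOf_mk]
    exact hoy
  · apply Subtype.ext
    simp only [Subgroup.coe_mul, Subgroup.coe_inv]
    have h1 : y₁ * y * y₁⁻¹ = ε * y := by
      have := R1
      rwa [MulAut.conj_apply] at this
    rw [h1]
    apply eq_inv_of_mul_eq_one_left
    rw [mul_assoc, hyy, hε2]
  · apply Subtype.ext
    simp only [Subgroup.coe_pow]
    rw [pow_two, pow_two, hy₁y₁, hyy]
  · intro hmem
    obtain ⟨k, hk⟩ := Subgroup.mem_zpowers_iff.1 hmem
    have hk' : y ^ k = y₁ := by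
      have := congrArg Subtype.val hk
      rwa [Subgroup.coe_zpow] at this
    have hc : Commute y y₁ := by
      rw [← hk']
      exact (Commute.refl y).zpow_right k
    have h1 : MulAut.conj y y₁ = y₁ := by
      rw [MulAut.conj_apply, hc.eq, mul_inv_cancel_right]
    rw [h1] at hR01
    apply hε1
    have := mul_right_cancel (a := ε) (b := y₁) (c := 1) (by rw [one_mul]; exact hR01.symm)
    exact this
  · intro g
    rcases hall' g g.2 with h | h
    · left
      exact hzp g h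
    · right
      apply hzp
      simp only [Subgroup.coe_mul, Subgroup.coe_inv]
      exact h

/-- a `p`-element of `SL(2, K)` has order dividing `p` -/
theorem pow_char_eq_one (a : SpecialLinearGroup (Fin 2) K) (j : ℕ) (ha : a ^ (p ^ j) = 1) :
    a ^ p = 1 := by
  have htr := trace_eq_two_of_pow a j ha
  have hCH := cayley_hamilton (a : Matrix (Fin 2) (Fin 2) K)
  rw [htr, a.det_coe, one_smul] at hCH
  have hq : ((a : Matrix (Fin 2) (Fin 2) K) - 1) * ((a : Matrix (Fin 2) (Fin 2) K) - 1) = 0 := by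
    rw [sub_mul, mul_sub, mul_sub, mul_one, one_mul, mul_one, hCH, two_smul]
    abel
  have h1 := ring_quad_pow hq p
  have h2 : (p : ℕ) • ((a : Matrix (Fin 2) (Fin 2) K) - 1) =
      ((p : K)) • ((a : Matrix (Fin 2) (Fin 2) K) - 1) := (Nat.cast_smul_eq_nsmul K p _).symm
  rw [h2, CharP.cast_eq_zero K p, zero_smul, add_zero] at h1
  apply Subtype.ext
  rw [Matrix.SpecialLinearGroup.coe_pow, h1, Matrix.SpecialLinearGroup.coe_one]

/-- a `p'`-subgroup of `SL(2, K)` normalized but not centralized by a `p`-element is a `2`-group -/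
theorem isPGroup_two_of_coprime [Finite K] (hp2 : p ≠ 2)
    (R : Subgroup (SpecialLinearGroup (Fin 2) K))
    (hR : (Nat.card R).Coprime p) (a : SpecialLinearGroup (Fin 2) K) (j : ℕ)
    (ha : a ^ (p ^ j) = 1)
    (haR : a ∈ Subgroup.normalizer (R : Set (SpecialLinearGroup (Fin 2) K)))
    (hna : ∃ x ∈ R, a * x ≠ x * a) : IsPGroup 2 R := by
  have hpp : p.Prime := hp.out
  have ha1 : a ≠ 1 := by
    rintro rfl
    obtain ⟨x, _, hx⟩ := hna
    exact hx (by rw [one_mul, mul_one])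
  have hcardA : Nat.card (Subgroup.zpowers a) ∣ p ^ j := by
    rw [Nat.card_zpowers]
    exact orderOf_dvd_of_pow_eq_one ha
  have hact : Cfsg.Agent.Lib.Helper1.CoprimeAct (Subgroup.zpowers a) R := by
    refine ⟨Subgroup.zpowers_le.2 haR, ?_, Or.inl ?_⟩
    · exact Nat.Coprime.coprime_dvd_left hcardA (Nat.Coprime.pow_left j hR.symm)
    · apply Group.isSolvable_of_comm
      rintro ⟨x, hx⟩ ⟨y, hy⟩
      rw [Subgroup.mem_zpowers_iff] at hx hy
      obtain ⟨m, rfl⟩ := hx
      obtain ⟨n, rfl⟩ := hy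
      apply Subtype.ext
      exact (Commute.zpow_zpow_self a m n).eq
  have hprime : ∀ {r : ℕ}, r.Prime → r ∣ Nat.card R → r = 2 := by
    intro r hr hrd
    by_contra hr2
    haveI : Fact r.Prime := ⟨hr⟩
    obtain ⟨Q, hQ⟩ := hact.exists_invariant_sylSet r
    have haQ : a ∈ Subgroup.normalizer (Q.1 : Set (SpecialLinearGroup (Fin 2) K)) :=
      hQ (Subgroup.mem_zpowers a)
    have hQp : IsPGroup r Q.1 := IsPGroup.of_card Q.2.2
    have hQcop : (Nat.card Q.1).Coprime p :=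
      Nat.Coprime.coprime_dvd_left (Subgroup.card_dvd_of_le Q.2.1) hR
    have hQc := commute_of_abelian_invariant hp2 Q.1 (commute_of_odd_pgroup hr2 Q.1 hQp) hQcop a j
      ha haQ
    have h2r : Nat.Coprime 2 r := (Nat.coprime_primes Nat.prime_two hr).2 (Ne.symm hr2)
    have hQbot : ∀ x ∈ Q.1, x = 1 := by
      intro x hx
      have hxn : x ^ Nat.card Q.1 = 1 := by
        have h1 : (⟨x, hx⟩ : Q.1) ^ Nat.card Q.1 = 1 := pow_card_eq_one'
        have h2 := congrArg Subtype.val h1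
        rw [Subgroup.coe_pow] at h2
        exact h2
      have hx2 : x ^ 2 = 1 := by
        rw [pow_two]
        rcases eq_one_or_neg_one_of_commute_unipotent hp2 a x j ha ha1 (Nat.card Q.1) hQcop hxn
          (hQc x hx) with h | h
        · rw [h, one_mul]
        · rw [h]
          exact neg_one_mul_self
      have h6 : orderOf x ∣ Nat.gcd 2 (Nat.card Q.1) :=
        Nat.dvd_gcd (orderOf_dvd_of_pow_eq_one hx2) (orderOf_dvd_of_pow_eq_one hxn)
      rw [Q.2.2] at h6
      have h7 : Nat.gcd 2 (r ^ (Nat.card R).factorization r) = 1 := Nat.Coprime.pow_right _ h2r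
      rw [h7, Nat.dvd_one] at h6
      exact orderOf_eq_one_iff.1 h6
    have hQ1 : Nat.card Q.1 = 1 := by
      have : Q.1 = ⊥ := by
        rw [eq_bot_iff]
        intro x hx
        rw [Subgroup.mem_bot]
        exact hQbot x hx
      rw [this, Subgroup.card_bot]
    have hpos : 0 < (Nat.card R).factorization r :=
      Nat.Prime.factorization_pos_of_dvd hr Nat.card_pos.ne' hrd
    have h8 := Q.2.2
    rw [hQ1] at h8
    have h9 : r ∣ r ^ (Nat.card R).factorization r := dvd_pow_self r hpos.ne'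
    rw [← h8, Nat.dvd_one] at h9
    exact hr.one_lt.ne' h9
  exact IsPGroup.of_card (Nat.eq_prime_pow_of_unique_prime_dvd Nat.card_pos.ne' hprime)

/-- **The quaternion group, general form.** A `p'`-subgroup of `SL(2, K)` normalized but not
centralized by a `p`-element is a quaternion group of order `8`. -/
theorem quaternion_of_coprime [Finite K] (hp2 : p ≠ 2)
    (R : Subgroup (SpecialLinearGroup (Fin 2) K))
    (hR : (Nat.card R).Coprime p) (a : SpecialLinearGroup (Fin 2) K) (j : ℕ)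
    (ha : a ^ (p ^ j) = 1)
    (haR : a ∈ Subgroup.normalizer (R : Set (SpecialLinearGroup (Fin 2) K)))
    (hna : ∃ x ∈ R, a * x ≠ x * a) : Nonempty (R ≃* QuaternionGroup 2) :=
  quaternion_of_two_group hp2 R (isPGroup_two_of_coprime hp2 R hR a j ha haR hna) a j ha haR hna

/-- **`SL(2, 3)`.** For a `p'`-subgroup `R` of `SL(2, K)` normalized but not centralized by a
`p`-element `a`, the subgroup `R ⊔ ⟨a⟩` is isomorphic to `SL(2, 3)`. -/
theorem sl23_of_coprime [Finite K] (hp2 : p ≠ 2)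
    (R : Subgroup (SpecialLinearGroup (Fin 2) K))
    (hR : (Nat.card R).Coprime p) (a : SpecialLinearGroup (Fin 2) K) (j : ℕ)
    (ha : a ^ (p ^ j) = 1)
    (haR : a ∈ Subgroup.normalizer (R : Set (SpecialLinearGroup (Fin 2) K)))
    (hna : ∃ x ∈ R, a * x ≠ x * a) :
    Nonempty (↥(R ⊔ Subgroup.zpowers a) ≃* Matrix.SpecialLinearGroup (Fin 2) (ZMod 3)) := by
  have hp3 : p = 3 := p_eq_three hp2 R hR a j ha haR hna
  obtain ⟨e⟩ := quaternion_of_coprime hp2 R hR a j ha haR hna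
  have ha3 : a ^ 3 = 1 := by
    have := pow_char_eq_one a j ha
    rwa [hp3] at this
  have ha1 : a ≠ 1 := by
    rintro rfl
    obtain ⟨x, _, hx⟩ := hna
    exact hx (by rw [one_mul, mul_one])
  haveI : Fact (Nat.Prime 3) := ⟨Nat.prime_three⟩
  have hoa : orderOf a = 3 := orderOf_eq_prime ha3 ha1
  obtain ⟨X, hX⟩ : ∃ X : Subgroup (SpecialLinearGroup (Fin 2) K), X = R ⊔ Subgroup.zpowers a :=
    ⟨_, rfl⟩
  rw [← hX]
  have hRX : R ≤ X := by rw [hX]; exact le_sup_left
  have haX : Subgroup.zpowers a ≤ X := by rw [hX]; exact le_sup_right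
  have hXN : X ≤ Subgroup.normalizer (R : Set (SpecialLinearGroup (Fin 2) K)) := by
    rw [hX]
    exact sup_le Subgroup.le_normalizer (Subgroup.zpowers_le.2 haR)
  haveI hN : (R.subgroupOf X).Normal := Subgroup.normal_subgroupOf_of_le_normalizer hXN
  have e' : R.subgroupOf X ≃* QuaternionGroup 2 := (Subgroup.subgroupOfEquivOfLe hRX).trans e
  have hC : Nat.card ((Subgroup.zpowers a).subgroupOf X) = 3 := by
    rw [Nat.card_congr (Subgroup.subgroupOfEquivOfLe haX).toEquiv, Nat.card_zpowers, hoa]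
  have hsup : R.subgroupOf X ⊔ (Subgroup.zpowers a).subgroupOf X = ⊤ := by
    rw [← Subgroup.subgroupOf_sup hRX haX, ← hX, Subgroup.subgroupOf_self]
  have hnc : ¬ (Subgroup.zpowers a).subgroupOf X ≤
      Subgroup.centralizer ((R.subgroupOf X : Subgroup X) : Set X) := by
    intro hle
    obtain ⟨x, hx, hxa⟩ := hna
    apply hxa
    have h1 : (⟨a, haX (Subgroup.mem_zpowers a)⟩ : X) ∈ (Subgroup.zpowers a).subgroupOf X := by
      rw [Subgroup.mem_subgroupOf]
      exact Subgroup.mem_zpowers a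
    have h2 := hle h1
    rw [Subgroup.mem_centralizer_iff] at h2
    have h3 := h2 ⟨x, hRX hx⟩ (by
      rw [SetLike.mem_coe, Subgroup.mem_subgroupOf]
      exact hx)
    have h4 := congrArg Subtype.val h3
    rw [Subgroup.coe_mul, Subgroup.coe_mul] at h4
    exact h4.symm
  exact Cfsg.Agent.Lib.Helper23.SL23Recog.nonempty_mulEquiv_SL23 _ _ e' hC hsup hnc

end SL2

end Cfsg.H5.SL2
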