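import Mathlib
import Cfsg.Agent.H5.KleinEq
import Cfsg.Agent.H5.DicksonSL2
import Cfsg.Agent.H5.DicksonP
import Cfsg.Agent.H5.SL2Q8
import Cfsg.Agent.H5.SL2Three

/-!
# Dickson's theorem: subgroups of `SL(2, q)` with a non-normal Sylow `p`-subgroup contain
`SL(2, p)`
-/

set_option autoImplicit false
set_option linter.style.haveILetI false

namespace Cfsg.H5.Dickson

open Matrix Subgroup Cfsg.Agent.Lib.Helper16 Cfsg.H5.SL2 Cfsg.H5.Klein

section Endgames

variable {F : Type*} [Field F] [Finite F] {p : ℕ} [hp : Fact p.Prime] [CharP F p]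
  {Γ : Type*} [Group Γ] [Finite Γ] {ι : Γ →* SpecialLinearGroup (Fin 2) F}

omit [Finite Γ] in
/-- a `p`-element acting non-trivially on a `p'`-subgroup produces `SL(2, p)` (with `p = 3`) -/
theorem copy_of_coprime_action (hι : Function.Injective ι) (hp2 : p ≠ 2) (R : Subgroup Γ)
    (hR : (Nat.card R).Coprime p) (a : Γ) (k : ℕ) (ha : a ^ (p ^ k) = 1)
    (haR : a ∈ normalizer (R : Set Γ)) (x : Γ) (hx : x ∈ R) (hax : a * x ≠ x * a) :
    ∃ K : Subgroup Γ, Nonempty (K ≃* SpecialLinearGroup (Fin 2) (ZMod p)) := by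
  have hR' : (Nat.card (R.map ι)).Coprime p := by
    rw [Subgroup.card_map_of_injective hι]; exact hR
  have ha' : (ι a) ^ (p ^ k) = 1 := by rw [← map_pow, ha, map_one]
  have haR' : ι a ∈ normalizer ((R.map ι : Subgroup (SpecialLinearGroup (Fin 2) F)) :
      Set (SpecialLinearGroup (Fin 2) F)) := by
    rw [mem_normalizer_iff]
    intro y
    constructor
    · rintro ⟨w, hw, rfl⟩
      exact ⟨a * w * a⁻¹, (mem_normalizer_iff.1 haR w).1 hw, by rw [map_mul, map_mul, map_inv]⟩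
    · rintro ⟨w, hw, hwy⟩
      refine ⟨a⁻¹ * w * a, ?_, ?_⟩
      · have := (mem_normalizer_iff.1 (inv_mem haR) w).1 hw
        rwa [inv_inv] at this
      · rw [map_mul, map_mul, map_inv, hwy]; group
  have hna : ∃ x' ∈ R.map ι, ι a * x' ≠ x' * ι a :=
    ⟨ι x, ⟨x, hx, rfl⟩, fun h => hax (hι (by rw [map_mul, map_mul, h]))⟩
  have hp3 := p_eq_three hp2 (R.map ι) hR' (ι a) k ha' haR' hna
  have hiso := sl23_of_coprime hp2 (R.map ι) hR' (ι a) k ha' haR' hna
  subst hp3
  refine ⟨R ⊔ zpowers a, ?_⟩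
  have e1 : (R ⊔ zpowers a).map ι = R.map ι ⊔ zpowers (ι a) := by
    rw [Subgroup.map_sup, MonoidHom.map_zpowers]
  obtain ⟨e⟩ := hiso
  exact ⟨((R ⊔ zpowers a).equivMapOfInjective ι hι).trans ((MulEquiv.subgroupCongr e1).trans e)⟩

variable (hι : Function.Injective ι) (hp2 : p ≠ 2) (P : Sylow p Γ)
  (hPn : ¬ (P : Subgroup Γ).Normal)

include hι hp2 hPn

/-- the case `N(P) = C(u)`: Burnside's transfer theorem -/
theorem endgame_transfer {u : Γ} (hu : u ∈ P) (hu1 : u ≠ 1)
    (hNC : Nat.card (normalizer ((P : Subgroup Γ) : Set Γ)) =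
      Nat.card (centralizer ({u} : Set Γ))) :
    ∃ K : Subgroup Γ, Nonempty (K ≃* SpecialLinearGroup (Fin 2) (ZMod p)) := by
  have hle := centralizer_le_normalizer_sylow hι hp2 P hPn hu hu1
  have heq : centralizer ({u} : Set Γ) = normalizer ((P : Subgroup Γ) : Set Γ) :=
    Subgroup.eq_of_le_of_card_ge hle hNC.le
  have hPc : normalizer ((P : Subgroup Γ) : Set Γ) ≤ centralizer ((P : Subgroup Γ) : Set Γ) := by
    intro g hg
    rw [← heq] at hg
    rw [mem_centralizer_iff]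
    intro w hw
    exact (centralizes_of_commute hι hp2 P hPn hu hu1 (mem_cent.1 hg) w hw).eq.symm
  have hcomp := MonoidHom.ker_transferSylow_isComplement' P hPc
  have hnd := MonoidHom.not_dvd_card_ker_transferSylow P hPc
  set K₀ := (MonoidHom.transferSylow P hPc).ker with hK₀
  by_cases hall : ∀ a ∈ P, ∀ x ∈ K₀, a * x = x * a
  · exfalso
    apply hPn
    constructor
    intro w hw g
    obtain ⟨⟨⟨k, hk⟩, ⟨v, hv⟩⟩, hkv⟩ := hcomp.2 g
    have hkv' : k * v = g := hkv
    rw [← hkv']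
    have h1 : v * w * v⁻¹ ∈ P := mul_mem (mul_mem hv hw) (inv_mem hv)
    have h2 : k * v * w * (k * v)⁻¹ = k * (v * w * v⁻¹) * k⁻¹ := by group
    rw [h2, ← hall _ h1 k hk, mul_inv_cancel_right]
    exact h1
  · push Not at hall
    obtain ⟨a, ha, x, hx, hax⟩ := hall
    obtain ⟨k, hk⟩ := pow_of_mem_sylow ha
    have hcop : (Nat.card K₀).Coprime p :=
      ((Nat.Prime.coprime_iff_not_dvd hp.out).2 hnd).symm
    have haN : a ∈ normalizer (K₀ : Set Γ) := by
      haveI : K₀.Normal := MonoidHom.normal_ker _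
      rw [normalizer_eq_top]
      exact mem_top a
    exact copy_of_coprime_action hι hp2 K₀ hcop a k hk haN x hx hax

omit hι hp2 in
theorem not_normal_sylow (Q : Sylow p Γ) : ¬ (Q : Subgroup Γ).Normal := by
  intro hQn
  apply hPn
  obtain ⟨g, hg⟩ := MulAction.exists_smul_eq Γ Q P
  have : g • Q = Q := Sylow.smul_eq_of_normal
  rw [this] at hg
  rw [← hg]
  exact hQn

omit [Finite F] in
/-- distinct Sylow `p`-subgroups intersect trivially -/
theorem sylow_inf_eq_bot (Q : Sylow p Γ) (hQ : Q ≠ P) : (P : Subgroup Γ) ⊓ Q = ⊥ := by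
  by_contra hne
  obtain ⟨⟨v, hv⟩, hv1⟩ := (Subgroup.ne_bot_iff_exists_ne_one).1 hne
  have hv1' : v ≠ 1 := fun h => hv1 (Subtype.ext h)
  obtain ⟨hvP, hvQ⟩ := Subgroup.mem_inf.1 hv
  have hQn := not_normal_sylow P hPn Q
  apply hQ
  have hle : (Q : Subgroup Γ) ≤ P := by
    intro w hw
    obtain ⟨k, hk⟩ := pow_of_mem_sylow (P := Q) hw
    exact mem_sylow_of_pow hι hp2 P hPn hvP hv1' (sylow_comm hι hp2 Q hQn v hvQ w hw) hk
  exact (Sylow.ext (Q.is_maximal' P.isPGroup' hle)).symm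

omit [Finite F] in
/-- if there are `|P| + 1` Sylow subgroups, `P` is transitive on the others -/
theorem exists_smul_eq_of_card (hn : Nat.card (Sylow p Γ) = Nat.card P + 1)
    (Q₀ Q : Sylow p Γ) (hQ₀ : Q₀ ≠ P) (hQ : Q ≠ P) : ∃ x ∈ P, x • Q₀ = Q := by
  have hne : ∀ x : ↥(P : Subgroup Γ), (x : Γ) • Q₀ ≠ P := by
    intro x h
    apply hQ₀
    have h1 : Q₀ = (x : Γ)⁻¹ • P := by rw [eq_inv_smul_iff]; exact h
    rw [h1, Sylow.smul_eq_iff_mem_normalizer]
    exact le_normalizer (inv_mem x.2)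
  let f : ↥(P : Subgroup Γ) → {S : Sylow p Γ // S ≠ P} := fun x => ⟨(x : Γ) • Q₀, hne x⟩
  have hinj : Function.Injective f := by
    intro x x' h
    have h1 : (x : Γ) • Q₀ = (x' : Γ) • Q₀ := congrArg Subtype.val h
    have h2 : ((x' : Γ)⁻¹ * (x : Γ)) • Q₀ = Q₀ := by
      rw [mul_smul, h1, inv_smul_smul]
    rw [Sylow.smul_eq_iff_mem_normalizer] at h2
    have h3 : (x' : Γ)⁻¹ * (x : Γ) ∈ (P : Subgroup Γ) ⊓ normalizer (Q₀ : Set Γ) :=
      Subgroup.mem_inf.2 ⟨mul_mem (inv_mem x'.2) x.2, h2⟩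
    rw [P.2.inf_normalizer_sylow Q₀, sylow_inf_eq_bot hι hp2 P hPn Q₀ hQ₀, mem_bot] at h3
    apply Subtype.ext
    have : (x : Γ) = (x' : Γ) * ((x' : Γ)⁻¹ * (x : Γ)) := by group
    rw [this, h3, mul_one]
  have hcard : Nat.card {S : Sylow p Γ // S ≠ P} ≤ Nat.card ↥(P : Subgroup Γ) := by
    have h1 : ({P}ᶜ : Set (Sylow p Γ)).ncard = Nat.card (Sylow p Γ) - ({P} : Set (Sylow p Γ)).ncard :=
      Set.ncard_compl _
    rw [Set.ncard_singleton, hn, Nat.add_sub_cancel] at h1
    have h2 : Nat.card {S : Sylow p Γ // S ≠ P} = ({P}ᶜ : Set (Sylow p Γ)).ncard :=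
      Nat.card_coe_set_eq ({P}ᶜ : Set (Sylow p Γ))
    rw [h2, h1]
  obtain ⟨x, hx⟩ := (hinj.bijective_of_nat_card_le hcard).2 ⟨Q, hQ⟩
  exact ⟨x, x.2, congrArg Subtype.val hx⟩

omit [Finite F] in
/-- the doubly transitive case -/
theorem endgame_two_trans {u : Γ} (hu : u ∈ P) {s : F} (hs : s ≠ 0) (hιu : ι u = upperSL2 s)
    (h₀ : Γ) (hh₀ : ((ι h₀ : SpecialLinearGroup (Fin 2) F) : Matrix (Fin 2) (Fin 2) F) 0 0 = 0)
    (hn : Nat.card (Sylow p Γ) = Nat.card P + 1) :
    ∃ K : Subgroup Γ, Nonempty (K ≃* SpecialLinearGroup (Fin 2) (ZMod p)) := by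
  have hiff := fun w => mem_sylow_iff_unip hι hp2 P hPn hu hs hιu (w := w)
  have hN := normalizer_eq_comap_borel hι hp2 P hPn hu hs hιu
  obtain ⟨c, hc⟩ : ∃ c : F, c = ((ι h₀ : SpecialLinearGroup (Fin 2) F) :
    Matrix (Fin 2) (Fin 2) F) 1 0 := ⟨_, rfl⟩
  have hc0 : c ≠ 0 := by rw [hc]; exact ne_zero_10_of_00 hh₀
  have hh₀N : h₀ ∉ normalizer ((P : Subgroup Γ) : Set Γ) := by
    rw [hN, mem_comap, mem_borelSL2, ← hc]; exact hc0
  have hLP : h₀ • P ≠ P := by
    intro h; apply hh₀N; exact Sylow.smul_eq_iff_mem_normalizer.1 h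
  obtain ⟨y, hy⟩ : ∃ y : Γ, y = h₀ * u * h₀⁻¹ := ⟨_, rfl⟩
  obtain ⟨b₁, hb₁⟩ : ∃ b₁ : F, b₁ = -c ^ 2 * s := ⟨_, rfl⟩
  have hιy : ι y = lowerSL2 b₁ := by
    rw [hy, map_mul, map_mul, map_inv, hιu, hb₁, hc]; exact conj_upper_of_00 hh₀ s
  have hb₁0 : b₁ ≠ 0 := by
    rw [hb₁]; exact mul_ne_zero (neg_ne_zero.2 (pow_ne_zero 2 hc0)) hs
  have hyN : y ∉ normalizer ((P : Subgroup Γ) : Set Γ) := by
    rw [hN, mem_comap, mem_borelSL2, hιy, lowerSL2_apply]
    simpa using hb₁0
  have hQ₀ : y • P ≠ P := fun h => hyN (Sylow.smul_eq_iff_mem_normalizer.1 h)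
  obtain ⟨x, hxP, hx⟩ := exists_smul_eq_of_card hι hp2 P hPn hn (y • P) (h₀ • P) hQ₀ hLP
  have h1 : (h₀⁻¹ * (x * y)) • P = P := by
    rw [mul_smul, mul_smul, hx, inv_smul_smul]
  rw [Sylow.smul_eq_iff_mem_normalizer] at h1
  have h1' : h₀⁻¹ * (x * y) ∈ normalizer ((P : Subgroup Γ) : Set Γ) := h1
  rw [hN, mem_comap, mem_borelSL2] at h1'
  have hιx := eq_upperSL2_of_mem ((hiff x).1 hxP)
  obtain ⟨a, ha⟩ : ∃ a : F, a = ((ι x : SpecialLinearGroup (Fin 2) F) :
    Matrix (Fin 2) (Fin 2) F) 0 1 := ⟨_, rfl⟩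
  rw [← ha] at hιx
  rw [map_mul, map_mul, map_inv, hιx, hιy, entry_10_of_00 hh₀, ← hc] at h1'
  have hab : a * b₁ = -1 := by
    have : 1 + a * b₁ = 0 := by
      rcases mul_eq_zero.1 h1' with h | h
      · exact absurd (neg_eq_zero.1 h) hc0
      · exact h
    linear_combination this
  have ha0 : a ≠ 0 := by
    rintro rfl
    rw [zero_mul] at hab
    have : (1 : F) = 0 := by linear_combination hab
    exact one_ne_zero this
  have hb : b₁ = -a⁻¹ := by
    have : a * (b₁ + a⁻¹) = 0 := by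
      rw [mul_add, hab, mul_inv_cancel₀ ha0]; ring
    have := (mul_eq_zero.1 this).resolve_left ha0
    linear_combination this
  have hu' : upperSL2 a ∈ ι.range := ⟨x, hιx⟩
  have hl' : lowerSL2 a⁻¹ ∈ ι.range :=
    ⟨y⁻¹, by rw [map_inv, hιy, lowerSL2_inv, hb, neg_neg]⟩
  obtain ⟨K', hK', ⟨e⟩⟩ := exists_copy_of_upper_lower (p := p) ι.range ha0 hu' hl'
  exact ⟨K'.comap ι, ⟨((K'.comap ι).equivMapOfInjective ι hι).trans
    ((MulEquiv.subgroupCongr (map_comap_eq_self hK')).trans e)⟩⟩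

omit [Finite F] [Finite Γ] hPn in
/-- non-central elements are not involutions -/
theorem mul_self_ne_one {y : Γ} (hy : y ∉ center Γ) : y * y ≠ 1 := by
  intro h
  have h2 : (2 : F) ≠ 0 := two_ne_zero_of_char hp.out hp2
  have h1 : ι y * ι y = 1 := by rw [← map_mul, h, map_one]
  apply hy
  rcases eq_one_or_neg_one_of_mul_self h2 h1 with h3 | h3
  · apply mem_center_of_scalar hι (c := 1)
    rw [h3, Matrix.SpecialLinearGroup.coe_one, one_smul]
  · apply mem_center_of_scalar hι (c := -1)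
    rw [h3, Matrix.SpecialLinearGroup.coe_neg, Matrix.SpecialLinearGroup.coe_one, neg_smul,
      one_smul]

omit [Finite F] hp [CharP F p] [Finite Γ] hp2 in
/-- the centre has order at most `2` -/
theorem card_center_le_two : Nat.card (center Γ) ≤ 2 := by
  classical
  have hnc := not_comm_of_not_normal hPn
  have hpm : ∀ ε ∈ center Γ, ι ε = 1 ∨ ι ε = -1 := by
    intro ε hε
    by_contra hcon
    push Not at hcon
    refine not_mem_center_of_not_scalar hι hnc (x := ε) ?_ hε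
    intro c hc
    have hd := (ι ε).2
    rw [hc, Matrix.det_smul, Matrix.det_one, mul_one, Fintype.card_fin] at hd
    have : (c - 1) * (c + 1) = 0 := by linear_combination hd
    rcases mul_eq_zero.1 this with h | h
    · apply hcon.1
      apply Subtype.ext
      rw [hc, sub_eq_zero.1 h, one_smul, Matrix.SpecialLinearGroup.coe_one]
    · apply hcon.2
      apply Subtype.ext
      rw [hc, eq_neg_of_add_eq_zero_left h, neg_smul, one_smul,
        Matrix.SpecialLinearGroup.coe_neg, Matrix.SpecialLinearGroup.coe_one]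
  let f : ↥(center Γ) → Bool := fun ε => decide (ι (ε : Γ) = 1)
  have hinj : Function.Injective f := by
    intro ε ε' h
    apply Subtype.ext
    apply hι
    by_cases h1 : ι (ε : Γ) = 1
    · have h2 : ι (ε' : Γ) = 1 := by
        have : f ε' = true := by rw [← h]; exact decide_eq_true h1
        exact of_decide_eq_true this
      rw [h1, h2]
    · have h1' : ¬ ι (ε' : Γ) = 1 := by
        intro h2
        apply h1
        have : f ε = true := by rw [h]; exact decide_eq_true h2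
        exact of_decide_eq_true this
      rw [(hpm ε ε.2).resolve_left h1, (hpm ε' ε'.2).resolve_left h1']
  have := Nat.card_le_card_of_injective f hinj
  simpa using this

omit hι hp2 hPn [Finite Γ] hp [CharP F p] [Finite F] in
theorem mem_normalizer_of_map_conj_eq {H : Subgroup Γ} {h : Γ}
    (e : H.map (MulAut.conj h).toMonoidHom = H) : h ∈ normalizer (H : Set Γ) := by
  rw [mem_normalizer_iff]
  intro w
  constructor
  · intro hw
    rw [← e]
    exact ⟨w, hw, rfl⟩
  · intro hw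
    rw [← e, Subgroup.mem_map_equiv, MulAut.conj_symm_apply] at hw
    have e' : h⁻¹ * (h * w * h⁻¹) * h = w := by group
    rwa [e'] at hw

/-- the exceptional case `|Γ / Z| = 60` -/
theorem endgame_exceptional {u g x₅ : Γ} (hu : u ∈ P) (hu1 : u ≠ 1) (hgc : g ∉ center Γ)
    (hr : Nat.card P = 3)
    (hΓ : Nat.card Γ = Nat.card (center Γ) * 3 * 2 * 10)
    (hCg : Nat.card (centralizer ({g} : Set Γ)) = Nat.card (center Γ) * 2)
    (hNg : Nat.card (normalizer (centralizer ({g} : Set Γ) : Set Γ)) =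
      2 * (Nat.card (center Γ) * 2))
    (hx₅c : x₅ ∉ center Γ)
    (hCx : Nat.card (centralizer ({x₅} : Set Γ)) = Nat.card (center Γ) * 5)
    (hpart : ∀ y : Γ, y ∉ center Γ → y ∈ Cl u ∨ y ∈ Cl g ∨ y ∈ Cl x₅) :
    ∃ K : Subgroup Γ, Nonempty (K ≃* SpecialLinearGroup (Fin 2) (ZMod p)) := by
  have hCT := ct_of_injective hι
  have huc := not_mem_center_of_mem_sylow hι hp2 P hPn hu hu1
  -- `p = 3`
  have hp3 : p = 3 := by
    obtain ⟨k, hk⟩ := P.2.exists_card_eq
    have hk' : Nat.card P = p ^ k := hk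
    rw [hr] at hk'
    have hk0 : k ≠ 0 := by
      rintro rfl
      rw [pow_zero] at hk'
      omega
    have : p ∣ 3 := by rw [hk']; exact dvd_pow_self p hk0
    exact (Nat.prime_dvd_prime_iff_eq hp.out Nat.prime_three).1 this
  -- `|Z| = 2`
  have hz : Nat.card (center Γ) = 2 := by
    have h1 := card_center_le_two hι P hPn
    have h2 : 0 < Nat.card (center Γ) := Nat.card_pos
    by_contra hne
    have hz1 : Nat.card (center Γ) = 1 := by omega
    rw [hz1] at hCg
    have h3 : (⟨g, mem_cent.2 (Commute.refl g)⟩ : ↥(centralizer ({g} : Set Γ))) ^ 2 = 1 := by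
      rw [← show Nat.card (centralizer ({g} : Set Γ)) = 2 from hCg]
      exact pow_card_eq_one'
    have h4 : g * g = 1 := by
      have := congrArg Subtype.val h3
      rwa [Subgroup.coe_pow, Subgroup.coe_one, pow_two] at this
    exact mul_self_ne_one hι hp2 hgc h4
  rw [hz] at hΓ hCg hNg hCx
  norm_num at hΓ hCg hNg hCx
  have hCu : Nat.card (centralizer ({u} : Set Γ)) = 6 := by
    rw [card_centralizer_sylow hι hp2 P hPn hu hu1, hz, hr]
  -- `D = C(g)` and `Q = N(D)`
  obtain ⟨D, hD⟩ : ∃ D : Subgroup Γ, D = centralizer ({g} : Set Γ) := ⟨_, rfl⟩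
  obtain ⟨Q, hQ⟩ : ∃ Q : Subgroup Γ, Q = normalizer (D : Set Γ) := ⟨_, rfl⟩
  rw [← hD] at hCg hNg
  rw [← hQ] at hNg
  have hDQ : D ≤ Q := by rw [hQ]; exact le_normalizer
  have hZD : center Γ ≤ D := by rw [hD]; exact Subgroup.center_le_centralizer _
  have hgD : g ∈ D := by rw [hD]; exact mem_cent.2 (Commute.refl g)
  -- an element `t ∈ Q \ D`
  obtain ⟨t, htQ, htD⟩ : ∃ t ∈ Q, t ∉ D := by
    by_contra hcon
    push Not at hcon
    have : Q ≤ D := hcon
    have := Subgroup.card_le_of_le this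
    omega
  have htc : t ∉ center Γ := fun h => htD (hZD h)
  have ht8 : t ^ 8 = 1 := by
    have h3 : (⟨t, htQ⟩ : ↥Q) ^ 8 = 1 := by
      rw [← show Nat.card Q = 8 by rw [hNg]]
      exact pow_card_eq_one'
    have := congrArg Subtype.val h3
    rwa [Subgroup.coe_pow, Subgroup.coe_one] at this
  have hpowC : ∀ w : Γ, w ^ Nat.card (centralizer ({w} : Set Γ)) = 1 := by
    intro w
    have h3 : (⟨w, mem_cent.2 (Commute.refl w)⟩ : ↥(centralizer ({w} : Set Γ))) ^
        Nat.card (centralizer ({w} : Set Γ)) = 1 := pow_card_eq_one'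
    have := congrArg Subtype.val h3
    rwa [Subgroup.coe_pow, Subgroup.coe_one] at this
  have htt : t * t ≠ 1 := mul_self_ne_one hι hp2 htc
  -- `t` lies in the class of `g`
  have htg : t ∈ Cl g := by
    rcases hpart t htc with h | h | h
    · exfalso
      have h1 := card_centralizer_of_mem_Cl hCT huc h
      rw [hCu] at h1
      have h2 := hpowC t
      rw [h1] at h2
      apply htt
      have : t ^ 8 = t ^ 6 * (t * t) := by rw [← pow_two, ← pow_add]
      rw [ht8, h2, one_mul] at this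
      exact this.symm
    · exact h
    · exfalso
      have h1 := card_centralizer_of_mem_Cl hCT hx₅c h
      rw [hCx] at h1
      have h2 := hpowC t
      rw [h1] at h2
      apply htt
      have : t ^ 10 = t ^ 8 * (t * t) := by rw [← pow_two, ← pow_add]
      rw [ht8, h2, one_mul] at this
      exact this.symm
  obtain ⟨h, hh⟩ := centralizer_of_mem_Cl hCT hgc htg
  have hCt4 : Nat.card (centralizer ({t} : Set Γ)) = 4 := by
    rw [card_centralizer_of_mem_Cl hCT hgc htg, ← hD, hCg]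
  have hNt8 : Nat.card (normalizer (centralizer ({t} : Set Γ) : Set Γ)) = 8 := by
    rw [card_normalizer_of_mem_Cl hCT hgc htg, ← hD, ← hQ, hNg]
  -- `C(t) = ⟨t⟩ ≤ Q`
  have ht4 : t ^ 4 = 1 := by
    have := hpowC t
    rwa [hCt4] at this
  have hord : orderOf t = 4 := by
    have h1 : orderOf t ∣ 4 := orderOf_dvd_of_pow_eq_one ht4
    have h2 : orderOf t ≤ 4 := Nat.le_of_dvd (by norm_num) h1
    have h3 : orderOf t ≠ 1 := by
      intro h3
      rw [orderOf_eq_one_iff] at h3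
      apply htt
      rw [h3, mul_one]
    have h4 : orderOf t ≠ 2 := by
      intro h4
      apply htt
      rw [← pow_two, ← h4, pow_orderOf_eq_one]
    have h5 : orderOf t ≠ 0 := (orderOf_pos t).ne'
    have h6 : orderOf t ≠ 3 := by
      intro h6
      rw [h6] at h1
      omega
    omega
  have hzt : zpowers t = centralizer ({t} : Set Γ) := by
    apply Subgroup.eq_of_le_of_card_ge
    · rw [zpowers_le]
      exact mem_cent.2 (Commute.refl t)
    · rw [Nat.card_zpowers, hord, hCt4]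
  have hCtQ : centralizer ({t} : Set Γ) ≤ Q := by
    rw [← hzt, zpowers_le]; exact htQ
  -- `Q` normalizes `C(t)`
  have hQN : Q ≤ normalizer (centralizer ({t} : Set Γ) : Set Γ) := by
    rw [← Subgroup.normal_subgroupOf_iff_le_normalizer hCtQ]
    apply Subgroup.normal_of_index_eq_two
    have h1 := ((centralizer ({t} : Set Γ)).subgroupOf Q).card_mul_index
    have h2 : Nat.card ((centralizer ({t} : Set Γ)).subgroupOf Q) = 4 := by
      rw [Nat.card_congr (Subgroup.subgroupOfEquivOfLe hCtQ).toEquiv, hCt4]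
    rw [h2, hNg] at h1
    omega
  have hQeq : Q = normalizer (centralizer ({t} : Set Γ) : Set Γ) :=
    Subgroup.eq_of_le_of_card_ge hQN (by rw [hNt8, hNg])
  -- `h` normalizes `Q`
  have hmapD : centralizer ({t} : Set Γ) = D.map (MulAut.conj h).toMonoidHom := by
    rw [hh, centralizer_conj, hD]
  have hmapQ : Q.map (MulAut.conj h).toMonoidHom = Q := by
    conv_rhs => rw [hQeq, hmapD, ← Subgroup.map_equiv_normalizer_eq, ← hQ]
  have hhN : h ∈ normalizer (Q : Set Γ) := mem_normalizer_of_map_conj_eq hmapQ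
  have hhQ : h ∉ Q := by
    intro hhQ
    rw [hQ] at hhQ
    have h1 : D.map (MulAut.conj h).toMonoidHom = D := by
      ext w
      rw [Subgroup.mem_map_equiv, MulAut.conj_symm_apply]
      have := (mem_normalizer_iff.1 (inv_mem hhQ) w)
      rw [inv_inv] at this
      exact this.symm
    rw [h1] at hmapD
    apply htD
    rw [← hmapD]
    exact mem_cent.2 (Commute.refl t)
  -- the order of `N(Q)`
  obtain ⟨M, hM⟩ : ∃ M : ℕ, M = Nat.card (normalizer (Q : Set Γ)) := ⟨_, rfl⟩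
  have hM8 : 8 ∣ M := by
    rw [hM, ← hNg]; exact Subgroup.card_dvd_of_le le_normalizer
  have hM120 : M ∣ 120 := by
    rw [hM, show 120 = Nat.card Γ by rw [hΓ]]
    exact Subgroup.card_subgroup_dvd_card _
  have hMgt : 8 < M := by
    by_contra hle
    have hMpos : 0 < M := by rw [hM]; exact Nat.card_pos
    have hM8' : M = 8 := by
      obtain ⟨j, hj⟩ := hM8
      have : j = 1 := by
        rcases Nat.lt_or_ge j 2 with h | h
        · interval_cases j
          · omega
          · rfl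
        · exfalso
          have : 8 * 2 ≤ 8 * j := Nat.mul_le_mul_left _ h
          omega
      rw [hj, this]
    have : Q = normalizer (Q : Set Γ) :=
      Subgroup.eq_of_le_of_card_ge le_normalizer (by rw [← hM, hM8', hNg])
    apply hhQ
    rw [this]; exact hhN
  have hMle : M ≤ 24 := by
    have h1 := card_conj_orbit (normalizer (Q : Set Γ)) g
    have h2 : normalizer (Q : Set Γ) ⊓ centralizer ({g} : Set Γ) = D := by
      rw [← hD]
      exact inf_eq_right.2 (hDQ.trans le_normalizer)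
    rw [h2, hCg, ← hM] at h1
    have hsub : {y : Γ | ∃ k ∈ normalizer (Q : Set Γ), y = k * g * k⁻¹} ⊆
        (Q : Set Γ) \ ((center Γ : Subgroup Γ) : Set Γ) := by
      rintro y ⟨k, hk, rfl⟩
      exact ⟨(mem_normalizer_iff.1 hk g).1 (hDQ hgD), conj_not_mem_center hgc k⟩
    have h3 := Set.ncard_le_ncard hsub (Set.toFinite _)
    have h4 : ((Q : Set Γ) \ ((center Γ : Subgroup Γ) : Set Γ)).ncard =
        (Q : Set Γ).ncard - ((center Γ : Subgroup Γ) : Set Γ).ncard :=
      Set.ncard_sdiff (fun y hy => hDQ (hZD hy)) (Set.toFinite _)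
    have h5 : (Q : Set Γ).ncard = 8 := by
      rw [← Nat.card_coe_set_eq]; exact hNg
    have h6 : ((center Γ : Subgroup Γ) : Set Γ).ncard = 2 := by
      rw [← Nat.card_coe_set_eq]; exact hz
    rw [← Nat.card_coe_set_eq] at h3
    omega
  have hM24 : M = 24 := by
    obtain ⟨j, hj⟩ := hM8
    have hj3 : j = 3 := by
      have hj1 : 1 < j := by omega
      have hj2 : j ≤ 3 := by omega
      interval_cases j
      · exfalso
        rw [hj] at hM120
        norm_num at hM120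
      · rfl
    rw [hj, hj3]
  -- an element of order `3` in `N(Q)`
  have hpM : p ∣ Nat.card (normalizer (Q : Set Γ)) := by
    rw [← hM, hM24, hp3]; norm_num
  obtain ⟨a, ha⟩ := exists_prime_orderOf_dvd_card' p hpM
  have ha1 : (a : Γ) ≠ 1 := by
    intro h
    have : a = 1 := Subtype.ext h
    rw [this, orderOf_one] at ha
    exact hp.out.one_lt.ne ha
  have hap : (a : Γ) ^ (p ^ 1) = 1 := by
    rw [pow_one, ← Subgroup.coe_pow, ← ha, pow_orderOf_eq_one, Subgroup.coe_one]
  have hag : (a : Γ) * g ≠ g * (a : Γ) := by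
    intro hcomm
    have haD : (a : Γ) ∈ D := by
      rw [hD, mem_cent]; exact hcomm.symm
    have h3 : (⟨(a : Γ), haD⟩ : ↥D) ^ 4 = 1 := by
      rw [← hCg]; exact pow_card_eq_one'
    have h4 : (a : Γ) ^ 4 = 1 := by
      have := congrArg Subtype.val h3
      rwa [Subgroup.coe_pow, Subgroup.coe_one] at this
    rw [pow_one, hp3] at hap
    apply ha1
    have : (a : Γ) ^ 4 = (a : Γ) ^ 3 * (a : Γ) := by rw [← pow_succ]
    rw [h4, hap, one_mul] at this
    exact this.symm
  have hcop : (Nat.card Q).Coprime p := by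
    rw [hNg, hp3]; norm_num
  exact copy_of_coprime_action hι hp2 Q hcop (a : Γ) 1 hap a.2 g (hDQ hgD) hag

/-- Dickson's theorem in normalized coordinates -/
theorem exists_copy_normalized {u : Γ} (hu : u ∈ P) {s : F} (hs : s ≠ 0)
    (hιu : ι u = upperSL2 s) (h₀ : Γ)
    (hh₀ : ((ι h₀ : SpecialLinearGroup (Fin 2) F) : Matrix (Fin 2) (Fin 2) F) 0 0 = 0) :
    ∃ K : Subgroup Γ, Nonempty (K ≃* SpecialLinearGroup (Fin 2) (ZMod p)) := by
  have hu1 := ne_one_of_upper hs hιu
  have hCT := ct_of_injective hι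
  have huc := not_mem_center_of_mem_sylow hι hp2 P hPn hu hu1
  obtain ⟨d, hd, hd1, hdr⟩ := exists_d hι hp2 P hPn hu hu1
  have hCu := card_centralizer_sylow hι hp2 P hPn hu hu1
  obtain ⟨hn1, hn2⟩ := card_sylow_mul P hPn
  obtain ⟨z, hz⟩ : ∃ z : ℕ, Nat.card (center Γ) = z := ⟨_, rfl⟩
  obtain ⟨r, hr⟩ : ∃ r : ℕ, Nat.card P = r := ⟨_, rfl⟩
  obtain ⟨n, hn⟩ : ∃ n : ℕ, Nat.card (Sylow p Γ) = n := ⟨_, rfl⟩
  rw [hz, hr] at hd hCu
  rw [hr] at hdr
  rw [hn] at hn1 hn2
  have hzpos : 0 < z := by rw [← hz]; exact Nat.card_pos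
  have hrpos : 0 < r := by rw [← hr]; exact Nat.card_pos
  rcases Nat.lt_or_ge d 2 with hd2 | hd2
  · have hd1' : d = 1 := by omega
    subst hd1'
    apply endgame_transfer hι hp2 P hPn hu hu1
    rw [hd, hCu, mul_one]
  · have hlt : Nat.card (centralizer ({u} : Set Γ)) <
        Nat.card (normalizer ((P : Subgroup Γ) : Set Γ)) := by
      rw [hCu, hd]
      have h1 : 0 < z * r := Nat.mul_pos hzpos hrpos
      have h2 : z * r * 2 ≤ z * r * d := Nat.mul_le_mul_left _ hd2
      omega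
    obtain ⟨g₀, hg₀c, hg₀⟩ := exists_complement hι hp2 P hPn hu hs hιu hlt
    rw [hr, hd] at hg₀
    have hCg : Nat.card (centralizer ({g₀} : Set Γ)) = z * d := by
      have : Nat.card (centralizer ({g₀} : Set Γ)) * r = (z * d) * r := by rw [hg₀]; ring
      exact Nat.eq_of_mul_eq_mul_right hrpos this
    have hNu : Nat.card (normalizer (centralizer ({u} : Set Γ) : Set Γ)) = z * r * d := by
      rw [normalizer_centralizer_eq hι hp2 P hPn hu hu1, hd]
    have hΓ : Nat.card Γ = z * r * d * n := by rw [← hn1, hd]; ring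
    obtain ⟨k, hk⟩ := P.2.exists_card_eq
    have hk' : r = p ^ k := by rw [← hr]; exact hk
    have hodd : Odd r := by rw [hk']; exact (hp.out.odd_of_ne_two hp2).pow
    have hr3 : 3 ≤ r := by omega
    rcases klein_main hCT z r d n hz u g₀ huc hg₀c hCu hNu hΓ hCg hr3 hodd hd2 hdr hn2
      (fun x hx hxu => card_normalizer_le hι hp2 P hPn hu hx hxu)
      (fun x hx hxu => by
        have := coprime_card_centralizer hι hp2 P hPn hu hu1 hx hxu
        rwa [hr] at this) with h | ⟨h1, h2, h3, h4, x₅, hx₅, hCx, hpart⟩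
    · apply endgame_two_trans hι hp2 P hPn hu hs hιu h₀ hh₀
      rw [hn, hr, h]
    · apply endgame_exceptional hι hp2 P hPn hu hu1 hg₀c (by rw [hr, h1])
        (by rw [hΓ, hz, h1, h2, h3]) (by rw [hCg, hz, h2]) (by rw [h4, hz, h2]) hx₅
        (by rw [hCx, hz]) hpart

/-- **Dickson's theorem.** A finite group with a faithful representation in `SL(2, F)`, `F` a
finite field of odd characteristic `p`, and a non-normal Sylow `p`-subgroup contains a copy of
`SL(2, p)`. -/
theorem exists_copy_of_injective :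
    ∃ K : Subgroup Γ, Nonempty (K ≃* SpecialLinearGroup (Fin 2) (ZMod p)) := by
  have hbot : (P : Subgroup Γ) ≠ ⊥ := by
    intro h
    apply hPn
    rw [h]
    infer_instance
  obtain ⟨⟨u, hu⟩, hu1⟩ := (Subgroup.ne_bot_iff_exists_ne_one).1 hbot
  have hu1' : u ≠ 1 := fun h => hu1 (Subtype.ext h)
  obtain ⟨k, hk⟩ := pow_of_mem_sylow (P := P) hu
  have htr := trace_of_pow ι hk
  have hιu1 : ι u ≠ 1 := fun h => hu1' (hι (by rw [h, map_one]))
  obtain ⟨t₁, s, hs, ht₁⟩ := exists_conj_upper htr hιu1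
  -- first normalization
  obtain ⟨ι₁, hι₁⟩ : ∃ ι₁ : Γ →* SpecialLinearGroup (Fin 2) F,
      ι₁ = (MulAut.conj t₁).toMonoidHom.comp ι := ⟨_, rfl⟩
  have hι₁inj : Function.Injective ι₁ := by
    rw [hι₁]
    exact (MulAut.conj t₁).injective.comp hι
  have hι₁u : ι₁ u = upperSL2 s := by
    rw [hι₁, MonoidHom.comp_apply, MulEquiv.coe_toMonoidHom, MulAut.conj_apply, ht₁]
  -- an element outside the normalizer
  obtain ⟨h₀, hh₀⟩ : ∃ h₀ : Γ, h₀ ∉ normalizer ((P : Subgroup Γ) : Set Γ) := by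
    by_contra hcon
    push Not at hcon
    apply hPn
    rw [← normalizer_eq_top_iff, eq_top_iff]
    intro g _
    exact hcon g
  have hN := normalizer_eq_comap_borel hι₁inj hp2 P hPn hu hs hι₁u
  rw [hN, mem_comap, mem_borelSL2] at hh₀
  -- second normalization
  obtain ⟨t₂, ht₂⟩ : ∃ t₂ : SpecialLinearGroup (Fin 2) F, t₂ =
      upperSL2 (-(((ι₁ h₀ : SpecialLinearGroup (Fin 2) F) : Matrix (Fin 2) (Fin 2) F) 0 0 /
        ((ι₁ h₀ : SpecialLinearGroup (Fin 2) F) : Matrix (Fin 2) (Fin 2) F) 1 0)) := ⟨_, rfl⟩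
  obtain ⟨ι₂, hι₂⟩ : ∃ ι₂ : Γ →* SpecialLinearGroup (Fin 2) F,
      ι₂ = (MulAut.conj t₂).toMonoidHom.comp ι₁ := ⟨_, rfl⟩
  have hι₂inj : Function.Injective ι₂ := by
    rw [hι₂]
    exact (MulAut.conj t₂).injective.comp hι₁inj
  have hι₂u : ι₂ u = upperSL2 s := by
    rw [hι₂, MonoidHom.comp_apply, MulEquiv.coe_toMonoidHom, MulAut.conj_apply, hι₁u, ht₂,
      upperSL2_inv, ← upperSL2_add, ← upperSL2_add]
    congr 1
    ring
  have hι₂h : ((ι₂ h₀ : SpecialLinearGroup (Fin 2) F) : Matrix (Fin 2) (Fin 2) F) 0 0 = 0 := by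
    rw [hι₂, MonoidHom.comp_apply, MulEquiv.coe_toMonoidHom, MulAut.conj_apply, ht₂]
    exact conj_00 _ hh₀
  exact exists_copy_normalized hι₂inj hp2 P hPn hu hs hι₂u h₀ hι₂h

end Endgames

end Cfsg.H5.Dickson
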