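import Mathlib
import Cfsg.Agent.H5.Dickson
import Cfsg.Agent.Lib.Helper10.UniqueOrderP

/-!
# Sylow `2`-subgroups of subgroups of `SL(2, q)` with non-normal Sylow `p`-subgroups are
generalised quaternion
-/

set_option autoImplicit false
set_option linter.style.haveILetI false

namespace Cfsg.H5.Dickson

open Matrix Subgroup Cfsg.Agent.Lib.Helper16 Cfsg.H5.SL2 Cfsg.H5.Klein

/-- a quaternion pair in `SL(2, p)` -/
theorem exists_pair_zmod (p : ℕ) [hp : Fact p.Prime] (hp2 : p ≠ 2) :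
    ∃ x y : SpecialLinearGroup (Fin 2) (ZMod p), x ^ (2 ^ 2) = 1 ∧ y ^ (2 ^ 2) = 1 ∧
      y * x * y⁻¹ = x⁻¹ ∧ x * y ≠ y * x := by
  obtain ⟨a, b, hab⟩ := ZMod.sq_add_sq p (-1)
  let x : SpecialLinearGroup (Fin 2) (ZMod p) := ⟨!![0, 1; -1, 0], by simp [Matrix.det_fin_two]⟩
  let y : SpecialLinearGroup (Fin 2) (ZMod p) := ⟨!![a, b; b, -a], by
    rw [Matrix.det_fin_two_of]; linear_combination -hab⟩
  have hx2 : x * x = -1 := by
    apply Subtype.ext
    rw [Matrix.SpecialLinearGroup.coe_mul, Matrix.SpecialLinearGroup.coe_neg,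
      Matrix.SpecialLinearGroup.coe_one]
    show !![0, 1; -1, 0] * !![0, 1; -1, 0] = -(1 : Matrix (Fin 2) (Fin 2) (ZMod p))
    rw [Matrix.mul_fin_two, Matrix.one_fin_two]
    ext i j
    fin_cases i <;> fin_cases j <;> simp
  have hy2 : y * y = -1 := by
    apply Subtype.ext
    rw [Matrix.SpecialLinearGroup.coe_mul, Matrix.SpecialLinearGroup.coe_neg,
      Matrix.SpecialLinearGroup.coe_one]
    show !![a, b; b, -a] * !![a, b; b, -a] = -(1 : Matrix (Fin 2) (Fin 2) (ZMod p))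
    rw [Matrix.mul_fin_two, Matrix.one_fin_two]
    ext i j
    fin_cases i <;> fin_cases j <;> simp
    · linear_combination hab
    · ring
    · ring
    · linear_combination hab
  have hxy : x * y = -(y * x) := by
    apply Subtype.ext
    rw [Matrix.SpecialLinearGroup.coe_neg, Matrix.SpecialLinearGroup.coe_mul,
      Matrix.SpecialLinearGroup.coe_mul]
    show !![0, 1; -1, 0] * !![a, b; b, -a] = -(!![a, b; b, -a] * !![0, 1; -1, 0])
    rw [Matrix.mul_fin_two, Matrix.mul_fin_two]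
    ext i j
    fin_cases i <;> fin_cases j <;> simp
  have hxinv : x⁻¹ = -x := by
    rw [inv_eq_iff_mul_eq_one, mul_neg, hx2, neg_neg]
  refine ⟨x, y, ?_, ?_, ?_, ?_⟩
  · rw [show (2 : ℕ) ^ 2 = 2 + 2 by norm_num, pow_add, pow_two, hx2, neg_mul_neg, one_mul]
  · rw [show (2 : ℕ) ^ 2 = 2 + 2 by norm_num, pow_add, pow_two, hy2, neg_mul_neg, one_mul]
  · rw [hxinv, mul_inv_eq_iff_eq_mul, neg_mul, hxy, neg_neg]
  · intro h
    rw [h] at hxy
    have h1 : (1 : SpecialLinearGroup (Fin 2) (ZMod p)) = -1 := by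
      calc (1 : SpecialLinearGroup (Fin 2) (ZMod p)) = (y * x) * (y * x)⁻¹ := by group
        _ = -(y * x) * (y * x)⁻¹ := by rw [← hxy]
        _ = -1 := by rw [neg_mul, mul_inv_cancel]
    have h2 := congrArg (fun M : SpecialLinearGroup (Fin 2) (ZMod p) =>
      (M : Matrix (Fin 2) (Fin 2) (ZMod p)) 0 0) h1
    simp only [Matrix.SpecialLinearGroup.coe_neg, Matrix.SpecialLinearGroup.coe_one,
      Matrix.neg_apply, Matrix.one_apply_eq] at h2
    have h3 : ((2 : ℕ) : ZMod p) = 0 := by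
      push_cast
      linear_combination h2
    rw [ZMod.natCast_eq_zero_iff] at h3
    exact hp2 ((Nat.prime_dvd_prime_iff_eq hp.out Nat.prime_two).1 h3)

section Main

variable {F : Type*} [Field F] [Finite F] {p : ℕ} [hp : Fact p.Prime] [CharP F p]
  {Γ : Type*} [Group Γ] [Finite Γ] {ι : Γ →* SpecialLinearGroup (Fin 2) F}

/-- the Sylow `2`-subgroups are generalised quaternion -/
theorem sylow_two_quaternion (hι : Function.Injective ι) (hp2 : p ≠ 2) (P : Sylow p Γ)
    (hPn : ¬ (P : Subgroup Γ).Normal) (S : Sylow 2 Γ) :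
    ∃ k : ℕ, 1 ≤ k ∧ Nonempty ((S : Subgroup Γ) ≃* QuaternionGroup (2 ^ k)) := by
  have h2 : (2 : F) ≠ 0 := two_ne_zero_of_char hp.out hp2
  -- `S` is not commutative
  have hnc : ¬ ∀ a b : ↥(S : Subgroup Γ), a * b = b * a := by
    intro hcomm
    obtain ⟨K, ⟨e⟩⟩ := exists_copy_of_injective hι hp2 P hPn
    obtain ⟨x₀, y₀, hx4, hy4, hyx, hxy⟩ := exists_pair_zmod p hp2
    obtain ⟨x, hx⟩ : ∃ x : Γ, x = ((e.symm x₀ : ↥K) : Γ) := ⟨_, rfl⟩
    obtain ⟨y, hy⟩ : ∃ y : Γ, y = ((e.symm y₀ : ↥K) : Γ) := ⟨_, rfl⟩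
    have hx4' : x ^ (2 ^ 2) = 1 := by
      rw [hx, ← Subgroup.coe_pow, ← map_pow, hx4, map_one, Subgroup.coe_one]
    have hy4' : y ^ (2 ^ 2) = 1 := by
      rw [hy, ← Subgroup.coe_pow, ← map_pow, hy4, map_one, Subgroup.coe_one]
    have hyx' : y * x * y⁻¹ = x⁻¹ := by
      rw [hx, hy, ← Subgroup.coe_inv, ← Subgroup.coe_mul, ← Subgroup.coe_mul, ← Subgroup.coe_inv,
        ← map_inv, ← map_mul, ← map_mul, ← map_inv, hyx]
    have hxy' : x * y ≠ y * x := by
      intro h
      apply hxy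
      apply e.symm.injective
      apply Subtype.ext
      rw [map_mul, map_mul, Subgroup.coe_mul, Subgroup.coe_mul, ← hx, ← hy, h]
    -- the 2-group `⟨x⟩ ⊔ ⟨y⟩`
    have hyN : zpowers y ≤ normalizer ((zpowers x : Subgroup Γ) : Set Γ) := by
      rw [zpowers_le]
      apply mem_normalizer_of_map_conj_eq
      rw [MonoidHom.map_zpowers, MulEquiv.coe_toMonoidHom, MulAut.conj_apply, hyx', zpowers_inv]
    have hT : IsPGroup 2 (zpowers y ⊔ zpowers x : Subgroup Γ) :=
      IsPGroup.to_sup_of_normal_right' (isPGroup_zpowers hy4') (isPGroup_zpowers hx4') hyN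
    obtain ⟨S', hS'⟩ := hT.exists_le_sylow
    obtain ⟨g, hg⟩ := MulAction.exists_smul_eq Γ S' S
    have hmem : ∀ w ∈ S', g * w * g⁻¹ ∈ S := by
      intro w hw
      have h1 : g * w * g⁻¹ ∈ ((g • S' : Sylow 2 Γ) : Subgroup Γ) := by
        rw [Sylow.coe_subgroup_smul]
        have := Subgroup.smul_mem_pointwise_smul w (MulAut.conj g) (S' : Subgroup Γ) hw
        rwa [MulAut.smul_def, MulAut.conj_apply] at this
      rwa [hg] at h1
    have hxS := hmem x (hS' (le_sup_right (a := zpowers y) (mem_zpowers x)))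
    have hyS := hmem y (hS' (le_sup_left (b := zpowers x) (mem_zpowers y)))
    have := congrArg Subtype.val (hcomm ⟨_, hxS⟩ ⟨_, hyS⟩)
    simp only [Subgroup.coe_mul] at this
    apply hxy'
    have e1 : x * y = g⁻¹ * ((g * x * g⁻¹) * (g * y * g⁻¹)) * g := by group
    have e2 : y * x = g⁻¹ * ((g * y * g⁻¹) * (g * x * g⁻¹)) * g := by group
    rw [e1, e2, this]
  -- unique involution
  have huniq : Cfsg.Agent.Lib.Helper10.UniqueOrderP 2 ↥(S : Subgroup Γ) := by
    intro x y hx hx1 hy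
    have key : ∀ w : ↥(S : Subgroup Γ), w ^ 2 = 1 → ι (w : Γ) = 1 ∨ ι (w : Γ) = -1 := by
      intro w hw
      apply eq_one_or_neg_one_of_mul_self h2
      rw [← map_mul, ← Subgroup.coe_mul, ← pow_two, hw, Subgroup.coe_one, map_one]
    have hx' : ι (x : Γ) = -1 := by
      rcases key x hx with h | h
      · exfalso
        apply hx1
        apply Subtype.ext
        apply hι
        rw [h, Subgroup.coe_one, map_one]
      · exact h
    rcases key y hy with h | h
    · have : y = 1 := by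
        apply Subtype.ext
        apply hι
        rw [h, Subgroup.coe_one, map_one]
      rw [this]
      exact one_mem _
    · have : y = x := by
        apply Subtype.ext
        apply hι
        rw [h, hx']
      rw [this]
      exact mem_zpowers x
  rcases Cfsg.Agent.Lib.Helper10.isCyclic_or_quaternion_of_uniqueOrderP S.2 huniq with
    hcyc | ⟨-, n, ⟨e⟩⟩
  · exfalso
    apply hnc
    intro a b
    obtain ⟨g, hg⟩ := hcyc.exists_generator
    obtain ⟨i, rfl⟩ := mem_zpowers_iff.1 (hg a)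
    obtain ⟨j, rfl⟩ := mem_zpowers_iff.1 (hg b)
    rw [← _root_.zpow_add, ← _root_.zpow_add, add_comm]
  · refine ⟨n, ?_, ⟨e⟩⟩
    by_contra hn
    have hn0 : n = 0 := by omega
    subst hn0
    apply hnc
    intro a b
    apply e.injective
    rw [map_mul, map_mul]
    have hc : IsCyclic (QuaternionGroup (2 ^ 0)) := by
      rw [pow_zero]; exact QuaternionGroup.quaternionGroup_one_isCyclic
    obtain ⟨g, hg⟩ := hc.exists_generator
    obtain ⟨i, hi⟩ := mem_zpowers_iff.1 (hg (e a))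
    obtain ⟨j, hj⟩ := mem_zpowers_iff.1 (hg (e b))
    rw [← hi, ← hj, ← _root_.zpow_add, ← _root_.zpow_add, add_comm]

end Main

end Cfsg.H5.Dickson
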