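import Mathlib
import Cfsg.Agent.S1959
import Cfsg.Agent.Lib.Helper13.CharFunctor2

/-!
# Families of isomorphism-invariant functors: transport of fusion chains

Transport of the chains `Rz` / `Real` of `Cfsg.Agent.S1959` along homomorphisms.
-/

set_option autoImplicit false
set_option linter.style.haveILetI false

namespace Cfsg.H5.FF

open Cfsg Cfsg.Agent.S1959 Cfsg.Agent.Lib.Helper13

universe u

section general

variable {X Y : Type*} [Group X] [Group Y]

theorem Rz.mono_H {𝓦 : Set (Subgroup X → Subgroup X)} {H H' T : Subgroup X} (hH : H ≤ H')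
    {A : Set X} {g : X} (h : Rz 𝓦 H T A g) : Rz 𝓦 H' T A g := by
  induction h with
  | base hA => exact Rz.base _ hA
  | step g d _ hd hs ih =>
    refine Rz.step _ g d ih ?_ hs
    obtain ⟨W, hW, hdW⟩ := hd
    exact ⟨W, hW, Subgroup.mem_inf.2 ⟨hH (Subgroup.mem_inf.1 hdW).1, (Subgroup.mem_inf.1 hdW).2⟩⟩

theorem Real.mono_H {𝓦 : Set (Subgroup X → Subgroup X)} {H H' T : Subgroup X} (hH : H ≤ H')
    {A : Set X} {g : X} (h : Real 𝓦 H T A g) : Real 𝓦 H' T A g := by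
  obtain ⟨g', hg', hag⟩ := h
  exact ⟨g', Rz.mono_H hH hg', hag⟩

/-- image of a conjugated set under a homomorphism -/
theorem image_conj_image (f : X →* Y) (A : Set X) (g : X) :
    (fun a => f g * a * (f g)⁻¹) '' (f '' A) = f '' ((fun a => g * a * g⁻¹) '' A) := by
  rw [Set.image_image, Set.image_image]
  apply Set.image_congr
  intro a _
  rw [map_mul, map_mul, map_inv]

/-- transport of a chain along a homomorphism -/
theorem Rz.map (f : X →* Y) {𝓦 : Set (Subgroup X → Subgroup X)}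
    {𝓦' : Set (Subgroup Y → Subgroup Y)} {H T : Subgroup X} {H' T' : Subgroup Y}
    (hT : ∀ t ∈ T, f t ∈ T') (hH : ∀ h ∈ H, f h ∈ H')
    (hN : ∀ W ∈ 𝓦, ∃ W' ∈ 𝓦', ∀ d ∈ Subgroup.normalizer ((W T : Subgroup X) : Set X),
      f d ∈ Subgroup.normalizer ((W' T' : Subgroup Y) : Set Y))
    {A : Set X} {g : X} (h : Rz 𝓦 H T A g) : Rz 𝓦' H' T' (f '' A) (f g) := by
  have hsub : ∀ B : Set X, B ⊆ T → f '' B ⊆ T' := by
    rintro B hB _ ⟨b, hb, rfl⟩
    exact hT b (hB hb)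
  induction h with
  | base hA =>
    rw [map_one]
    exact Rz.base _ (hsub _ hA)
  | step g d _ hd hs ih =>
    rw [map_mul]
    refine Rz.step _ _ _ ih ?_ ?_
    · obtain ⟨W, hW, hdW⟩ := hd
      obtain ⟨W', hW', hWW'⟩ := hN W hW
      exact ⟨W', hW', Subgroup.mem_inf.2 ⟨hH d (Subgroup.mem_inf.1 hdW).1,
        hWW' d (Subgroup.mem_inf.1 hdW).2⟩⟩
    · rw [← map_mul, image_conj_image]
      exact hsub _ hs

theorem Real.map (f : X →* Y) {𝓦 : Set (Subgroup X → Subgroup X)}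
    {𝓦' : Set (Subgroup Y → Subgroup Y)} {H T : Subgroup X} {H' T' : Subgroup Y}
    (hT : ∀ t ∈ T, f t ∈ T') (hH : ∀ h ∈ H, f h ∈ H')
    (hN : ∀ W ∈ 𝓦, ∃ W' ∈ 𝓦', ∀ d ∈ Subgroup.normalizer ((W T : Subgroup X) : Set X),
      f d ∈ Subgroup.normalizer ((W' T' : Subgroup Y) : Set Y))
    {A : Set X} {g : X} (h : Real 𝓦 H T A g) : Real 𝓦' H' T' (f '' A) (f g) := by
  obtain ⟨g', hg', hag⟩ := h
  refine ⟨f g', Rz.map f hT hH hN hg', ?_⟩
  rintro _ ⟨a, ha, rfl⟩
  rw [← map_inv, ← map_mul, ← map_mul, hag a ha, map_mul, map_mul, map_inv]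

/-- replacing each step of a chain by a realization -/
theorem Rz.lift {𝓨 𝓦 : Set (Subgroup X → Subgroup X)} {H T : Subgroup X}
    (hP : ∀ W ∈ 𝓨, ∀ d ∈ H ⊓ Subgroup.normalizer ((W T : Subgroup X) : Set X), ∀ B : Set X, B ⊆ T →
      (fun a => d * a * d⁻¹) '' B ⊆ T → Real 𝓦 H T B d)
    {A : Set X} {g : X} (h : Rz 𝓨 H T A g) : Real 𝓦 H T A g := by
  induction h with
  | base hA => exact ⟨1, Rz.base _ hA, fun _ _ => rfl⟩
  | step g d hg hd hs ih =>
    obtain ⟨W, hW, hdW⟩ := hd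
    have hB := hg.image_subset
    have hdB : (fun a => d * a * d⁻¹) '' ((fun a => g * a * g⁻¹) '' A) ⊆ T := by
      rw [lc_lc]; exact hs
    exact Real.trans ih (hP W hW d hdW _ hB hdB)

end general

section functor

variable {p : ℕ}

/-- the set of conjugacy functors on `X` induced by a set of isomorphism-invariant functors -/
def fam (𝓦₀ : Set (∀ (Q : Type u) [Group Q], Subgroup Q)) (X : Type u) [Group X] :
    Set (Subgroup X → Subgroup X) :=
  (fun W => Cfsg.inducedFunctor (G := X) W) '' 𝓦₀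

variable {𝓦₀ : Set (∀ (Q : Type u) [Group Q], Subgroup Q)}

theorem fam_conj (h𝓦 : ∀ W ∈ 𝓦₀, Cfsg.IsCharPFunctor.{u} p W) (X : Type u) [Group X] [Finite X] :
    ∀ W ∈ fam 𝓦₀ X, Cfsg.IsConjugacyFunctor p W := by
  rintro _ ⟨W, hW, rfl⟩
  exact isConjugacyFunctor_inducedFunctor (h𝓦 W hW) X

/-- transport along an injective homomorphism -/
theorem Real.map_injective (h𝓦 : ∀ W ∈ 𝓦₀, Cfsg.IsCharPFunctor.{u} p W) {X Y : Type u} [Group X]
    [Group Y] [Finite X] (f : X →* Y) (hf : Function.Injective f) {H T : Subgroup X}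
    (hT : IsPGroup p T) {A : Set X} {g : X} (h : Real (fam 𝓦₀ X) H T A g) :
    Real (fam 𝓦₀ Y) (H.map f) (T.map f) (f '' A) (f g) := by
  apply Real.map f (fun t ht => Subgroup.mem_map_of_mem f ht)
    (fun t ht => Subgroup.mem_map_of_mem f ht) ?_ h
  rintro _ ⟨W, hW, rfl⟩
  refine ⟨_, ⟨W, hW, rfl⟩, ?_⟩
  intro d hd
  show f d ∈ Subgroup.normalizer ((Cfsg.inducedFunctor W (T.map f) : Subgroup Y) : Set Y)
  rw [inducedFunctor_map_of_injective (h𝓦 W hW) f hf T hT]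
  exact Subgroup.le_normalizer_map f ⟨d, hd, rfl⟩

end functor

end Cfsg.H5.FF
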