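import Mathlib
import Cfsg.Prelude.Def_Local
import Cfsg.Agent.H5.Cores

set_option autoImplicit false

namespace Cfsg.H5

open Subgroup

variable {G : Type*} [Group G]

theorem card_map_mk' (N K : Subgroup G) [N.Normal] :
    Nat.card (K.map (QuotientGroup.mk' N)) = N.relIndex K := by
  rw [← Subgroup.relIndex_bot_left, ← Subgroup.relIndex_comap, MonoidHom.comap_bot,
    QuotientGroup.ker_mk']

theorem pPrimeCore_characteristic' (p : ℕ) (G : Type*) [Group G] :
    (Cfsg.pPrimeCore p G).Characteristic := by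
  rw [Subgroup.characteristic_iff_map_le]
  intro φ
  unfold Cfsg.pPrimeCore
  rw [Subgroup.map_le_iff_le_comap]
  apply sSup_le
  rintro N ⟨hN1, hN2⟩
  rw [← Subgroup.map_le_iff_le_comap]
  apply le_sSup
  refine ⟨Subgroup.Normal.map hN1 _ φ.surjective, ?_⟩
  exact Nat.Coprime.coprime_dvd_left (Subgroup.card_map_dvd N _) hN2

/-- `p`-solvability passes to quotients. -/
theorem isPSolvable_quotient {p : ℕ} [hp : Fact p.Prime] (N : Subgroup G) [N.Normal]
    (h : Cfsg.IsPSolvable p G) : Cfsg.IsPSolvable p (G ⧸ N) := by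
  obtain ⟨n, H, h0, hlast, hmono, hnorm, hfac⟩ := h
  have hπ := QuotientGroup.mk'_surjective N
  refine ⟨n, fun i => (H i).map (QuotientGroup.mk' N), ?_, ?_, ?_, ?_, ?_⟩
  · show (H 0).map _ = ⊥
    rw [h0, Subgroup.map_bot]
  · show (H (Fin.last n)).map _ = ⊤
    rw [hlast, ← MonoidHom.range_eq_map, MonoidHom.range_eq_top.mpr hπ]
  · intro i j hij
    exact Subgroup.map_mono (hmono hij)
  · intro i
    exact Subgroup.Normal.map (hnorm i) _ hπ
  · intro i
    have hdvd : ((H i.castSucc).map (QuotientGroup.mk' N)).relIndex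
        ((H i.succ).map (QuotientGroup.mk' N)) ∣ (H i.castSucc).relIndex (H i.succ) := by
      rw [← Subgroup.relIndex_comap]
      apply Subgroup.relIndex_dvd_of_le_left
      exact Subgroup.le_comap_map _ _
    rcases hfac i with ⟨m, hm⟩ | hc
    · left
      rw [hm] at hdvd
      obtain ⟨m', -, hm'⟩ := (Nat.dvd_prime_pow hp.out).mp hdvd
      exact ⟨m', hm'⟩
    · right
      exact Nat.Coprime.coprime_dvd_left hdvd hc

/-- In a finite `p`-solvable group every nontrivial normal subgroup contains a nontrivial normal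
subgroup of the whole group which is a `p`-group or a `p'`-group. -/
theorem exists_normal_p_or_pPrime_le {p : ℕ} [hp : Fact p.Prime] [Finite G]
    (h : Cfsg.IsPSolvable p G) (M : Subgroup G) (hM : M.Normal) (hM1 : M ≠ ⊥) :
    ∃ L : Subgroup G, L ≤ M ∧ L.Normal ∧ L ≠ ⊥ ∧ (IsPGroup p L ∨ (Nat.card L).Coprime p) := by
  obtain ⟨n, H, h0, hlast, hmono, hnorm, hfac⟩ := h
  have key : ∀ i : Fin (n + 1), H i ⊓ M ≠ ⊥ →
      ∃ L : Subgroup G, L ≤ M ∧ L.Normal ∧ L ≠ ⊥ ∧ (IsPGroup p L ∨ (Nat.card L).Coprime p) := by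
    intro i
    induction i using Fin.induction with
    | zero =>
      intro hne
      rw [h0, bot_inf_eq] at hne
      exact absurd rfl hne
    | succ i ih =>
      intro hne
      by_cases hprev : H i.castSucc ⊓ M = ⊥
      · have hn1 := hnorm i.castSucc
        have hn2 := hnorm i.succ
        have hcard : Nat.card ↥(H i.succ ⊓ M) ∣ (H i.castSucc).relIndex (H i.succ) := by
          have e0 : H i.castSucc ⊓ (H i.succ ⊓ M) = ⊥ := by
            rw [eq_bot_iff, ← hprev]
            exact inf_le_inf_left _ inf_le_right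
          have e1 : (H i.castSucc).relIndex (H i.succ ⊓ M) = Nat.card ↥(H i.succ ⊓ M) := by
            rw [← Subgroup.inf_relIndex_right, e0, Subgroup.relIndex_bot_left]
          rw [← e1, ← card_map_mk', ← card_map_mk']
          exact Subgroup.card_dvd_of_le (Subgroup.map_mono inf_le_left)
        refine ⟨H i.succ ⊓ M, inf_le_right, inferInstance, hne, ?_⟩
        rcases hfac i with ⟨m, hm⟩ | hc
        · left
          rw [hm] at hcard
          obtain ⟨m', -, hm'⟩ := (Nat.dvd_prime_pow hp.out).mp hcard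
          exact IsPGroup.of_card hm'
        · right
          exact Nat.Coprime.coprime_dvd_left hcard hc
      · exact ih hprev
  apply key (Fin.last n)
  rw [hlast, top_inf_eq]
  exact hM1

/-- A normal subgroup `D` centralizing `O_p(G)` with `|D : D ∩ O_p(G)|` prime to `p` lies in
`O_p(G)`, if `O_{p'}(G) = 1`. -/
theorem le_pCore_of_le_centralizer_of_coprime [Finite G] {p : ℕ} [hp : Fact p.Prime]
    (hO : Cfsg.pPrimeCore p G = ⊥) (D : Subgroup G) (hDn : D.Normal)
    (hDC : D ≤ centralizer (Cfsg.pCore p G : Set G))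
    (hcop : ((Cfsg.pCore p G).relIndex D).Coprime p) : D ≤ Cfsg.pCore p G := by
  have hQn : (Cfsg.pCore p G).Normal := pCore_normal p G
  set N : Subgroup ↥D := (Cfsg.pCore p G).subgroupOf D with hN
  have hNn : N.Normal := inferInstance
  have hNp : IsPGroup p N := by
    have := (pCore_isPGroup p G).comap_of_injective D.subtype D.subtype_injective
    exact this
  have hNc : ∀ n ∈ N, ∀ d : ↥D, d * n = n * d := by
    intro n hn d
    apply Subtype.ext
    have := Subgroup.mem_centralizer_iff.mp (hDC d.2) (n : G) hn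
    simpa using this.symm
  obtain ⟨a, ha⟩ := hNp.exists_card_eq
  have hcop' : (Nat.card N).Coprime N.index := by
    rw [ha]
    exact (Nat.Coprime.pow_right a hcop).symm
  obtain ⟨K, hK⟩ := Subgroup.exists_right_complement'_of_coprime hcop'
  have hKcard : (Nat.card K).Coprime p := by
    rw [← hK.symm.index_eq_card]
    exact hcop
  have hKn : K.Normal := by
    constructor
    intro x hx d
    have hd : d ∈ ((N ⊔ K : Subgroup ↥D) : Set ↥D) := by
      rw [hK.sup_eq_top]; trivial
    rw [Subgroup.normal_mul] at hd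
    obtain ⟨n, hn, k, hk, rfl⟩ := hd
    have e : n * k * x * (n * k)⁻¹ = k * x * k⁻¹ := by
      have h1 := hNc n hn (k * x * k⁻¹)
      calc n * k * x * (n * k)⁻¹ = n * (k * x * k⁻¹) * n⁻¹ := by group
        _ = (k * x * k⁻¹) * n * n⁻¹ := by rw [h1]
        _ = k * x * k⁻¹ := by group
    rw [e]
    exact mul_mem (mul_mem hk hx) (inv_mem hk)
  have hKle : K ≤ Cfsg.pPrimeCore p ↥D := le_pPrimeCore hKn hKcard
  have hOD : Cfsg.pPrimeCore p ↥D = ⊥ := by
    have hchar := pPrimeCore_characteristic' p ↥D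
    have hnorm : ((Cfsg.pPrimeCore p ↥D).map D.subtype).Normal :=
      ConjAct.normal_of_characteristic_of_normal
    have hc2 : (Nat.card ((Cfsg.pPrimeCore p ↥D).map D.subtype)).Coprime p := by
      rw [Subgroup.card_map_of_injective D.subtype_injective]
      exact coprime_card_pPrimeCore p ↥D
    have hle := le_pPrimeCore hnorm hc2
    rw [hO, le_bot_iff] at hle
    exact (Subgroup.map_eq_bot_iff_of_injective _ D.subtype_injective).mp hle
  have hKbot : K = ⊥ := by
    rw [eq_bot_iff, ← hOD]; exact hKle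
  rw [hKbot, Subgroup.isComplement'_bot_right] at hK
  exact Subgroup.subgroupOf_eq_top.mp hK

/-- Hall–Higman Lemma 1.2.3: in a finite `p`-solvable group with `O_{p'}(G) = 1`, the subgroup
`O_p(G)` contains its centralizer. -/
theorem centralizer_pCore_le_of_isPSolvable [Finite G] {p : ℕ} [hp : Fact p.Prime]
    (hsol : Cfsg.IsPSolvable p G) (hO : Cfsg.pPrimeCore p G = ⊥) :
    centralizer (Cfsg.pCore p G : Set G) ≤ Cfsg.pCore p G := by
  have hQn : (Cfsg.pCore p G).Normal := pCore_normal p G
  have hQp : IsPGroup p (Cfsg.pCore p G) := pCore_isPGroup p G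
  have hCn : (centralizer (Cfsg.pCore p G : Set G)).Normal := inferInstance
  by_contra hnot
  set π := QuotientGroup.mk' (Cfsg.pCore p G) with hπ
  have hπs : Function.Surjective π := QuotientGroup.mk'_surjective _
  have hM0n : ((centralizer (Cfsg.pCore p G : Set G)).map π).Normal :=
    Subgroup.Normal.map hCn _ hπs
  have hM0 : (centralizer (Cfsg.pCore p G : Set G)).map π ≠ ⊥ := by
    intro h
    apply hnot
    have := (Subgroup.map_eq_bot_iff _).mp h
    rwa [hπ, QuotientGroup.ker_mk'] at this
  obtain ⟨Lb, hLle, hLn, hL1, hL⟩ :=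
    exists_normal_p_or_pPrime_le (isPSolvable_quotient (Cfsg.pCore p G) hsol) _ hM0n hM0
  have hLcn : (Lb.comap π).Normal := inferInstance
  have hLmap : (Lb.comap π).map π = Lb := Subgroup.map_comap_eq_self_of_surjective hπs Lb
  apply hL1
  rcases hL with hLp | hLc
  · have h1 : IsPGroup p (Lb.comap π) := by
      apply hLp.comap_of_ker_isPGroup
      rw [hπ, QuotientGroup.ker_mk']
      exact hQp
    have h2 : Lb.comap π ≤ Cfsg.pCore p G := le_pCore hLcn h1
    rw [← hLmap, eq_bot_iff]
    refine (Subgroup.map_mono h2).trans ?_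
    rw [hπ, QuotientGroup.map_mk'_self]
  · set D := Lb.comap π ⊓ centralizer (Cfsg.pCore p G : Set G) with hD
    have hDn : D.Normal := inferInstance
    have hDle : D ≤ Cfsg.pCore p G := by
      apply le_pCore_of_le_centralizer_of_coprime hO D hDn inf_le_right
      rw [← card_map_mk']
      have : D.map π ≤ Lb := by
        rw [← hLmap]
        exact Subgroup.map_mono inf_le_left
      exact Nat.Coprime.coprime_dvd_left (Subgroup.card_dvd_of_le this) hLc
    rw [eq_bot_iff]
    intro l hl
    obtain ⟨c, hc, rfl⟩ := hLle hl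
    have hcD : c ∈ D := ⟨hl, hc⟩
    have := hDle hcD
    rw [Subgroup.mem_bot, hπ, QuotientGroup.mk'_apply, QuotientGroup.eq_one_iff]
    exact this

/-- `p`-solvability passes to homomorphic images. -/
theorem isPSolvable_of_surjective {p : ℕ} [hp : Fact p.Prime] {H' : Type*} [Group H']
    (f : G →* H') (hf : Function.Surjective f)
    (h : Cfsg.IsPSolvable p G) : Cfsg.IsPSolvable p H' := by
  obtain ⟨n, H, h0, hlast, hmono, hnorm, hfac⟩ := h
  refine ⟨n, fun i => (H i).map f, ?_, ?_, ?_, ?_, ?_⟩
  · show (H 0).map _ = ⊥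
    rw [h0, Subgroup.map_bot]
  · show (H (Fin.last n)).map _ = ⊤
    rw [hlast, ← MonoidHom.range_eq_map, MonoidHom.range_eq_top.mpr hf]
  · intro i j hij
    exact Subgroup.map_mono (hmono hij)
  · intro i
    exact Subgroup.Normal.map (hnorm i) _ hf
  · intro i
    have hdvd : ((H i.castSucc).map f).relIndex
        ((H i.succ).map f) ∣ (H i.castSucc).relIndex (H i.succ) := by
      rw [← Subgroup.relIndex_comap]
      apply Subgroup.relIndex_dvd_of_le_left
      exact Subgroup.le_comap_map _ _
    rcases hfac i with ⟨m, hm⟩ | hc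
    · left
      rw [hm] at hdvd
      obtain ⟨m', -, hm'⟩ := (Nat.dvd_prime_pow hp.out).mp hdvd
      exact ⟨m', hm'⟩
    · right
      exact Nat.Coprime.coprime_dvd_left hdvd hc

theorem eq_one_of_coprime_of_mem_pgroup {p : ℕ} {g : G}
    (hg : (orderOf g).Coprime p) {Q : Subgroup G} (hQ : IsPGroup p Q) (hgQ : g ∈ Q) : g = 1 := by
  obtain ⟨k, hk⟩ := hQ ⟨g, hgQ⟩
  have h2 : orderOf g ∣ p ^ k := by
    apply orderOf_dvd_of_pow_eq_one
    simpa using congrArg Subtype.val hk
  have h3 : orderOf g = 1 := Nat.Coprime.eq_one_of_dvd (Nat.Coprime.pow_right k hg) h2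
  exact orderOf_eq_one_iff.mp h3

theorem coprime_orderOf_of_mem [Finite G] {p : ℕ} {X : Subgroup G}
    (hX : (Nat.card X).Coprime p) {g : G} (hg : g ∈ X) : (orderOf g).Coprime p :=
  Nat.Coprime.coprime_dvd_left (Subgroup.orderOf_dvd_natCard X hg) hX

end Cfsg.H5
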