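import Mathlib
import Cfsg.Prelude
import Cfsg.Agent.H5.ZJMain
import Cfsg.Agent.H5.PSolvable
import Cfsg.Agent.H5.Cores
import Cfsg.Agent.Lib.Helper10.PComponent
import Cfsg.Agent.Lib.Helper10.Transport

set_option autoImplicit false

/-! `p`-stability (`Cfsg.IsPStable`) and the quotient by `O_{p'}`: an elementwise description of
`O_p(N(P)/C(P))` and its transport along `G → G / N₀` for a normal `p'`-subgroup `N₀`. -/

namespace Cfsg.H5.PSt

open Cfsg.H5.GlaubRepl (le_normalizer_of_conj_mem)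
open Cfsg.H5.ZJ (normalizer_inf_le)

section general

variable {X : Type*} [Group X]

/-- general form: membership in `O_p(N / C)` -/
theorem mk_mem_pCore_iff_gen [Finite X] {p : ℕ} [Fact p.Prime] (N C : Subgroup X)
    [hn : (C.subgroupOf N).Normal] (hCN : C ≤ N) (a : X) (ha : a ∈ N) :
    (QuotientGroup.mk' (C.subgroupOf N) ⟨a, ha⟩ ∈ Cfsg.pCore p (↥N ⧸ C.subgroupOf N)) ↔
      ∃ L : Subgroup X, C ≤ L ∧ L ≤ N ∧ N ≤ Subgroup.normalizer (L : Set X) ∧
        (∀ l ∈ L, ∃ k : ℕ, l ^ (p ^ k) ∈ C) ∧ a ∈ L := by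
  have hQn := Cfsg.H5.pCore_normal p (↥N ⧸ C.subgroupOf N)
  have hQp := Cfsg.H5.pCore_isPGroup p (↥N ⧸ C.subgroupOf N)
  constructor
  · intro hmem
    have hKn : ((Cfsg.pCore p (↥N ⧸ C.subgroupOf N)).comap
        (QuotientGroup.mk' (C.subgroupOf N))).Normal := Subgroup.Normal.comap hQn _
    refine ⟨((Cfsg.pCore p (↥N ⧸ C.subgroupOf N)).comap
        (QuotientGroup.mk' (C.subgroupOf N))).map N.subtype, ?_, Subgroup.map_subtype_le _,
        ?_, ?_, ?_⟩
    · intro c hc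
      refine ⟨⟨c, hCN hc⟩, ?_, rfl⟩
      rw [SetLike.mem_coe, Subgroup.mem_comap]
      have h1 : QuotientGroup.mk' (C.subgroupOf N) ⟨c, hCN hc⟩ = 1 :=
        (QuotientGroup.eq_one_iff _).2 (Subgroup.mem_subgroupOf.2 hc)
      rw [h1]; exact one_mem _
    · apply le_normalizer_of_conj_mem
      rintro g hg _ ⟨k, hk, rfl⟩
      refine ⟨⟨g, hg⟩ * k * ⟨g, hg⟩⁻¹, hKn.conj_mem k hk ⟨g, hg⟩, ?_⟩
      simp
    · rintro _ ⟨k, hk, rfl⟩
      have hk' : QuotientGroup.mk' (C.subgroupOf N) k ∈ Cfsg.pCore p (↥N ⧸ C.subgroupOf N) := hk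
      obtain ⟨j, hj⟩ := hQp ⟨_, hk'⟩
      refine ⟨j, ?_⟩
      have h1 : (QuotientGroup.mk' (C.subgroupOf N) k) ^ (p ^ j) = 1 := by
        simpa using congrArg Subtype.val hj
      rw [← map_pow, QuotientGroup.mk'_apply, QuotientGroup.eq_one_iff] at h1
      have h2 := Subgroup.mem_subgroupOf.1 h1
      simpa using h2
    · exact ⟨⟨a, ha⟩, hmem, rfl⟩
  · rintro ⟨L, hCL, hLN, hNL, hpow, haL⟩
    have hL'n : (L.subgroupOf N).Normal := Subgroup.normal_subgroupOf_of_le_normalizer hNL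
    have hMn : ((L.subgroupOf N).map (QuotientGroup.mk' (C.subgroupOf N))).Normal :=
      Subgroup.Normal.map hL'n _ (QuotientGroup.mk'_surjective _)
    have hMp : IsPGroup p ((L.subgroupOf N).map (QuotientGroup.mk' (C.subgroupOf N))) := by
      rintro ⟨m, l', hl', rfl⟩
      obtain ⟨k, hk⟩ := hpow (l' : X) (Subgroup.mem_subgroupOf.1 hl')
      refine ⟨k, ?_⟩
      apply Subtype.ext
      rw [Subgroup.coe_pow, Subgroup.coe_one]
      show (QuotientGroup.mk' (C.subgroupOf N) l') ^ (p ^ k) = 1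
      rw [← map_pow, QuotientGroup.mk'_apply, QuotientGroup.eq_one_iff, Subgroup.mem_subgroupOf]
      simpa using hk
    have hle := Cfsg.H5.le_pCore hMn hMp
    apply hle
    exact Subgroup.mem_map_of_mem _ (Subgroup.mem_subgroupOf.2 haL)

/-- `a` lies in the preimage of `O_p(N(P)/C(P))` -/
def InOp (p : ℕ) (P : Subgroup X) (a : X) : Prop :=
  ∃ L : Subgroup X, Subgroup.centralizer (P : Set X) ≤ L ∧
    L ≤ Subgroup.normalizer (P : Set X) ∧
    Subgroup.normalizer (P : Set X) ≤ Subgroup.normalizer (L : Set X) ∧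
    (∀ l ∈ L, ∃ k : ℕ, l ^ (p ^ k) ∈ Subgroup.centralizer (P : Set X)) ∧ a ∈ L

theorem mk_mem_pCore_iff [Finite X] {p : ℕ} [Fact p.Prime] (P : Subgroup X) (a : X)
    (ha : a ∈ Subgroup.normalizer (P : Set X)) :
    (QuotientGroup.mk' ((Subgroup.centralizer (P : Set X)).subgroupOf
        (Subgroup.normalizer (P : Set X))) ⟨a, ha⟩ ∈
      Cfsg.pCore p (↥(Subgroup.normalizer (P : Set X)) ⧸
        (Subgroup.centralizer (P : Set X)).subgroupOf (Subgroup.normalizer (P : Set X)))) ↔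
      InOp p P a :=
  mk_mem_pCore_iff_gen _ _ (Subgroup.centralizer_le_normalizer _) a ha

/-- the conclusion of `IsPStable`, elementwise -/
theorem img_le_iff [Finite X] {p : ℕ} [Fact p.Prime] (A P : Subgroup X) :
    ((A.subgroupOf (Subgroup.normalizer (P : Set X))).map
        (QuotientGroup.mk' ((Subgroup.centralizer (P : Set X)).subgroupOf
          (Subgroup.normalizer (P : Set X)))) ≤
      Cfsg.pCore p (↥(Subgroup.normalizer (P : Set X)) ⧸
        (Subgroup.centralizer (P : Set X)).subgroupOf (Subgroup.normalizer (P : Set X)))) ↔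
      ∀ a ∈ A, a ∈ Subgroup.normalizer (P : Set X) → InOp p P a := by
  constructor
  · intro h a haA haN
    rw [← mk_mem_pCore_iff P a haN]
    exact h (Subgroup.mem_map_of_mem _ (Subgroup.mem_subgroupOf.2 haA))
  · rintro h _ ⟨y, hy, rfl⟩
    have := (mk_mem_pCore_iff P (y : X) y.2).2 (h _ (Subgroup.mem_subgroupOf.1 hy) y.2)
    exact this

/-- version for a normal subgroup and the quotient `X / C_X(V)` -/
theorem mk_mem_pCore_iff' [Finite X] {p : ℕ} [Fact p.Prime] (V : Subgroup X) [V.Normal] (a : X) :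
    ((QuotientGroup.mk a : X ⧸ Subgroup.centralizer (V : Set X)) ∈
      Cfsg.pCore p (X ⧸ Subgroup.centralizer (V : Set X))) ↔
      ∃ L : Subgroup X, L.Normal ∧ Subgroup.centralizer (V : Set X) ≤ L ∧
        (∀ l ∈ L, ∃ k : ℕ, l ^ (p ^ k) ∈ Subgroup.centralizer (V : Set X)) ∧ a ∈ L := by
  have hQn := Cfsg.H5.pCore_normal p (X ⧸ Subgroup.centralizer (V : Set X))
  have hQp := Cfsg.H5.pCore_isPGroup p (X ⧸ Subgroup.centralizer (V : Set X))
  constructor
  · intro hmem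
    refine ⟨(Cfsg.pCore p (X ⧸ Subgroup.centralizer (V : Set X))).comap
      (QuotientGroup.mk' (Subgroup.centralizer (V : Set X))), Subgroup.Normal.comap hQn _,
      ?_, ?_, hmem⟩
    · intro c hc
      rw [Subgroup.mem_comap]
      have h1 : QuotientGroup.mk' (Subgroup.centralizer (V : Set X)) c = 1 :=
        (QuotientGroup.eq_one_iff _).2 hc
      rw [h1]; exact one_mem _
    · intro l hl
      have hl' : QuotientGroup.mk' (Subgroup.centralizer (V : Set X)) l ∈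
          Cfsg.pCore p (X ⧸ Subgroup.centralizer (V : Set X)) := hl
      obtain ⟨j, hj⟩ := hQp ⟨_, hl'⟩
      refine ⟨j, ?_⟩
      have h1 : (QuotientGroup.mk' (Subgroup.centralizer (V : Set X)) l) ^ (p ^ j) = 1 := by
        simpa using congrArg Subtype.val hj
      rwa [← map_pow, QuotientGroup.mk'_apply, QuotientGroup.eq_one_iff] at h1
  · rintro ⟨L, hLn, hCL, hpow, haL⟩
    have hMn : (L.map (QuotientGroup.mk' (Subgroup.centralizer (V : Set X)))).Normal :=
      Subgroup.Normal.map hLn _ (QuotientGroup.mk'_surjective _)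
    have hMp : IsPGroup p (L.map (QuotientGroup.mk' (Subgroup.centralizer (V : Set X)))) := by
      rintro ⟨m, l, hl, rfl⟩
      obtain ⟨k, hk⟩ := hpow l hl
      refine ⟨k, ?_⟩
      apply Subtype.ext
      rw [Subgroup.coe_pow, Subgroup.coe_one]
      show (QuotientGroup.mk' (Subgroup.centralizer (V : Set X)) l) ^ (p ^ k) = 1
      rw [← map_pow, QuotientGroup.mk'_apply, QuotientGroup.eq_one_iff]
      exact hk
    exact Cfsg.H5.le_pCore hMn hMp (Subgroup.mem_map_of_mem _ haL)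

end general

section transport

variable {G : Type*} [Group G] {p : ℕ}

/-- T2 -/
theorem mem_centralizer_of_map_mem [Finite G] (N₀ : Subgroup G) [N₀.Normal]
    (hN₀ : (Nat.card N₀).Coprime p) {P : Subgroup G} (hP : IsPGroup p P) {h : G}
    (hh : h ∈ Subgroup.normalizer (P : Set G))
    (hc : QuotientGroup.mk' N₀ h ∈
      Subgroup.centralizer ((P.map (QuotientGroup.mk' N₀) : Subgroup (G ⧸ N₀)) : Set (G ⧸ N₀))) :
    h ∈ Subgroup.centralizer (P : Set G) := by
  rw [Subgroup.mem_centralizer_iff]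
  intro x hx
  have h1 := Subgroup.mem_centralizer_iff.1 hc _ (Subgroup.mem_map_of_mem _ hx)
  have h2 : x * h * x⁻¹ * h⁻¹ ∈ N₀ := by
    rw [← QuotientGroup.eq_one_iff, ← QuotientGroup.mk'_apply, map_mul, map_mul, map_mul,
      map_inv, map_inv, h1]
    group
  have h3 : x * h * x⁻¹ * h⁻¹ ∈ P := by
    have h4 : h * x⁻¹ * h⁻¹ ∈ P :=
      (Subgroup.mem_set_normalizer_iff.1 hh x⁻¹).1 (P.inv_mem hx)
    have e : x * h * x⁻¹ * h⁻¹ = x * (h * x⁻¹ * h⁻¹) := by group
    rw [e]; exact P.mul_mem hx h4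
  have h5 : x * h * x⁻¹ * h⁻¹ = 1 :=
    Cfsg.H5.eq_one_of_coprime_of_mem_pgroup (Cfsg.H5.coprime_orderOf_of_mem hN₀ h2) hP h3
  calc x * h = (x * h * x⁻¹ * h⁻¹) * (h * x) := by group
    _ = h * x := by rw [h5, one_mul]

theorem map_centralizer_le {H : Type*} [Group H] (f : G →* H) (P : Subgroup G) :
    (Subgroup.centralizer (P : Set G)).map f ≤
      Subgroup.centralizer ((P.map f : Subgroup H) : Set H) := by
  rintro _ ⟨c, hc, rfl⟩
  rw [Subgroup.mem_centralizer_iff]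
  rintro _ ⟨x, hx, rfl⟩
  rw [← map_mul, ← map_mul, Subgroup.mem_centralizer_iff.1 hc x hx]

theorem map_normalizer_le {H : Type*} [Group H] (f : G →* H) (P : Subgroup G) :
    (Subgroup.normalizer (P : Set G)).map f ≤
      Subgroup.normalizer ((P.map f : Subgroup H) : Set H) := by
  apply le_normalizer_of_conj_mem
  rintro _ ⟨g, hg, rfl⟩ _ ⟨x, hx, rfl⟩
  refine ⟨g * x * g⁻¹, (Subgroup.mem_set_normalizer_iff.1 hg x).1 hx, ?_⟩
  simp

theorem inOp_map [Finite G] (N₀ : Subgroup G) [N₀.Normal] (hN₀ : (Nat.card N₀).Coprime p)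
    {P : Subgroup G} (hP : IsPGroup p P)
    (hPn : (P.map (QuotientGroup.mk' N₀)).Normal)
    (hT1 : ∀ g : G, ∃ n ∈ N₀, ∃ h ∈ Subgroup.normalizer (P : Set G), g = n * h)
    {a : G} (ha : InOp p P a) : InOp p (P.map (QuotientGroup.mk' N₀)) (QuotientGroup.mk' N₀ a) := by
  obtain ⟨L, hCL, hLN, hNL, hpow, haL⟩ := ha
  have hlift : ∀ y : G ⧸ N₀, ∃ h ∈ Subgroup.normalizer (P : Set G), QuotientGroup.mk' N₀ h = y := by
    intro y
    obtain ⟨g, rfl⟩ := QuotientGroup.mk'_surjective N₀ y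
    obtain ⟨n, hn, h, hh, rfl⟩ := hT1 g
    refine ⟨h, hh, ?_⟩
    have h1 : QuotientGroup.mk' N₀ n = 1 := (QuotientGroup.eq_one_iff n).2 hn
    rw [map_mul, h1, one_mul]
  refine ⟨L.map (QuotientGroup.mk' N₀), ?_, ?_, ?_, ?_, Subgroup.mem_map_of_mem _ haL⟩
  · intro c hc
    obtain ⟨h, hh, rfl⟩ := hlift c
    exact Subgroup.mem_map_of_mem _ (hCL (mem_centralizer_of_map_mem N₀ hN₀ hP hh hc))
  · rw [Subgroup.normalizer_eq_top_iff.2 hPn]; exact le_top
  · apply le_normalizer_of_conj_mem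
    rintro y _ _ ⟨l, hl, rfl⟩
    obtain ⟨h, hh, rfl⟩ := hlift y
    refine ⟨h * l * h⁻¹, (Subgroup.mem_set_normalizer_iff.1 (hNL hh) l).1 hl, ?_⟩
    simp
  · rintro _ ⟨l, hl, rfl⟩
    obtain ⟨k, hk⟩ := hpow l hl
    refine ⟨k, ?_⟩
    rw [← map_pow]
    exact map_centralizer_le _ P (Subgroup.mem_map_of_mem _ hk)

theorem inOp_of_map [Finite G] (N₀ : Subgroup G) [N₀.Normal] (hN₀ : (Nat.card N₀).Coprime p)
    {P : Subgroup G} (hP : IsPGroup p P) {a : G} (haN : a ∈ Subgroup.normalizer (P : Set G))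
    (ha : InOp p (P.map (QuotientGroup.mk' N₀)) (QuotientGroup.mk' N₀ a)) : InOp p P a := by
  obtain ⟨L, hCL, hLN, hNL, hpow, haL⟩ := ha
  refine ⟨L.comap (QuotientGroup.mk' N₀) ⊓ Subgroup.normalizer (P : Set G), ?_, inf_le_right,
    ?_, ?_, Subgroup.mem_inf.2 ⟨haL, haN⟩⟩
  · intro c hc
    refine Subgroup.mem_inf.2 ⟨?_, Subgroup.centralizer_le_normalizer _ hc⟩
    exact hCL (map_centralizer_le _ P (Subgroup.mem_map_of_mem _ hc))
  · refine le_trans ?_ (normalizer_inf_le _ _)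
    refine le_inf ?_ Subgroup.le_normalizer
    apply le_normalizer_of_conj_mem
    intro g hg k hk
    rw [Subgroup.mem_comap] at hk ⊢
    have hg' : QuotientGroup.mk' N₀ g ∈ Subgroup.normalizer (L : Set (G ⧸ N₀)) :=
      hNL (map_normalizer_le _ P (Subgroup.mem_map_of_mem _ hg))
    have := (Subgroup.mem_set_normalizer_iff.1 hg' _).1 hk
    simpa using this
  · intro l hl
    obtain ⟨hl1, hl2⟩ := Subgroup.mem_inf.1 hl
    obtain ⟨k, hk⟩ := hpow _ hl1
    refine ⟨k, ?_⟩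
    rw [← map_pow] at hk
    exact mem_centralizer_of_map_mem N₀ hN₀ hP (Subgroup.pow_mem _ hl2 _) hk

end transport

section cores

variable {G : Type*} [Group G] {p : ℕ}

theorem pPrimePCore_eq_pCore_of_bot [Fact p.Prime] (h : Cfsg.pPrimeCore p G = ⊥) :
    Cfsg.pPrimePCore p G = Cfsg.pCore p G := by
  apply le_antisymm
  · apply Cfsg.H5.le_pCore
    · unfold Cfsg.pPrimePCore; exact Subgroup.Normal.comap inferInstance _
    · unfold Cfsg.pPrimePCore
      apply IsPGroup.comap_of_ker_isPGroup (Cfsg.H5.pCore_isPGroup p _)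
      rw [QuotientGroup.ker_mk', h]
      exact IsPGroup.of_bot
  · unfold Cfsg.pPrimePCore
    rw [← Subgroup.map_le_iff_le_comap]
    apply Cfsg.H5.le_pCore
    · exact Subgroup.Normal.map inferInstance _ (QuotientGroup.mk'_surjective _)
    · exact (Cfsg.H5.pCore_isPGroup p G).map _

theorem pCore_quotient_ne_bot [Finite G] (hO : Cfsg.pCore p G ≠ ⊥) :
    Cfsg.pCore p (G ⧸ Cfsg.pPrimeCore p G) ≠ ⊥ := by
  intro h
  apply hO
  have h1 : (Cfsg.pCore p G).map (QuotientGroup.mk' (Cfsg.pPrimeCore p G)) ≤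
      Cfsg.pCore p (G ⧸ Cfsg.pPrimeCore p G) := by
    apply Cfsg.H5.le_pCore
    · exact Subgroup.Normal.map inferInstance _ (QuotientGroup.mk'_surjective _)
    · exact (Cfsg.H5.pCore_isPGroup p G).map _
  rw [h, le_bot_iff, Subgroup.map_eq_bot_iff, QuotientGroup.ker_mk'] at h1
  rw [eq_bot_iff]
  intro x hx
  rw [Subgroup.mem_bot]
  exact Cfsg.H5.eq_one_of_coprime_of_mem_pgroup
    (Cfsg.H5.coprime_orderOf_of_mem (Cfsg.H5.coprime_card_pPrimeCore p G) (h1 hx))
    (Cfsg.H5.pCore_isPGroup p G) hx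

/-- a Sylow `p`-subgroup of `K` covers the image of `K` when that image is a `p`-group -/
theorem map_sylow_eq {H : Type*} [Group H] [Finite G] [Fact p.Prime] (f : G →* H)
    (K : Subgroup G) (hK : IsPGroup p (K.map f)) (A₀ : Sylow p ↥K) :
    ((A₀ : Subgroup K).map K.subtype).map f = K.map f := by
  have hsurj : Function.Surjective (f.subgroupMap K) := f.subgroupMap_surjective K
  have hp : IsPGroup p ↥(⊤ : Subgroup ↥(K.map f)) := IsPGroup.of_equiv hK Subgroup.topEquiv.symm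
  have h3 := (Sylow.mapSurjective hsurj A₀).is_maximal' hp le_top
  rw [Sylow.coe_mapSurjective] at h3
  apply le_antisymm
  · exact Subgroup.map_mono (Subgroup.map_subtype_le _)
  · intro y hy
    have h2 : (⟨y, hy⟩ : ↥(K.map f)) ∈ (A₀ : Subgroup K).map (f.subgroupMap K) := by
      rw [← h3]; exact Subgroup.mem_top _
    obtain ⟨x, hx, hxy⟩ := h2
    refine ⟨(x : G), ⟨x, hx, rfl⟩, ?_⟩
    exact congrArg Subtype.val hxy

end cores

section stable

variable {G : Type*} [Group G] [Finite G] {p : ℕ} [Fact p.Prime]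

open scoped commutatorElement

omit [Finite G] in
theorem commutator_le_of_normalizes {P A : Subgroup G}
    (hnorm : ∀ a ∈ A, ∀ x ∈ P, a * x * a⁻¹ ∈ P) : ⁅P, A⁆ ≤ P := by
  rw [Subgroup.commutator_le]
  intro x hx a ha
  have h1 := hnorm a ha x⁻¹ (P.inv_mem hx)
  have e : ⁅x, a⁆ = x * (a * x⁻¹ * a⁻¹) := by simp only [commutatorElement_def]; group
  rw [e]; exact P.mul_mem hx h1

theorem isPStable_quotient (h : Cfsg.IsPStable p G) :
    Cfsg.IsPStable p (G ⧸ Cfsg.pPrimeCore p G) := by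
  obtain ⟨hodd, hne, hmain⟩ := h
  have hN₀ := Cfsg.H5.coprime_card_pPrimeCore p G
  have hbot : Cfsg.pPrimeCore p (G ⧸ Cfsg.pPrimeCore p G) = ⊥ :=
    Cfsg.Agent.Lib.Helper10.pPrimeCore_quotient_eq_bot p
  refine ⟨hodd, pCore_quotient_ne_bot hne, ?_⟩
  intro Ab Pb hAb hPb hnorm hPle hPn hquad
  rw [img_le_iff]
  intro ab hab _
  have hPbn : Pb.Normal := by rwa [hbot, bot_sup_eq] at hPn
  have hPle' : Pb ≤ Cfsg.pCore p (G ⧸ Cfsg.pPrimeCore p G) := by
    rwa [pPrimePCore_eq_pCore_of_bot hbot] at hPle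
  have hsurj := QuotientGroup.mk'_surjective (Cfsg.pPrimeCore p G)
  -- the preimage `X` of `Pb` and a Sylow subgroup `P` of it
  obtain ⟨X, hX⟩ : ∃ X : Subgroup G, X = Pb.comap (QuotientGroup.mk' (Cfsg.pPrimeCore p G)) :=
    ⟨_, rfl⟩
  have hXn : X.Normal := by rw [hX]; exact Subgroup.Normal.comap hPbn _
  have hXmap : X.map (QuotientGroup.mk' (Cfsg.pPrimeCore p G)) = Pb := by
    rw [hX]; exact Subgroup.map_comap_eq_self_of_surjective hsurj _
  obtain ⟨P₁⟩ : Nonempty (Sylow p ↥X) := inferInstance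
  obtain ⟨P, hPdef⟩ : ∃ P : Subgroup G, P = (P₁ : Subgroup X).map X.subtype := ⟨_, rfl⟩
  have hPp : IsPGroup p P := by rw [hPdef]; exact P₁.isPGroup'.map _
  have hPmap : P.map (QuotientGroup.mk' (Cfsg.pPrimeCore p G)) = Pb := by
    rw [hPdef, map_sylow_eq _ X (by rw [hXmap]; exact hPb) P₁, hXmap]
  have hXsup : X = P ⊔ Cfsg.pPrimeCore p G := by
    have h1 := Subgroup.comap_map_eq (QuotientGroup.mk' (Cfsg.pPrimeCore p G)) P
    rw [hPmap, QuotientGroup.ker_mk'] at h1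
    rw [hX]; exact h1
  -- Frattini
  have hT1 : ∀ g : G, ∃ n ∈ Cfsg.pPrimeCore p G, ∃ h ∈ Subgroup.normalizer (P : Set G),
      g = n * h := by
    intro g
    have hfr := Sylow.normalizer_sup_eq_top P₁
    rw [← hPdef] at hfr
    have h2 : Cfsg.pPrimeCore p G ⊔ Subgroup.normalizer (P : Set G) = ⊤ := by
      rw [eq_top_iff, ← hfr, hXsup]
      refine sup_le le_sup_right (sup_le (Subgroup.le_normalizer.trans le_sup_right) le_sup_left)
    have hg : g ∈ ((Cfsg.pPrimeCore p G ⊔ Subgroup.normalizer (P : Set G) : Subgroup G) : Set G) := by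
      rw [h2]; trivial
    rw [Subgroup.normal_mul] at hg
    obtain ⟨n, hn, h, hh, rfl⟩ := hg
    exact ⟨n, hn, h, hh, rfl⟩
  -- the lift of `Ab`
  obtain ⟨Hh, hHh⟩ : ∃ Hh : Subgroup G, Hh = Subgroup.normalizer (P : Set G) ⊓
      Ab.comap (QuotientGroup.mk' (Cfsg.pPrimeCore p G)) := ⟨_, rfl⟩
  have hHmap : Hh.map (QuotientGroup.mk' (Cfsg.pPrimeCore p G)) = Ab := by
    apply le_antisymm
    · rw [Subgroup.map_le_iff_le_comap, hHh]; exact inf_le_right
    · intro y hy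
      obtain ⟨g, rfl⟩ := hsurj y
      obtain ⟨n, hn, h, hh, rfl⟩ := hT1 g
      have h1 : QuotientGroup.mk' (Cfsg.pPrimeCore p G) n = 1 := (QuotientGroup.eq_one_iff n).2 hn
      have e : QuotientGroup.mk' (Cfsg.pPrimeCore p G) (n * h) =
          QuotientGroup.mk' (Cfsg.pPrimeCore p G) h := by rw [map_mul, h1, one_mul]
      rw [e] at hy ⊢
      refine Subgroup.mem_map_of_mem _ ?_
      rw [hHh]
      exact Subgroup.mem_inf.2 ⟨hh, hy⟩
  obtain ⟨A₁⟩ : Nonempty (Sylow p ↥Hh) := inferInstance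
  obtain ⟨A, hAdef⟩ : ∃ A : Subgroup G, A = (A₁ : Subgroup Hh).map Hh.subtype := ⟨_, rfl⟩
  have hAp : IsPGroup p A := by rw [hAdef]; exact A₁.isPGroup'.map _
  have hAmap : A.map (QuotientGroup.mk' (Cfsg.pPrimeCore p G)) = Ab := by
    rw [hAdef, map_sylow_eq _ Hh (by rw [hHmap]; exact hAb) A₁, hHmap]
  have hAN : A ≤ Subgroup.normalizer (P : Set G) := by
    rw [hAdef]
    refine (Subgroup.map_subtype_le _).trans ?_
    rw [hHh]; exact inf_le_left
  have hnormG : ∀ a ∈ A, ∀ x ∈ P, a * x * a⁻¹ ∈ P := fun a ha x hx =>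
    (Subgroup.mem_set_normalizer_iff.1 (hAN ha) x).1 hx
  have hPleG : P ≤ Cfsg.pPrimePCore p G := by
    have h1 : P ≤ X := by rw [hXsup]; exact le_sup_left
    refine h1.trans ?_
    rw [hX]
    exact Subgroup.comap_mono hPle'
  have hPnG : (Cfsg.pPrimeCore p G ⊔ P).Normal := by
    rw [sup_comm, ← hXsup]; exact hXn
  have hquadG : ⁅⁅P, A⁆, A⁆ = ⊥ := by
    have h1 : ⁅P, A⁆ ≤ P := commutator_le_of_normalizes hnormG
    have h2 : ⁅⁅P, A⁆, A⁆ ≤ P := (Subgroup.commutator_mono h1 le_rfl).trans h1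
    have h3 : (⁅⁅P, A⁆, A⁆).map (QuotientGroup.mk' (Cfsg.pPrimeCore p G)) = ⊥ := by
      rw [Subgroup.map_commutator, Subgroup.map_commutator, hPmap, hAmap, hquad]
    rw [Subgroup.map_eq_bot_iff, QuotientGroup.ker_mk'] at h3
    rw [eq_bot_iff]
    intro x hx
    rw [Subgroup.mem_bot]
    exact Cfsg.H5.eq_one_of_coprime_of_mem_pgroup
      (Cfsg.H5.coprime_orderOf_of_mem hN₀ (h3 hx)) hPp (h2 hx)
  have hres := hmain A P hAp hPp hnormG hPleG hPnG hquadG
  rw [img_le_iff] at hres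
  rw [← hAmap] at hab
  obtain ⟨a, ha, rfl⟩ := hab
  have h4 := inOp_map (Cfsg.pPrimeCore p G) hN₀ hPp (by rw [hPmap]; exact hPbn) hT1
    (hres a ha (hAN ha))
  rwa [hPmap] at h4

theorem isPStable_of_quotient (hO : Cfsg.pCore p G ≠ ⊥)
    (h : Cfsg.IsPStable p (G ⧸ Cfsg.pPrimeCore p G)) : Cfsg.IsPStable p G := by
  obtain ⟨hodd, -, hmain⟩ := h
  have hN₀ := Cfsg.H5.coprime_card_pPrimeCore p G
  have hbot : Cfsg.pPrimeCore p (G ⧸ Cfsg.pPrimeCore p G) = ⊥ :=
    Cfsg.Agent.Lib.Helper10.pPrimeCore_quotient_eq_bot p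
  have hsurj := QuotientGroup.mk'_surjective (Cfsg.pPrimeCore p G)
  refine ⟨hodd, hO, ?_⟩
  intro A P hA hP hnorm hPle hPn hquad
  rw [img_le_iff]
  intro a haA haN
  apply inOp_of_map (Cfsg.pPrimeCore p G) hN₀ hP haN
  have hres := hmain (A.map (QuotientGroup.mk' (Cfsg.pPrimeCore p G)))
    (P.map (QuotientGroup.mk' (Cfsg.pPrimeCore p G))) (hA.map _) (hP.map _) ?_ ?_ ?_ ?_
  · rw [img_le_iff] at hres
    exact hres _ (Subgroup.mem_map_of_mem _ haA)
      (map_normalizer_le _ P (Subgroup.mem_map_of_mem _ haN))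
  · rintro _ ⟨a', ha', rfl⟩ _ ⟨x, hx, rfl⟩
    exact ⟨a' * x * a'⁻¹, hnorm a' ha' x hx, by simp⟩
  · rw [pPrimePCore_eq_pCore_of_bot hbot, Subgroup.map_le_iff_le_comap]
    exact hPle
  · rw [hbot, bot_sup_eq]
    have h1 : P.map (QuotientGroup.mk' (Cfsg.pPrimeCore p G)) =
        (Cfsg.pPrimeCore p G ⊔ P).map (QuotientGroup.mk' (Cfsg.pPrimeCore p G)) := by
      rw [Subgroup.map_sup]
      have h2 : (Cfsg.pPrimeCore p G).map (QuotientGroup.mk' (Cfsg.pPrimeCore p G)) = ⊥ := by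
        rw [Subgroup.map_eq_bot_iff, QuotientGroup.ker_mk']
      rw [h2, bot_sup_eq]
    rw [h1]
    exact Subgroup.Normal.map hPn _ hsurj
  · rw [← Subgroup.map_commutator, ← Subgroup.map_commutator, hquad, Subgroup.map_bot]

end stable

end Cfsg.H5.PSt
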