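import Mathlib
import Cfsg.Prelude
import Cfsg.Agent.H5.PStableQuot

set_option autoImplicit false

/-! `p`-stability in the normalizer form (`Cfsg.IsNormalizerPStable`): elementwise form, passage to
normal `p`-subgroups, to subgroups. -/

namespace Cfsg.H5.NPS

open Cfsg.H5.PSt

variable {G : Type*} [Group G] [Finite G] {p : ℕ} [Fact p.Prime]

/-- elementwise form of `Cfsg.IsNormalizerPStable` -/
theorem inOp_of_nps (h : Cfsg.IsNormalizerPStable p G) (P : Subgroup G) (hP : IsPGroup p P)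
    (g : G) (hg : g ∈ Subgroup.normalizer (P : Set G))
    (hq : ⁅⁅P, Subgroup.zpowers g⁆, Subgroup.zpowers g⁆ = ⊥) : InOp p P g :=
  (mk_mem_pCore_iff P g hg).1 (h P hP g hg hq)

theorem nps_of_inOp
    (h : ∀ (P : Subgroup G), IsPGroup p P → ∀ g ∈ Subgroup.normalizer (P : Set G),
      ⁅⁅P, Subgroup.zpowers g⁆, Subgroup.zpowers g⁆ = ⊥ → InOp p P g) :
    Cfsg.IsNormalizerPStable p G := by
  intro P hP g hg hq
  exact (mk_mem_pCore_iff P g hg).2 (h P hP g hg hq)

/-- `p`-stability in the normalizer form gives `p`-stability of the action on every normal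
`p`-subgroup -/
theorem isPStableOn_of_nps (h : Cfsg.IsNormalizerPStable p G) (V : Subgroup G) [hVn : V.Normal]
    (hV : IsPGroup p V) : Cfsg.IsPStableOn p V := by
  intro a hq
  rw [mk_mem_pCore_iff']
  have hVN : Subgroup.normalizer (V : Set G) = ⊤ := Subgroup.normalizer_eq_top_iff.2 hVn
  obtain ⟨L, hCL, -, hNL, hpow, haL⟩ := inOp_of_nps h V hV a (by rw [hVN]; trivial) hq
  have hLn : L.Normal := by
    rw [hVN] at hNL
    exact Subgroup.normalizer_eq_top_iff.1 (top_le_iff.1 hNL)
  exact ⟨L, hLn, hCL, hpow, haL⟩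

end Cfsg.H5.NPS
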