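import Mathlib
import Cfsg.Prelude.Def_Transfer

/-!
# Linearizing the conjugation action on an elementary abelian `p`-subgroup

`exists_rep`: for `V` elementary abelian and `H ≤ N(V)`, coordinates `θ : Additive V ≃+ (Fin n → ZMod p)`
and a representation `ρ` of `H` on `Fin n → ZMod p` transporting the conjugation action.
`exists_extend`: an injective ring homomorphism `End_F(F^n) → End_K(K^n)` for a field extension.
-/

set_option autoImplicit false
set_option linter.style.haveILetI false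

namespace Cfsg.H5.Lin

variable {G : Type*} [Group G]

/-- coordinates on a finite abelian group of exponent `p` with a group action -/
theorem exists_rep_aux {A : Type*} [CommGroup A] [Finite A] {p : ℕ} [Fact p.Prime]
    [Module (ZMod p) (Additive A)] {Γ : Type*} [Group Γ] (σ : Γ →* MulAut A) :
    ∃ (n : ℕ) (θ : Additive A ≃+ (Fin n → ZMod p))
      (ρ : Representation (ZMod p) Γ (Fin n → ZMod p)),
      ∀ (g : Γ) (a : A), ρ g (θ (Additive.ofMul a)) = θ (Additive.ofMul (σ g a)) := by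
  classical
  haveI iF : Module.Finite (ZMod p) (Additive A) := Module.Finite.of_finite
  let bs : Module.Basis (Fin (Module.finrank (ZMod p) (Additive A))) (ZMod p) (Additive A) :=
    Module.finBasis (ZMod p) (Additive A)
  let e : Additive A ≃ₗ[ZMod p] (Fin (Module.finrank (ZMod p) (Additive A)) → ZMod p) :=
    bs.equivFun
  let ρ₀ : Γ → (Additive A →ₗ[ZMod p] Additive A) :=
    fun h => (MonoidHom.toAdditive (σ h).toMonoidHom).toZModLinearMap p
  have hρ₀ : ∀ h (x : Additive A), ρ₀ h x = Additive.ofMul (σ h (Additive.toMul x)) :=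
    fun h x => rfl
  let ρ : Representation (ZMod p) Γ (Fin (Module.finrank (ZMod p) (Additive A)) → ZMod p) :=
    { toFun := fun h => e.conj (ρ₀ h)
      map_one' := by
        apply LinearMap.ext
        intro x
        rw [LinearEquiv.conj_apply_apply, hρ₀, map_one]
        simp
      map_mul' := fun h k => by
        apply LinearMap.ext
        intro x
        rw [Module.End.mul_apply, LinearEquiv.conj_apply_apply, LinearEquiv.conj_apply_apply,
          LinearEquiv.conj_apply_apply, LinearEquiv.symm_apply_apply, hρ₀, hρ₀, hρ₀, map_mul]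
        rfl }
  refine ⟨_, e.toAddEquiv, ρ, ?_⟩
  intro h v
  change e.conj (ρ₀ h) (e (Additive.ofMul v)) = e _
  rw [LinearEquiv.conj_apply_apply, LinearEquiv.symm_apply_apply, hρ₀]
  rfl

open scoped IsMulCommutative in
/-- coordinates on an elementary abelian subgroup, with the conjugation action of `H ≤ N(V)` -/
theorem exists_rep [Finite G] {p : ℕ} [Fact p.Prime] (V H : Subgroup G)
    (hV : Cfsg.IsElementaryAbelian p V) (hHV : H ≤ Subgroup.normalizer (V : Set G)) :
    ∃ (n : ℕ) (θ : Additive ↥V ≃+ (Fin n → ZMod p))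
      (ρ : Representation (ZMod p) ↥H (Fin n → ZMod p)),
      ∀ (h : ↥H) (v : ↥V) (hv : (h : G) * v * (h : G)⁻¹ ∈ V),
        ρ h (θ (Additive.ofMul v)) = θ (Additive.ofMul ⟨(h : G) * v * (h : G)⁻¹, hv⟩) := by
  haveI := hV.1
  have hexp : ∀ x : Additive ↥V, p • x = 0 := by
    intro x
    have h1 : (Additive.toMul x) ^ p = 1 :=
      Subtype.ext (by rw [Subgroup.coe_pow]; exact hV.2 _ (Additive.toMul x).2)
    exact congrArg Additive.ofMul h1
  let σ : ↥H →* MulAut ↥V := (V.normalizerMonoidHom).comp (Subgroup.inclusion hHV)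
  obtain ⟨n, θ, ρ, h⟩ := @exists_rep_aux ↥V _ _ p _ (AddCommGroup.zmodModule hexp) ↥H _ σ
  exact ⟨n, θ, ρ, fun g v hv => h g v⟩

section Consumers

variable {p : ℕ} {V H : Subgroup G} {n : ℕ} (θ : Additive ↥V ≃+ (Fin n → ZMod p))
  (ρ : Representation (ZMod p) ↥H (Fin n → ZMod p))
  (hρ : ∀ (h : ↥H) (v : ↥V) (hv : (h : G) * v * (h : G)⁻¹ ∈ V),
        ρ h (θ (Additive.ofMul v)) = θ (Additive.ofMul ⟨(h : G) * v * (h : G)⁻¹, hv⟩))
  (hHV : H ≤ Subgroup.normalizer (V : Set G))

include hHV in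
theorem conj_mem (h : ↥H) (v : ↥V) : (h : G) * v * (h : G)⁻¹ ∈ V :=
  (Subgroup.mem_normalizer_iff.1 (hHV h.2) v).1 v.2

include hHV in
theorem comm_mem (h : ↥H) (v : ↥V) : (h : G) * v * (h : G)⁻¹ * (v : G)⁻¹ ∈ V :=
  V.mul_mem (conj_mem hHV h v) (V.inv_mem v.2)

include hρ hHV in
/-- `ρ h = 1` iff `h` centralizes `V` -/
theorem rep_eq_one_iff (h : ↥H) : ρ h = 1 ↔ (h : G) ∈ Subgroup.centralizer (V : Set G) := by
  constructor
  · intro h1
    rw [Subgroup.mem_centralizer_iff]
    intro v hv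
    have h2 := hρ h ⟨v, hv⟩ (conj_mem hHV h ⟨v, hv⟩)
    rw [h1, Module.End.one_apply] at h2
    have h3 : v = (h : G) * v * (h : G)⁻¹ :=
      congrArg Subtype.val (Additive.ofMul.injective (θ.injective h2))
    conv_lhs => rw [h3]
    rw [inv_mul_cancel_right]
  · intro h1
    apply LinearMap.ext
    intro x
    obtain ⟨y, rfl⟩ := θ.surjective x
    obtain ⟨v, rfl⟩ := Additive.ofMul.surjective y
    rw [hρ h v (conj_mem hHV h v), Module.End.one_apply]
    congr 2
    apply Subtype.ext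
    have := Subgroup.mem_centralizer_iff.1 h1 v v.2
    simp only
    rw [← this, mul_inv_cancel_right]

include hρ hHV in
/-- formula for `ρ h - 1` -/
theorem rep_sub_one_apply (h : ↥H) (v : ↥V) :
    (ρ h - 1) (θ (Additive.ofMul v)) =
      θ (Additive.ofMul ⟨(h : G) * v * (h : G)⁻¹ * (v : G)⁻¹, comm_mem hHV h v⟩) := by
  rw [LinearMap.sub_apply, Module.End.one_apply, hρ h v (conj_mem hHV h v), ← map_sub,
    ← ofMul_div]
  congr 2
  apply Subtype.ext
  rw [Subgroup.coe_div, div_eq_mul_inv]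

include hρ hHV in
/-- quadratic action gives `(ρ h - 1)² = 0` -/
theorem rep_quadratic (h : ↥H)
    (hq : ∀ v ∈ V, (h : G) * ((h : G) * v * (h : G)⁻¹ * v⁻¹) =
      ((h : G) * v * (h : G)⁻¹ * v⁻¹) * (h : G)) :
    (ρ h - 1) * (ρ h - 1) = 0 := by
  apply LinearMap.ext
  intro x
  obtain ⟨y, rfl⟩ := θ.surjective x
  obtain ⟨v, rfl⟩ := Additive.ofMul.surjective y
  rw [Module.End.mul_apply, rep_sub_one_apply θ ρ hρ hHV, rep_sub_one_apply θ ρ hρ hHV,
    LinearMap.zero_apply]
  have h1 : (⟨(h : G) * (⟨(h : G) * v * (h : G)⁻¹ * (v : G)⁻¹, comm_mem hHV h v⟩ : ↥V) *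
      (h : G)⁻¹ * ((⟨(h : G) * v * (h : G)⁻¹ * (v : G)⁻¹, comm_mem hHV h v⟩ : ↥V) : G)⁻¹,
      comm_mem hHV h _⟩ : ↥V) = 1 := by
    apply Subtype.ext
    simp only [Subgroup.coe_one]
    rw [hq v v.2, mul_inv_cancel_right, mul_inv_cancel]
  rw [h1]
  exact map_zero θ

end Consumers

/-- extension of scalars for endomorphisms of `F^n`, as an injective ring homomorphism -/
theorem exists_extend (F K : Type*) [Field F] [Field K] [Algebra F K] (n : ℕ) :
    ∃ Φ : Module.End F (Fin n → F) →+* Module.End K (Fin n → K), Function.Injective Φ := by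
  classical
  let e₁ : Module.End F (Fin n → F) ≃+* Matrix (Fin n) (Fin n) F :=
    (LinearMap.toMatrixAlgEquiv' : Module.End F (Fin n → F) ≃ₐ[F] Matrix (Fin n) (Fin n) F)
  let e₂ : Matrix (Fin n) (Fin n) K ≃+* Module.End K (Fin n → K) :=
    (Matrix.toLinAlgEquiv' : Matrix (Fin n) (Fin n) K ≃ₐ[K] Module.End K (Fin n → K))
  let m : Matrix (Fin n) (Fin n) F →+* Matrix (Fin n) (Fin n) K := (algebraMap F K).mapMatrix
  refine ⟨(e₂ : Matrix (Fin n) (Fin n) K →+* Module.End K (Fin n → K)).comp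
    (m.comp (e₁ : Module.End F (Fin n → F) →+* Matrix (Fin n) (Fin n) F)), ?_⟩
  intro x y hxy
  simp only [RingHom.coe_comp, RingHom.coe_coe, Function.comp_apply] at hxy
  have h1 := e₂.injective hxy
  have h2 : Function.Injective m := Matrix.map_injective (algebraMap F K).injective
  exact e₁.injective (h2 h1)

end Cfsg.H5.Lin

namespace Cfsg.H5.Lin

open scoped IsMulCommutative in
/-- coordinates on a finite abelian group of exponent `p` (unbundled commutativity) with a group
action -/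
theorem exists_rep_of_comm {A : Type*} [Group A] [Finite A] {p : ℕ} [Fact p.Prime]
    (hcomm : ∀ x y : A, x * y = y * x) (hexp : ∀ x : A, x ^ p = 1)
    {Γ : Type*} [Group Γ] (σ : Γ →* MulAut A) :
    ∃ (n : ℕ) (θ : Additive A ≃+ (Fin n → ZMod p))
      (ρ : Representation (ZMod p) Γ (Fin n → ZMod p)),
      ∀ (g : Γ) (a : A), ρ g (θ (Additive.ofMul a)) = θ (Additive.ofMul (σ g a)) := by
  haveI : IsMulCommutative A := ⟨⟨hcomm⟩⟩
  have hexp' : ∀ x : Additive A, p • x = 0 := by
    intro x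
    exact congrArg Additive.ofMul (hexp (Additive.toMul x))
  exact @exists_rep_aux A _ _ p _ (AddCommGroup.zmodModule hexp') Γ _ σ

section Abstract

variable {A : Type*} [Group A] {p : ℕ} {Γ : Type*} [Group Γ] {n : ℕ}
  (θ : Additive A ≃+ (Fin n → ZMod p)) (ρ : Representation (ZMod p) Γ (Fin n → ZMod p))
  (σ : Γ →* MulAut A)
  (hρ : ∀ (g : Γ) (a : A), ρ g (θ (Additive.ofMul a)) = θ (Additive.ofMul (σ g a)))

include hρ in
theorem rep_eq_one_iff_aux (g : Γ) : ρ g = 1 ↔ σ g = 1 := by
  constructor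
  · intro h1
    apply MulEquiv.ext
    intro w
    have h2 := hρ g w
    rw [h1, Module.End.one_apply] at h2
    exact (Additive.ofMul.injective (θ.injective h2)).symm
  · intro h1
    apply LinearMap.ext
    intro x
    obtain ⟨y, rfl⟩ := θ.surjective x
    obtain ⟨v, rfl⟩ := Additive.ofMul.surjective y
    rw [hρ g v, h1, Module.End.one_apply]
    rfl

include hρ in
theorem rep_sub_one_apply_aux (g : Γ) (w : A) :
    (ρ g - 1) (θ (Additive.ofMul w)) = θ (Additive.ofMul (σ g w * w⁻¹)) := by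
  rw [LinearMap.sub_apply, Module.End.one_apply, hρ g w, ← map_sub, ← ofMul_div, div_eq_mul_inv]

include hρ in
theorem rep_quadratic_aux (g : Γ) (hq : ∀ w : A, σ g (σ g w * w⁻¹) = σ g w * w⁻¹) :
    (ρ g - 1) * (ρ g - 1) = 0 := by
  apply LinearMap.ext
  intro x
  obtain ⟨y, rfl⟩ := θ.surjective x
  obtain ⟨v, rfl⟩ := Additive.ofMul.surjective y
  rw [Module.End.mul_apply, rep_sub_one_apply_aux θ ρ σ hρ, rep_sub_one_apply_aux θ ρ σ hρ,
    LinearMap.zero_apply, hq v, mul_inv_cancel]
  exact map_zero θ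

end Abstract

end Cfsg.H5.Lin
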