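import Mathlib
import Cfsg.Agent.H5.DicksonSL2
import Cfsg.Agent.H5.DicksonP

/-!
# Embeddings of `SL(2, p)` in `SL(2, K)`

`exists_conj_twist`: every injective homomorphism `SL(2, p) → SL(2, K)` (`K` a field of odd
characteristic `p`) is conjugate in `SL(2, K)` to a twisted standard embedding
`g ↦ diag(s, 1) g diag(s, 1)⁻¹`.
-/

set_option autoImplicit false

namespace Cfsg.H5.Qd

open Matrix Cfsg.Agent.Lib.Helper16 Cfsg.H5.Dickson Cfsg.H5.SL2

variable {K : Type*} [Field K] {p : ℕ} [hp : Fact p.Prime] [CharP K p]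

omit [CharP K p] in
/-- the Weyl-type element `upper 1 * (lower 1)⁻¹ * upper 1` squares to `-1` -/
theorem weyl_sq (s c : K) :
    ((upperSL2 s * lowerSL2 (-c) * upperSL2 s * (upperSL2 s * lowerSL2 (-c) * upperSL2 s) :
      SpecialLinearGroup (Fin 2) K) : Matrix (Fin 2) (Fin 2) K) 1 0 = -(2 * c * (1 - s * c)) := by
  simp only [Matrix.SpecialLinearGroup.coe_mul, upperSL2_apply, lowerSL2_apply,
    Matrix.mul_fin_two, Matrix.of_apply, Matrix.cons_val', Matrix.cons_val_zero,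
    Matrix.cons_val_one, Matrix.cons_val_fin_one]
  ring

theorem upper_lower_ne :
    upperSL2 (1 : ZMod p) * lowerSL2 1 ≠ lowerSL2 1 * upperSL2 1 := by
  intro h
  have h1 := congrArg (fun M : SpecialLinearGroup (Fin 2) (ZMod p) =>
    (M : Matrix (Fin 2) (Fin 2) (ZMod p)) 0 0) h
  simp only [Matrix.SpecialLinearGroup.coe_mul, upperSL2_apply, lowerSL2_apply,
    Matrix.mul_fin_two, Matrix.of_apply, Matrix.cons_val', Matrix.cons_val_zero,
    Matrix.cons_val_fin_one] at h1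
  have h2 : (1 : ZMod p) = 0 := by linear_combination h1
  exact one_ne_zero h2

/-- the element `w = upper 1 * (lower 1)⁻¹ * upper 1` of `SL(2, p)` -/
def weylZ (p : ℕ) [Fact p.Prime] : SpecialLinearGroup (Fin 2) (ZMod p) :=
  upperSL2 (1 : ZMod p) * (lowerSL2 1)⁻¹ * upperSL2 1

theorem weylZ_sq_coe (p : ℕ) [Fact p.Prime] :
    ((weylZ p * weylZ p : SpecialLinearGroup (Fin 2) (ZMod p)) :
      Matrix (Fin 2) (Fin 2) (ZMod p)) = !![-1, 0; 0, -1] := by
  unfold weylZ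
  rw [lowerSL2_inv]
  simp only [Matrix.SpecialLinearGroup.coe_mul, upperSL2_apply, lowerSL2_apply,
    Matrix.mul_fin_two]
  apply mat_fin_two_congr <;> ring

theorem weylZ_pow_four (p : ℕ) [Fact p.Prime] :
    (weylZ p * weylZ p) * (weylZ p * weylZ p) = 1 := by
  apply Subtype.ext
  rw [Matrix.SpecialLinearGroup.coe_mul, weylZ_sq_coe, Matrix.mul_fin_two,
    Matrix.SpecialLinearGroup.coe_one, Matrix.one_fin_two]
  apply mat_fin_two_congr <;> ring

theorem weylZ_sq_ne_one (hp2 : p ≠ 2) : weylZ p * weylZ p ≠ 1 := by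
  intro h
  have h1 := congrArg (fun M : SpecialLinearGroup (Fin 2) (ZMod p) =>
    (M : Matrix (Fin 2) (Fin 2) (ZMod p)) 0 0) h
  simp only [weylZ_sq_coe, Matrix.SpecialLinearGroup.coe_one, Matrix.one_apply_eq,
    Matrix.of_apply, Matrix.cons_val', Matrix.cons_val_zero, Matrix.cons_val_fin_one] at h1
  have h2 : (2 : ZMod p) = 0 := by linear_combination -h1
  exact two_ne_zero_of_char (K := ZMod p) hp.out hp2 h2

/-- **every embedding of `SL(2, p)` in `SL(2, K)` is conjugate to a twisted standard one** -/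
theorem exists_conj_twist (hp2 : p ≠ 2)
    (ε : SpecialLinearGroup (Fin 2) (ZMod p) →* SpecialLinearGroup (Fin 2) K)
    (hε : Function.Injective ε) :
    ∃ (t : SpecialLinearGroup (Fin 2) K) (s : K) (hs : s ≠ 0),
      ∀ g, t * ε g * t⁻¹ = twist p s hs g := by
  have h2 : (2 : K) ≠ 0 := two_ne_zero_of_char hp.out hp2
  have hup : (upperSL2 (1 : ZMod p)) ^ (p ^ 1) = 1 := by
    rw [pow_one, upperSL2_pow, nsmul_eq_mul, mul_one, CharP.cast_eq_zero, upperSL2_zero]
  have hlp : (lowerSL2 (1 : ZMod p)) ^ (p ^ 1) = 1 := by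
    rw [pow_one, lowerSL2_pow, nsmul_eq_mul, mul_one, CharP.cast_eq_zero, lowerSL2_zero]
  have hu1 : ε (upperSL2 1) ≠ 1 := by
    intro h
    have h1 := hε (h.trans (map_one ε).symm)
    have h01 := congrArg (fun M : SpecialLinearGroup (Fin 2) (ZMod p) =>
      (M : Matrix (Fin 2) (Fin 2) (ZMod p)) 0 1) h1
    simp only [upperSL2_apply, Matrix.SpecialLinearGroup.coe_one, Matrix.of_apply,
      Matrix.cons_val', Matrix.cons_val_zero, Matrix.cons_val_one, Matrix.cons_val_fin_one,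
      Matrix.one_apply_ne (show (0 : Fin 2) ≠ 1 by decide)] at h01
    exact one_ne_zero h01
  obtain ⟨t₁, s, hs, ht₁⟩ := exists_conj_upper (trace_of_pow ε hup) hu1
  -- first conjugation
  obtain ⟨ε₁, hε₁⟩ : ∃ ε₁ : SpecialLinearGroup (Fin 2) (ZMod p) →* SpecialLinearGroup (Fin 2) K,
      ∀ g, ε₁ g = t₁ * ε g * t₁⁻¹ :=
    ⟨(MulAut.conj t₁).toMonoidHom.comp ε, fun g => rfl⟩
  have hε₁inj : Function.Injective ε₁ := by
    intro x y hxy
    rw [hε₁, hε₁] at hxy
    exact hε (mul_left_cancel (mul_right_cancel hxy))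
  have hε₁u : ε₁ (upperSL2 1) = upperSL2 s := by rw [hε₁, ht₁]
  obtain ⟨Lw, hLw⟩ : ∃ Lw, Lw = ε₁ (lowerSL2 1) := ⟨_, rfl⟩
  have htr : (Lw : Matrix (Fin 2) (Fin 2) K).trace = 2 := by
    rw [hLw]; exact trace_of_pow ε₁ hlp
  have hdet := Lw.2
  rw [Matrix.det_fin_two] at hdet
  rw [Matrix.trace_fin_two] at htr
  obtain ⟨a, ha⟩ : ∃ a, a = (Lw : Matrix (Fin 2) (Fin 2) K) 0 0 := ⟨_, rfl⟩
  obtain ⟨b, hb⟩ : ∃ b, b = (Lw : Matrix (Fin 2) (Fin 2) K) 0 1 := ⟨_, rfl⟩
  obtain ⟨c, hc⟩ : ∃ c, c = (Lw : Matrix (Fin 2) (Fin 2) K) 1 0 := ⟨_, rfl⟩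
  obtain ⟨d, hd⟩ : ∃ d, d = (Lw : Matrix (Fin 2) (Fin 2) K) 1 1 := ⟨_, rfl⟩
  rw [← ha, ← hb, ← hc, ← hd] at hdet
  rw [← ha, ← hd] at htr
  have hLwmat : (Lw : Matrix (Fin 2) (Fin 2) K) = !![a, b; c, d] := by
    rw [ha, hb, hc, hd]; exact Matrix.eta_fin_two _
  have hc0 : c ≠ 0 := by
    intro hc0
    have ha1 : a = 1 := by
      have : (a - 1) ^ 2 = 0 := by
        rw [hc0] at hdet
        linear_combination a * htr - hdet
      exact sub_eq_zero.1 (pow_eq_zero_iff (two_ne_zero) |>.1 this)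
    have hd1 : d = 1 := by linear_combination htr - ha1
    have hmem : Lw ∈ unipSL2 K := by
      rw [mem_unipSL2, ← ha, ← hc, ← hd]
      exact ⟨ha1, hc0, hd1⟩
    have hcomm : upperSL2 s * Lw = Lw * upperSL2 s := by
      rw [eq_upperSL2_of_mem hmem, ← upperSL2_add, ← upperSL2_add, add_comm]
    rw [← hε₁u, hLw, ← map_mul, ← map_mul] at hcomm
    exact upper_lower_ne (hε₁inj hcomm)
  -- second conjugation
  obtain ⟨x, hx⟩ : ∃ x : K, x = (1 - a) / c := ⟨_, rfl⟩
  have hxc : x * c = 1 - a := by rw [hx]; field_simp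
  obtain ⟨ε₂, hε₂⟩ : ∃ ε₂ : SpecialLinearGroup (Fin 2) (ZMod p) →* SpecialLinearGroup (Fin 2) K,
      ∀ g, ε₂ g = upperSL2 x * ε₁ g * (upperSL2 x)⁻¹ :=
    ⟨(MulAut.conj (upperSL2 x)).toMonoidHom.comp ε₁, fun g => rfl⟩
  have hε₂inj : Function.Injective ε₂ := by
    intro y z hyz
    rw [hε₂, hε₂] at hyz
    exact hε₁inj (mul_left_cancel (mul_right_cancel hyz))
  have hε₂u : ε₂ (upperSL2 1) = upperSL2 s := by
    rw [hε₂, hε₁u, upperSL2_inv, ← upperSL2_add, ← upperSL2_add]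
    congr 1; ring
  have hb0 : b + x * x * c = 0 := by
    have h3 : c * (b + x * x * c) = 0 := by
      linear_combination (x * c + 1 - a) * hxc - hdet + a * htr
    exact (mul_eq_zero.1 h3).resolve_left hc0
  have hε₂l : ε₂ (lowerSL2 1) = lowerSL2 c := by
    rw [hε₂, ← hLw, upperSL2_inv]
    apply Subtype.ext
    rw [Matrix.SpecialLinearGroup.coe_mul, Matrix.SpecialLinearGroup.coe_mul, hLwmat,
      upperSL2_apply, upperSL2_apply, lowerSL2_apply, Matrix.mul_fin_two, Matrix.mul_fin_two]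
    apply mat_fin_two_congr
    · linear_combination hxc
    · linear_combination hb0 - 2 * x * hxc + x * htr
    · ring
    · linear_combination -hxc + htr
  -- the relation
  have hZ : ε₂ (weylZ p * weylZ p) * ε₂ (weylZ p * weylZ p) = 1 := by
    rw [← map_mul, weylZ_pow_four, map_one]
  have hZ1 : ε₂ (weylZ p * weylZ p) ≠ 1 := fun h =>
    weylZ_sq_ne_one hp2 (hε₂inj (h.trans (map_one ε₂).symm))
  have hZneg : ε₂ (weylZ p * weylZ p) = -1 :=
    (eq_one_or_neg_one_of_mul_self h2 hZ).resolve_left hZ1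
  have hM : ε₂ (weylZ p) = upperSL2 s * lowerSL2 (-c) * upperSL2 s := by
    unfold weylZ
    rw [map_mul, map_mul, map_inv, hε₂u, hε₂l, lowerSL2_inv]
  have h10 := weyl_sq s c
  rw [← hM, ← map_mul, hZneg] at h10
  rw [Matrix.SpecialLinearGroup.coe_neg, Matrix.SpecialLinearGroup.coe_one, Matrix.neg_apply,
    Matrix.one_apply_ne (show (1 : Fin 2) ≠ 0 by decide), neg_zero] at h10
  have hsc : s * c = 1 := by
    have h3 : 2 * c * (1 - s * c) = 0 := by linear_combination h10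
    have h4 : 1 - s * c = 0 :=
      (mul_eq_zero.1 h3).resolve_left (mul_ne_zero h2 hc0)
    linear_combination -h4
  have hc' : c = s⁻¹ := eq_inv_of_mul_eq_one_right hsc
  have heq : ε₂ = twist p s hs := by
    apply MonoidHom.eq_of_eqOn_dense (closure_upper_lower_zmod (p := p))
    intro g hg
    rcases hg with rfl | rfl
    · rw [hε₂u, twist_upper]
    · rw [hε₂l, twist_lower, hc']
  refine ⟨upperSL2 x * t₁, s, hs, fun g => ?_⟩
  rw [← heq, hε₂, hε₁, _root_.mul_inv_rev]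
  group

end Cfsg.H5.Qd
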