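import Mathlib

/-!
# Two quadratic generators: reduction to `SL(2, K)`

`exists_sl2`: a group `Γ = ⟨a, b⟩` with a representation over a finite field `K` of characteristic
`p` in which `a`, `b` act quadratically, the image is not a `p`-group, and `(a b)^(p^e k) = 1` with
`k ∣ |K| - 1`, maps to `SL(2, K)` with an image that is not a `p`-group.
-/

set_option autoImplicit false
set_option linter.style.haveILetI false

namespace Cfsg.H5.QP

open Polynomial

universe u v

section Basic

variable {K : Type*} [Field K] {U : Type*} [AddCommGroup U] [Module K U]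

/-- a quadratic endomorphism is invertible with inverse `2 - A` -/
theorem quad_mul_inv {A : Module.End K U} (hA : (A - 1) * (A - 1) = 0) : A * (2 - A) = 1 := by
  have h : A * (2 - A) = 1 - (A - 1) * (A - 1) := by noncomm_ring
  rw [h, hA, sub_zero]

theorem quad_inv_mul {A : Module.End K U} (hA : (A - 1) * (A - 1) = 0) : (2 - A) * A = 1 := by
  have h : (2 - A) * A = 1 - (A - 1) * (A - 1) := by noncomm_ring
  rw [h, hA, sub_zero]

/-- powers of a quadratic endomorphism -/
theorem quad_pow {A : Module.End K U} (hA : (A - 1) * (A - 1) = 0) (n : ℕ) :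
    A ^ n = 1 + n • (A - 1) := by
  obtain ⟨Y, hY⟩ : ∃ Y, Y = A - 1 := ⟨_, rfl⟩
  have hAY : A = 1 + Y := by rw [hY]; abel
  rw [← hY] at hA ⊢
  rw [hAY]
  induction n with
  | zero => simp
  | succ n ih =>
    rw [pow_succ, ih, add_mul, one_mul, smul_mul_assoc, mul_add, mul_one, hA, add_zero,
      succ_nsmul]
    abel

theorem quad_pow_char {p : ℕ} [CharP K p] {A : Module.End K U} (hA : (A - 1) * (A - 1) = 0) :
    A ^ p = 1 := by
  rw [quad_pow hA p]
  have h : (p : ℕ) • (A - 1) = ((p : K)) • (A - 1) := (Nat.cast_smul_eq_nsmul K p (A - 1)).symm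
  rw [h, CharP.cast_eq_zero K p, zero_smul, add_zero]

end Basic

section Main

variable {K : Type*} [Field K] [Fintype K] {p : ℕ} [hp : Fact p.Prime] [CharP K p]
variable {Γ : Type*} [Group Γ]

/-- the image of the representation is a `p`-group -/
def PG (p : ℕ) {U : Type*} [AddCommGroup U] [Module K U] (ρ : Representation K Γ U) : Prop :=
  ∀ g : Γ, ∃ j : ℕ, (ρ g) ^ (p ^ j) = 1

/-- `X^N - 1` splits over `K` when `N = p^e k` with `k ∣ |K| - 1` -/
theorem splits_X_pow_sub_one (e k : ℕ) (hk : k ∣ Fintype.card K - 1) (hk0 : 0 < k) :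
    Splits (X ^ (p ^ e * k) - 1 : K[X]) := by
  have hq : 1 < Fintype.card K := Fintype.one_lt_card
  have h1 : Splits (X ^ Fintype.card K - X : K[X]) := by
    rw [splits_iff_card_roots, FiniteField.roots_X_pow_card_sub_X,
      FiniteField.X_pow_card_sub_X_natDegree_eq K hq]
    simp
  have h2 : (X ^ k - 1 : K[X]) ∣ X ^ Fintype.card K - X := by
    obtain ⟨m, hm⟩ := hk
    have h3 : (X ^ k - 1 : K[X]) ∣ (X ^ k) ^ m - 1 ^ m := sub_dvd_pow_sub_pow _ _ _
    rw [one_pow, ← pow_mul, ← hm] at h3
    have h4 : (X ^ Fintype.card K - X : K[X]) = X * (X ^ (Fintype.card K - 1) - 1) := by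
      rw [mul_sub, mul_one, ← pow_succ', Nat.sub_add_cancel hq.le]
    rw [h4]
    exact h3.mul_left _
  have h5 : Splits (X ^ k - 1 : K[X]) :=
    h1.of_dvd (FiniteField.X_pow_card_sub_X_ne_zero K hq) h2
  have h6 : (X ^ (p ^ e * k) - 1 : K[X]) = (X ^ k - 1) ^ (p ^ e) := by
    rw [sub_pow_char_pow, one_pow, ← pow_mul, mul_comm]
  rw [h6]
  exact h5.pow _

/-- an endomorphism of a nonzero finite-dimensional space with `x^(p^e k) = 1`, `k ∣ |K| - 1`,
has an eigenvector with eigenvalue in `K`. -/
theorem exists_eigenvector {U : Type*} [AddCommGroup U] [Module K U] [FiniteDimensional K U]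
    [Nontrivial U] (x : Module.End K U) (e k : ℕ) (hk : k ∣ Fintype.card K - 1) (hk0 : 0 < k)
    (hx : x ^ (p ^ e * k) = 1) : ∃ (μ : K) (u : U), u ≠ 0 ∧ x u = μ • u := by
  have hsp := splits_X_pow_sub_one (K := K) (p := p) e k hk hk0
  have hN : 0 < p ^ e * k := Nat.mul_pos (pow_pos hp.out.pos e) hk0
  have hP0 : (X ^ (p ^ e * k) - 1 : K[X]) ≠ 0 := by
    have := X_pow_sub_C_ne_zero hN (1 : K)
    simpa using this
  have haev : aeval x (X ^ (p ^ e * k) - 1 : K[X]) = 0 := by
    simp [hx]
  have hdvd : minpoly K x ∣ X ^ (p ^ e * k) - 1 := minpoly.dvd K x haev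
  have hms : Splits (minpoly K x) := hsp.of_dvd hP0 hdvd
  have hint : IsIntegral K x := Algebra.IsIntegral.isIntegral x
  have hdeg : (minpoly K x).degree ≠ 0 := (minpoly.degree_pos hint).ne'
  obtain ⟨μ, hμ⟩ := hms.exists_eval_eq_zero hdeg
  have hev : x.HasEigenvalue μ := Module.End.hasEigenvalue_of_isRoot hμ
  obtain ⟨u, hu⟩ := hev.exists_hasEigenvector
  exact ⟨μ, u, hu.2, hu.apply_eq_smul⟩

variable (a b : Γ) (hgen : Subgroup.closure ({a, b} : Set Γ) = ⊤)

include hgen in
/-- a predicate closed under products and inverses holding at `a`, `b` holds everywhere -/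
theorem gen_induction {P : Γ → Prop} (ha : P a) (hb : P b) (h1 : P 1)
    (hmul : ∀ x y, P x → P y → P (x * y)) (hinv : ∀ x, P x → P x⁻¹) (g : Γ) : P g := by
  have hg : g ∈ Subgroup.closure ({a, b} : Set Γ) := by rw [hgen]; trivial
  induction hg using Subgroup.closure_induction with
  | mem y hy =>
    rcases hy with rfl | rfl
    · exact ha
    · exact hb
  | one => exact h1
  | mul y z _ _ hy hz => exact hmul y z hy hz
  | inv y _ hy => exact hinv y hy

include hgen in
/-- the irreducible case -/
theorem irreducible_case {U : Type u} [AddCommGroup U] [Module K U] [FiniteDimensional K U]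
    (ρ : Representation K Γ U) (hA : (ρ a - 1) * (ρ a - 1) = 0) (hB : (ρ b - 1) * (ρ b - 1) = 0)
    (hnp : ¬ PG p ρ) (e k : ℕ) (hk : k ∣ Fintype.card K - 1) (hk0 : 0 < k)
    (hab : (a * b) ^ (p ^ e * k) = 1)
    (hirr : ∀ U₁ : Submodule K U, (∀ g, U₁ ≤ U₁.comap (ρ g)) → U₁ = ⊥ ∨ U₁ = ⊤) :
    ∃ φ : Γ →* Matrix.SpecialLinearGroup (Fin 2) K, ¬ IsPGroup p φ.range := by
  -- `U` is nontrivial
  have hnt : Nontrivial U := by
    by_contra hsub
    rw [not_nontrivial_iff_subsingleton] at hsub
    apply hnp
    intro g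
    exact ⟨0, Subsingleton.elim _ _⟩
  have hx : (ρ (a * b)) ^ (p ^ e * k) = 1 := by rw [← map_pow, hab, map_one]
  obtain ⟨μ, u, hu0, hu⟩ := exists_eigenvector (p := p) (ρ (a * b)) e k hk hk0 hx
  rw [map_mul, Module.End.mul_apply] at hu
  obtain ⟨A, hAdef⟩ : ∃ A : Module.End K U, A = ρ a := ⟨_, rfl⟩
  obtain ⟨B, hBdef⟩ : ∃ B : Module.End K U, B = ρ b := ⟨_, rfl⟩
  rw [← hAdef] at hA hu
  rw [← hBdef] at hB hu
  have htwo : ∀ w : U, (2 : Module.End K U) w = (2 : K) • w := by
    intro w
    rw [show (2 : Module.End K U) = 1 + 1 by norm_num, LinearMap.add_apply, Module.End.one_apply,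
      two_smul]
  -- equations
  have hAA' := quad_mul_inv hA
  have hA'A := quad_inv_mul hA
  have hBB' := quad_mul_inv hB
  have hB'B := quad_inv_mul hB
  have e1 : B (B u) = (2 : K) • B u - u := by
    have h := congrArg (fun f : Module.End K U => f u) hB
    simp only [Module.End.mul_apply, LinearMap.sub_apply, Module.End.one_apply, map_sub,
      LinearMap.zero_apply] at h
    rw [two_smul]
    have h2 : B (B u) = (B (B u) - B u - (B u - u)) + (B u + B u - u) := by abel
    rw [h, zero_add] at h2
    exact h2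
  have e2 : B u = μ • ((2 : K) • u - A u) := by
    have h := congrArg (fun f : Module.End K U => f (B u)) hA'A
    simp only [Module.End.mul_apply, LinearMap.sub_apply, Module.End.one_apply] at h
    rw [hu, htwo, map_smul] at h
    rw [← h, smul_sub, smul_comm μ (2 : K) u]
  have hμ0 : μ ≠ 0 := by
    rintro rfl
    rw [zero_smul] at e2
    have h := congrArg (fun f : Module.End K U => f u) hB'B
    simp only [Module.End.mul_apply, Module.End.one_apply] at h
    rw [e2, map_zero] at h
    exact hu0 h.symm
  have e3 : A u = (2 : K) • u - μ⁻¹ • B u := by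
    rw [e2, smul_smul, inv_mul_cancel₀ hμ0, one_smul]; abel
  -- the invariant plane
  set U₀ : Submodule K U := Submodule.span K {u, B u} with hU₀
  have hu_mem : u ∈ U₀ := Submodule.subset_span (by simp)
  have hBu_mem : B u ∈ U₀ := Submodule.subset_span (by simp)
  have hAinv : ∀ w ∈ U₀, A w ∈ U₀ := by
    have : U₀.map A ≤ U₀ := by
      rw [hU₀, Submodule.map_span_le]
      intro m hm
      rcases hm with rfl | rfl
      · rw [e3]
        exact Submodule.sub_mem _ (Submodule.smul_mem _ _ hu_mem)
          (Submodule.smul_mem _ _ hBu_mem)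
      · rw [hu]; exact Submodule.smul_mem _ _ hu_mem
    intro w hw
    exact this (Submodule.mem_map_of_mem hw)
  have hBinv : ∀ w ∈ U₀, B w ∈ U₀ := by
    have : U₀.map B ≤ U₀ := by
      rw [hU₀, Submodule.map_span_le]
      intro m hm
      rcases hm with rfl | rfl
      · exact hBu_mem
      · rw [e1]
        exact Submodule.sub_mem _ (Submodule.smul_mem _ _ hBu_mem) hu_mem
    intro w hw
    exact this (Submodule.mem_map_of_mem hw)
  have hinvA : ρ a⁻¹ = 2 - A := by
    have h1 : ρ a⁻¹ * A = 1 := by rw [hAdef, ← map_mul, inv_mul_cancel, map_one]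
    calc ρ a⁻¹ = ρ a⁻¹ * (A * (2 - A)) := by rw [hAA', mul_one]
      _ = (ρ a⁻¹ * A) * (2 - A) := by rw [mul_assoc]
      _ = 2 - A := by rw [h1, one_mul]
  have hinvB : ρ b⁻¹ = 2 - B := by
    have h1 : ρ b⁻¹ * B = 1 := by rw [hBdef, ← map_mul, inv_mul_cancel, map_one]
    calc ρ b⁻¹ = ρ b⁻¹ * (B * (2 - B)) := by rw [hBB', mul_one]
      _ = (ρ b⁻¹ * B) * (2 - B) := by rw [mul_assoc]
      _ = 2 - B := by rw [h1, one_mul]
  subst hAdef
  subst hBdef
  have hall : ∀ g : Γ, (∀ w ∈ U₀, ρ g w ∈ U₀) ∧ (∀ w ∈ U₀, ρ g⁻¹ w ∈ U₀) := by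
    intro g
    refine gen_induction a b hgen
      (P := fun g => (∀ w ∈ U₀, ρ g w ∈ U₀) ∧ (∀ w ∈ U₀, ρ g⁻¹ w ∈ U₀)) ?_ ?_ ?_ ?_ ?_ g
    · refine ⟨hAinv, fun w hw => ?_⟩
      rw [hinvA, LinearMap.sub_apply, htwo]
      exact Submodule.sub_mem _ (Submodule.smul_mem _ _ hw) (hAinv w hw)
    · refine ⟨hBinv, fun w hw => ?_⟩
      rw [hinvB, LinearMap.sub_apply, htwo]
      exact Submodule.sub_mem _ (Submodule.smul_mem _ _ hw) (hBinv w hw)
    · simp
    · rintro x y ⟨hx1, hx2⟩ ⟨hy1, hy2⟩
      refine ⟨fun w hw => ?_, fun w hw => ?_⟩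
      · rw [map_mul, Module.End.mul_apply]; exact hx1 _ (hy1 w hw)
      · rw [mul_inv_rev, map_mul, Module.End.mul_apply]; exact hy2 _ (hx2 w hw)
    · rintro x ⟨hx1, hx2⟩
      exact ⟨hx2, by rw [inv_inv]; exact hx1⟩
  have hU₀top : U₀ = ⊤ := by
    rcases hirr U₀ (fun g w hw => (hall g).1 w hw) with h | h
    · exfalso
      rw [h, Submodule.mem_bot] at hu_mem
      exact hu0 hu_mem
    · exact h
  -- the case `ρ b u ∈ span {u}`
  by_cases hdep : ∃ c : K, c • u = ρ b u
  · exfalso
    obtain ⟨c, hc⟩ := hdep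
    have hspan : Submodule.span K {u} = ⊤ := by
      rw [← hU₀top, hU₀]
      apply le_antisymm
      · exact Submodule.span_mono (by simp)
      · rw [Submodule.span_le]
        intro m hm
        rcases hm with rfl | rfl
        · exact Submodule.subset_span rfl
        · rw [← hc]; exact Submodule.smul_mem _ _ (Submodule.subset_span rfl)
    -- `B = 1`
    have hc1 : c = 1 := by
      have h := e1
      rw [← hc, map_smul, ← hc, smul_smul, smul_smul] at h
      have h2 : (c * c - 2 * c + 1) • u = 0 := by
        rw [add_smul, sub_smul, one_smul, h]; abel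
      have h3 : c * c - 2 * c + 1 = 0 := (smul_eq_zero.mp h2).resolve_right hu0
      have h4 : (c - 1) * (c - 1) = 0 := by rw [← h3]; ring
      have := mul_self_eq_zero.mp h4
      exact sub_eq_zero.mp this
    have hBu : ρ b u = u := by rw [← hc, hc1, one_smul]
    have hAu : ρ a u = μ • u := by rw [hBu] at hu; exact hu
    have hμ1 : μ = 1 := by
      have h := e3
      rw [hBu, hAu] at h
      have h2 : (μ * μ - 2 * μ + 1) • u = 0 := by
        have h5 : μ • (μ • u) = μ • ((2 : K) • u - μ⁻¹ • u) := by rw [← h]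
        rw [smul_sub, smul_smul, smul_smul, smul_smul, mul_inv_cancel₀ hμ0, one_smul] at h5
        have h6 : (μ * μ - 2 * μ + 1) • u = (μ * μ) • u - (μ * 2) • u + u := by module
        rw [h6, h5]; abel
      have h3 : μ * μ - 2 * μ + 1 = 0 := (smul_eq_zero.mp h2).resolve_right hu0
      have h4 : (μ - 1) * (μ - 1) = 0 := by rw [← h3]; ring
      exact sub_eq_zero.mp (mul_self_eq_zero.mp h4)
    have hAu' : ρ a u = u := by rw [hAu, hμ1, one_smul]
    have hone : ∀ (f : Module.End K U), f u = u → f = 1 := by
      intro f hf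
      apply LinearMap.ext
      intro w
      have hw : w ∈ Submodule.span K {u} := by rw [hspan]; trivial
      obtain ⟨t, rfl⟩ := Submodule.mem_span_singleton.mp hw
      rw [map_smul, hf, Module.End.one_apply]
    have hA1 : ρ a = 1 := hone _ hAu'
    have hB1 : ρ b = 1 := hone _ hBu
    apply hnp
    intro g
    refine ⟨0, ?_⟩
    rw [pow_zero, pow_one]
    refine gen_induction a b hgen (P := fun g => ρ g = 1) hA1 hB1 (map_one ρ) ?_ ?_ g
    · intro x y hx hy; rw [map_mul, hx, hy, one_mul]
    · intro x hx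
      have : ρ x⁻¹ * ρ x = 1 := by rw [← map_mul, inv_mul_cancel, map_one]
      rw [hx, mul_one] at this
      exact this
  · -- the basis `u, ρ b u`
    have hli : LinearIndependent K ![u, ρ b u] := by
      rw [LinearIndependent.pair_iff]
      intro s t hst
      by_cases ht : t = 0
      · subst ht
        rw [zero_smul, add_zero] at hst
        exact ⟨(smul_eq_zero.mp hst).resolve_right hu0, rfl⟩
      · exfalso
        apply hdep
        refine ⟨-(t⁻¹ * s), ?_⟩
        have h1 : t • ρ b u = -(s • u) := by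
          rw [eq_neg_iff_add_eq_zero, add_comm]; exact hst
        have h2 : ρ b u = t⁻¹ • (t • ρ b u) := by rw [smul_smul, inv_mul_cancel₀ ht, one_smul]
        rw [h2, h1, smul_neg, smul_smul, neg_smul]
    have hsp : ⊤ ≤ Submodule.span K (Set.range ![u, ρ b u]) := by
      rw [← hU₀top, hU₀]
      apply Submodule.span_mono
      intro m hm
      rcases hm with rfl | rfl
      · exact ⟨0, rfl⟩
      · exact ⟨1, rfl⟩
    let bs : Module.Basis (Fin 2) K U := Module.Basis.mk hli hsp
    let ψ : Γ →* Matrix (Fin 2) (Fin 2) K :=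
      ((LinearMap.toMatrixAlgEquiv bs : Module.End K U ≃ₐ[K] Matrix (Fin 2) (Fin 2) K) :
        Module.End K U →* Matrix (Fin 2) (Fin 2) K).comp ρ
    have hψ : ∀ g, ψ g = LinearMap.toMatrixAlgEquiv bs (ρ g) := fun g => rfl
    have hψinj : ∀ g, ψ g = 1 → ρ g = 1 := by
      intro g hg
      rw [hψ] at hg
      have := (LinearMap.toMatrixAlgEquiv bs).injective (hg.trans (map_one _).symm)
      exact this
    -- determinants
    have hdetp : ∀ g : Γ, ρ g ^ p = 1 → (ψ g).det = 1 := by
      intro g hg
      have h1 : (ψ g).det ^ p = 1 := by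
        rw [← Matrix.det_pow, ← map_pow, hψ, map_pow, hg, map_one, Matrix.det_one]
      have h2 : ((ψ g).det - 1) ^ p = 0 := by rw [sub_pow_char, h1, one_pow, sub_self]
      exact sub_eq_zero.mp (pow_eq_zero_iff (hp.out.ne_zero) |>.mp h2)
    have hdet : ∀ g : Γ, (ψ g).det = 1 := by
      intro g
      refine gen_induction a b hgen (P := fun g => (ψ g).det = 1)
        (hdetp a (quad_pow_char hA)) (hdetp b (quad_pow_char hB)) ?_ ?_ ?_ g
      · rw [map_one, Matrix.det_one]
      · intro x y hx hy; rw [map_mul, Matrix.det_mul, hx, hy, one_mul]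
      · intro x hx
        have : (ψ x⁻¹).det * (ψ x).det = 1 := by
          rw [← Matrix.det_mul, ← map_mul, inv_mul_cancel, map_one, Matrix.det_one]
        rw [hx, mul_one] at this
        exact this
    let φ : Γ →* Matrix.SpecialLinearGroup (Fin 2) K :=
      { toFun := fun g => ⟨ψ g, hdet g⟩
        map_one' := by
          apply Subtype.ext
          exact map_one ψ
        map_mul' := fun x y => by
          apply Subtype.ext
          exact map_mul ψ x y }
    refine ⟨φ, ?_⟩
    intro hPG
    apply hnp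
    intro g
    obtain ⟨j, hj⟩ := hPG ⟨φ g, g, rfl⟩
    refine ⟨j, ?_⟩
    have h1 : φ (g ^ (p ^ j)) = 1 := by
      have := congrArg Subtype.val hj
      rw [map_pow]
      simpa using this
    have h2 : ψ (g ^ (p ^ j)) = 1 := by
      have := congrArg Subtype.val h1
      exact this
    rw [← map_pow]
    exact hψinj _ h2

include hgen in
/-- **Main reduction.** -/
theorem exists_sl2 (e k : ℕ) (hk : k ∣ Fintype.card K - 1) (hk0 : 0 < k)
    (hab : (a * b) ^ (p ^ e * k) = 1) :
    ∀ (n : ℕ) (U : Type u) [AddCommGroup U] [Module K U] [FiniteDimensional K U]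
      (ρ : Representation K Γ U), Module.finrank K U = n →
      (ρ a - 1) * (ρ a - 1) = 0 → (ρ b - 1) * (ρ b - 1) = 0 → ¬ PG p ρ →
      ∃ φ : Γ →* Matrix.SpecialLinearGroup (Fin 2) K, ¬ IsPGroup p φ.range := by
  intro n
  induction n using Nat.strong_induction_on with
  | _ n ih =>
    intro U _ _ _ ρ hn hA hB hnp
    by_cases hred : ∃ U₁ : Submodule K U, (∀ g, U₁ ≤ U₁.comap (ρ g)) ∧ U₁ ≠ ⊥ ∧ U₁ ≠ ⊤
    · obtain ⟨U₁, hinv, hbot, htop⟩ := hred
      have hlt1 : Module.finrank K U₁ < n := hn ▸ Submodule.finrank_lt htop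
      have hlt2 : Module.finrank K (U ⧸ U₁) < n := by
        have h1 := Submodule.finrank_quotient_add_finrank U₁
        have h2 : 0 < Module.finrank K U₁ := by
          rw [Module.finrank_pos_iff]
          exact (Submodule.nontrivial_iff_ne_bot).mpr hbot
        omega
      let ρ₁ := ρ.subrepresentation U₁ hinv
      let ρ₂ := ρ.quotient U₁ hinv
      by_cases h1 : PG p ρ₁
      · by_cases h2 : PG p ρ₂
        · exfalso
          apply hnp
          intro g
          obtain ⟨j₁, hj₁⟩ := h1 g
          obtain ⟨j₂, hj₂⟩ := h2 g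
          refine ⟨j₁ + j₂ + 1, ?_⟩
          set g' := g ^ (p ^ (j₁ + j₂)) with hg'
          have hg1 : ρ₁ g' = 1 := by
            rw [hg', pow_add, pow_mul, map_pow, map_pow, hj₁, one_pow]
          have hg2 : ρ₂ g' = 1 := by
            rw [hg', pow_add, mul_comm, pow_mul, map_pow, map_pow, hj₂, one_pow]
          have hq : (ρ g' - 1) * (ρ g' - 1) = 0 := by
            apply LinearMap.ext
            intro w
            have hw1 : ρ g' w - w ∈ U₁ := by
              have := congrArg (fun f : Module.End K (U ⧸ U₁) => f (Submodule.Quotient.mk w)) hg2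
              simp only [ρ₂, Representation.quotient_apply, Submodule.mapQ_apply,
                Module.End.one_apply] at this
              exact (Submodule.Quotient.eq U₁).mp this
            have hw2 : ρ g' (ρ g' w - w) = ρ g' w - w := by
              have := congrArg (fun f : Module.End K U₁ => (f ⟨ρ g' w - w, hw1⟩ : U)) hg1
              simpa [ρ₁] using this
            rw [Module.End.mul_apply, LinearMap.sub_apply, LinearMap.sub_apply,
              Module.End.one_apply, Module.End.one_apply, LinearMap.zero_apply, hw2, sub_self]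
          have := quad_pow_char (p := p) hq
          rw [← map_pow, hg', ← pow_mul, ← pow_succ] at this
          rw [← map_pow]
          exact this
        · refine ih _ hlt2 (U ⧸ U₁) ρ₂ rfl ?_ ?_ h2
          · apply LinearMap.ext
            intro w
            induction w using Submodule.Quotient.induction_on with
            | _ w =>
              have := congrArg (fun f : Module.End K U => Submodule.Quotient.mk (p := U₁) (f w)) hA
              simpa [ρ₂, Module.End.mul_apply] using this
          · apply LinearMap.ext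
            intro w
            induction w using Submodule.Quotient.induction_on with
            | _ w =>
              have := congrArg (fun f : Module.End K U => Submodule.Quotient.mk (p := U₁) (f w)) hB
              simpa [ρ₂, Module.End.mul_apply] using this
      · refine ih _ hlt1 U₁ ρ₁ rfl ?_ ?_ h1
        · apply LinearMap.ext
          intro w
          apply Subtype.ext
          have := congrArg (fun f : Module.End K U => f (w : U)) hA
          simpa [ρ₁, Module.End.mul_apply] using this
        · apply LinearMap.ext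
          intro w
          apply Subtype.ext
          have := congrArg (fun f : Module.End K U => f (w : U)) hB
          simpa [ρ₁, Module.End.mul_apply] using this
    · push Not at hred
      apply irreducible_case a b hgen ρ hA hB hnp e k hk hk0 hab
      intro U₁ hinv
      by_cases hb : U₁ = ⊥
      · exact Or.inl hb
      · exact Or.inr (hred U₁ hinv hb)

end Main

end Cfsg.H5.QP
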