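import Mathlib
import Cfsg.Agent.H5.QuadPair

/-!
# Two quadratic generators: the two-dimensional section

`exists_sl2_sub`: the refinement of `Cfsg.H5.QP.exists_sl2` keeping track of an invariant subspace
`U₁` and an equivariant linear map `ψ : U → K²`, onto on `U₁`, realising the homomorphism to
`SL(2, K)`.
-/

set_option autoImplicit false
set_option linter.style.haveILetI false

namespace Cfsg.H5.QP

open Polynomial
open scoped Matrix

universe u v

section Main

variable {K : Type*} [Field K] [Fintype K] {p : ℕ} [hp : Fact p.Prime] [CharP K p]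
variable {Γ : Type*} [Group Γ]
variable (a b : Γ) (hgen : Subgroup.closure ({a, b} : Set Γ) = ⊤)

include hgen in
/-- the irreducible case, with the coordinates -/
theorem irreducible_case_sub {U : Type u} [AddCommGroup U] [Module K U] [FiniteDimensional K U]
    (ρ : Representation K Γ U) (hA : (ρ a - 1) * (ρ a - 1) = 0) (hB : (ρ b - 1) * (ρ b - 1) = 0)
    (hnp : ¬ PG p ρ) (e k : ℕ) (hk : k ∣ Fintype.card K - 1) (hk0 : 0 < k)
    (hab : (a * b) ^ (p ^ e * k) = 1)
    (hirr : ∀ U₁ : Submodule K U, (∀ g, U₁ ≤ U₁.comap (ρ g)) → U₁ = ⊥ ∨ U₁ = ⊤) :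
    ∃ (χ : U ≃ₗ[K] (Fin 2 → K)) (φ : Γ →* Matrix.SpecialLinearGroup (Fin 2) K),
      (∀ g u, χ (ρ g u) = (φ g : Matrix (Fin 2) (Fin 2) K) *ᵥ χ u) ∧ ¬ IsPGroup p φ.range := by
  -- `U` is nontrivial
  have hnt : Nontrivial U := by
    by_contra hsub
    rw [not_nontrivial_iff_subsingleton] at hsub
    apply hnp
    intro g
    exact ⟨0, Subsingleton.elim _ _⟩
  have hx : (ρ (a * b)) ^ (p ^ e * k) = 1 := by rw [← map_pow, hab, map_one]
  obtain ⟨μ, u, hu0, hu⟩ := exists_eigenvector (p := p) (ρ (a * b)) e k hk hk0 hx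
  rw [map_mul, Module.End.mul_apply] at hu
  obtain ⟨A, hAdef⟩ : ∃ A : Module.End K U, A = ρ a := ⟨_, rfl⟩
  obtain ⟨B, hBdef⟩ : ∃ B : Module.End K U, B = ρ b := ⟨_, rfl⟩
  rw [← hAdef] at hA hu
  rw [← hBdef] at hB hu
  have htwo : ∀ w : U, (2 : Module.End K U) w = (2 : K) • w := by
    intro w
    rw [show (2 : Module.End K U) = 1 + 1 by norm_num, LinearMap.add_apply, Module.End.one_apply,
      two_smul]
  -- equations
  have hAA' := quad_mul_inv hA
  have hA'A := quad_inv_mul hA
  have hBB' := quad_mul_inv hB
  have hB'B := quad_inv_mul hB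
  have e1 : B (B u) = (2 : K) • B u - u := by
    have h := congrArg (fun f : Module.End K U => f u) hB
    simp only [Module.End.mul_apply, LinearMap.sub_apply, Module.End.one_apply, map_sub,
      LinearMap.zero_apply] at h
    rw [two_smul]
    have h2 : B (B u) = (B (B u) - B u - (B u - u)) + (B u + B u - u) := by abel
    rw [h, zero_add] at h2
    exact h2
  have e2 : B u = μ • ((2 : K) • u - A u) := by
    have h := congrArg (fun f : Module.End K U => f (B u)) hA'A
    simp only [Module.End.mul_apply, LinearMap.sub_apply, Module.End.one_apply] at h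
    rw [hu, htwo, map_smul] at h
    rw [← h, smul_sub, smul_comm μ (2 : K) u]
  have hμ0 : μ ≠ 0 := by
    rintro rfl
    rw [zero_smul] at e2
    have h := congrArg (fun f : Module.End K U => f u) hB'B
    simp only [Module.End.mul_apply, Module.End.one_apply] at h
    rw [e2, map_zero] at h
    exact hu0 h.symm
  have e3 : A u = (2 : K) • u - μ⁻¹ • B u := by
    rw [e2, smul_smul, inv_mul_cancel₀ hμ0, one_smul]; abel
  -- the invariant plane
  set U₀ : Submodule K U := Submodule.span K {u, B u} with hU₀
  have hu_mem : u ∈ U₀ := Submodule.subset_span (by simp)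
  have hBu_mem : B u ∈ U₀ := Submodule.subset_span (by simp)
  have hAinv : ∀ w ∈ U₀, A w ∈ U₀ := by
    have : U₀.map A ≤ U₀ := by
      rw [hU₀, Submodule.map_span_le]
      intro m hm
      rcases hm with rfl | rfl
      · rw [e3]
        exact Submodule.sub_mem _ (Submodule.smul_mem _ _ hu_mem)
          (Submodule.smul_mem _ _ hBu_mem)
      · rw [hu]; exact Submodule.smul_mem _ _ hu_mem
    intro w hw
    exact this (Submodule.mem_map_of_mem hw)
  have hBinv : ∀ w ∈ U₀, B w ∈ U₀ := by
    have : U₀.map B ≤ U₀ := by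
      rw [hU₀, Submodule.map_span_le]
      intro m hm
      rcases hm with rfl | rfl
      · exact hBu_mem
      · rw [e1]
        exact Submodule.sub_mem _ (Submodule.smul_mem _ _ hBu_mem) hu_mem
    intro w hw
    exact this (Submodule.mem_map_of_mem hw)
  have hinvA : ρ a⁻¹ = 2 - A := by
    have h1 : ρ a⁻¹ * A = 1 := by rw [hAdef, ← map_mul, inv_mul_cancel, map_one]
    calc ρ a⁻¹ = ρ a⁻¹ * (A * (2 - A)) := by rw [hAA', mul_one]
      _ = (ρ a⁻¹ * A) * (2 - A) := by rw [mul_assoc]
      _ = 2 - A := by rw [h1, one_mul]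
  have hinvB : ρ b⁻¹ = 2 - B := by
    have h1 : ρ b⁻¹ * B = 1 := by rw [hBdef, ← map_mul, inv_mul_cancel, map_one]
    calc ρ b⁻¹ = ρ b⁻¹ * (B * (2 - B)) := by rw [hBB', mul_one]
      _ = (ρ b⁻¹ * B) * (2 - B) := by rw [mul_assoc]
      _ = 2 - B := by rw [h1, one_mul]
  subst hAdef
  subst hBdef
  have hall : ∀ g : Γ, (∀ w ∈ U₀, ρ g w ∈ U₀) ∧ (∀ w ∈ U₀, ρ g⁻¹ w ∈ U₀) := by
    intro g
    refine gen_induction a b hgen
      (P := fun g => (∀ w ∈ U₀, ρ g w ∈ U₀) ∧ (∀ w ∈ U₀, ρ g⁻¹ w ∈ U₀)) ?_ ?_ ?_ ?_ ?_ g
    · refine ⟨hAinv, fun w hw => ?_⟩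
      rw [hinvA, LinearMap.sub_apply, htwo]
      exact Submodule.sub_mem _ (Submodule.smul_mem _ _ hw) (hAinv w hw)
    · refine ⟨hBinv, fun w hw => ?_⟩
      rw [hinvB, LinearMap.sub_apply, htwo]
      exact Submodule.sub_mem _ (Submodule.smul_mem _ _ hw) (hBinv w hw)
    · simp
    · rintro x y ⟨hx1, hx2⟩ ⟨hy1, hy2⟩
      refine ⟨fun w hw => ?_, fun w hw => ?_⟩
      · rw [map_mul, Module.End.mul_apply]; exact hx1 _ (hy1 w hw)
      · rw [mul_inv_rev, map_mul, Module.End.mul_apply]; exact hy2 _ (hx2 w hw)
    · rintro x ⟨hx1, hx2⟩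
      exact ⟨hx2, by rw [inv_inv]; exact hx1⟩
  have hU₀top : U₀ = ⊤ := by
    rcases hirr U₀ (fun g w hw => (hall g).1 w hw) with h | h
    · exfalso
      rw [h, Submodule.mem_bot] at hu_mem
      exact hu0 hu_mem
    · exact h
  -- the case `ρ b u ∈ span {u}`
  by_cases hdep : ∃ c : K, c • u = ρ b u
  · exfalso
    obtain ⟨c, hc⟩ := hdep
    have hspan : Submodule.span K {u} = ⊤ := by
      rw [← hU₀top, hU₀]
      apply le_antisymm
      · exact Submodule.span_mono (by simp)
      · rw [Submodule.span_le]
        intro m hm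
        rcases hm with rfl | rfl
        · exact Submodule.subset_span rfl
        · rw [← hc]; exact Submodule.smul_mem _ _ (Submodule.subset_span rfl)
    -- `B = 1`
    have hc1 : c = 1 := by
      have h := e1
      rw [← hc, map_smul, ← hc, smul_smul, smul_smul] at h
      have h2 : (c * c - 2 * c + 1) • u = 0 := by
        rw [add_smul, sub_smul, one_smul, h]; abel
      have h3 : c * c - 2 * c + 1 = 0 := (smul_eq_zero.mp h2).resolve_right hu0
      have h4 : (c - 1) * (c - 1) = 0 := by rw [← h3]; ring
      have := mul_self_eq_zero.mp h4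
      exact sub_eq_zero.mp this
    have hBu : ρ b u = u := by rw [← hc, hc1, one_smul]
    have hAu : ρ a u = μ • u := by rw [hBu] at hu; exact hu
    have hμ1 : μ = 1 := by
      have h := e3
      rw [hBu, hAu] at h
      have h2 : (μ * μ - 2 * μ + 1) • u = 0 := by
        have h5 : μ • (μ • u) = μ • ((2 : K) • u - μ⁻¹ • u) := by rw [← h]
        rw [smul_sub, smul_smul, smul_smul, smul_smul, mul_inv_cancel₀ hμ0, one_smul] at h5
        have h6 : (μ * μ - 2 * μ + 1) • u = (μ * μ) • u - (μ * 2) • u + u := by module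
        rw [h6, h5]; abel
      have h3 : μ * μ - 2 * μ + 1 = 0 := (smul_eq_zero.mp h2).resolve_right hu0
      have h4 : (μ - 1) * (μ - 1) = 0 := by rw [← h3]; ring
      exact sub_eq_zero.mp (mul_self_eq_zero.mp h4)
    have hAu' : ρ a u = u := by rw [hAu, hμ1, one_smul]
    have hone : ∀ (f : Module.End K U), f u = u → f = 1 := by
      intro f hf
      apply LinearMap.ext
      intro w
      have hw : w ∈ Submodule.span K {u} := by rw [hspan]; trivial
      obtain ⟨t, rfl⟩ := Submodule.mem_span_singleton.mp hw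
      rw [map_smul, hf, Module.End.one_apply]
    have hA1 : ρ a = 1 := hone _ hAu'
    have hB1 : ρ b = 1 := hone _ hBu
    apply hnp
    intro g
    refine ⟨0, ?_⟩
    rw [pow_zero, pow_one]
    refine gen_induction a b hgen (P := fun g => ρ g = 1) hA1 hB1 (map_one ρ) ?_ ?_ g
    · intro x y hx hy; rw [map_mul, hx, hy, one_mul]
    · intro x hx
      have : ρ x⁻¹ * ρ x = 1 := by rw [← map_mul, inv_mul_cancel, map_one]
      rw [hx, mul_one] at this
      exact this
  · -- the basis `u, ρ b u`
    have hli : LinearIndependent K ![u, ρ b u] := by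
      rw [LinearIndependent.pair_iff]
      intro s t hst
      by_cases ht : t = 0
      · subst ht
        rw [zero_smul, add_zero] at hst
        exact ⟨(smul_eq_zero.mp hst).resolve_right hu0, rfl⟩
      · exfalso
        apply hdep
        refine ⟨-(t⁻¹ * s), ?_⟩
        have h1 : t • ρ b u = -(s • u) := by
          rw [eq_neg_iff_add_eq_zero, add_comm]; exact hst
        have h2 : ρ b u = t⁻¹ • (t • ρ b u) := by rw [smul_smul, inv_mul_cancel₀ ht, one_smul]
        rw [h2, h1, smul_neg, smul_smul, neg_smul]
    have hsp : ⊤ ≤ Submodule.span K (Set.range ![u, ρ b u]) := by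
      rw [← hU₀top, hU₀]
      apply Submodule.span_mono
      intro m hm
      rcases hm with rfl | rfl
      · exact ⟨0, rfl⟩
      · exact ⟨1, rfl⟩
    let bs : Module.Basis (Fin 2) K U := Module.Basis.mk hli hsp
    let ψ : Γ →* Matrix (Fin 2) (Fin 2) K :=
      ((LinearMap.toMatrixAlgEquiv bs : Module.End K U ≃ₐ[K] Matrix (Fin 2) (Fin 2) K) :
        Module.End K U →* Matrix (Fin 2) (Fin 2) K).comp ρ
    have hψ : ∀ g, ψ g = LinearMap.toMatrixAlgEquiv bs (ρ g) := fun g => rfl
    have hψinj : ∀ g, ψ g = 1 → ρ g = 1 := by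
      intro g hg
      rw [hψ] at hg
      have := (LinearMap.toMatrixAlgEquiv bs).injective (hg.trans (map_one _).symm)
      exact this
    -- determinants
    have hdetp : ∀ g : Γ, ρ g ^ p = 1 → (ψ g).det = 1 := by
      intro g hg
      have h1 : (ψ g).det ^ p = 1 := by
        rw [← Matrix.det_pow, ← map_pow, hψ, map_pow, hg, map_one, Matrix.det_one]
      have h2 : ((ψ g).det - 1) ^ p = 0 := by rw [sub_pow_char, h1, one_pow, sub_self]
      exact sub_eq_zero.mp (pow_eq_zero_iff (hp.out.ne_zero) |>.mp h2)
    have hdet : ∀ g : Γ, (ψ g).det = 1 := by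
      intro g
      refine gen_induction a b hgen (P := fun g => (ψ g).det = 1)
        (hdetp a (quad_pow_char hA)) (hdetp b (quad_pow_char hB)) ?_ ?_ ?_ g
      · rw [map_one, Matrix.det_one]
      · intro x y hx hy; rw [map_mul, Matrix.det_mul, hx, hy, one_mul]
      · intro x hx
        have : (ψ x⁻¹).det * (ψ x).det = 1 := by
          rw [← Matrix.det_mul, ← map_mul, inv_mul_cancel, map_one, Matrix.det_one]
        rw [hx, mul_one] at this
        exact this
    let φ : Γ →* Matrix.SpecialLinearGroup (Fin 2) K :=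
      { toFun := fun g => ⟨ψ g, hdet g⟩
        map_one' := by
          apply Subtype.ext
          exact map_one ψ
        map_mul' := fun x y => by
          apply Subtype.ext
          exact map_mul ψ x y }
    refine ⟨bs.equivFun, φ, ?_, ?_⟩
    · intro g w
      show bs.equivFun (ρ g w) = (ψ g) *ᵥ bs.equivFun w
      rw [hψ]
      have h1 := LinearMap.toMatrix_mulVec_repr bs bs (ρ g) w
      simp only [Module.Basis.equivFun_apply]
      exact h1.symm
    intro hPG
    apply hnp
    intro g
    obtain ⟨j, hj⟩ := hPG ⟨φ g, g, rfl⟩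
    refine ⟨j, ?_⟩
    have h1 : φ (g ^ (p ^ j)) = 1 := by
      have := congrArg Subtype.val hj
      rw [map_pow]
      simpa using this
    have h2 : ψ (g ^ (p ^ j)) = 1 := by
      have := congrArg Subtype.val h1
      exact this
    rw [← map_pow]
    exact hψinj _ h2

include hgen in
/-- **Main reduction, with the section.** -/
theorem exists_sl2_sub (e k : ℕ) (hk : k ∣ Fintype.card K - 1) (hk0 : 0 < k)
    (hab : (a * b) ^ (p ^ e * k) = 1) :
    ∀ (n : ℕ) (U : Type u) [AddCommGroup U] [Module K U] [FiniteDimensional K U]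
      (ρ : Representation K Γ U), Module.finrank K U = n →
      (ρ a - 1) * (ρ a - 1) = 0 → (ρ b - 1) * (ρ b - 1) = 0 → ¬ PG p ρ →
      ∃ (U₁ : Submodule K U) (ψ : U →ₗ[K] (Fin 2 → K))
        (φ : Γ →* Matrix.SpecialLinearGroup (Fin 2) K),
        (∀ g, U₁ ≤ U₁.comap (ρ g)) ∧ U₁.map ψ = ⊤ ∧
        (∀ g, ∀ u ∈ U₁, ψ (ρ g u) = (φ g : Matrix (Fin 2) (Fin 2) K) *ᵥ ψ u) ∧
        ¬ IsPGroup p φ.range := by
  intro n
  induction n using Nat.strong_induction_on with
  | _ n ih =>
    intro U _ _ _ ρ hn hA hB hnp
    by_cases hred : ∃ U' : Submodule K U, (∀ g, U' ≤ U'.comap (ρ g)) ∧ U' ≠ ⊥ ∧ U' ≠ ⊤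
    · obtain ⟨U', hinv, hbot, htop⟩ := hred
      have hlt1 : Module.finrank K U' < n := hn ▸ Submodule.finrank_lt htop
      have hlt2 : Module.finrank K (U ⧸ U') < n := by
        have h1 := Submodule.finrank_quotient_add_finrank U'
        have h2 : 0 < Module.finrank K U' := by
          rw [Module.finrank_pos_iff]
          exact (Submodule.nontrivial_iff_ne_bot).mpr hbot
        omega
      let ρ₁ := ρ.subrepresentation U' hinv
      let ρ₂ := ρ.quotient U' hinv
      have hρ₁ : ∀ g (w : U'), ((ρ₁ g w : U') : U) = ρ g (w : U) := fun g w => rfl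
      have hρ₂ : ∀ g (w : U), ρ₂ g (U'.mkQ w) = U'.mkQ (ρ g w) := fun g w => rfl
      by_cases h1 : PG p ρ₁
      · by_cases h2 : PG p ρ₂
        · exfalso
          apply hnp
          intro g
          obtain ⟨j₁, hj₁⟩ := h1 g
          obtain ⟨j₂, hj₂⟩ := h2 g
          refine ⟨j₁ + j₂ + 1, ?_⟩
          set g' := g ^ (p ^ (j₁ + j₂)) with hg'
          have hg1 : ρ₁ g' = 1 := by
            rw [hg', pow_add, pow_mul, map_pow, map_pow, hj₁, one_pow]
          have hg2 : ρ₂ g' = 1 := by
            rw [hg', pow_add, mul_comm, pow_mul, map_pow, map_pow, hj₂, one_pow]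
          have hq : (ρ g' - 1) * (ρ g' - 1) = 0 := by
            apply LinearMap.ext
            intro w
            have hw1 : ρ g' w - w ∈ U' := by
              have := congrArg (fun f : Module.End K (U ⧸ U') => f (Submodule.Quotient.mk w)) hg2
              simp only [ρ₂, Representation.quotient_apply, Submodule.mapQ_apply,
                Module.End.one_apply] at this
              exact (Submodule.Quotient.eq U').mp this
            have hw2 : ρ g' (ρ g' w - w) = ρ g' w - w := by
              have := congrArg (fun f : Module.End K U' => (f ⟨ρ g' w - w, hw1⟩ : U)) hg1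
              simpa [ρ₁] using this
            rw [Module.End.mul_apply, LinearMap.sub_apply, LinearMap.sub_apply,
              Module.End.one_apply, Module.End.one_apply, LinearMap.zero_apply, hw2, sub_self]
          have := quad_pow_char (p := p) hq
          rw [← map_pow, hg', ← pow_mul, ← pow_succ] at this
          rw [← map_pow]
          exact this
        · obtain ⟨W₁, ψ'', φ, hW₁inv, hW₁top, hequiv, hφ⟩ :=
            ih _ hlt2 (U ⧸ U') ρ₂ rfl (by
              apply LinearMap.ext
              intro w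
              induction w using Submodule.Quotient.induction_on with
              | _ w =>
                have := congrArg
                  (fun f : Module.End K U => Submodule.Quotient.mk (p := U') (f w)) hA
                simpa [ρ₂, Module.End.mul_apply] using this) (by
              apply LinearMap.ext
              intro w
              induction w using Submodule.Quotient.induction_on with
              | _ w =>
                have := congrArg
                  (fun f : Module.End K U => Submodule.Quotient.mk (p := U') (f w)) hB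
                simpa [ρ₂, Module.End.mul_apply] using this) h2
          refine ⟨W₁.comap U'.mkQ, ψ'' ∘ₗ U'.mkQ, φ, ?_, ?_, ?_, hφ⟩
          · intro g w hw
            rw [Submodule.mem_comap] at hw
            rw [Submodule.mem_comap, Submodule.mem_comap, ← hρ₂]
            exact hW₁inv g hw
          · rw [Submodule.map_comp, Submodule.map_comap_eq_of_surjective (Submodule.mkQ_surjective U'),
              hW₁top]
          · intro g w hw
            rw [LinearMap.comp_apply, ← hρ₂, hequiv g _ hw, LinearMap.comp_apply]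
      · obtain ⟨W₁, ψ', φ, hW₁inv, hW₁top, hequiv, hφ⟩ :=
          ih _ hlt1 U' ρ₁ rfl (by
            apply LinearMap.ext
            intro w
            apply Subtype.ext
            have := congrArg (fun f : Module.End K U => f (w : U)) hA
            simpa [ρ₁, Module.End.mul_apply] using this) (by
            apply LinearMap.ext
            intro w
            apply Subtype.ext
            have := congrArg (fun f : Module.End K U => f (w : U)) hB
            simpa [ρ₁, Module.End.mul_apply] using this) h1
        obtain ⟨ψ, hψ⟩ := LinearMap.exists_extend ψ'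
        have hψ' : ∀ w : U', ψ (w : U) = ψ' w := fun w => by
          rw [← hψ]; rfl
        refine ⟨W₁.map U'.subtype, ψ, φ, ?_, ?_, ?_, hφ⟩
        · rintro g _ ⟨w, hw, rfl⟩
          rw [Submodule.mem_comap]
          refine ⟨ρ₁ g w, hW₁inv g hw, ?_⟩
          exact hρ₁ g w
        · rw [← Submodule.map_comp, hψ, hW₁top]
        · rintro g _ ⟨w, hw, rfl⟩
          rw [Submodule.subtype_apply, ← hρ₁, hψ', hψ', hequiv g w hw]
    · push Not at hred
      obtain ⟨χ, φ, hχ, hφ⟩ := irreducible_case_sub a b hgen ρ hA hB hnp e k hk hk0 hab (by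
        intro U₁ hinv
        by_cases hb : U₁ = ⊥
        · exact Or.inl hb
        · exact Or.inr (hred U₁ hinv hb))
      refine ⟨⊤, χ.toLinearMap, φ, fun g => le_top, ?_, fun g u _ => hχ g u, hφ⟩
      rw [Submodule.map_top, LinearMap.range_eq_top]
      exact χ.surjective

end Main

end Cfsg.H5.QP
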