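import Mathlib
import Cfsg.Prelude.Def_Local
import Cfsg.Agent.H5.Cores
import Cfsg.Agent.H5.Card
import Cfsg.Agent.H5.PSolvable

/-!
# More on `p`-solvable groups

* `centralizer_pPrimeCore_le_of_isPSolvable`: the dual Hall–Higman lemma, `O_p(G) = 1` gives
  `C_G(O_{p'}(G)) ≤ O_{p'}(G)`.
* `isPSolvable_subgroup`: subgroups of `p`-solvable groups are `p`-solvable.
-/

set_option autoImplicit false

namespace Cfsg.H5

open Subgroup

variable {G : Type*} [Group G]

/-- A normal subgroup `D` centralizing `O_{p'}(G)` with `|D : D ∩ O_{p'}(G)|` a power of `p` lies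
in `O_{p'}(G)`, if `O_p(G) = 1`. -/
theorem le_pPrimeCore_of_le_centralizer_of_pow [Finite G] {p : ℕ} [Fact p.Prime]
    (hO : Cfsg.pCore p G = ⊥) (D : Subgroup G) (hDn : D.Normal)
    (hDC : D ≤ centralizer (Cfsg.pPrimeCore p G : Set G))
    (hpow : ∃ k : ℕ, (Cfsg.pPrimeCore p G).relIndex D = p ^ k) : D ≤ Cfsg.pPrimeCore p G := by
  have hQn : (Cfsg.pPrimeCore p G).Normal := pPrimeCore_normal p G
  set N : Subgroup ↥D := (Cfsg.pPrimeCore p G).subgroupOf D with hN
  have hNn : N.Normal := inferInstance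
  have hNcard : (Nat.card N).Coprime p := by
    have h1 : Nat.card N ∣ Nat.card (Cfsg.pPrimeCore p G) := by
      have : Nat.card N = Nat.card ↥(Cfsg.pPrimeCore p G ⊓ D) := by
        rw [hN, ← Subgroup.card_map_of_injective D.subtype_injective, Subgroup.subgroupOf_map_subtype]
      rw [this]
      exact Subgroup.card_dvd_of_le inf_le_left
    exact Nat.Coprime.coprime_dvd_left h1 (coprime_card_pPrimeCore p G)
  have hNc : ∀ n ∈ N, ∀ d : ↥D, d * n = n * d := by
    intro n hn d
    apply Subtype.ext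
    have := Subgroup.mem_centralizer_iff.mp (hDC d.2) (n : G) hn
    simpa using this.symm
  obtain ⟨k, hk⟩ := hpow
  have hidx : N.index = p ^ k := hk
  have hcop' : (Nat.card N).Coprime N.index := by
    rw [hidx]
    exact Nat.Coprime.pow_right k hNcard
  obtain ⟨K, hK⟩ := Subgroup.exists_right_complement'_of_coprime hcop'
  have hKcard : Nat.card K = p ^ k := by
    rw [← hK.symm.index_eq_card]
    exact hidx
  have hKp : IsPGroup p K := IsPGroup.of_card hKcard
  have hKn : K.Normal := by
    constructor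
    intro x hx d
    have hd : d ∈ ((N ⊔ K : Subgroup ↥D) : Set ↥D) := by
      rw [hK.sup_eq_top]; trivial
    rw [Subgroup.normal_mul] at hd
    obtain ⟨n, hn, k', hk', rfl⟩ := hd
    have e : n * k' * x * (n * k')⁻¹ = k' * x * k'⁻¹ := by
      have h1 := hNc n hn (k' * x * k'⁻¹)
      calc n * k' * x * (n * k')⁻¹ = n * (k' * x * k'⁻¹) * n⁻¹ := by group
        _ = (k' * x * k'⁻¹) * n * n⁻¹ := by rw [h1]
        _ = k' * x * k'⁻¹ := by group
    rw [e]
    exact mul_mem (mul_mem hk' hx) (inv_mem hk')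
  have hKle : K ≤ Cfsg.pCore p ↥D := le_pCore hKn hKp
  have hOD : Cfsg.pCore p ↥D = ⊥ := by
    have hchar := pCore_characteristic p ↥D
    have hnorm : ((Cfsg.pCore p ↥D).map D.subtype).Normal :=
      ConjAct.normal_of_characteristic_of_normal
    have hc2 : IsPGroup p ((Cfsg.pCore p ↥D).map D.subtype) := (pCore_isPGroup p ↥D).map _
    have hle := le_pCore hnorm hc2
    rw [hO, le_bot_iff] at hle
    exact (Subgroup.map_eq_bot_iff_of_injective _ D.subtype_injective).mp hle
  have hKbot : K = ⊥ := by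
    rw [eq_bot_iff, ← hOD]; exact hKle
  rw [hKbot, Subgroup.isComplement'_bot_right] at hK
  exact Subgroup.subgroupOf_eq_top.mp hK

/-- Dual Hall–Higman Lemma 1.2.3: in a finite `p`-solvable group with `O_p(G) = 1`, the subgroup
`O_{p'}(G)` contains its centralizer. -/
theorem centralizer_pPrimeCore_le_of_isPSolvable [Finite G] {p : ℕ} [hp : Fact p.Prime]
    (hsol : Cfsg.IsPSolvable p G) (hO : Cfsg.pCore p G = ⊥) :
    centralizer (Cfsg.pPrimeCore p G : Set G) ≤ Cfsg.pPrimeCore p G := by
  have hQn : (Cfsg.pPrimeCore p G).Normal := pPrimeCore_normal p G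
  have hQp : (Nat.card (Cfsg.pPrimeCore p G)).Coprime p := coprime_card_pPrimeCore p G
  have hCn : (centralizer (Cfsg.pPrimeCore p G : Set G)).Normal := inferInstance
  by_contra hnot
  set π := QuotientGroup.mk' (Cfsg.pPrimeCore p G) with hπ
  have hπs : Function.Surjective π := QuotientGroup.mk'_surjective _
  have hM0n : ((centralizer (Cfsg.pPrimeCore p G : Set G)).map π).Normal :=
    Subgroup.Normal.map hCn _ hπs
  have hM0 : (centralizer (Cfsg.pPrimeCore p G : Set G)).map π ≠ ⊥ := by
    intro h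
    apply hnot
    have := (Subgroup.map_eq_bot_iff _).mp h
    rwa [hπ, QuotientGroup.ker_mk'] at this
  obtain ⟨Lb, hLle, hLn, hL1, hL⟩ :=
    exists_normal_p_or_pPrime_le (isPSolvable_quotient (Cfsg.pPrimeCore p G) hsol) _ hM0n hM0
  have hLcn : (Lb.comap π).Normal := inferInstance
  have hLmap : (Lb.comap π).map π = Lb := Subgroup.map_comap_eq_self_of_surjective hπs Lb
  have hQle : Cfsg.pPrimeCore p G ≤ Lb.comap π := by
    intro x hx
    rw [Subgroup.mem_comap, hπ, QuotientGroup.mk'_apply, (QuotientGroup.eq_one_iff x).2 hx]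
    exact Subgroup.one_mem _
  apply hL1
  rcases hL with hLp | hLc
  · set D := Lb.comap π ⊓ centralizer (Cfsg.pPrimeCore p G : Set G) with hD
    have hDn : D.Normal := inferInstance
    have hDle : D ≤ Cfsg.pPrimeCore p G := by
      apply le_pPrimeCore_of_le_centralizer_of_pow hO D hDn inf_le_right
      rw [← card_map_mk']
      have : D.map π ≤ Lb := by
        rw [← hLmap]
        exact Subgroup.map_mono inf_le_left
      obtain ⟨m, hm⟩ := IsPGroup.iff_card.1 hLp
      have h1 : Nat.card (D.map π) ∣ p ^ m := hm ▸ Subgroup.card_dvd_of_le this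
      obtain ⟨m', -, hm'⟩ := (Nat.dvd_prime_pow hp.out).mp h1
      exact ⟨m', hm'⟩
    rw [eq_bot_iff]
    intro l hl
    obtain ⟨c, hc, rfl⟩ := hLle hl
    have hcD : c ∈ D := ⟨hl, hc⟩
    have := hDle hcD
    rw [Subgroup.mem_bot, hπ, QuotientGroup.mk'_apply, QuotientGroup.eq_one_iff]
    exact this
  · have h1 : (Nat.card (Lb.comap π)).Coprime p := by
      rw [← card_mul_relIndex_of_le hQle, ← card_map_mk', hLmap]
      exact Nat.Coprime.mul_left hQp hLc
    have h2 : Lb.comap π ≤ Cfsg.pPrimeCore p G := le_pPrimeCore hLcn h1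
    rw [← hLmap, eq_bot_iff]
    refine (Subgroup.map_mono h2).trans ?_
    rw [hπ, QuotientGroup.map_mk'_self]

/-- `p`-solvability passes to subgroups. -/
theorem isPSolvable_subgroup [Finite G] {p : ℕ} [hp : Fact p.Prime] (h : Cfsg.IsPSolvable p G)
    (Δ : Subgroup G) : Cfsg.IsPSolvable p ↥Δ := by
  obtain ⟨n, H, h0, hlast, hmono, hnorm, hfac⟩ := h
  refine ⟨n, fun i => (H i).subgroupOf Δ, ?_, ?_, ?_, ?_, ?_⟩
  · simp only [h0, Subgroup.bot_subgroupOf]
  · simp only [hlast, Subgroup.top_subgroupOf]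
  · intro i j hij
    exact Subgroup.comap_mono (hmono hij)
  · intro i
    have := hnorm i
    infer_instance
  · intro i
    have hn1 := hnorm i.castSucc
    have hdvd : ((H i.castSucc).subgroupOf Δ).relIndex ((H i.succ).subgroupOf Δ) ∣
        (H i.castSucc).relIndex (H i.succ) := by
      have e1 : ((H i.castSucc).subgroupOf Δ).relIndex ((H i.succ).subgroupOf Δ) =
          (H i.castSucc).relIndex (H i.succ ⊓ Δ) := by
        rw [← Subgroup.inf_subgroupOf_right (H i.succ) Δ,
          Subgroup.relIndex_subgroupOf inf_le_right]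
      rw [e1, ← card_map_mk', ← card_map_mk']
      exact Subgroup.card_dvd_of_le (Subgroup.map_mono inf_le_left)
    rcases hfac i with ⟨m, hm⟩ | hc
    · left
      rw [hm] at hdvd
      obtain ⟨m', -, hm'⟩ := (Nat.dvd_prime_pow hp.out).mp hdvd
      exact ⟨m', hm'⟩
    · right
      exact Nat.Coprime.coprime_dvd_left hdvd hc

end Cfsg.H5
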