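import Mathlib
import Cfsg.Agent.S0593
import Cfsg.Agent.S0595
import Cfsg.Agent.Lib.Helper1.BaerSuzuki
import Cfsg.Agent.H5.Linearize

/-!
# `p`-stability from abelian Sylow `2`-subgroups, abstract form

`aut_pstable`: a finite group `Γ` with abelian Sylow `2`-subgroups acting on a finite elementary
abelian `p`-group `A` (`p` odd): quadratically acting elements map into `O_p(Γ / C_Γ(A))`.
-/

set_option autoImplicit false
set_option linter.style.haveILetI false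

namespace Cfsg.H5.SL2S

open Cfsg

theorem closure_pair_top {Γ : Type*} [Group Γ] (x y : Γ) (Δ : Subgroup Γ)
    (hΔ : Δ = Subgroup.closure {x, y}) (hx : x ∈ Δ) (hy : y ∈ Δ) :
    Subgroup.closure ({⟨x, hx⟩, ⟨y, hy⟩} : Set Δ) = ⊤ := by
  subst hΔ
  have h := Subgroup.closure_closure_coe_preimage (k := ({x, y} : Set Γ))
  rw [← h]
  congr 1
  ext z
  simp only [Set.mem_insert_iff, Set.mem_singleton_iff, Set.mem_preimage, Subtype.ext_iff]

/-- S0593 at the level of a faithful representation over `ZMod p` -/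
theorem core2 {Γ : Type*} [Group Γ] [Finite Γ] {p : ℕ} [Fact p.Prime] (hp : p ≠ 2)
    (a b : Γ) (hgen : Subgroup.closure ({a, b} : Set Γ) = ⊤) (n : ℕ)
    (ρ₀ : Representation (ZMod p) Γ (Fin n → ZMod p)) (hfaith : ∀ h, ρ₀ h = 1 → h = 1)
    (hA₀ : (ρ₀ a - 1) * (ρ₀ a - 1) = 0) (hB₀ : (ρ₀ b - 1) * (ρ₀ b - 1) = 0)
    (hnp : ¬ IsPGroup p Γ) (T : Sylow 2 Γ) : ¬ IsMulCommutative T := by
  have hpp : p.Prime := Fact.out
  obtain ⟨e, k, hkp, hek⟩ := Nat.exists_eq_pow_mul_and_not_dvd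
    (orderOf_pos (a * b)).ne' p hpp.ne_one
  have hk0 : 0 < k := by
    rcases Nat.eq_zero_or_pos k with h | h
    · exfalso; exact hkp (h ▸ dvd_zero p)
    · exact h
  have hkc : k.Coprime p := ((Nat.Prime.coprime_iff_not_dvd hpp).2 hkp).symm
  obtain ⟨d, hd0, hkd⟩ := Cfsg.Agent.S0593.exists_dvd_pow_sub_one hpp.pos hkc hk0
  have hab' : (a * b) ^ (p ^ e * k) = 1 := by
    rw [← hek]
    exact pow_orderOf_eq_one _
  exact Cfsg.Agent.S0593.core hp (GaloisField p d) a b hgen n ρ₀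
    hfaith hA₀ hB₀ hnp e k hk0 hab' (by rw [GaloisField.card p d hd0]; exact hkd) T

/-- a quadratically acting element of a faithful representation over `ZMod p` lies in `O_p` if the
Sylow `2`-subgroups are abelian -/
theorem mem_pCore_of_quadratic {Γ : Type*} [Group Γ] [Finite Γ] {p : ℕ} [Fact p.Prime]
    (hp : p ≠ 2) (n : ℕ) (ρ : Representation (ZMod p) Γ (Fin n → ZMod p))
    (hfaith : ∀ g, ρ g = 1 → g = 1) (a : Γ) (hA : (ρ a - 1) * (ρ a - 1) = 0)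
    (T : Sylow 2 Γ) (hT : IsMulCommutative T) : a ∈ Cfsg.pCore p Γ := by
  by_contra hna
  have hBS : ∃ x y : Γ, (∃ h : Γ, x = h * a * h⁻¹) ∧ (∃ h : Γ, y = h * a * h⁻¹) ∧
      ¬ IsPGroup p (Subgroup.closure ({x, y} : Set Γ)) := by
    by_contra hcon
    push Not at hcon
    apply hna
    refine Cfsg.Agent.Lib.Helper1.baer_suzuki (p := p)
      {x : Γ | ∃ h : Γ, x = h * a * h⁻¹} ?_ ?_ _ ⟨1, by simp⟩
    · rintro g x ⟨h, rfl⟩
      exact ⟨g * h, by group⟩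
    · intro x hx y hy
      exact hcon x y hx hy
  obtain ⟨x, y, ⟨h₁, hx⟩, ⟨h₂, hy⟩, hnp⟩ := hBS
  obtain ⟨Δ, hΔ⟩ : ∃ Δ : Subgroup Γ, Δ = Subgroup.closure {x, y} := ⟨_, rfl⟩
  have hxΔ : x ∈ Δ := by rw [hΔ]; exact Subgroup.subset_closure (by simp)
  have hyΔ : y ∈ Δ := by rw [hΔ]; exact Subgroup.subset_closure (by simp)
  rw [← hΔ] at hnp
  have hquad : ∀ h : Γ, (ρ (h * a * h⁻¹) - 1) * (ρ (h * a * h⁻¹) - 1) = 0 := by
    intro h
    have h1 : ρ (h * a * h⁻¹) - 1 = ρ h * (ρ a - 1) * ρ h⁻¹ := by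
      rw [map_mul, map_mul, mul_sub, sub_mul, mul_one, ← map_mul ρ h h⁻¹, mul_inv_cancel, map_one]
    have h2 : ρ h⁻¹ * ρ h = 1 := by rw [← map_mul, inv_mul_cancel, map_one]
    rw [h1]
    calc ρ h * (ρ a - 1) * ρ h⁻¹ * (ρ h * (ρ a - 1) * ρ h⁻¹)
        = ρ h * (ρ a - 1) * (ρ h⁻¹ * ρ h) * (ρ a - 1) * ρ h⁻¹ := by noncomm_ring
      _ = ρ h * ((ρ a - 1) * (ρ a - 1)) * ρ h⁻¹ := by rw [h2]; noncomm_ring
      _ = 0 := by rw [hA, mul_zero, zero_mul]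
  let ρΔ : Representation (ZMod p) Δ (Fin n → ZMod p) := ρ.comp Δ.subtype
  have hρΔ : ∀ g : Δ, ρΔ g = ρ (g : Γ) := fun g => rfl
  obtain ⟨T'⟩ : Nonempty (Sylow 2 Δ) := inferInstance
  refine core2 hp (⟨x, hxΔ⟩ : Δ) ⟨y, hyΔ⟩ (closure_pair_top x y Δ hΔ hxΔ hyΔ) n ρΔ ?_ ?_ ?_
    hnp T' ?_
  · intro g hg
    exact Subtype.ext (hfaith _ (by rw [← hρΔ]; exact hg))
  · rw [hρΔ]
    simp only
    rw [hx]
    exact hquad h₁
  · rw [hρΔ]
    simp only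
    rw [hy]
    exact hquad h₂
  · have hP : IsPGroup 2 ((T' : Subgroup Δ).map Δ.subtype) := T'.2.map _
    have hcomm := Cfsg.Agent.S0595.comm_of_two_subgroup T hT _ hP
    refine ⟨⟨fun u v => ?_⟩⟩
    have h1 := hcomm _ ⟨u, u.2, rfl⟩ _ ⟨v, v.2, rfl⟩
    rw [← map_mul, ← map_mul] at h1
    have h2 := Subgroup.subtype_injective Δ h1
    exact Subtype.ext h2

/-- **`p`-stability of an action on an elementary abelian group.** -/
theorem aut_pstable {Γ : Type*} [Group Γ] [Finite Γ] {p : ℕ} [Fact p.Prime] (hp : p ≠ 2)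
    {A : Type*} [Group A] [Finite A] (hcomm : ∀ x y : A, x * y = y * x)
    (hexp : ∀ x : A, x ^ p = 1) (σ : Γ →* MulAut A) (a : Γ)
    (hq : ∀ w : A, σ a (σ a w * w⁻¹) = σ a w * w⁻¹)
    (T : Sylow 2 Γ) (hT : IsMulCommutative T) (C : Subgroup Γ) [hCn : C.Normal]
    (hC : C = σ.ker) :
    (QuotientGroup.mk a : Γ ⧸ C) ∈ Cfsg.pCore p (Γ ⧸ C) := by
  subst hC
  have hinj := QuotientGroup.kerLift_injective σ
  obtain ⟨n, θ, ρ, hρ⟩ := Cfsg.H5.Lin.exists_rep_of_comm hcomm hexp (QuotientGroup.kerLift σ)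
  have hfaith : ∀ g, ρ g = 1 → g = 1 := by
    intro g hg
    have h1 := (Cfsg.H5.Lin.rep_eq_one_iff_aux θ ρ _ hρ g).1 hg
    apply hinj
    rw [h1, map_one]
  have hA : (ρ (QuotientGroup.mk a) - 1) * (ρ (QuotientGroup.mk a) - 1) = 0 := by
    apply Cfsg.H5.Lin.rep_quadratic_aux θ ρ _ hρ
    intro w
    rw [QuotientGroup.kerLift_mk]
    exact hq w
  have hsurj : Function.Surjective (QuotientGroup.mk' σ.ker) := QuotientGroup.mk'_surjective _
  refine mem_pCore_of_quadratic hp n ρ hfaith _ hA (T.mapSurjective hsurj) ?_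
  have key : ∀ x ∈ ((T.mapSurjective hsurj : Sylow 2 (Γ ⧸ σ.ker)) : Subgroup (Γ ⧸ σ.ker)),
      ∀ y ∈ ((T.mapSurjective hsurj : Sylow 2 (Γ ⧸ σ.ker)) : Subgroup (Γ ⧸ σ.ker)),
      x * y = y * x := by
    intro x hx y hy
    rw [Sylow.coe_mapSurjective] at hx hy
    obtain ⟨x', hx', rfl⟩ := hx
    obtain ⟨y', hy', rfl⟩ := hy
    rw [← map_mul, ← map_mul]
    have := congrArg Subtype.val (hT.is_comm.comm (⟨x', hx'⟩ : T) ⟨y', hy'⟩)
    rw [Subgroup.coe_mul, Subgroup.coe_mul] at this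
    exact congrArg _ this
  exact ⟨⟨fun u v => Subtype.ext (key u u.2 v v.2)⟩⟩

end Cfsg.H5.SL2S
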