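import Mathlib
import Cfsg.Agent.H5.SL2Three
import Cfsg.Agent.H5.SL2Stable
import Cfsg.Agent.H5.PSolvable2
import Cfsg.Agent.H5.ActionPStable

/-!
# `p`-solvable groups and quadratic action: `p = 3`

`p_eq_three_of_range`: a `p`-solvable group generated by `p`-elements with a non-`p`-group image in
`SL(2, K)` exists only for `p = 3`.
`autStable_of_isPSolvable`: `p`-solvable groups are `AutStable` for `p ≥ 5`.
-/

set_option autoImplicit false
set_option linter.style.haveILetI false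

namespace Cfsg.H5.SL2P

open Cfsg Matrix

section Range

variable {K : Type*} [Field K] [Finite K] {p : ℕ} [hp : Fact p.Prime] [CharP K p]

/-- a `p`-solvable group generated by `p`-elements whose image in `SL(2, K)` is not a `p`-group
exists only for `p = 3` -/
theorem p_eq_three_of_range (hp2 : p ≠ 2) {Γ : Type*} [Group Γ] [Finite Γ]
    (hsol : Cfsg.IsPSolvable p Γ) (φ : Γ →* SpecialLinearGroup (Fin 2) K) (S : Set Γ)
    (hS : Subgroup.closure S = ⊤) (hSp : ∀ g ∈ S, ∃ i : ℕ, g ^ (p ^ i) = 1)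
    (hnp : ¬ IsPGroup p φ.range) : p = 3 := by
  have hpp : p.Prime := hp.out
  obtain ⟨L, hL⟩ : ∃ L : Subgroup (SpecialLinearGroup (Fin 2) K), L = φ.range := ⟨_, rfl⟩
  have hLcl : L = Subgroup.closure (φ '' S) := by
    rw [hL, ← MonoidHom.map_closure, hS, MonoidHom.range_eq_map]
  have hS'p : ∀ g ∈ φ '' S, ∃ i : ℕ, g ^ (p ^ i) = 1 := by
    rintro _ ⟨g, hg, rfl⟩
    obtain ⟨i, hi⟩ := hSp g hg
    exact ⟨i, by rw [← map_pow, hi, map_one]⟩
  have hS'L : ∀ g ∈ φ '' S, g ∈ L := by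
    intro g hg
    rw [hLcl]
    exact Subgroup.subset_closure hg
  rw [← hL] at hnp
  have hLsol : Cfsg.IsPSolvable p L := by
    rw [hL]
    exact Cfsg.H5.isPSolvable_of_surjective φ.rangeRestrict φ.rangeRestrict_surjective hsol
  -- `O_p(L) = 1`
  have hOp : Cfsg.pCore p L = ⊥ := by
    by_contra hne
    obtain ⟨U, hUdef⟩ : ∃ U : Subgroup (SpecialLinearGroup (Fin 2) K),
        U = (Cfsg.pCore p L).map L.subtype := ⟨_, rfl⟩
    have hUne : U ≠ ⊥ := by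
      intro h
      rw [hUdef] at h
      exact hne ((Subgroup.map_eq_bot_iff_of_injective _ L.subtype_injective).1 h)
    have hUp : IsPGroup p U := by
      rw [hUdef]
      exact (Cfsg.H5.pCore_isPGroup p L).map _
    have hnorm : (Cfsg.pCore p L).Normal := Cfsg.H5.pCore_normal p L
    have hSU : ∀ g ∈ φ '' S, ∀ u ∈ U, g * u * g⁻¹ ∈ U := by
      intro g hg u hu
      rw [hUdef] at hu ⊢
      obtain ⟨u', hu', rfl⟩ := hu
      have h1 : (⟨g, hS'L g hg⟩ : L) * u' * (⟨g, hS'L g hg⟩ : L)⁻¹ ∈ Cfsg.pCore p L :=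
        hnorm.conj_mem u' hu' _
      have h2 := Subgroup.mem_map_of_mem L.subtype h1
      rw [map_mul, map_mul, map_inv] at h2
      exact h2
    have := Cfsg.H5.SL2.isPGroup_closure_of_normal_pgroup hp2 (φ '' S) hS'p U hUp hUne hSU
    rw [← hLcl] at this
    exact hnp this
  have hcen := Cfsg.H5.centralizer_pPrimeCore_le_of_isPSolvable hLsol hOp
  have hRn : (Cfsg.pPrimeCore p L).Normal := Cfsg.H5.pPrimeCore_normal p L
  have hRc : (Nat.card (Cfsg.pPrimeCore p L)).Coprime p := Cfsg.H5.coprime_card_pPrimeCore p L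
  obtain ⟨R, hR⟩ : ∃ R : Subgroup (SpecialLinearGroup (Fin 2) K),
      R = (Cfsg.pPrimeCore p L).map L.subtype := ⟨_, rfl⟩
  have hRcard : (Nat.card R).Coprime p := by
    rw [hR, Subgroup.card_map_of_injective L.subtype_injective]
    exact hRc
  have hRnorm : ∀ g ∈ L, g ∈ Subgroup.normalizer (R : Set (SpecialLinearGroup (Fin 2) K)) := by
    have : L ≤ Subgroup.normalizer (R : Set (SpecialLinearGroup (Fin 2) K)) := by
      apply Cfsg.Agent.Lib.Helper1.le_normalizer_of_forall_conj_mem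
      intro g hg x hx
      rw [hR] at hx ⊢
      obtain ⟨u, hu, rfl⟩ := hx
      have h1 : (⟨g, hg⟩ : L) * u * (⟨g, hg⟩ : L)⁻¹ ∈ Cfsg.pPrimeCore p L :=
        hRn.conj_mem u hu _
      have h2 := Subgroup.mem_map_of_mem L.subtype h1
      rw [map_mul, map_mul, map_inv] at h2
      exact h2
    exact fun g hg => this hg
  -- some generator acts nontrivially on `R`
  have hex : ∃ g ∈ φ '' S, ∃ x ∈ R, g * x ≠ x * g := by
    by_contra hcon
    push Not at hcon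
    apply hnp
    have hall : ∀ g ∈ φ '' S, g = 1 := by
      intro g hg
      have hgL := hS'L g hg
      have hgc : (⟨g, hgL⟩ : L) ∈ Subgroup.centralizer (Cfsg.pPrimeCore p L : Set L) := by
        rw [Subgroup.mem_centralizer_iff]
        intro x hx
        apply Subtype.ext
        have := hcon g hg x (by rw [hR]; exact ⟨x, hx, rfl⟩)
        exact this.symm
      have hgR := hcen hgc
      obtain ⟨i, hi⟩ := hS'p g hg
      have h1 : (⟨g, hgL⟩ : L) ^ (p ^ i) = 1 := Subtype.ext (by rw [Subgroup.coe_pow]; exact hi)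
      have h2 : (⟨⟨g, hgL⟩, hgR⟩ : Cfsg.pPrimeCore p L) ^ Nat.card (Cfsg.pPrimeCore p L) = 1 :=
        pow_card_eq_one'
      have h3 : (⟨g, hgL⟩ : L) ^ Nat.card (Cfsg.pPrimeCore p L) = 1 := by
        have := congrArg Subtype.val h2
        rw [Subgroup.coe_pow] at this
        exact this
      have h4 : orderOf (⟨g, hgL⟩ : L) ∣ Nat.gcd (Nat.card (Cfsg.pPrimeCore p L)) (p ^ i) :=
        Nat.dvd_gcd (orderOf_dvd_of_pow_eq_one h3) (orderOf_dvd_of_pow_eq_one h1)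
      rw [Nat.Coprime.pow_right i hRc, Nat.dvd_one] at h4
      have := orderOf_eq_one_iff.1 h4
      exact congrArg Subtype.val this
    have hLbot : L = ⊥ := by
      rw [hLcl, Subgroup.closure_eq_bot_iff]
      intro g hg
      exact hall g hg
    rw [hLbot]
    exact IsPGroup.of_bot
  obtain ⟨g, hg, x, hx, hgx⟩ := hex
  obtain ⟨i, hi⟩ := hS'p g hg
  exact Cfsg.H5.SL2.p_eq_three hp2 R hRcard g i hi (hRnorm g (hS'L g hg)) ⟨x, hx, hgx⟩

end Range

end Cfsg.H5.SL2P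

namespace Cfsg.H5.SL2P

open Cfsg

/-- the core argument over an abstract finite field `K` of characteristic `p` -/
theorem rep_p_eq_three_core {Γ : Type*} [Group Γ] [Finite Γ] {p : ℕ} [Fact p.Prime] (hp : p ≠ 2)
    (K : Type) [Field K] [Finite K] [CharP K p] [Algebra (ZMod p) K]
    (hsol : Cfsg.IsPSolvable p Γ)
    (a b : Γ) (hgen : Subgroup.closure ({a, b} : Set Γ) = ⊤) (n : ℕ)
    (ρ₀ : Representation (ZMod p) Γ (Fin n → ZMod p)) (hfaith : ∀ h, ρ₀ h = 1 → h = 1)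
    (hA₀ : (ρ₀ a - 1) * (ρ₀ a - 1) = 0) (hB₀ : (ρ₀ b - 1) * (ρ₀ b - 1) = 0)
    (hnp : ¬ IsPGroup p Γ) (e k : ℕ) (hk0 : 0 < k) (hab : (a * b) ^ (p ^ e * k) = 1)
    (hkK : k ∣ Nat.card K - 1) : p = 3 := by
  letI : Fintype K := Fintype.ofFinite K
  rw [Nat.card_eq_fintype_card] at hkK
  have hap : a ^ p = 1 := hfaith _ (by rw [map_pow]; exact Cfsg.H5.QP.quad_pow_char hA₀)
  have hbp : b ^ p = 1 := hfaith _ (by rw [map_pow]; exact Cfsg.H5.QP.quad_pow_char hB₀)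
  obtain ⟨Φ, hΦ⟩ := Cfsg.H5.Lin.exists_extend (ZMod p) K n
  let ρ : Representation K Γ (Fin n → K) := (Φ : _ →* _).comp ρ₀
  have hρ : ∀ g, ρ g = Φ (ρ₀ g) := fun g => rfl
  have hA : (ρ a - 1) * (ρ a - 1) = 0 := by
    rw [hρ, ← map_one Φ, ← map_sub, ← map_mul, hA₀, map_zero]
  have hB : (ρ b - 1) * (ρ b - 1) = 0 := by
    rw [hρ, ← map_one Φ, ← map_sub, ← map_mul, hB₀, map_zero]
  have hnp' : ¬ Cfsg.H5.QP.PG p ρ := by
    intro hPG
    apply hnp
    intro g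
    obtain ⟨j, hj⟩ := hPG g
    refine ⟨j, hfaith _ ?_⟩
    apply hΦ
    rw [map_one, map_pow ρ₀, map_pow Φ, ← hρ]
    exact hj
  obtain ⟨φ, hφ⟩ := Cfsg.H5.QP.exists_sl2 (K := K) (p := p) a b hgen e k hkK hk0 hab
    (Module.finrank K (Fin n → K)) (Fin n → K) ρ rfl hA hB hnp'
  refine p_eq_three_of_range hp hsol φ _ hgen ?_ hφ
  intro g hg
  rcases hg with rfl | rfl
  · exact ⟨1, by rw [pow_one]; exact hap⟩
  · exact ⟨1, by rw [pow_one]; exact hbp⟩

/-- two quadratic generators of a `p`-solvable group acting faithfully, not a `p`-group: `p = 3` -/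
theorem rep_p_eq_three {Γ : Type*} [Group Γ] [Finite Γ] {p : ℕ} [Fact p.Prime] (hp : p ≠ 2)
    (hsol : Cfsg.IsPSolvable p Γ)
    (a b : Γ) (hgen : Subgroup.closure ({a, b} : Set Γ) = ⊤) (n : ℕ)
    (ρ₀ : Representation (ZMod p) Γ (Fin n → ZMod p)) (hfaith : ∀ h, ρ₀ h = 1 → h = 1)
    (hA₀ : (ρ₀ a - 1) * (ρ₀ a - 1) = 0) (hB₀ : (ρ₀ b - 1) * (ρ₀ b - 1) = 0)
    (hnp : ¬ IsPGroup p Γ) : p = 3 := by
  have hpp : p.Prime := Fact.out
  obtain ⟨e, k, hkp, hek⟩ := Nat.exists_eq_pow_mul_and_not_dvd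
    (orderOf_pos (a * b)).ne' p hpp.ne_one
  have hk0 : 0 < k := by
    rcases Nat.eq_zero_or_pos k with h | h
    · exfalso; exact hkp (h ▸ dvd_zero p)
    · exact h
  have hkc : k.Coprime p := ((Nat.Prime.coprime_iff_not_dvd hpp).2 hkp).symm
  obtain ⟨d, hd0, hkd⟩ := Cfsg.Agent.S0593.exists_dvd_pow_sub_one hpp.pos hkc hk0
  have hab' : (a * b) ^ (p ^ e * k) = 1 := by
    rw [← hek]
    exact pow_orderOf_eq_one _
  exact rep_p_eq_three_core hp (GaloisField p d) hsol a b hgen n ρ₀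
    hfaith hA₀ hB₀ hnp e k hk0 hab' (by rw [GaloisField.card p d hd0]; exact hkd)

/-- a quadratically acting element of a faithful representation over `ZMod p` of a `p`-solvable
group lies in `O_p`, for `p ≥ 5` -/
theorem mem_pCore_of_quadratic_psolv {Γ : Type*} [Group Γ] [Finite Γ] {p : ℕ} [Fact p.Prime]
    (hp : p ≠ 2) (hp3 : p ≠ 3) (hsol : Cfsg.IsPSolvable p Γ) (n : ℕ)
    (ρ : Representation (ZMod p) Γ (Fin n → ZMod p))
    (hfaith : ∀ g, ρ g = 1 → g = 1) (a : Γ) (hA : (ρ a - 1) * (ρ a - 1) = 0) :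
    a ∈ Cfsg.pCore p Γ := by
  by_contra hna
  have hBS : ∃ x y : Γ, (∃ h : Γ, x = h * a * h⁻¹) ∧ (∃ h : Γ, y = h * a * h⁻¹) ∧
      ¬ IsPGroup p (Subgroup.closure ({x, y} : Set Γ)) := by
    by_contra hcon
    push Not at hcon
    apply hna
    refine Cfsg.Agent.Lib.Helper1.baer_suzuki (p := p)
      {x : Γ | ∃ h : Γ, x = h * a * h⁻¹} ?_ ?_ _ ⟨1, by simp⟩
    · rintro g x ⟨h, rfl⟩
      exact ⟨g * h, by group⟩
    · intro x hx y hy
      exact hcon x y hx hy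
  obtain ⟨x, y, ⟨h₁, hx⟩, ⟨h₂, hy⟩, hnp⟩ := hBS
  obtain ⟨Δ, hΔ⟩ : ∃ Δ : Subgroup Γ, Δ = Subgroup.closure {x, y} := ⟨_, rfl⟩
  have hxΔ : x ∈ Δ := by rw [hΔ]; exact Subgroup.subset_closure (by simp)
  have hyΔ : y ∈ Δ := by rw [hΔ]; exact Subgroup.subset_closure (by simp)
  rw [← hΔ] at hnp
  have hquad : ∀ h : Γ, (ρ (h * a * h⁻¹) - 1) * (ρ (h * a * h⁻¹) - 1) = 0 := by
    intro h
    have h1 : ρ (h * a * h⁻¹) - 1 = ρ h * (ρ a - 1) * ρ h⁻¹ := by
      rw [map_mul, map_mul, mul_sub, sub_mul, mul_one, ← map_mul ρ h h⁻¹, mul_inv_cancel, map_one]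
    have h2 : ρ h⁻¹ * ρ h = 1 := by rw [← map_mul, inv_mul_cancel, map_one]
    rw [h1]
    calc ρ h * (ρ a - 1) * ρ h⁻¹ * (ρ h * (ρ a - 1) * ρ h⁻¹)
        = ρ h * (ρ a - 1) * (ρ h⁻¹ * ρ h) * (ρ a - 1) * ρ h⁻¹ := by noncomm_ring
      _ = ρ h * ((ρ a - 1) * (ρ a - 1)) * ρ h⁻¹ := by rw [h2]; noncomm_ring
      _ = 0 := by rw [hA, mul_zero, zero_mul]
  let ρΔ : Representation (ZMod p) Δ (Fin n → ZMod p) := ρ.comp Δ.subtype
  have hρΔ : ∀ g : Δ, ρΔ g = ρ (g : Γ) := fun g => rfl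
  apply hp3
  refine rep_p_eq_three hp (Cfsg.H5.isPSolvable_subgroup hsol Δ) (⟨x, hxΔ⟩ : Δ) ⟨y, hyΔ⟩
    (Cfsg.H5.SL2S.closure_pair_top x y Δ hΔ hxΔ hyΔ) n ρΔ ?_ ?_ ?_ hnp
  · intro g hg
    exact Subtype.ext (hfaith _ (by rw [← hρΔ]; exact hg))
  · rw [hρΔ]
    simp only
    rw [hx]
    exact hquad h₁
  · rw [hρΔ]
    simp only
    rw [hy]
    exact hquad h₂

/-- `p`-stability of an action of a `p`-solvable group on an elementary abelian group, `p ≥ 5` -/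
theorem aut_pstable_psolv {Γ : Type*} [Group Γ] [Finite Γ] {p : ℕ} [Fact p.Prime] (hp : p ≠ 2)
    (hp3 : p ≠ 3) (hsol : Cfsg.IsPSolvable p Γ)
    {A : Type*} [Group A] [Finite A] (hcomm : ∀ x y : A, x * y = y * x)
    (hexp : ∀ x : A, x ^ p = 1) (σ : Γ →* MulAut A) (a : Γ)
    (hq : ∀ w : A, σ a (σ a w * w⁻¹) = σ a w * w⁻¹)
    (C : Subgroup Γ) [hCn : C.Normal] (hC : C = σ.ker) :
    (QuotientGroup.mk a : Γ ⧸ C) ∈ Cfsg.pCore p (Γ ⧸ C) := by
  subst hC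
  have hinj := QuotientGroup.kerLift_injective σ
  obtain ⟨n, θ, ρ, hρ⟩ := Cfsg.H5.Lin.exists_rep_of_comm hcomm hexp (QuotientGroup.kerLift σ)
  have hfaith : ∀ g, ρ g = 1 → g = 1 := by
    intro g hg
    have h1 := (Cfsg.H5.Lin.rep_eq_one_iff_aux θ ρ _ hρ g).1 hg
    apply hinj
    rw [h1, map_one]
  have hA : (ρ (QuotientGroup.mk a) - 1) * (ρ (QuotientGroup.mk a) - 1) = 0 := by
    apply Cfsg.H5.Lin.rep_quadratic_aux θ ρ _ hρ
    intro w
    rw [QuotientGroup.kerLift_mk]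
    exact hq w
  exact mem_pCore_of_quadratic_psolv hp hp3 (Cfsg.H5.isPSolvable_quotient _ hsol) n ρ hfaith _ hA

universe u

/-- `p`-solvable groups are `AutStable` for `p ≥ 5` -/
theorem autStable_of_isPSolvable {Γ : Type u} [Group Γ] [Finite Γ] {p : ℕ} [Fact p.Prime]
    (hp : p ≠ 2) (hp3 : p ≠ 3) (hsol : Cfsg.IsPSolvable p Γ) : Cfsg.H5.APS.AutStable p Γ := by
  intro A _ _ hcomm hexp σ a hq C _ hC
  exact aut_pstable_psolv hp hp3 hsol hcomm hexp σ a hq C hC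

end Cfsg.H5.SL2P
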