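import Mathlib
import Cfsg.Agent.H5.SL23Section
import Cfsg.Agent.H5.Dickson

/-!
# Sections isomorphic to `SL(2, p)`

`HasSectionP p Γ`: some subgroup of `Γ` maps onto `SL(2, p)`.
`section_of_quadratic`: a finite group with a faithful representation over `ZMod p` (`p` odd) and
a quadratically acting element outside `O_p` has such a section (Gorenstein 3.8.1/3.8.3, via
Dickson's theorem).
-/

set_option autoImplicit false
set_option linter.style.haveILetI false

namespace Cfsg.H5.SL2p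

open Cfsg Matrix

/-- some subgroup of `Γ` maps onto `SL(2, p)` -/
def HasSectionP (p : ℕ) (Γ : Type*) [Group Γ] : Prop :=
  ∃ (K : Subgroup Γ) (θ : ↥K →* Matrix.SpecialLinearGroup (Fin 2) (ZMod p)),
    Function.Surjective θ

variable {p : ℕ}

/-- a subgroup of the range of a homomorphism isomorphic to `SL(2, p)` gives a section -/
theorem hasSectionP_of_range {Γ X : Type*} [Group Γ] [Group X] (φ : Γ →* X) (M : Subgroup X)
    (hM : M ≤ φ.range) (e : M ≃* Matrix.SpecialLinearGroup (Fin 2) (ZMod p)) :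
    HasSectionP p Γ := by
  refine ⟨M.comap φ, e.toMonoidHom.comp (φ.subgroupComap M), ?_⟩
  intro s
  obtain ⟨g, hg⟩ := hM (e.symm s).2
  have hgM : g ∈ M.comap φ := by
    rw [Subgroup.mem_comap, hg]
    exact (e.symm s).2
  refine ⟨⟨g, hgM⟩, ?_⟩
  have h1 : φ.subgroupComap M ⟨g, hgM⟩ = e.symm s := Subtype.ext hg
  rw [MonoidHom.comp_apply, h1]
  exact e.apply_symm_apply s

/-- sections pass from subgroups to the group -/
theorem hasSectionP_of_injective {Δ Γ : Type*} [Group Δ] [Group Γ] (ι : Δ →* Γ)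
    (hι : Function.Injective ι) (h : HasSectionP p Δ) :
    ∃ (K : Subgroup Γ) (θ : ↥K →* Matrix.SpecialLinearGroup (Fin 2) (ZMod p)),
      Function.Surjective θ ∧ K ≤ ι.range := by
  obtain ⟨K, θ, hθ⟩ := h
  refine ⟨K.map ι, θ.comp (K.equivMapOfInjective ι hι).symm.toMonoidHom, ?_, ?_⟩
  · exact hθ.comp (K.equivMapOfInjective ι hι).symm.surjective
  · rintro _ ⟨x, _, rfl⟩
    exact ⟨x, rfl⟩

/-- sections pass from subgroups to the group -/
theorem hasSectionP_of_subgroup {Γ : Type*} [Group Γ] (Δ : Subgroup Γ) (h : HasSectionP p Δ) :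
    HasSectionP p Γ := by
  obtain ⟨K, θ, hθ, _⟩ := hasSectionP_of_injective Δ.subtype Δ.subtype_injective h
  exact ⟨K, θ, hθ⟩

/-- a section of the group `↥H` as a section `K / L` of `G` with `K ≤ H` -/
theorem section_of_hasSectionP {G : Type*} [Group G] (H : Subgroup G) (h : HasSectionP p H) :
    ∃ (K L : Subgroup G) (_ : (L.subgroupOf K).Normal), K ≤ H ∧
      Nonempty ((K ⧸ L.subgroupOf K) ≃* Matrix.SpecialLinearGroup (Fin 2) (ZMod p)) := by
  obtain ⟨K, θ, hθ, hK⟩ := hasSectionP_of_injective H.subtype H.subtype_injective h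
  rw [Subgroup.range_subtype] at hK
  have hker : (θ.ker.map K.subtype).subgroupOf K = θ.ker :=
    Subgroup.comap_map_eq_self_of_injective K.subtype_injective θ.ker
  have hL : ((θ.ker.map K.subtype).subgroupOf K).Normal := by
    rw [hker]
    infer_instance
  refine ⟨K, θ.ker.map K.subtype, hL, hK, ?_⟩
  exact ⟨(QuotientGroup.quotientMulEquivOfEq hker).trans
    (QuotientGroup.quotientKerEquivOfSurjective θ hθ)⟩

/-- a section of `⊤` -/
theorem section_of_hasSectionP_top {G : Type*} [Group G] (h : HasSectionP p G) :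
    ∃ (K L : Subgroup G) (_ : (L.subgroupOf K).Normal), K ≤ ⊤ ∧
      Nonempty ((K ⧸ L.subgroupOf K) ≃* Matrix.SpecialLinearGroup (Fin 2) (ZMod p)) := by
  obtain ⟨K, θ, hθ⟩ := h
  have hker : (θ.ker.map K.subtype).subgroupOf K = θ.ker :=
    Subgroup.comap_map_eq_self_of_injective K.subtype_injective θ.ker
  have hL : ((θ.ker.map K.subtype).subgroupOf K).Normal := by
    rw [hker]
    infer_instance
  refine ⟨K, θ.ker.map K.subtype, hL, le_top, ?_⟩
  exact ⟨(QuotientGroup.quotientMulEquivOfEq hker).trans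
    (QuotientGroup.quotientKerEquivOfSurjective θ hθ)⟩

/-- sections pass to preimages under surjective homomorphisms -/
theorem hasSectionP_of_surjective {Γ Δ : Type*} [Group Γ] [Group Δ] (f : Γ →* Δ)
    (hf : Function.Surjective f) (h : HasSectionP p Δ) : HasSectionP p Γ := by
  obtain ⟨K, θ, hθ⟩ := h
  refine ⟨K.comap f, θ.comp (f.subgroupComap K), ?_⟩
  exact hθ.comp (f.subgroupComap_surjective_of_surjective K hf)

section Range

variable {K : Type*} [Field K] [Finite K] [hp : Fact p.Prime] [CharP K p]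

/-- a group generated by `p`-elements whose image in `SL(2, K)` is not a `p`-group
has a section `SL(2, p)` -/
theorem sectionP_of_range (hp2 : p ≠ 2) {Γ : Type*} [Group Γ] [Finite Γ]
    (φ : Γ →* SpecialLinearGroup (Fin 2) K) (S : Set Γ)
    (hS : Subgroup.closure S = ⊤) (hSp : ∀ g ∈ S, ∃ i : ℕ, g ^ (p ^ i) = 1)
    (hnp : ¬ IsPGroup p φ.range) : HasSectionP p Γ := by
  obtain ⟨L, hL⟩ : ∃ L : Subgroup (SpecialLinearGroup (Fin 2) K), L = φ.range := ⟨_, rfl⟩
  rw [← hL] at hnp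
  obtain ⟨P⟩ : Nonempty (Sylow p L) := inferInstance
  have hPn : ¬ (P : Subgroup L).Normal := by
    intro hn
    apply hnp
    have huniq := Sylow.unique_of_normal P hn
    -- generators lie in `P`
    have hgen : ∀ g ∈ S, ∀ hg : φ g ∈ L, (⟨φ g, hg⟩ : L) ∈ P := by
      intro g hg hgL
      obtain ⟨i, hi⟩ := hSp g hg
      have hQ : IsPGroup p (Subgroup.zpowers (⟨φ g, hgL⟩ : L)) := by
        apply Cfsg.H5.Dickson.isPGroup_zpowers (k := i)
        apply Subtype.ext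
        rw [Subgroup.coe_pow, Subgroup.coe_one]
        show (φ g) ^ (p ^ i) = 1
        rw [← map_pow, hi, map_one]
      obtain ⟨P', hP'⟩ := hQ.exists_le_sylow
      have : P' = P := Subsingleton.elim _ _
      rw [← this]
      exact hP' (Subgroup.mem_zpowers _)
    have hle : L ≤ (P : Subgroup L).map L.subtype := by
      have hL' : L = Subgroup.closure (φ '' S) := by
        rw [hL, MonoidHom.range_eq_map, ← hS, MonoidHom.map_closure]
      conv_lhs => rw [hL']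
      rw [Subgroup.closure_le]
      rintro _ ⟨g, hg, rfl⟩
      have h1 : φ g ∈ L := by rw [hL]; exact ⟨g, rfl⟩
      exact ⟨⟨φ g, h1⟩, hgen g hg h1, rfl⟩
    have htop : ∀ y : L, y ∈ P := by
      intro y
      obtain ⟨y', hy', hyy'⟩ := hle y.2
      have : y' = y := Subtype.ext hyy'
      rw [← this]
      exact hy'
    intro y
    obtain ⟨k, hk⟩ := P.2 ⟨y, htop y⟩
    exact ⟨k, by simpa using congrArg Subtype.val hk⟩
  obtain ⟨K', ⟨e⟩⟩ := Cfsg.H5.Dickson.exists_copy_of_injective (ι := L.subtype)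
    L.subtype_injective hp2 P hPn
  refine hasSectionP_of_range φ (K'.map L.subtype) ?_
    ((K'.equivMapOfInjective L.subtype L.subtype_injective).symm.trans e)
  rw [← hL]
  exact Subgroup.map_subtype_le K'

end Range

/-- the core argument over an abstract finite field `K` of characteristic `p` -/
theorem rep_sectionP_core {Γ : Type*} [Group Γ] [Finite Γ] {p : ℕ} [Fact p.Prime] (hp : p ≠ 2)
    (K : Type) [Field K] [Finite K] [CharP K p] [Algebra (ZMod p) K]
    (a b : Γ) (hgen : Subgroup.closure ({a, b} : Set Γ) = ⊤) (n : ℕ)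
    (ρ₀ : Representation (ZMod p) Γ (Fin n → ZMod p)) (hfaith : ∀ h, ρ₀ h = 1 → h = 1)
    (hA₀ : (ρ₀ a - 1) * (ρ₀ a - 1) = 0) (hB₀ : (ρ₀ b - 1) * (ρ₀ b - 1) = 0)
    (hnp : ¬ IsPGroup p Γ) (e k : ℕ) (hk0 : 0 < k) (hab : (a * b) ^ (p ^ e * k) = 1)
    (hkK : k ∣ Nat.card K - 1) : HasSectionP p Γ := by
  letI : Fintype K := Fintype.ofFinite K
  rw [Nat.card_eq_fintype_card] at hkK
  have hap : a ^ p = 1 := hfaith _ (by rw [map_pow]; exact Cfsg.H5.QP.quad_pow_char hA₀)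
  have hbp : b ^ p = 1 := hfaith _ (by rw [map_pow]; exact Cfsg.H5.QP.quad_pow_char hB₀)
  obtain ⟨Φ, hΦ⟩ := Cfsg.H5.Lin.exists_extend (ZMod p) K n
  let ρ : Representation K Γ (Fin n → K) := (Φ : _ →* _).comp ρ₀
  have hρ : ∀ g, ρ g = Φ (ρ₀ g) := fun g => rfl
  have hA : (ρ a - 1) * (ρ a - 1) = 0 := by
    rw [hρ, ← map_one Φ, ← map_sub, ← map_mul, hA₀, map_zero]
  have hB : (ρ b - 1) * (ρ b - 1) = 0 := by
    rw [hρ, ← map_one Φ, ← map_sub, ← map_mul, hB₀, map_zero]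
  have hnp' : ¬ Cfsg.H5.QP.PG p ρ := by
    intro hPG
    apply hnp
    intro g
    obtain ⟨j, hj⟩ := hPG g
    refine ⟨j, hfaith _ ?_⟩
    apply hΦ
    rw [map_one, map_pow ρ₀, map_pow Φ, ← hρ]
    exact hj
  obtain ⟨φ, hφ⟩ := Cfsg.H5.QP.exists_sl2 (K := K) (p := p) a b hgen e k hkK hk0 hab
    (Module.finrank K (Fin n → K)) (Fin n → K) ρ rfl hA hB hnp'
  refine sectionP_of_range hp φ _ hgen ?_ hφ
  intro g hg
  rcases hg with rfl | rfl
  · exact ⟨1, by rw [pow_one]; exact hap⟩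
  · exact ⟨1, by rw [pow_one]; exact hbp⟩

/-- two quadratic generators of a group acting faithfully, not a `p`-group: there is
a section `SL(2, p)` -/
theorem rep_sectionP {Γ : Type*} [Group Γ] [Finite Γ] {p : ℕ} [Fact p.Prime] (hp : p ≠ 2)
    (a b : Γ) (hgen : Subgroup.closure ({a, b} : Set Γ) = ⊤) (n : ℕ)
    (ρ₀ : Representation (ZMod p) Γ (Fin n → ZMod p)) (hfaith : ∀ h, ρ₀ h = 1 → h = 1)
    (hA₀ : (ρ₀ a - 1) * (ρ₀ a - 1) = 0) (hB₀ : (ρ₀ b - 1) * (ρ₀ b - 1) = 0)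
    (hnp : ¬ IsPGroup p Γ) : HasSectionP p Γ := by
  have hpp : p.Prime := Fact.out
  obtain ⟨e, k, hkp, hek⟩ := Nat.exists_eq_pow_mul_and_not_dvd
    (orderOf_pos (a * b)).ne' p hpp.ne_one
  have hk0 : 0 < k := by
    rcases Nat.eq_zero_or_pos k with h | h
    · exfalso; exact hkp (h ▸ dvd_zero p)
    · exact h
  have hkc : k.Coprime p := ((Nat.Prime.coprime_iff_not_dvd hpp).2 hkp).symm
  obtain ⟨d, hd0, hkd⟩ := Cfsg.Agent.S0593.exists_dvd_pow_sub_one hpp.pos hkc hk0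
  have hab' : (a * b) ^ (p ^ e * k) = 1 := by
    rw [← hek]
    exact pow_orderOf_eq_one _
  exact rep_sectionP_core hp (GaloisField p d) a b hgen n ρ₀
    hfaith hA₀ hB₀ hnp e k hk0 hab' (by rw [GaloisField.card p d hd0]; exact hkd)

/-- **Gorenstein 3.8.1.** A finite group with a faithful representation over `ZMod p`, `p` odd,
in which some element outside `O_p` acts quadratically has a section `SL(2, p)` -/
theorem section_of_quadratic {Γ : Type*} [Group Γ] [Finite Γ] {p : ℕ} [Fact p.Prime]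
    (hp : p ≠ 2) (n : ℕ)
    (ρ : Representation (ZMod p) Γ (Fin n → ZMod p))
    (hfaith : ∀ g, ρ g = 1 → g = 1) (a : Γ) (hA : (ρ a - 1) * (ρ a - 1) = 0)
    (hna : a ∉ Cfsg.pCore p Γ) : HasSectionP p Γ := by
  have hBS : ∃ x y : Γ, (∃ h : Γ, x = h * a * h⁻¹) ∧ (∃ h : Γ, y = h * a * h⁻¹) ∧
      ¬ IsPGroup p (Subgroup.closure ({x, y} : Set Γ)) := by
    by_contra hcon
    push Not at hcon
    apply hna
    refine Cfsg.Agent.Lib.Helper1.baer_suzuki (p := p)
      {x : Γ | ∃ h : Γ, x = h * a * h⁻¹} ?_ ?_ _ ⟨1, by simp⟩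
    · rintro g x ⟨h, rfl⟩
      exact ⟨g * h, by group⟩
    · intro x hx y hy
      exact hcon x y hx hy
  obtain ⟨x, y, ⟨h₁, hx⟩, ⟨h₂, hy⟩, hnp⟩ := hBS
  obtain ⟨Δ, hΔ⟩ : ∃ Δ : Subgroup Γ, Δ = Subgroup.closure {x, y} := ⟨_, rfl⟩
  have hxΔ : x ∈ Δ := by rw [hΔ]; exact Subgroup.subset_closure (by simp)
  have hyΔ : y ∈ Δ := by rw [hΔ]; exact Subgroup.subset_closure (by simp)
  rw [← hΔ] at hnp
  have hquad : ∀ h : Γ, (ρ (h * a * h⁻¹) - 1) * (ρ (h * a * h⁻¹) - 1) = 0 := by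
    intro h
    have h1 : ρ (h * a * h⁻¹) - 1 = ρ h * (ρ a - 1) * ρ h⁻¹ := by
      rw [map_mul, map_mul, mul_sub, sub_mul, mul_one, ← map_mul ρ h h⁻¹, mul_inv_cancel, map_one]
    have h2 : ρ h⁻¹ * ρ h = 1 := by rw [← map_mul, inv_mul_cancel, map_one]
    rw [h1]
    calc ρ h * (ρ a - 1) * ρ h⁻¹ * (ρ h * (ρ a - 1) * ρ h⁻¹)
        = ρ h * (ρ a - 1) * (ρ h⁻¹ * ρ h) * (ρ a - 1) * ρ h⁻¹ := by noncomm_ring
      _ = ρ h * ((ρ a - 1) * (ρ a - 1)) * ρ h⁻¹ := by rw [h2]; noncomm_ring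
      _ = 0 := by rw [hA, mul_zero, zero_mul]
  let ρΔ : Representation (ZMod p) Δ (Fin n → ZMod p) := ρ.comp Δ.subtype
  have hρΔ : ∀ g : Δ, ρΔ g = ρ (g : Γ) := fun g => rfl
  apply hasSectionP_of_subgroup Δ
  refine rep_sectionP hp (⟨x, hxΔ⟩ : Δ) ⟨y, hyΔ⟩
    (Cfsg.H5.SL2S.closure_pair_top x y Δ hΔ hxΔ hyΔ) n ρΔ ?_ ?_ ?_ hnp
  · intro g hg
    exact Subtype.ext (hfaith _ (by rw [← hρΔ]; exact hg))
  · rw [hρΔ]
    simp only
    rw [hx]
    exact hquad h₁
  · rw [hρΔ]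
    simp only
    rw [hy]
    exact hquad h₂

end Cfsg.H5.SL2p
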