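import Mathlib
import Cfsg.Agent.H5.BaseChange
import Cfsg.Agent.H5.QuadPairSub
import Cfsg.Agent.H5.QdNatural
import Cfsg.Agent.H5.SL2pSection

/-!
# The natural module of `SL(2, p)` in a quadratic pair

`exists_natural`: a finite group `Γ = ⟨a, b⟩` with a representation over `ZMod p` (`p` odd) in which
`a`, `b` act quadratically and whose image is not a `p`-group has a subgroup `L` mapping onto
`SL(2, p)` and an `L`-invariant subspace with an `L`-equivariant linear map onto the natural module.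
-/

set_option autoImplicit false
set_option linter.style.haveILetI false

namespace Cfsg.H5.Qd

open Matrix Cfsg.H5.BC
open scoped Matrix

section Simple

variable {p : ℕ} [hp : Fact p.Prime]

/-- the natural module of `SL(2, p)` is simple -/
theorem natural_simple (S : Submodule (ZMod p) (Fin 2 → ZMod p))
    (hS : ∀ g : SpecialLinearGroup (Fin 2) (ZMod p), ∀ v ∈ S,
      (g : Matrix (Fin 2) (Fin 2) (ZMod p)) *ᵥ v ∈ S) (hne : S ≠ ⊥) : S = ⊤ := by
  obtain ⟨v, hvS, hv0⟩ := (Submodule.ne_bot_iff S).1 hne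
  -- `e₀ ∈ S`
  have he0 : (![1, 0] : Fin 2 → ZMod p) ∈ S := by
    by_cases hx : v 0 = 0
    · have hy : v 1 ≠ 0 := by
        intro hy
        apply hv0
        ext i
        fin_cases i
        · exact hx
        · exact hy
      let g : SpecialLinearGroup (Fin 2) (ZMod p) := ⟨!![0, (v 1)⁻¹; -(v 1), 0], by
        rw [Matrix.det_fin_two_of]
        field_simp
        ring⟩
      have h1 := hS g v hvS
      have h2 : (g : Matrix (Fin 2) (Fin 2) (ZMod p)) *ᵥ v = ![1, 0] := by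
        ext i
        fin_cases i
        · simp [g, Matrix.mulVec, dotProduct, Fin.sum_univ_two, inv_mul_cancel₀ hy]
        · simp [g, Matrix.mulVec, dotProduct, Fin.sum_univ_two, hx]
      rwa [h2] at h1
    · let g : SpecialLinearGroup (Fin 2) (ZMod p) := ⟨!![(v 0)⁻¹, 0; -(v 1), v 0], by
        rw [Matrix.det_fin_two_of, inv_mul_cancel₀ hx]
        ring⟩
      have h1 := hS g v hvS
      have h2 : (g : Matrix (Fin 2) (Fin 2) (ZMod p)) *ᵥ v = ![1, 0] := by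
        ext i
        fin_cases i
        · simp [g, Matrix.mulVec, dotProduct, Fin.sum_univ_two, inv_mul_cancel₀ hx]
        · simp [g, Matrix.mulVec, dotProduct, Fin.sum_univ_two]
          ring
      rwa [h2] at h1
  have he1 : (![0, 1] : Fin 2 → ZMod p) ∈ S := by
    let g : SpecialLinearGroup (Fin 2) (ZMod p) := ⟨!![0, -1; 1, 0], by
      rw [Matrix.det_fin_two_of]; ring⟩
    have h1 := hS g _ he0
    have h2 : (g : Matrix (Fin 2) (Fin 2) (ZMod p)) *ᵥ ![1, 0] = ![0, 1] := by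
      ext i
      fin_cases i <;> simp [g, Matrix.mulVec, dotProduct, Fin.sum_univ_two]
    rwa [h2] at h1
  rw [eq_top_iff]
  intro w _
  have hw : w = w 0 • (![1, 0] : Fin 2 → ZMod p) + w 1 • ![0, 1] := by
    ext i
    fin_cases i <;> simp
  rw [hw]
  exact S.add_mem (S.smul_mem _ he0) (S.smul_mem _ he1)

end Simple

section Descent

variable {p : ℕ} [hp : Fact p.Prime] {K : Type*} [Field K] [Finite K] [Algebra (ZMod p) K]
  {n : ℕ} {L : Type*} [Group L]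

/-- a linear map vanishing on the kernel of another one factors through it -/
theorem exists_factor {R : Type*} [Field R] {X Y Z : Type*} [AddCommGroup X] [AddCommGroup Y]
    [AddCommGroup Z] [Module R X] [Module R Y] [Module R Z] (g₀ : X →ₗ[R] Y) (h₀ : X →ₗ[R] Z)
    (hker : LinearMap.ker g₀ ≤ LinearMap.ker h₀) : ∃ f' : Y →ₗ[R] Z, ∀ x, f' (g₀ x) = h₀ x := by
  let h₁ : (X ⧸ LinearMap.ker g₀) →ₗ[R] Z := (LinearMap.ker g₀).liftQ h₀ hker
  let f₁ : LinearMap.range g₀ →ₗ[R] Z := h₁ ∘ₗ (g₀.quotKerEquivRange.symm : _ →ₗ[R] _)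
  obtain ⟨f', hf'⟩ := LinearMap.exists_extend f₁
  refine ⟨f', fun x => ?_⟩
  have h2 : f' (g₀ x) = f₁ ⟨g₀ x, LinearMap.mem_range_self g₀ x⟩ := by
    rw [← hf']; rfl
  rw [h2]
  show h₁ (g₀.quotKerEquivRange.symm ⟨g₀ x, _⟩) = h₀ x
  rw [LinearMap.quotKerEquivRange_symm_apply_image]
  rfl

/-- **descent of the natural module from `K^n` to `F_p^n`** -/
theorem descent (ρ₀ : L →* Module.End (ZMod p) (Fin n → ZMod p))
    (θ : L →* SpecialLinearGroup (Fin 2) (ZMod p)) (hθ : Function.Surjective θ)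
    (A : Submodule (ZMod p) (Fin n → K))
    (f : (Fin n → K) →ₗ[ZMod p] (Fin 2 → ZMod p))
    (hAinv : ∀ l : L, ∀ u ∈ A, extEnd (ZMod p) K n (ρ₀ l) u ∈ A)
    (hf : ∀ l : L, ∀ u ∈ A, f (extEnd (ZMod p) K n (ρ₀ l) u) =
      (θ l : Matrix (Fin 2) (Fin 2) (ZMod p)) *ᵥ f u)
    (htop : A.map f = ⊤) :
    ∃ (W₁ : Submodule (ZMod p) (Fin n → ZMod p))
      (f' : (Fin n → ZMod p) →ₗ[ZMod p] (Fin 2 → ZMod p)),
      (∀ l : L, ∀ w ∈ W₁, ρ₀ l w ∈ W₁) ∧ W₁.map f' = ⊤ ∧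
      ∀ l : L, ∀ w ∈ W₁, f' (ρ₀ l w) = (θ l : Matrix (Fin 2) (Fin 2) (ZMod p)) *ᵥ f' w := by
  classical
  obtain ⟨d, hd⟩ : ∃ d : ℕ, d = Module.finrank (ZMod p) K := ⟨_, rfl⟩
  let bK : Module.Basis (Fin d) (ZMod p) K := hd ▸ Module.finBasis (ZMod p) K
  let push : Fin d → ((Fin n → K) →ₗ[ZMod p] (Fin n → ZMod p)) := fun j => pushF (bK.coord j)
  have hpush : ∀ (j : Fin d) (l : L) (w : Fin n → K),
      push j (extEnd (ZMod p) K n (ρ₀ l) w) = ρ₀ l (push j w) := fun j l w => pushF_extEnd _ _ _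
  let Fil : ℕ → Submodule (ZMod p) (Fin n → K) := fun i =>
    ⨅ j : Fin d, ⨅ (_ : (j : ℕ) < i), LinearMap.ker (push j)
  have hFil : ∀ i w, w ∈ Fil i ↔ ∀ j : Fin d, (j : ℕ) < i → push j w = 0 := by
    intro i w
    simp only [Fil, Submodule.mem_iInf, LinearMap.mem_ker]
  have hFil0 : Fil 0 = ⊤ := by
    rw [eq_top_iff]
    intro w _
    rw [hFil]
    intro j hj
    exact absurd hj (Nat.not_lt_zero _)
  have hFild : Fil d = ⊥ := by
    rw [eq_bot_iff]
    intro w hw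
    rw [hFil] at hw
    rw [Submodule.mem_bot]
    ext k
    apply bK.ext_elem
    intro j
    have h1 := congrFun (hw j j.2) k
    rw [Pi.zero_apply, map_zero, Finsupp.zero_apply]
    exact h1
  have hFilinv : ∀ i (l : L), ∀ w ∈ Fil i, extEnd (ZMod p) K n (ρ₀ l) w ∈ Fil i := by
    intro i l w hw
    rw [hFil] at hw ⊢
    intro j hj
    rw [hpush, hw j hj, map_zero]
  -- the first index where the image vanishes
  have hP0 : (A ⊓ Fil 0).map f ≠ ⊥ := by
    rw [hFil0, inf_top_eq, htop]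
    exact top_ne_bot
  have hPd : ¬ (A ⊓ Fil d).map f ≠ ⊥ := by
    rw [hFild, inf_bot_eq, Submodule.map_bot]
    exact fun h => h rfl
  have hex : ∃ m, ¬ (A ⊓ Fil m).map f ≠ ⊥ := ⟨d, hPd⟩
  obtain ⟨m, hm⟩ : ∃ m, m = Nat.find hex := ⟨_, rfl⟩
  have hm1 : ¬ (A ⊓ Fil m).map f ≠ ⊥ := hm ▸ Nat.find_spec hex
  have hm0 : m ≠ 0 := by
    rintro rfl
    exact hm1 hP0
  have hmd : m ≤ d := hm ▸ Nat.find_min' hex hPd
  obtain ⟨i, rfl⟩ : ∃ i, m = i + 1 := Nat.exists_eq_succ_of_ne_zero hm0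
  have hPi : (A ⊓ Fil i).map f ≠ ⊥ := by
    have h1 := Nat.find_min hex (m := i) (by rw [← hm]; exact Nat.lt_succ_self i)
    exact not_not.1 h1
  have hPi1 : (A ⊓ Fil (i + 1)).map f = ⊥ := not_not.1 hm1
  have hid : i < d := hmd
  -- the image is everything
  have hAiinv : ∀ l : L, ∀ u ∈ A ⊓ Fil i, extEnd (ZMod p) K n (ρ₀ l) u ∈ A ⊓ Fil i :=
    fun l u hu => ⟨hAinv l u hu.1, hFilinv i l u hu.2⟩
  have hfull : (A ⊓ Fil i).map f = ⊤ := by
    apply natural_simple _ _ hPi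
    rintro g _ ⟨u, hu, rfl⟩
    obtain ⟨l, rfl⟩ := hθ g
    rw [← hf l u hu.1]
    exact ⟨_, hAiinv l u hu, rfl⟩
  -- the factorisation
  have hker : LinearMap.ker ((push ⟨i, hid⟩).domRestrict (A ⊓ Fil i)) ≤
      LinearMap.ker (f.domRestrict (A ⊓ Fil i)) := by
    intro u hu
    rw [LinearMap.mem_ker, LinearMap.domRestrict_apply] at hu ⊢
    have h1 : (u : Fin n → K) ∈ A ⊓ Fil (i + 1) := by
      refine ⟨u.2.1, ?_⟩
      apply (hFil (i + 1) _).2
      intro j hj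
      rcases Nat.lt_succ_iff_lt_or_eq.1 hj with h | h
      · exact (hFil i _).1 u.2.2 j h
      · have : j = ⟨i, hid⟩ := Fin.ext h
        rw [this]; exact hu
    have h2 : f (u : Fin n → K) ∈ (A ⊓ Fil (i + 1)).map f := ⟨_, h1, rfl⟩
    rw [hPi1, Submodule.mem_bot] at h2
    exact h2
  obtain ⟨f', hf'⟩ := exists_factor _ _ hker
  have hf'' : ∀ u ∈ A ⊓ Fil i, f' (push ⟨i, hid⟩ u) = f u := fun u hu => hf' ⟨u, hu⟩
  refine ⟨(A ⊓ Fil i).map (push ⟨i, hid⟩), f', ?_, ?_, ?_⟩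
  · rintro l _ ⟨u, hu, rfl⟩
    rw [← hpush]
    exact ⟨_, hAiinv l u hu, rfl⟩
  · rw [eq_top_iff, ← hfull]
    rintro _ ⟨u, hu, rfl⟩
    exact ⟨push ⟨i, hid⟩ u, ⟨u, hu, rfl⟩, hf'' u hu⟩
  · rintro l _ ⟨u, hu, rfl⟩
    rw [← hpush, hf'' _ (hAiinv l u hu), hf'' u hu, hf l u hu.1]

end Descent

section Core

variable {p : ℕ} [hp : Fact p.Prime]

/-- a group generated by elements with `p`-power order images whose image in `SL(2, K)` is not a
`p`-group: the image contains a copy of `SL(2, p)` -/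
theorem copy_of_range {K : Type*} [Field K] [Finite K] [CharP K p] (hp2 : p ≠ 2)
    {Γ : Type*} [Group Γ] [Finite Γ]
    (φ : Γ →* SpecialLinearGroup (Fin 2) K) (S : Set Γ)
    (hS : Subgroup.closure S = ⊤) (hSp : ∀ g ∈ S, ∃ i : ℕ, (φ g) ^ (p ^ i) = 1)
    (hnp : ¬ IsPGroup p φ.range) :
    ∃ M : Subgroup (SpecialLinearGroup (Fin 2) K), M ≤ φ.range ∧
      Nonempty (M ≃* SpecialLinearGroup (Fin 2) (ZMod p)) := by
  obtain ⟨L, hL⟩ : ∃ L : Subgroup (SpecialLinearGroup (Fin 2) K), L = φ.range := ⟨_, rfl⟩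
  rw [← hL] at hnp
  obtain ⟨P⟩ : Nonempty (Sylow p L) := inferInstance
  have hPn : ¬ (P : Subgroup L).Normal := by
    intro hn
    apply hnp
    have huniq := Sylow.unique_of_normal P hn
    have hgen : ∀ g ∈ S, ∀ hg : φ g ∈ L, (⟨φ g, hg⟩ : L) ∈ P := by
      intro g hg hgL
      obtain ⟨i, hi⟩ := hSp g hg
      have hQ : IsPGroup p (Subgroup.zpowers (⟨φ g, hgL⟩ : L)) := by
        apply Cfsg.H5.Dickson.isPGroup_zpowers (k := i)
        apply Subtype.ext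
        rw [Subgroup.coe_pow, Subgroup.coe_one]
        exact hi
      obtain ⟨P', hP'⟩ := hQ.exists_le_sylow
      have : P' = P := Subsingleton.elim _ _
      rw [← this]
      exact hP' (Subgroup.mem_zpowers _)
    have hle : L ≤ (P : Subgroup L).map L.subtype := by
      have hL' : L = Subgroup.closure (φ '' S) := by
        rw [hL, MonoidHom.range_eq_map, ← hS, MonoidHom.map_closure]
      conv_lhs => rw [hL']
      rw [Subgroup.closure_le]
      rintro _ ⟨g, hg, rfl⟩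
      have h1 : φ g ∈ L := by rw [hL]; exact ⟨g, rfl⟩
      exact ⟨⟨φ g, h1⟩, hgen g hg h1, rfl⟩
    have htop : ∀ y : L, y ∈ P := by
      intro y
      obtain ⟨y', hy', hyy'⟩ := hle y.2
      have : y' = y := Subtype.ext hyy'
      rw [← this]
      exact hy'
    intro y
    obtain ⟨k, hk⟩ := P.2 ⟨y, htop y⟩
    exact ⟨k, by simpa using congrArg Subtype.val hk⟩
  obtain ⟨K', ⟨e⟩⟩ := Cfsg.H5.Dickson.exists_copy_of_injective (ι := L.subtype)
    L.subtype_injective hp2 P hPn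
  refine ⟨K'.map L.subtype, ?_,
    ⟨(K'.equivMapOfInjective L.subtype L.subtype_injective).symm.trans e⟩⟩
  rw [← hL]
  exact Subgroup.map_subtype_le K'

theorem eq_one_of_mulVec_eq {K : Type*} [Field K] {M : Matrix (Fin 2) (Fin 2) K}
    (h : ∀ v, M *ᵥ v = v) : M = 1 := by
  apply Matrix.toLin'.injective
  apply LinearMap.ext
  intro v
  rw [Matrix.toLin'_apply, Matrix.toLin'_one, LinearMap.id_apply, h]

/-- the diagonal conjugation turning the twisted embedding into the standard one -/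
theorem diag_twistMat {K : Type*} [Field K] [CharP K p] [Algebra (ZMod p) K] {s : K} (hs : s ≠ 0)
    (N : Matrix (Fin 2) (Fin 2) (ZMod p)) :
    !![s⁻¹, 0; 0, 1] * Cfsg.H5.Dickson.twistMat p s N =
      N.map (algebraMap (ZMod p) K) * !![s⁻¹, 0; 0, 1] := by
  have hc : ZMod.castHom (dvd_refl p) K = algebraMap (ZMod p) K := Subsingleton.elim _ _
  unfold Cfsg.H5.Dickson.twistMat
  rw [hc, Matrix.eta_fin_two (N.map (algebraMap (ZMod p) K)), Matrix.mul_fin_two,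
    Matrix.mul_fin_two]
  simp only [Matrix.map_apply]
  apply Cfsg.Agent.Lib.Helper16.mat_fin_two_congr
  · ring
  · field_simp
    ring
  · ring
  · ring

end Core

section Main

variable {p : ℕ} [hp : Fact p.Prime]

/-- the core argument over an abstract finite field `K` of characteristic `p` -/
theorem exists_natural_core (hp2 : p ≠ 2) {Γ : Type*} [Group Γ] [Finite Γ]
    (K : Type) [Field K] [Finite K] [CharP K p] [Algebra (ZMod p) K]
    (a b : Γ) (hgen : Subgroup.closure ({a, b} : Set Γ) = ⊤) (n : ℕ)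
    (ρ₀ : Representation (ZMod p) Γ (Fin n → ZMod p))
    (hA₀ : (ρ₀ a - 1) * (ρ₀ a - 1) = 0) (hB₀ : (ρ₀ b - 1) * (ρ₀ b - 1) = 0)
    (hnp : ¬ Cfsg.H5.QP.PG p ρ₀) (e k : ℕ) (hk0 : 0 < k) (hab : (a * b) ^ (p ^ e * k) = 1)
    (hkK : k ∣ Nat.card K - 1) :
    ∃ (L : Subgroup Γ) (θ : L →* SpecialLinearGroup (Fin 2) (ZMod p))
      (W₁ : Submodule (ZMod p) (Fin n → ZMod p))
      (f : (Fin n → ZMod p) →ₗ[ZMod p] (Fin 2 → ZMod p)),
      Function.Surjective θ ∧ (∀ l : L, ∀ w ∈ W₁, ρ₀ (l : Γ) w ∈ W₁) ∧ W₁.map f = ⊤ ∧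
      ∀ l : L, ∀ w ∈ W₁, f (ρ₀ (l : Γ) w) = (θ l : Matrix (Fin 2) (Fin 2) (ZMod p)) *ᵥ f w := by
  letI : Fintype K := Fintype.ofFinite K
  rw [Nat.card_eq_fintype_card] at hkK
  let ρ : Representation K Γ (Fin n → K) :=
    ((extEnd (ZMod p) K n : _ →+* _) : _ →* _).comp ρ₀
  have hρ : ∀ g, ρ g = extEnd (ZMod p) K n (ρ₀ g) := fun g => rfl
  have hA : (ρ a - 1) * (ρ a - 1) = 0 := by
    rw [hρ, ← map_one (extEnd (ZMod p) K n), ← map_sub, ← map_mul, hA₀, map_zero]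
  have hB : (ρ b - 1) * (ρ b - 1) = 0 := by
    rw [hρ, ← map_one (extEnd (ZMod p) K n), ← map_sub, ← map_mul, hB₀, map_zero]
  have hnp' : ¬ Cfsg.H5.QP.PG p ρ := by
    intro hPG
    apply hnp
    intro g
    obtain ⟨j, hj⟩ := hPG g
    refine ⟨j, ?_⟩
    apply extEnd_injective (K := K)
    rw [map_one, map_pow, ← hρ]
    exact hj
  obtain ⟨U₁, ψ, φ, hU₁inv, hU₁top, hequiv, hφ⟩ :=
    Cfsg.H5.QP.exists_sl2_sub (K := K) (p := p) a b hgen e k hkK hk0 hab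
      (Module.finrank K (Fin n → K)) (Fin n → K) ρ rfl hA hB hnp'
  -- the generators have `p`-power order images
  have hφp : ∀ g : Γ, (ρ g) ^ p = 1 → (φ g) ^ (p ^ 1) = 1 := by
    intro g hg
    rw [pow_one, ← map_pow]
    apply Subtype.ext
    rw [Matrix.SpecialLinearGroup.coe_one]
    apply eq_one_of_mulVec_eq
    intro v
    have hv : v ∈ U₁.map ψ := by rw [hU₁top]; trivial
    obtain ⟨u, hu, rfl⟩ := hv
    rw [← hequiv (g ^ p) u hu, map_pow, hg, Module.End.one_apply]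
  obtain ⟨M, hM, ⟨e'⟩⟩ := copy_of_range hp2 φ {a, b} hgen (by
    intro g hg
    rcases hg with rfl | rfl
    · exact ⟨1, hφp _ (Cfsg.H5.QP.quad_pow_char hA)⟩
    · exact ⟨1, hφp _ (Cfsg.H5.QP.quad_pow_char hB)⟩) hφ
  -- the embedding
  obtain ⟨ε, hε⟩ : ∃ ε : SpecialLinearGroup (Fin 2) (ZMod p) →* SpecialLinearGroup (Fin 2) K,
      ∀ g, ε g = ((e'.symm g : M) : SpecialLinearGroup (Fin 2) K) :=
    ⟨M.subtype.comp e'.symm.toMonoidHom, fun g => rfl⟩
  have hεinj : Function.Injective ε := by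
    intro x y hxy
    rw [hε, hε] at hxy
    exact e'.symm.injective (Subtype.ext hxy)
  obtain ⟨t, s, hs, ht⟩ := exists_conj_twist hp2 ε hεinj
  -- the subgroup `L` and the homomorphism `θ`
  obtain ⟨θ, hθdef⟩ : ∃ θ : ↥(M.comap φ) →* SpecialLinearGroup (Fin 2) (ZMod p),
      ∀ l, θ l = e' (φ.subgroupComap M l) :=
    ⟨e'.toMonoidHom.comp (φ.subgroupComap M), fun l => rfl⟩
  have hθ : Function.Surjective θ := by
    intro g
    obtain ⟨x, hx⟩ := hM (e'.symm g).2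
    have hxM : x ∈ M.comap φ := by
      rw [Subgroup.mem_comap, hx]
      exact (e'.symm g).2
    refine ⟨⟨x, hxM⟩, ?_⟩
    rw [hθdef]
    have : φ.subgroupComap M ⟨x, hxM⟩ = e'.symm g := Subtype.ext hx
    rw [this, MulEquiv.apply_symm_apply]
  have hφL : ∀ l : ↥(M.comap φ), φ (l : Γ) = ε (θ l) := by
    intro l
    rw [hε, hθdef, MulEquiv.symm_apply_apply]
    rfl
  -- the matrix `Q`
  obtain ⟨Q, hQdef⟩ : ∃ Q : Matrix (Fin 2) (Fin 2) K,
      Q = !![s⁻¹, 0; 0, 1] * (t : Matrix (Fin 2) (Fin 2) K) := ⟨_, rfl⟩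
  have hQ : ∀ l : ↥(M.comap φ), Q * (φ (l : Γ) : Matrix (Fin 2) (Fin 2) K) =
      ((θ l : Matrix (Fin 2) (Fin 2) (ZMod p)).map (algebraMap (ZMod p) K)) * Q := by
    intro l
    have h1 : t * φ (l : Γ) = Cfsg.H5.Dickson.twist p s hs (θ l) * t := by
      rw [← ht (θ l), ← hφL l]
      group
    have h2 := congrArg (fun X : SpecialLinearGroup (Fin 2) K =>
      (X : Matrix (Fin 2) (Fin 2) K)) h1
    simp only [Matrix.SpecialLinearGroup.coe_mul, Cfsg.H5.Dickson.twist_coe] at h2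
    rw [hQdef, Matrix.mul_assoc, h2, ← Matrix.mul_assoc, diag_twistMat hs, Matrix.mul_assoc]
  have hQunit : IsUnit Q := by
    rw [Matrix.isUnit_iff_isUnit_det, hQdef, Matrix.det_mul, t.2, mul_one, Matrix.det_fin_two_of]
    simp only [mul_one, mul_zero, sub_zero]
    exact (inv_ne_zero hs).isUnit
  -- the twisted map
  obtain ⟨ψ', hψ'⟩ : ∃ ψ' : (Fin n → K) →ₗ[K] (Fin 2 → K), ∀ u, ψ' u = Q *ᵥ ψ u :=
    ⟨(Matrix.mulVecLin Q) ∘ₗ ψ, fun u => rfl⟩
  have hψ'equiv : ∀ l : ↥(M.comap φ), ∀ u ∈ U₁, ψ' (ρ (l : Γ) u) =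
      ((θ l : Matrix (Fin 2) (Fin 2) (ZMod p)).map (algebraMap (ZMod p) K)) *ᵥ ψ' u := by
    intro l u hu
    rw [hψ', hψ', hequiv (l : Γ) u hu, Matrix.mulVec_mulVec, hQ l, ← Matrix.mulVec_mulVec]
  have hψ'top : ∀ v : Fin 2 → K, ∃ u ∈ U₁, ψ' u = v := by
    intro v
    obtain ⟨v', hv'⟩ := (Matrix.mulVec_surjective_iff_isUnit.2 hQunit) v
    have hv'' : v' ∈ U₁.map ψ := by rw [hU₁top]; trivial
    obtain ⟨u, hu, rfl⟩ := hv''
    exact ⟨u, hu, by rw [hψ', hv']⟩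
  -- the `F_p`-form
  let ι : (Fin 2 → ZMod p) →ₗ[ZMod p] (Fin 2 → K) :=
    (Algebra.linearMap (ZMod p) K).compLeft (Fin 2)
  have hιapp : ∀ v j, ι v j = algebraMap (ZMod p) K (v j) := fun v j => rfl
  have hιinj : Function.Injective ι := by
    intro v w hvw
    ext j
    have := congrFun hvw j
    rw [hιapp, hιapp] at this
    exact (algebraMap (ZMod p) K).injective this
  have hιmul : ∀ (N : Matrix (Fin 2) (Fin 2) (ZMod p)) (v : Fin 2 → ZMod p),
      (N.map (algebraMap (ZMod p) K)) *ᵥ ι v = ι (N *ᵥ v) := by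
    intro N v
    ext j
    rw [hιapp]
    simp only [Matrix.mulVec, dotProduct, Matrix.map_apply, hιapp, map_sum, map_mul]
  obtain ⟨r, hr⟩ := LinearMap.exists_leftInverse_of_injective ι (LinearMap.ker_eq_bot.2 hιinj)
  have hr' : ∀ v, r (ι v) = v := fun v => by
    have := congrArg (fun F : (Fin 2 → ZMod p) →ₗ[ZMod p] (Fin 2 → ZMod p) => F v) hr
    simpa using this
  -- the data for the descent
  let A : Submodule (ZMod p) (Fin n → K) :=
    U₁.restrictScalars (ZMod p) ⊓ (LinearMap.range ι).comap (ψ'.restrictScalars (ZMod p))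
  have hAmem : ∀ u, u ∈ A ↔ u ∈ U₁ ∧ ∃ v, ι v = ψ' u := by
    intro u
    simp only [A, Submodule.mem_inf, Submodule.restrictScalars_mem, Submodule.mem_comap,
      LinearMap.mem_range, LinearMap.restrictScalars_apply]
  let f : (Fin n → K) →ₗ[ZMod p] (Fin 2 → ZMod p) := r ∘ₗ ψ'.restrictScalars (ZMod p)
  have hfapp : ∀ u, f u = r (ψ' u) := fun u => rfl
  have key : ∀ l : ↥(M.comap φ), ∀ u ∈ A, ∀ v, ι v = ψ' u →
      ψ' (ρ (l : Γ) u) = ι ((θ l : Matrix (Fin 2) (Fin 2) (ZMod p)) *ᵥ v) := by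
    intro l u hu v hv
    rw [hψ'equiv l u ((hAmem u).1 hu).1, ← hv, hιmul]
  obtain ⟨W₁, f', hW₁inv, hW₁top, hf'⟩ := descent (K := K)
    (ρ₀.comp (M.comap φ).subtype) θ hθ A f (by
      intro l u hu
      obtain ⟨hu1, v, hv⟩ := (hAmem u).1 hu
      rw [hAmem]
      refine ⟨hU₁inv (l : Γ) hu1, (θ l : Matrix (Fin 2) (Fin 2) (ZMod p)) *ᵥ v, ?_⟩
      exact (key l u hu v hv).symm) (by
      intro l u hu
      obtain ⟨hu1, v, hv⟩ := (hAmem u).1 hu
      rw [hfapp, hfapp]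
      have h1 := key l u hu v hv
      have h2 : ψ' (extEnd (ZMod p) K n ((ρ₀.comp (M.comap φ).subtype) l) u) =
          ι ((θ l : Matrix (Fin 2) (Fin 2) (ZMod p)) *ᵥ v) := h1
      rw [h2, hr', ← hv, hr']) (by
      rw [eq_top_iff]
      intro v _
      obtain ⟨u, hu, huv⟩ := hψ'top (ι v)
      refine ⟨u, (hAmem u).2 ⟨hu, v, huv.symm⟩, ?_⟩
      rw [hfapp, huv, hr'])
  exact ⟨M.comap φ, θ, W₁, f', hθ, hW₁inv, hW₁top, hf'⟩

/-- **The natural module in a quadratic pair.** -/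
theorem exists_natural (hp2 : p ≠ 2) {Γ : Type*} [Group Γ] [Finite Γ]
    (a b : Γ) (hgen : Subgroup.closure ({a, b} : Set Γ) = ⊤) (n : ℕ)
    (ρ₀ : Representation (ZMod p) Γ (Fin n → ZMod p))
    (hA₀ : (ρ₀ a - 1) * (ρ₀ a - 1) = 0) (hB₀ : (ρ₀ b - 1) * (ρ₀ b - 1) = 0)
    (hnp : ¬ Cfsg.H5.QP.PG p ρ₀) :
    ∃ (L : Subgroup Γ) (θ : L →* SpecialLinearGroup (Fin 2) (ZMod p))
      (W₁ : Submodule (ZMod p) (Fin n → ZMod p))
      (f : (Fin n → ZMod p) →ₗ[ZMod p] (Fin 2 → ZMod p)),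
      Function.Surjective θ ∧ (∀ l : L, ∀ w ∈ W₁, ρ₀ (l : Γ) w ∈ W₁) ∧ W₁.map f = ⊤ ∧
      ∀ l : L, ∀ w ∈ W₁, f (ρ₀ (l : Γ) w) = (θ l : Matrix (Fin 2) (Fin 2) (ZMod p)) *ᵥ f w := by
  have hpp : p.Prime := hp.out
  obtain ⟨e, k, hkp, hek⟩ := Nat.exists_eq_pow_mul_and_not_dvd
    (orderOf_pos (a * b)).ne' p hpp.ne_one
  have hk0 : 0 < k := by
    rcases Nat.eq_zero_or_pos k with h | h
    · exfalso; exact hkp (h ▸ dvd_zero p)
    · exact h
  have hkc : k.Coprime p := ((Nat.Prime.coprime_iff_not_dvd hpp).2 hkp).symm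
  obtain ⟨d, hd0, hkd⟩ := Cfsg.Agent.S0593.exists_dvd_pow_sub_one hpp.pos hkc hk0
  have hab' : (a * b) ^ (p ^ e * k) = 1 := by
    rw [← hek]
    exact pow_orderOf_eq_one _
  exact exists_natural_core hp2 (GaloisField p d) a b hgen n ρ₀ hA₀ hB₀ hnp e k hk0 hab'
    (by rw [GaloisField.card p d hd0]; exact hkd)

end Main

end Cfsg.H5.Qd
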