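import Mathlib
import Cfsg.Prelude.Def_PLocal
import Cfsg.Prelude.Def_LocalEven
import Cfsg.Agent.H5.DicksonP
import Cfsg.Agent.H5.QdDescent
import Cfsg.Agent.Lib.Helper16.Qd2

/-!
# A natural `SL(2, p)`-module inside a group gives a section `Qd(p)`

`involves_qd_of_natural`: if a subgroup `H` of a finite group `X` normalizes an abelian subgroup `V₁`
of exponent `p` (`p` odd), maps onto `SL(2, p)` by `θ`, and `V₁` maps onto `F_p²` equivariantly,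
then `Qd(p)` is involved in `X`.
-/

set_option autoImplicit false
set_option linter.style.haveILetI false

namespace Cfsg.H5.Qd

open Matrix Cfsg.Agent.Lib.Helper16
open scoped Matrix

section Frattini

variable {p : ℕ} [hp : Fact p.Prime]

/-- the Frattini argument for a `2`-element mapping to `-1` -/
theorem frattini_part {H : Type*} [Group H] [Finite H]
    (θ : H →* SpecialLinearGroup (Fin 2) (ZMod p)) (hθ : Function.Surjective θ) :
    ∃ (H₁ : Subgroup H) (t : H), (∀ g, ∃ h ∈ H₁, θ h = g) ∧ θ t = -1 ∧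
      ∀ h ∈ H₁, ∃ k : ℕ, (h * t * h⁻¹ * t⁻¹) ^ (2 ^ k) = 1 := by
  obtain ⟨z, hz⟩ : ∃ z : SpecialLinearGroup (Fin 2) (ZMod p), z = -1 := ⟨_, rfl⟩
  have hzc : ∀ g : SpecialLinearGroup (Fin 2) (ZMod p), Commute g z := by
    intro g
    show g * z = z * g
    rw [hz, mul_neg, mul_one, neg_mul, one_mul]
  have hZn : (Subgroup.zpowers z).Normal := by
    refine ⟨fun n hn g => ?_⟩
    obtain ⟨k, rfl⟩ := Subgroup.mem_zpowers_iff.1 hn
    have h1 : Commute g (z ^ k) := (hzc g).zpow_right k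
    rw [h1.eq, mul_inv_cancel_right]
    exact Subgroup.zpow_mem _ (Subgroup.mem_zpowers z) k
  obtain ⟨N₂, hN₂⟩ : ∃ N₂ : Subgroup H, N₂ = (Subgroup.zpowers z).comap θ := ⟨_, rfl⟩
  have hN₂n : N₂.Normal := by rw [hN₂]; exact Subgroup.Normal.comap hZn θ
  obtain ⟨t₀, ht₀⟩ := hθ z
  obtain ⟨a, m, hm2, ham⟩ := Nat.exists_eq_pow_mul_and_not_dvd
    (orderOf_pos t₀).ne' 2 (by norm_num)
  have hmodd : Odd m := Nat.odd_iff.2 (Nat.two_dvd_ne_zero.1 hm2)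
  obtain ⟨t, ht⟩ : ∃ t : H, t = t₀ ^ m := ⟨_, rfl⟩
  have hθt : θ t = z := by
    rw [ht, map_pow, ht₀, hz, hmodd.neg_one_pow]
  have htpow : t ^ (2 ^ a) = 1 := by
    rw [ht, ← pow_mul, mul_comm, ← ham]
    exact pow_orderOf_eq_one t₀
  have htN : t ∈ N₂ := by
    rw [hN₂, Subgroup.mem_comap, hθt]
    exact Subgroup.mem_zpowers z
  have hQ : IsPGroup 2 (Subgroup.zpowers (⟨t, htN⟩ : N₂)) := by
    apply Cfsg.H5.Dickson.isPGroup_zpowers (k := a)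
    apply Subtype.ext
    rw [Subgroup.coe_pow, Subgroup.coe_one]
    exact htpow
  obtain ⟨T, hT⟩ := hQ.exists_le_sylow
  obtain ⟨T', hT'⟩ : ∃ T' : Subgroup H, T' = (T : Subgroup N₂).map N₂.subtype := ⟨_, rfl⟩
  have htT' : t ∈ T' := by
    rw [hT']
    exact ⟨⟨t, htN⟩, hT (Subgroup.mem_zpowers _), rfl⟩
  have hT'p : IsPGroup 2 T' := by rw [hT']; exact T.2.map _
  have hfrat : Subgroup.normalizer (T' : Set H) ⊔ N₂ = ⊤ := by
    rw [hT']
    exact Sylow.normalizer_sup_eq_top T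
  refine ⟨Subgroup.normalizer (T' : Set H), t, ?_, by rw [hθt, hz], ?_⟩
  · intro g
    obtain ⟨h₀, hh₀⟩ := hθ g
    have h1 : h₀ ∈ ((Subgroup.normalizer (T' : Set H) ⊔ N₂ : Subgroup H) : Set H) := by
      rw [hfrat]; trivial
    rw [Subgroup.mul_normal] at h1
    obtain ⟨n, hn, x, hx, rfl⟩ := Set.mem_mul.1 h1
    have hx' : θ x ∈ Subgroup.zpowers z := by
      rw [SetLike.mem_coe, hN₂, Subgroup.mem_comap] at hx
      exact hx
    obtain ⟨k, hk⟩ := Subgroup.mem_zpowers_iff.1 hx'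
    refine ⟨n * t ^ k, mul_mem hn (Subgroup.zpow_mem _ (Subgroup.le_normalizer htT') k), ?_⟩
    rw [map_mul, map_zpow, hθt, hk, ← hh₀, map_mul]
  · intro h hh
    have h1 : h * t * h⁻¹ ∈ T' := (Subgroup.mem_normalizer_iff.1 hh t).1 htT'
    have h2 : h * t * h⁻¹ * t⁻¹ ∈ T' := mul_mem h1 (inv_mem htT')
    obtain ⟨k, hk⟩ := hT'p ⟨_, h2⟩
    refine ⟨k, ?_⟩
    have := congrArg Subtype.val hk
    simpa using this

end Frattini

section Construction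

variable {p : ℕ} [hp : Fact p.Prime] {X : Type*} [Group X]

theorem eq_one_of_mulVec_eq_zmod {M : Matrix (Fin 2) (Fin 2) (ZMod p)}
    (h : ∀ v, M *ᵥ v = v) : M = 1 := by
  apply Matrix.toLin'.injective
  apply LinearMap.ext
  intro v
  rw [Matrix.toLin'_apply, Matrix.toLin'_one, LinearMap.id_apply, h]

/-- the construction of the section `Qd(p)` from a complemented natural module -/
theorem involves_qd_of_split (V₁ H₁ : Subgroup X)
    (hVcomm : ∀ x ∈ V₁, ∀ y ∈ V₁, x * y = y * x)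
    (hHV : H₁ ≤ Subgroup.normalizer (V₁ : Set X))
    (θ₁ : ↥H₁ →* SpecialLinearGroup (Fin 2) (ZMod p)) (hθ₁ : Function.Surjective θ₁)
    (f : X → (Fin 2 → ZMod p))
    (hfmul : ∀ x ∈ V₁, ∀ y ∈ V₁, f (x * y) = f x + f y)
    (hfsurj : ∀ w, ∃ v ∈ V₁, f v = w)
    (hequiv : ∀ (h : ↥H₁), ∀ v ∈ V₁, f ((h : X) * v * (h : X)⁻¹) =
      (θ₁ h : Matrix (Fin 2) (Fin 2) (ZMod p)) *ᵥ f v)
    (hI : ∀ h : ↥H₁, (h : X) ∈ V₁ → f (h : X) = 0) :
    Cfsg.Involves ↥(Cfsg.qd p) X := by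
  classical
  have hf1 : f 1 = 0 := by
    have h1 := hfmul 1 V₁.one_mem 1 V₁.one_mem
    rw [mul_one] at h1
    have h2 : f 1 + 0 = f 1 + f 1 := by rw [add_zero]; exact h1
    exact (add_left_cancel h2).symm
  have hfinv : ∀ v ∈ V₁, f v⁻¹ = -f v := by
    intro v hv
    have h1 := hfmul v hv v⁻¹ (V₁.inv_mem hv)
    rw [mul_inv_cancel, hf1] at h1
    exact eq_neg_of_add_eq_zero_right h1.symm
  have hconj : ∀ (h : ↥H₁), ∀ v ∈ V₁, (h : X) * v * (h : X)⁻¹ ∈ V₁ := fun h v hv =>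
    (Subgroup.mem_normalizer_iff.1 (hHV h.2) v).1 hv
  have hθI : ∀ h : ↥H₁, (h : X) ∈ V₁ → θ₁ h = 1 := by
    intro h hh
    apply Subtype.ext
    rw [Matrix.SpecialLinearGroup.coe_one]
    apply eq_one_of_mulVec_eq_zmod
    intro w
    obtain ⟨v, hv, rfl⟩ := hfsurj w
    rw [← hequiv h v hv, hVcomm _ hh v hv, mul_inv_cancel_right]
  -- decompositions
  have hdec : ∀ x : ↥(V₁ ⊔ H₁), ∃ v ∈ V₁, ∃ h ∈ H₁, v * h = (x : X) := by
    intro x
    have h1 : (x : X) ∈ ((V₁ ⊔ H₁ : Subgroup X) : Set X) := x.2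
    rw [Subgroup.coe_mul_of_right_le_normalizer_left V₁ H₁ hHV] at h1
    exact Set.mem_mul.1 h1
  have hWD : ∀ v ∈ V₁, ∀ (h : X) (hh : h ∈ H₁), ∀ v' ∈ V₁, ∀ (h' : X) (hh' : h' ∈ H₁),
      v * h = v' * h' → f v = f v' ∧ θ₁ ⟨h, hh⟩ = θ₁ ⟨h', hh'⟩ := by
    intro v hv h hh v' hv' h' hh' heq
    have hy : v'⁻¹ * v = h' * h⁻¹ := by
      have : v = v' * h' * h⁻¹ := by rw [← heq, mul_inv_cancel_right]
      rw [this]; group
    have hyV : v'⁻¹ * v ∈ V₁ := mul_mem (inv_mem hv') hv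
    have hyH : h' * h⁻¹ ∈ H₁ := mul_mem hh' (inv_mem hh)
    have hyV' : ((⟨h' * h⁻¹, hyH⟩ : ↥H₁) : X) ∈ V₁ := by
      show h' * h⁻¹ ∈ V₁
      rw [← hy]; exact hyV
    constructor
    · have h1 := hI ⟨h' * h⁻¹, hyH⟩ hyV'
      have h2 : f (v'⁻¹ * v) = 0 := by rw [hy]; exact h1
      rw [hfmul _ (inv_mem hv') _ hv, hfinv v' hv'] at h2
      exact (neg_add_eq_zero.1 h2).symm
    · have h1 := hθI ⟨h' * h⁻¹, hyH⟩ hyV'
      have h2 : (⟨h' * h⁻¹, hyH⟩ : ↥H₁) = ⟨h', hh'⟩ * ⟨h, hh⟩⁻¹ := rfl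
      rw [h2, map_mul, map_inv, mul_inv_eq_one] at h1
      exact h1.symm
  -- the map
  let Ψ₀ : ↥(V₁ ⊔ H₁) → affSL3 (ZMod p) := fun x =>
    affMk (θ₁ ⟨(hdec x).choose_spec.2.choose, (hdec x).choose_spec.2.choose_spec.1⟩)
      (f (hdec x).choose)
  have hΨ₀ : ∀ (x : ↥(V₁ ⊔ H₁)), ∀ v ∈ V₁, ∀ (h : X) (hh : h ∈ H₁), v * h = (x : X) →
      Ψ₀ x = affMk (θ₁ ⟨h, hh⟩) (f v) := by
    intro x v hv h hh hx
    have hspec := (hdec x).choose_spec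
    have hspec2 := hspec.2.choose_spec
    obtain ⟨e1, e2⟩ := hWD _ hspec.1 _ hspec2.1 v hv h hh (hspec2.2.trans hx.symm)
    show affMk (θ₁ ⟨(hdec x).choose_spec.2.choose, _⟩) (f (hdec x).choose) = _
    rw [e1, e2]
  have hΨmul : ∀ x y : ↥(V₁ ⊔ H₁), Ψ₀ (x * y) = Ψ₀ x * Ψ₀ y := by
    intro x y
    obtain ⟨v, hv, h, hh, hx⟩ := hdec x
    obtain ⟨v', hv', h', hh', hy⟩ := hdec y
    have hc : h * v' * h⁻¹ ∈ V₁ := hconj ⟨h, hh⟩ v' hv'
    have hxy : (v * (h * v' * h⁻¹)) * (h * h') = ((x * y : ↥(V₁ ⊔ H₁)) : X) := by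
      rw [Subgroup.coe_mul, ← hx, ← hy]; group
    rw [hΨ₀ (x * y) _ (mul_mem hv hc) _ (mul_mem hh hh') hxy, hΨ₀ x v hv h hh hx,
      hΨ₀ y v' hv' h' hh' hy, affMk_mul, hfmul v hv _ hc, hequiv ⟨h, hh⟩ v' hv', add_comm]
    have hm : (⟨h * h', mul_mem hh hh'⟩ : ↥H₁) = ⟨h, hh⟩ * ⟨h', hh'⟩ := rfl
    rw [hm, map_mul]
  let Ψ : ↥(V₁ ⊔ H₁) →* affSL3 (ZMod p) := MonoidHom.mk' Ψ₀ hΨmul
  have hΨsurj : Function.Surjective Ψ := by
    intro M
    obtain ⟨h, hh⟩ := hθ₁ (affLin M)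
    obtain ⟨v, hv, hfv⟩ := hfsurj (affTr M)
    have hx : v * (h : X) ∈ V₁ ⊔ H₁ :=
      mul_mem (Subgroup.mem_sup_left hv) (Subgroup.mem_sup_right h.2)
    refine ⟨⟨v * (h : X), hx⟩, ?_⟩
    show Ψ₀ ⟨v * (h : X), hx⟩ = M
    rw [hΨ₀ ⟨v * (h : X), hx⟩ v hv (h : X) h.2 rfl, hfv]
    have : (⟨(h : X), h.2⟩ : ↥H₁) = h := rfl
    rw [this, hh, affMk_eta]
  -- the section
  have hker : (Ψ.ker.map (V₁ ⊔ H₁).subtype).subgroupOf (V₁ ⊔ H₁) = Ψ.ker :=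
    Subgroup.comap_map_eq_self_of_injective (V₁ ⊔ H₁).subtype_injective Ψ.ker
  have hL : ((Ψ.ker.map (V₁ ⊔ H₁).subtype).subgroupOf (V₁ ⊔ H₁)).Normal := by
    rw [hker]
    infer_instance
  refine ⟨V₁ ⊔ H₁, Ψ.ker.map (V₁ ⊔ H₁).subtype, hL, ?_⟩
  exact ⟨((QuotientGroup.quotientMulEquivOfEq hker).trans
    (QuotientGroup.quotientKerEquivOfSurjective Ψ hΨsurj)).trans
    (MulEquiv.subgroupCongr (qd_eq_affSL3 p).symm)⟩

end Construction

section Natural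

variable {p : ℕ} [hp : Fact p.Prime] {X : Type*} [Group X]

/-- **a natural module gives a section `Qd(p)`** -/
theorem involves_qd_of_natural [Finite X] (hp2 : p ≠ 2) (V₁ H : Subgroup X)
    (hVcomm : ∀ x ∈ V₁, ∀ y ∈ V₁, x * y = y * x) (hVp : ∀ x ∈ V₁, x ^ p = 1)
    (hHV : H ≤ Subgroup.normalizer (V₁ : Set X))
    (θ : ↥H →* SpecialLinearGroup (Fin 2) (ZMod p)) (hθ : Function.Surjective θ)
    (f : X → (Fin 2 → ZMod p))
    (hfmul : ∀ x ∈ V₁, ∀ y ∈ V₁, f (x * y) = f x + f y)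
    (hfsurj : ∀ w, ∃ v ∈ V₁, f v = w)
    (hequiv : ∀ (h : ↥H), ∀ v ∈ V₁, f ((h : X) * v * (h : X)⁻¹) =
      (θ h : Matrix (Fin 2) (Fin 2) (ZMod p)) *ᵥ f v) :
    Cfsg.Involves ↥(Cfsg.qd p) X := by
  obtain ⟨H₁, t, hsurj, hθt, h2pow⟩ := frattini_part θ hθ
  have hle : H₁.map H.subtype ≤ H := Subgroup.map_subtype_le H₁
  have hincl : ∀ x : ↥(H₁.map H.subtype), Subgroup.inclusion hle x ∈ H₁ := by
    rintro ⟨_, h, hh, rfl⟩
    have : Subgroup.inclusion hle ⟨H.subtype h, h, hh, rfl⟩ = h := Subtype.ext rfl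
    rw [this]; exact hh
  have h2 : (2 : ZMod p) ≠ 0 := Cfsg.H5.SL2.two_ne_zero_of_char (K := ZMod p) hp.out hp2
  refine involves_qd_of_split V₁ (H₁.map H.subtype) hVcomm (hle.trans hHV)
    (θ.comp (Subgroup.inclusion hle)) ?_ f hfmul hfsurj ?_ ?_
  · intro g
    obtain ⟨h, hh, hθh⟩ := hsurj g
    refine ⟨⟨(h : X), h, hh, rfl⟩, ?_⟩
    rw [MonoidHom.comp_apply]
    have : Subgroup.inclusion hle ⟨(h : X), h, hh, rfl⟩ = h := Subtype.ext rfl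
    rw [this, hθh]
  · intro x v hv
    exact hequiv (Subgroup.inclusion hle x) v hv
  · intro x hxV
    obtain ⟨k, hk⟩ := h2pow (Subgroup.inclusion hle x) (hincl x)
    have hk' : ((x : X) * (t : X) * (x : X)⁻¹ * (t : X)⁻¹) ^ (2 ^ k) = 1 := by
      have := congrArg (fun y : ↥H => (y : X)) hk
      simpa using this
    have htx : (t : X) * (x : X)⁻¹ * (t : X)⁻¹ ∈ V₁ :=
      (Subgroup.mem_normalizer_iff.1 (hHV t.2) _).1 (inv_mem hxV)
    have hcV : (x : X) * (t : X) * (x : X)⁻¹ * (t : X)⁻¹ ∈ V₁ := by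
      have e : (x : X) * (t : X) * (x : X)⁻¹ * (t : X)⁻¹ =
          (x : X) * ((t : X) * (x : X)⁻¹ * (t : X)⁻¹) := by group
      rw [e]; exact mul_mem hxV htx
    have hc1 : (x : X) * (t : X) * (x : X)⁻¹ * (t : X)⁻¹ = 1 := by
      rw [← orderOf_eq_one_iff]
      have d1 : orderOf ((x : X) * (t : X) * (x : X)⁻¹ * (t : X)⁻¹) ∣ p :=
        orderOf_dvd_of_pow_eq_one (hVp _ hcV)
      have d2 : orderOf ((x : X) * (t : X) * (x : X)⁻¹ * (t : X)⁻¹) ∣ 2 ^ k :=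
        orderOf_dvd_of_pow_eq_one hk'
      have hcop : Nat.Coprime p (2 ^ k) :=
        Nat.Coprime.pow_right k ((Nat.coprime_primes hp.out Nat.prime_two).2 hp2)
      exact Nat.eq_one_of_dvd_coprimes hcop d1 d2
    have hcomm : (t : X) * (x : X) * (t : X)⁻¹ = (x : X) := by
      have e : (x : X) * (t : X) = (t : X) * (x : X) := by
        calc (x : X) * (t : X) = ((x : X) * (t : X) * (x : X)⁻¹ * (t : X)⁻¹) * ((t : X) * (x : X)) := by
              group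
          _ = (t : X) * (x : X) := by rw [hc1, one_mul]
      rw [← e, mul_inv_cancel_right]
    have h3 := hequiv t (x : X) hxV
    rw [hcomm, hθt, Matrix.SpecialLinearGroup.coe_neg, Matrix.SpecialLinearGroup.coe_one,
      Matrix.neg_mulVec, Matrix.one_mulVec] at h3
    ext i
    have h4 := congrFun h3 i
    rw [Pi.neg_apply] at h4
    have h5 : (2 : ZMod p) * f (x : X) i = 0 := by linear_combination h4
    exact (mul_eq_zero.1 h5).resolve_left h2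

end Natural

end Cfsg.H5.Qd
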