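import Mathlib
import Cfsg.Agent.H5.SL2pSection
import Cfsg.Agent.H5.ActionPStable
import Cfsg.Agent.H5.PStableQuot
import Cfsg.Agent.H5.Linearize
import Cfsg.Agent.Lib.Helper1.Frattini

/-!
# Groups without a section `SL(2, p)` are `p`-stable

`autStable_of_not_hasSectionP`: a finite group with no section `SL(2, p)` (`p` odd) acts
`p`-stably on every elementary abelian `p`-group.
`inOp_of_not_hasSectionP`: in such a group an element acting quadratically on a normal
`p`-subgroup `P` lies in the preimage of `O_p(N(P)/C(P))`.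
-/

set_option autoImplicit false
set_option linter.style.haveILetI false

namespace Cfsg.H5.SL2p

open Cfsg
open scoped commutatorElement

universe u

theorem autStable_of_not_hasSectionP {Γ : Type u} [Group Γ] [Finite Γ] {p : ℕ} [Fact p.Prime]
    (hp : p ≠ 2) (h : ¬ HasSectionP p Γ) : Cfsg.H5.APS.AutStable p Γ := by
  intro A _ _ hcomm hexp σ a hq C hCn hC
  subst hC
  by_contra hna
  apply h
  have hinj := QuotientGroup.kerLift_injective σ
  obtain ⟨n, θ, ρ, hρ⟩ := Cfsg.H5.Lin.exists_rep_of_comm hcomm hexp (QuotientGroup.kerLift σ)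
  have hfaith : ∀ g, ρ g = 1 → g = 1 := by
    intro g hg
    have h1 := (Cfsg.H5.Lin.rep_eq_one_iff_aux θ ρ _ hρ g).1 hg
    apply hinj
    rw [h1, map_one]
  have hA : (ρ (QuotientGroup.mk a) - 1) * (ρ (QuotientGroup.mk a) - 1) = 0 := by
    apply Cfsg.H5.Lin.rep_quadratic_aux θ ρ _ hρ
    intro w
    rw [QuotientGroup.kerLift_mk]
    exact hq w
  exact hasSectionP_of_surjective (QuotientGroup.mk' σ.ker) (QuotientGroup.mk'_surjective _)
    (section_of_quadratic hp n ρ hfaith _ hA hna)

/-- the kernel of the action on `P / Φ(P)` is a `p`-group modulo `C(P)` -/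
theorem pow_mem_centralizer_of_mem_sectionKernel {X : Type*} [Group X] [Finite X] {p : ℕ}
    [Fact p.Prime] (P : Subgroup X) [hPn : P.Normal] (hP : IsPGroup p P) {l : X}
    (hl : l ∈ Cfsg.sectionKernel P ((frattini ↥P).map P.subtype)) :
    ∃ k : ℕ, l ^ (p ^ k) ∈ Subgroup.centralizer (P : Set X) := by
  have hpp : p.Prime := Fact.out
  obtain ⟨e, m, hmp, hem⟩ := Nat.exists_eq_pow_mul_and_not_dvd (orderOf_pos l).ne' p hpp.ne_one
  refine ⟨e, ?_⟩
  obtain ⟨y, hy⟩ : ∃ y : X, y = l ^ (p ^ e) := ⟨_, rfl⟩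
  rw [← hy]
  have hym : y ^ m = 1 := by
    rw [hy, ← pow_mul, ← hem]
    exact pow_orderOf_eq_one l
  have hcop : m.Coprime p := ((Nat.Prime.coprime_iff_not_dvd hpp).2 hmp).symm
  have hyK : y ∈ Cfsg.sectionKernel P ((frattini ↥P).map P.subtype) := by
    rw [hy]
    exact Subgroup.pow_mem _ hl _
  have hA : Subgroup.zpowers y ≤ Subgroup.centralizer (P : Set X) := by
    apply Cfsg.Agent.Lib.Helper1.le_centralizer_of_commutator_le_frattini (Subgroup.zpowers y) P
    · rw [Subgroup.normalizer_eq_top]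
      exact le_top
    · rw [Nat.card_zpowers]
      have h1 : orderOf y ∣ m := orderOf_dvd_of_pow_eq_one hym
      obtain ⟨j, hj⟩ := IsPGroup.iff_card.1 (hP.to_subgroup (frattini ↥P))
      rw [hj]
      exact Nat.Coprime.pow_right j (hcop.coprime_dvd_left h1)
    · intro a ha k hk
      have haK : a ∈ Cfsg.sectionKernel P ((frattini ↥P).map P.subtype) :=
        (Subgroup.zpowers_le.2 hyK) ha
      have h1 := (Cfsg.H5.APS.mem_sectionKernel_iff.1 haK) k hk
      have h2 : a * k * a⁻¹ * k⁻¹ = ⁅k, a⁆⁻¹ := by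
        rw [commutatorElement_inv]
        rfl
      rw [h2]
      exact inv_mem h1
  exact hA (Subgroup.mem_zpowers y)

/-- **`p`-stability of groups without a section `SL(2, p)`**, elementwise form -/
theorem inOp_of_not_hasSectionP {X : Type u} [Group X] [Finite X] {p : ℕ} [Fact p.Prime]
    (hp : p ≠ 2) (hns : ¬ HasSectionP p X) (P : Subgroup X) [hPn : P.Normal]
    (hP : IsPGroup p P) (a : X)
    (hq : ⁅⁅P, Subgroup.zpowers a⁆, Subgroup.zpowers a⁆ = ⊥) : Cfsg.H5.PSt.InOp p P a := by
  have hAS := autStable_of_not_hasSectionP hp hns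
  have hsec := Cfsg.H5.APS.isPStableOnSection_of_autStable hAS P hP
  obtain ⟨D, hDn, hKD, ⟨k, hk⟩, haD⟩ := hsec a (by rw [hq]; exact bot_le)
  haveI := hDn
  haveI hKn : (Cfsg.sectionKernel P ((frattini ↥P).map P.subtype)).Normal :=
    Cfsg.H5.APS.sectionKernel_normal _ _
  refine ⟨D, ?_, ?_, ?_, ?_, haD⟩
  · refine le_trans ?_ hKD
    intro c hc
    rw [Cfsg.H5.APS.mem_sectionKernel_iff]
    intro v hv
    have h1 : ⁅v, c⁆ = 1 := by
      rw [commutatorElement_eq_one_iff_mul_comm]
      exact Subgroup.mem_centralizer_iff.1 hc v hv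
    rw [h1]
    exact one_mem _
  · rw [Subgroup.normalizer_eq_top]
    exact le_top
  · rw [Subgroup.normalizer_eq_top (H := D)]
    exact le_top
  · intro l hl
    have h1 : l ^ (p ^ k) ∈ Cfsg.sectionKernel P ((frattini ↥P).map P.subtype) := by
      rw [← hk]
      exact Subgroup.pow_relIndex_mem _ hl
    obtain ⟨e, he⟩ := pow_mem_centralizer_of_mem_sectionKernel P hP h1
    exact ⟨k + e, by rw [pow_add, pow_mul]; exact he⟩

end Cfsg.H5.SL2p
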