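import Mathlib
import Cfsg.Agent.H5.QdSection
import Cfsg.Agent.H5.QdDescent
import Cfsg.Agent.H5.Linearize
import Cfsg.Agent.H5.SL2Stable
import Cfsg.Agent.H5.ActionPStable
import Cfsg.Agent.H5.PStableQuot
import Cfsg.Agent.H5.SL2pStable
import Cfsg.Agent.H5.GlaubRepl
import Cfsg.Agent.Lib.Helper1.BaerSuzuki
import Cfsg.Agent.Lib.Helper1.Frattini
import Cfsg.Agent.Lib.Helper27.Involves

/-!
# `Qd(p)`-free groups are `p`-stable

`isPStableOn_of_qdFree`: in a finite group not involving `Qd(p)` (`p` odd) the conjugation action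
on every normal elementary abelian `p`-subgroup is `p`-stable.
`inOp_of_qdFree`: in such a group an element acting quadratically on a normal `p`-subgroup `P`
lies in the preimage of `O_p(N(P)/C(P))`.
-/

set_option autoImplicit false
set_option linter.style.haveILetI false

namespace Cfsg.H5.Qd

open Cfsg
open scoped commutatorElement Matrix

variable {X : Type*} [Group X] {p : ℕ} [hp : Fact p.Prime]

omit hp in
/-- conjugates of a quadratically acting element act quadratically on a normal subgroup -/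
theorem quad_conj (V : Subgroup X) [hVn : V.Normal] (a g : X)
    (hq : ∀ v ∈ V, a * (a * v * a⁻¹ * v⁻¹) = (a * v * a⁻¹ * v⁻¹) * a) :
    ∀ v ∈ V, (g * a * g⁻¹) * ((g * a * g⁻¹) * v * (g * a * g⁻¹)⁻¹ * v⁻¹) =
      ((g * a * g⁻¹) * v * (g * a * g⁻¹)⁻¹ * v⁻¹) * (g * a * g⁻¹) := by
  intro v hv
  have hv' : g⁻¹ * v * g ∈ V := by
    have := hVn.conj_mem v hv g⁻¹
    rwa [inv_inv] at this
  have h1 := hq _ hv'
  have e1 : (g * a * g⁻¹) * ((g * a * g⁻¹) * v * (g * a * g⁻¹)⁻¹ * v⁻¹) =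
      g * (a * (a * (g⁻¹ * v * g) * a⁻¹ * (g⁻¹ * v * g)⁻¹)) * g⁻¹ := by group
  have e2 : ((g * a * g⁻¹) * v * (g * a * g⁻¹)⁻¹ * v⁻¹) * (g * a * g⁻¹) =
      g * ((a * (g⁻¹ * v * g) * a⁻¹ * (g⁻¹ * v * g)⁻¹) * a) * g⁻¹ := by group
  rw [e1, e2, h1]

/-- **`Qd(p)`-free groups act `p`-stably on normal elementary abelian `p`-subgroups** -/
theorem isPStableOn_of_qdFree [Finite X] (hp2 : p ≠ 2)
    (hfree : ¬ Cfsg.Involves ↥(Cfsg.qd p) X) (V : Subgroup X) [hVn : V.Normal]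
    (hV : Cfsg.IsElementaryAbelian p V) : Cfsg.IsPStableOn p V := by
  classical
  intro a hq
  by_contra hna
  apply hfree
  have hqa := Cfsg.H5.APS.quad_elementwise hq
  have hBS : ∃ g₁ g₂ : X, ¬ IsPGroup p (Subgroup.closure
      ({(QuotientGroup.mk (g₁ * a * g₁⁻¹) : X ⧸ Subgroup.centralizer (V : Set X)),
        QuotientGroup.mk (g₂ * a * g₂⁻¹)} : Set (X ⧸ Subgroup.centralizer (V : Set X)))) := by
    by_contra hcon
    push Not at hcon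
    apply hna
    refine Cfsg.Agent.Lib.Helper1.baer_suzuki (p := p)
      {x : X ⧸ Subgroup.centralizer (V : Set X) | ∃ h : X, x = QuotientGroup.mk (h * a * h⁻¹)}
      ?_ ?_ _ ⟨1, by simp⟩
    · rintro g x ⟨h, rfl⟩
      obtain ⟨g, rfl⟩ := QuotientGroup.mk_surjective g
      refine ⟨g * h, ?_⟩
      rw [← QuotientGroup.mk_inv, ← QuotientGroup.mk_mul, ← QuotientGroup.mk_mul]
      congr 1
      group
    · rintro x ⟨h₁, rfl⟩ y ⟨h₂, rfl⟩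
      exact hcon h₁ h₂
  obtain ⟨g₁, g₂, hnp⟩ := hBS
  obtain ⟨x, hx⟩ : ∃ x : X, x = g₁ * a * g₁⁻¹ := ⟨_, rfl⟩
  obtain ⟨y, hy⟩ : ∃ y : X, y = g₂ * a * g₂⁻¹ := ⟨_, rfl⟩
  rw [← hx, ← hy] at hnp
  obtain ⟨Δ, hΔ⟩ : ∃ Δ : Subgroup X, Δ = Subgroup.closure {x, y} := ⟨_, rfl⟩
  have hxΔ : x ∈ Δ := by rw [hΔ]; exact Subgroup.subset_closure (by simp)
  have hyΔ : y ∈ Δ := by rw [hΔ]; exact Subgroup.subset_closure (by simp)
  have hΔV : Δ ≤ Subgroup.normalizer (V : Set X) := by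
    rw [Subgroup.normalizer_eq_top]
    exact le_top
  obtain ⟨n, θ₀, ρ₀, hρ⟩ := Cfsg.H5.Lin.exists_rep V Δ hV hΔV
  have hA : (ρ₀ ⟨x, hxΔ⟩ - 1) * (ρ₀ ⟨x, hxΔ⟩ - 1) = 0 := by
    apply Cfsg.H5.Lin.rep_quadratic θ₀ ρ₀ hρ hΔV
    simp only
    rw [hx]
    exact quad_conj V a g₁ hqa
  have hB : (ρ₀ ⟨y, hyΔ⟩ - 1) * (ρ₀ ⟨y, hyΔ⟩ - 1) = 0 := by
    apply Cfsg.H5.Lin.rep_quadratic θ₀ ρ₀ hρ hΔV
    simp only
    rw [hy]
    exact quad_conj V a g₂ hqa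
  have hnPG : ¬ Cfsg.H5.QP.PG p ρ₀ := by
    intro hPG
    apply hnp
    have hmap : Subgroup.closure
        ({(QuotientGroup.mk x : X ⧸ Subgroup.centralizer (V : Set X)), QuotientGroup.mk y} :
          Set (X ⧸ Subgroup.centralizer (V : Set X))) =
        Δ.map (QuotientGroup.mk' (Subgroup.centralizer (V : Set X))) := by
      rw [hΔ, MonoidHom.map_closure, Set.image_pair]
      rfl
    rw [hmap]
    rintro ⟨_, d, hd, rfl⟩
    obtain ⟨j, hj⟩ := hPG ⟨d, hd⟩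
    refine ⟨j, ?_⟩
    apply Subtype.ext
    rw [Subgroup.coe_pow, Subgroup.coe_one]
    show (QuotientGroup.mk' (Subgroup.centralizer (V : Set X)) d) ^ (p ^ j) = 1
    rw [← map_pow, QuotientGroup.mk'_apply, QuotientGroup.eq_one_iff]
    rw [← map_pow] at hj
    have := (Cfsg.H5.Lin.rep_eq_one_iff θ₀ ρ₀ hρ hΔV _).1 hj
    simpa using this
  obtain ⟨L, θ, W₁, f₀, hθ, hinv, hW, hequiv⟩ := exists_natural hp2 (⟨x, hxΔ⟩ : Δ) ⟨y, hyΔ⟩
    (Cfsg.H5.SL2S.closure_pair_top x y Δ hΔ hxΔ hyΔ) n ρ₀ hA hB hnPG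
  -- translation into subgroups of `X`
  let V₁ : Subgroup X :=
    { carrier := {v | ∃ hv : v ∈ V, θ₀ (Additive.ofMul (⟨v, hv⟩ : ↥V)) ∈ W₁}
      one_mem' := ⟨V.one_mem, by
        have : (⟨1, V.one_mem⟩ : ↥V) = 1 := rfl
        rw [this, ofMul_one, map_zero]
        exact W₁.zero_mem⟩
      mul_mem' := by
        rintro v w ⟨hv, hv1⟩ ⟨hw, hw1⟩
        refine ⟨V.mul_mem hv hw, ?_⟩
        have : (⟨v * w, V.mul_mem hv hw⟩ : ↥V) = ⟨v, hv⟩ * ⟨w, hw⟩ := rfl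
        rw [this, ofMul_mul, map_add]
        exact W₁.add_mem hv1 hw1
      inv_mem' := by
        rintro v ⟨hv, hv1⟩
        refine ⟨V.inv_mem hv, ?_⟩
        have : (⟨v⁻¹, V.inv_mem hv⟩ : ↥V) = (⟨v, hv⟩ : ↥V)⁻¹ := rfl
        rw [this, ofMul_inv, map_neg]
        exact W₁.neg_mem hv1 }
  have hV₁ : ∀ v, v ∈ V₁ ↔ ∃ hv : v ∈ V, θ₀ (Additive.ofMul (⟨v, hv⟩ : ↥V)) ∈ W₁ :=
    fun v => Iff.rfl
  have hconjV : ∀ (d : ↥Δ) (v : X), v ∈ V → (d : X) * v * (d : X)⁻¹ ∈ V :=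
    fun d v hv => hVn.conj_mem v hv d
  obtain ⟨H, hH⟩ : ∃ H : Subgroup X, H = L.map Δ.subtype := ⟨_, rfl⟩
  -- elements of `H` come from `L`
  have hHl : ∀ h : ↥H, ∃ l : ↥L, ((l : ↥Δ) : X) = (h : X) := by
    rintro ⟨h, hh⟩
    rw [hH] at hh
    obtain ⟨d, hd, rfl⟩ := hh
    exact ⟨⟨d, hd⟩, rfl⟩
  let e : ↥L ≃* ↥H := (L.equivMapOfInjective Δ.subtype Δ.subtype_injective).trans
    (MulEquiv.subgroupCongr hH.symm)
  have he : ∀ l : ↥L, ((e l : ↥H) : X) = ((l : ↥Δ) : X) := fun l => rfl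
  have hes : ∀ h : ↥H, (((e.symm h : ↥L) : ↥Δ) : X) = (h : X) := by
    intro h
    rw [← he, MulEquiv.apply_symm_apply]
  let f : X → (Fin 2 → ZMod p) := fun v =>
    if hv : v ∈ V then f₀ (θ₀ (Additive.ofMul (⟨v, hv⟩ : ↥V))) else 0
  have hf : ∀ (v : X) (hv : v ∈ V), f v = f₀ (θ₀ (Additive.ofMul (⟨v, hv⟩ : ↥V))) :=
    fun v hv => dif_pos hv
  refine involves_qd_of_natural hp2 V₁ H ?_ ?_ ?_ (θ.comp e.symm.toMonoidHom) ?_ f ?_ ?_ ?_
  · rintro v ⟨hv, -⟩ w ⟨hw, -⟩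
    exact congrArg Subtype.val (hV.1.is_comm.comm (⟨v, hv⟩ : ↥V) ⟨w, hw⟩)
  · rintro v ⟨hv, -⟩
    exact hV.2 v hv
  · apply Cfsg.H5.GlaubRepl.le_normalizer_of_conj_mem
    intro h hh v hv
    obtain ⟨hvV, hv1⟩ := hv
    obtain ⟨l, hl⟩ := hHl ⟨h, hh⟩
    simp only at hl
    rw [← hl]
    refine ⟨hconjV (l : ↥Δ) v hvV, ?_⟩
    rw [← hρ (l : ↥Δ) ⟨v, hvV⟩ (hconjV (l : ↥Δ) v hvV)]
    exact hinv l _ hv1
  · exact hθ.comp e.symm.surjective
  · rintro v ⟨hv, -⟩ w ⟨hw, -⟩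
    rw [hf v hv, hf w hw, hf (v * w) (V.mul_mem hv hw)]
    have : (⟨v * w, V.mul_mem hv hw⟩ : ↥V) = ⟨v, hv⟩ * ⟨w, hw⟩ := rfl
    rw [this, ofMul_mul, map_add, map_add]
  · intro w
    have hw : w ∈ W₁.map f₀ := by rw [hW]; exact Submodule.mem_top
    obtain ⟨u, hu, rfl⟩ := hw
    obtain ⟨v', hv'⟩ := θ₀.surjective u
    refine ⟨((Additive.toMul v' : ↥V) : X), ⟨(Additive.toMul v').2, ?_⟩, ?_⟩
    · have : (⟨((Additive.toMul v' : ↥V) : X), (Additive.toMul v').2⟩ : ↥V) = Additive.toMul v' :=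
        rfl
      rw [this, ofMul_toMul, hv']
      exact hu
    · rw [hf _ (Additive.toMul v').2]
      have : (⟨((Additive.toMul v' : ↥V) : X), (Additive.toMul v').2⟩ : ↥V) = Additive.toMul v' :=
        rfl
      rw [this, ofMul_toMul, hv']
  · intro h v hv
    obtain ⟨hvV, hv1⟩ := hv
    have h1 := hes h
    obtain ⟨l, hl⟩ : ∃ l : ↥L, l = e.symm h := ⟨_, rfl⟩
    rw [← hl] at h1
    have h2 : (θ.comp e.symm.toMonoidHom) h = θ l := by rw [hl]; rfl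
    rw [h2, ← h1, hf _ (hconjV (l : ↥Δ) v hvV), hf v hvV,
      ← hρ (l : ↥Δ) ⟨v, hvV⟩ (hconjV (l : ↥Δ) v hvV)]
    exact hequiv l _ hv1

/-- **`Qd(p)`-free groups are `p`-stable**, elementwise form -/
theorem inOp_of_qdFree [Finite X] (hp2 : p ≠ 2)
    (hfree : ¬ Cfsg.Involves ↥(Cfsg.qd p) X) (P : Subgroup X) [hPn : P.Normal]
    (hP : IsPGroup p P) (a : X)
    (hq : ⁅⁅P, Subgroup.zpowers a⁆, Subgroup.zpowers a⁆ = ⊥) : Cfsg.H5.PSt.InOp p P a := by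
  obtain ⟨Φ, hΦ⟩ : ∃ Φ : Subgroup X, Φ = (frattini ↥P).map P.subtype := ⟨_, rfl⟩
  haveI hΦn : Φ.Normal := by rw [hΦ]; infer_instance
  have hcomm : ∀ u ∈ P, ∀ v ∈ P, ⁅u, v⁆ ∈ Φ := by
    intro u hu v hv
    rw [hΦ]
    refine ⟨⁅(⟨u, hu⟩ : ↥P), ⟨v, hv⟩⁆, ?_, ?_⟩
    · apply Cfsg.Agent.Lib.Helper1.IsPGroup.commutator_le_frattini hP
      exact Subgroup.commutator_mem_commutator (Subgroup.mem_top _) (Subgroup.mem_top _)
    · rw [map_commutatorElement]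
      rfl
  have hpow : ∀ u ∈ P, u ^ p ∈ Φ := by
    intro u hu
    rw [hΦ]
    exact ⟨(⟨u, hu⟩ : ↥P) ^ p, Cfsg.Agent.Lib.Helper1.IsPGroup.pow_mem_frattini hP _, rfl⟩
  obtain ⟨π, hπ⟩ : ∃ π : X →* X ⧸ Φ, π = QuotientGroup.mk' Φ := ⟨_, rfl⟩
  have hπs : Function.Surjective π := by rw [hπ]; exact QuotientGroup.mk'_surjective Φ
  have hπ1 : ∀ x : X, π x = 1 ↔ x ∈ Φ := by
    intro x
    rw [hπ, QuotientGroup.mk'_apply, QuotientGroup.eq_one_iff]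
  obtain ⟨V, hVdef⟩ : ∃ V : Subgroup (X ⧸ Φ), V = P.map π := ⟨_, rfl⟩
  haveI hVn : V.Normal := by rw [hVdef]; exact Subgroup.Normal.map hPn π hπs
  have hV : Cfsg.IsElementaryAbelian p V := by
    refine ⟨⟨⟨?_⟩⟩, ?_⟩
    · rintro ⟨x, hx⟩ ⟨y, hy⟩
      rw [hVdef] at hx hy
      obtain ⟨u, hu, rfl⟩ := hx
      obtain ⟨v, hv, rfl⟩ := hy
      apply Subtype.ext
      show π u * π v = π v * π u
      rw [← commutatorElement_eq_one_iff_mul_comm, ← map_commutatorElement, hπ1]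
      exact hcomm u hu v hv
    · intro x hx
      rw [hVdef] at hx
      obtain ⟨u, hu, rfl⟩ := hx
      rw [← map_pow, hπ1]
      exact hpow u hu
  have hfree' : ¬ Cfsg.Involves ↥(Cfsg.qd p) (X ⧸ Φ) := fun h =>
    hfree (Cfsg.Agent.Lib.Helper27.involves_trans h
      (Cfsg.Agent.Lib.Helper27.involves_of_surjective π hπs))
  have hst := isPStableOn_of_qdFree hp2 hfree' V hV
  have hq' : ⁅⁅V, Subgroup.zpowers (π a)⁆, Subgroup.zpowers (π a)⁆ = ⊥ := by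
    rw [hVdef, ← MonoidHom.map_zpowers, ← Subgroup.map_commutator, ← Subgroup.map_commutator, hq,
      Subgroup.map_bot]
  have hmem := hst (π a) hq'
  rw [Cfsg.H5.PSt.mk_mem_pCore_iff'] at hmem
  obtain ⟨L', hLn, hCL, hLpow, haL⟩ := hmem
  have hcen : ∀ x : X, π x ∈ Subgroup.centralizer (V : Set (X ⧸ Φ)) ↔
      x ∈ Cfsg.sectionKernel P ((frattini ↥P).map P.subtype) := by
    intro x
    subst hΦ
    subst hπ
    subst hVdef
    rfl
  refine ⟨L'.comap π, ?_, ?_, ?_, ?_, haL⟩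
  · intro c hc
    rw [Subgroup.mem_comap]
    apply hCL
    rw [Subgroup.mem_centralizer_iff]
    intro v hv
    rw [SetLike.mem_coe, hVdef] at hv
    obtain ⟨u, hu, rfl⟩ := hv
    rw [← map_mul, ← map_mul, Subgroup.mem_centralizer_iff.1 hc u hu]
  · rw [Subgroup.normalizer_eq_top]
    exact le_top
  · haveI : (L'.comap π).Normal := Subgroup.Normal.comap hLn π
    rw [Subgroup.normalizer_eq_top (H := L'.comap π)]
    exact le_top
  · intro l hl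
    obtain ⟨k, hk⟩ := hLpow (π l) hl
    rw [← map_pow, hcen] at hk
    obtain ⟨e, he⟩ := Cfsg.H5.SL2p.pow_mem_centralizer_of_mem_sectionKernel P hP hk
    exact ⟨k + e, by rw [pow_add, pow_mul]; exact he⟩

/-- **`Qd(p)`-free groups act `p`-stably on normal `p`-subgroups** -/
theorem isPStableOn_of_qdFree' [Finite X] (hp2 : p ≠ 2)
    (hfree : ¬ Cfsg.Involves ↥(Cfsg.qd p) X) (P : Subgroup X) [hPn : P.Normal]
    (hP : IsPGroup p P) : Cfsg.IsPStableOn p P := by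
  intro a hq
  obtain ⟨L, hCL, -, hNL, hpow, haL⟩ := inOp_of_qdFree hp2 hfree P hP a hq
  rw [Cfsg.H5.PSt.mk_mem_pCore_iff']
  refine ⟨L, ?_, hCL, hpow, haL⟩
  rw [Subgroup.normalizer_eq_top] at hNL
  exact Subgroup.normalizer_eq_top_iff.1 (top_le_iff.1 hNL)

end Cfsg.H5.Qd
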