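import Mathlib
import Cfsg.Prelude.Def_PLocal
import Cfsg.Agent.H5.ZJMain

set_option autoImplicit false

/-! Comparison of `fam`, `J`, `Z` with the Prelude definitions. -/

namespace Cfsg.H5.ZJ

variable {G : Type*} [Group G]

/-- the family in the ambient group, stated with `IsMulCommutative` -/
def famX (e : ℕ) (X : Type*) [Group X] : Set (Subgroup X) :=
  {A | (IsMulCommutative A ∧ ∀ a ∈ A, a ^ e = 1) ∧
    ∀ B : Subgroup X, (IsMulCommutative B ∧ ∀ a ∈ B, a ^ e = 1) → Nat.card B ≤ Nat.card A}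

theorem map_mem_fam {e : ℕ} {P : Subgroup G} {A' : Subgroup P} (hA' : A' ∈ famX e ↥P) :
    A'.map P.subtype ∈ fam e P := by
  obtain ⟨⟨hc, hpow⟩, hmax⟩ := hA'
  refine ⟨Subgroup.map_subtype_le A', ⟨?_, ?_⟩, ?_⟩
  · rintro _ ⟨x, hx, rfl⟩ _ ⟨y, hy, rfl⟩
    rw [← map_mul, ← map_mul, isMulCommutative_iff_of_setLike.1 hc x hx y hy]
  · rintro _ ⟨a, ha, rfl⟩
    rw [← map_pow, hpow a ha, map_one]
  · intro A'' hA''P hA''
    have h1 : IsMulCommutative (A''.subgroupOf P) := by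
      rw [isMulCommutative_iff_of_setLike]
      intro a ha b hb
      exact Subtype.ext (hA''.1 a (Subgroup.mem_subgroupOf.1 ha) b (Subgroup.mem_subgroupOf.1 hb))
    have h2 : ∀ a ∈ A''.subgroupOf P, a ^ e = 1 := fun a ha =>
      Subtype.ext (by simpa using hA''.2 a (Subgroup.mem_subgroupOf.1 ha))
    have h3 := hmax _ ⟨h1, h2⟩
    rw [card_subgroupOf_of_le hA''P] at h3
    exact h3.trans (Nat.card_congr (A'.equivMapOfInjective _ P.subtype_injective).toEquiv).le

theorem subgroupOf_mem_famX {e : ℕ} {P A : Subgroup G} (hA : A ∈ fam e P) :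
    A.subgroupOf P ∈ famX e ↥P := by
  obtain ⟨hAP, ⟨hc, hpow⟩, hmax⟩ := hA
  refine ⟨⟨?_, ?_⟩, ?_⟩
  · rw [isMulCommutative_iff_of_setLike]
    intro a ha b hb
    exact Subtype.ext (hc a (Subgroup.mem_subgroupOf.1 ha) b (Subgroup.mem_subgroupOf.1 hb))
  · exact fun a ha => Subtype.ext (by simpa using hpow a (Subgroup.mem_subgroupOf.1 ha))
  · rintro B' ⟨hB'c, hB'pow⟩
    have hg : Good e (B'.map P.subtype) := by
      refine ⟨?_, ?_⟩
      · rintro _ ⟨x, hx, rfl⟩ _ ⟨y, hy, rfl⟩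
        rw [← map_mul, ← map_mul, isMulCommutative_iff_of_setLike.1 hB'c x hx y hy]
      · rintro _ ⟨a, ha, rfl⟩
        rw [← map_pow, hB'pow a ha, map_one]
    have h3 := hmax _ (Subgroup.map_subtype_le B') hg
    rw [card_subgroupOf_of_le hAP]
    exact (Nat.card_congr (B'.equivMapOfInjective _ P.subtype_injective).toEquiv).le.trans h3

theorem map_sSup_famX (e : ℕ) (P : Subgroup G) :
    (sSup (famX e ↥P)).map P.subtype = J e P := by
  apply le_antisymm
  · rw [Subgroup.map_le_iff_le_comap]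
    apply sSup_le
    intro A' hA'
    rw [← Subgroup.map_le_iff_le_comap]
    exact le_J (map_mem_fam hA')
  · apply sSup_le
    intro A hA
    rw [← Subgroup.map_subgroupOf_eq_of_le hA.1]
    exact Subgroup.map_mono (le_sSup (subgroupOf_mem_famX hA))

theorem maxAbelianSubgroups_eq (X : Type*) [Group X] :
    Cfsg.maxAbelianSubgroups X = famX 0 X := by
  ext A
  simp [Cfsg.maxAbelianSubgroups, famX]

theorem maxElementaryAbelianSubgroups_eq (p : ℕ) (X : Type*) [Group X] :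
    Cfsg.maxElementaryAbelianSubgroups p X = famX p X := rfl

theorem centerThompsonAOf_eq (P : Subgroup G) : Cfsg.centerThompsonAOf P = Z 0 P := by
  have hJ : Cfsg.thompsonSubgroupAOf P = J 0 P := by
    unfold Cfsg.thompsonSubgroupAOf Cfsg.thompsonSubgroupA
    rw [maxAbelianSubgroups_eq, map_sSup_famX]
  unfold Cfsg.centerThompsonAOf
  rw [hJ]
  ext z
  rw [Subgroup.mem_inf, Subgroup.mem_centralizer_iff]
  constructor
  · rintro ⟨h1, h2⟩
    exact ⟨h1, h2, pow_zero z⟩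
  · rintro ⟨h1, h2, -⟩
    exact ⟨h1, h2⟩

theorem omegaCenterThompson_map_eq (p : ℕ) (P : Subgroup G) :
    (Cfsg.omegaCenterThompson p ↥P).map P.subtype = Z p P := by
  have hJ : (Cfsg.thompsonSubgroup p ↥P).map P.subtype = J p P := by
    unfold Cfsg.thompsonSubgroup
    rw [maxElementaryAbelianSubgroups_eq, map_sSup_famX]
  unfold Cfsg.omegaCenterThompson Cfsg.omegaOne
  rw [MonoidHom.map_closure]
  apply le_antisymm
  · rw [Subgroup.closure_le]
    rintro _ ⟨x, ⟨hx, hxp⟩, rfl⟩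
    obtain ⟨hxJ, hxC⟩ := Subgroup.mem_inf.1 hx
    refine ⟨?_, ?_, ?_⟩
    · rw [← hJ]; exact Subgroup.mem_map_of_mem _ hxJ
    · intro y hy
      rw [← hJ] at hy
      obtain ⟨y', hy', rfl⟩ := hy
      rw [← map_mul, ← map_mul, Subgroup.mem_centralizer_iff.1 hxC y' hy']
    · rw [← map_pow, hxp, map_one]
  · intro z hz
    obtain ⟨hzJ, hzc, hzp⟩ := hz
    rw [← hJ] at hzJ
    obtain ⟨x, hxJ, rfl⟩ := hzJ
    apply Subgroup.subset_closure
    refine ⟨x, ⟨Subgroup.mem_inf.2 ⟨hxJ, ?_⟩, ?_⟩, rfl⟩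
    · rw [Subgroup.mem_centralizer_iff]
      intro y' hy'
      have hy : P.subtype y' ∈ J p P := by rw [← hJ]; exact Subgroup.mem_map_of_mem _ hy'
      have := hzc _ hy
      rw [← map_mul, ← map_mul] at this
      exact P.subtype_injective this
    · apply P.subtype_injective
      rw [map_pow, hzp, map_one]

end Cfsg.H5.ZJ
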