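import Mathlib
import Cfsg.Agent.H5.ZJDefs

set_option autoImplicit false

/-! Invariance of `fam`, `J`, `Z` under homomorphisms injective on `P`. -/

namespace Cfsg.H5.ZJ

variable {G H : Type*} [Group G] [Group H]

theorem good_map_hom {e : ℕ} {A : Subgroup G} (f : G →* H) (hA : Good e A) :
    Good e (A.map f) := by
  refine ⟨?_, ?_⟩
  · rintro _ ⟨x, hx, rfl⟩ _ ⟨y, hy, rfl⟩
    rw [← map_mul, ← map_mul, hA.1 x hx y hy]
  · rintro _ ⟨a, ha, rfl⟩
    rw [← map_pow, hA.2 a ha, map_one]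

theorem eq_of_map_eq {f : G →* H} {P : Subgroup G} (hinj : P ⊓ f.ker = ⊥) {x y : G}
    (hx : x ∈ P) (hy : y ∈ P) (h : f x = f y) : x = y := by
  have h1 : x * y⁻¹ ∈ P ⊓ f.ker := by
    refine Subgroup.mem_inf.2 ⟨P.mul_mem hx (P.inv_mem hy), ?_⟩
    rw [MonoidHom.mem_ker, map_mul, map_inv, h, mul_inv_cancel]
  rw [hinj, Subgroup.mem_bot] at h1
  exact mul_inv_eq_one.1 h1

theorem card_map_of_injOn {f : G →* H} {P A : Subgroup G} (hinj : P ⊓ f.ker = ⊥)
    (hA : A ≤ P) : Nat.card (A.map f) = Nat.card A := by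
  have hbij : Function.Bijective (f.subgroupMap A) := by
    refine ⟨?_, f.subgroupMap_surjective A⟩
    intro x y hxy
    have h1 : f (x : G) = f (y : G) := congrArg Subtype.val hxy
    exact Subtype.ext (eq_of_map_eq hinj (hA x.2) (hA y.2) h1)
  exact (Nat.card_congr (Equiv.ofBijective _ hbij)).symm

/-- pull back a subgroup of `P.map f` to `P` -/
def pull (f : G →* H) (P : Subgroup G) (A' : Subgroup H) : Subgroup G := A'.comap f ⊓ P

theorem pull_le (f : G →* H) (P : Subgroup G) (A' : Subgroup H) : pull f P A' ≤ P :=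
  inf_le_right

theorem map_pull {f : G →* H} {P : Subgroup G} {A' : Subgroup H} (hA' : A' ≤ P.map f) :
    (pull f P A').map f = A' := by
  apply le_antisymm
  · rintro _ ⟨x, hx, rfl⟩
    exact hx.1
  · intro y hy
    obtain ⟨x, hx, rfl⟩ := hA' hy
    exact ⟨x, ⟨hy, hx⟩, rfl⟩

theorem good_pull {e : ℕ} {f : G →* H} {P : Subgroup G} {A' : Subgroup H}
    (hinj : P ⊓ f.ker = ⊥) (hA' : Good e A') : Good e (pull f P A') := by
  refine ⟨?_, ?_⟩
  · intro x hx y hy
    apply eq_of_map_eq hinj (mul_mem hx.2 hy.2) (mul_mem hy.2 hx.2)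
    rw [map_mul, map_mul]
    exact hA'.1 _ hx.1 _ hy.1
  · intro a ha
    apply eq_of_map_eq hinj (pow_mem ha.2 _) (one_mem _)
    rw [map_pow, map_one]
    exact hA'.2 _ ha.1

theorem fam_map_hom {e : ℕ} {f : G →* H} {P A : Subgroup G} (hinj : P ⊓ f.ker = ⊥)
    (hA : A ∈ fam e P) : A.map f ∈ fam e (P.map f) := by
  refine ⟨Subgroup.map_mono hA.1, good_map_hom f hA.2.1, fun A'' hA''P hA'' => ?_⟩
  rw [card_map_of_injOn hinj hA.1, ← map_pull hA''P, card_map_of_injOn hinj (pull_le f P A'')]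
  exact hA.2.2 _ (pull_le f P A'') (good_pull hinj hA'')

theorem fam_pull {e : ℕ} {f : G →* H} {P : Subgroup G} {A' : Subgroup H}
    (hinj : P ⊓ f.ker = ⊥) (hA' : A' ∈ fam e (P.map f)) : pull f P A' ∈ fam e P := by
  refine ⟨pull_le f P A', good_pull hinj hA'.2.1, fun A hAP hA => ?_⟩
  have h1 := hA'.2.2 _ (Subgroup.map_mono hAP) (good_map_hom f hA)
  rw [card_map_of_injOn hinj hAP] at h1
  have h2 : Nat.card A' = Nat.card (pull f P A') := by
    conv_lhs => rw [← map_pull hA'.1]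
    exact card_map_of_injOn hinj (pull_le f P A')
  rw [← h2]; exact h1

theorem J_map_hom {e : ℕ} {f : G →* H} {P : Subgroup G} (hinj : P ⊓ f.ker = ⊥) :
    (J e P).map f = J e (P.map f) := by
  apply le_antisymm
  · rw [Subgroup.map_le_iff_le_comap]
    apply sSup_le
    intro A hA
    rw [← Subgroup.map_le_iff_le_comap]
    exact le_J (fam_map_hom hinj hA)
  · apply sSup_le
    intro A' hA'
    rw [← map_pull hA'.1]
    exact Subgroup.map_mono (le_J (fam_pull hinj hA'))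

theorem Zc_map_hom {e : ℕ} {f : G →* H} {K : Subgroup G} (hinj : K ⊓ f.ker = ⊥) :
    (Zc e K).map f = Zc e (K.map f) := by
  apply le_antisymm
  · rintro _ ⟨z, hz, rfl⟩
    refine ⟨Subgroup.mem_map_of_mem _ hz.1, ?_, ?_⟩
    · rintro _ ⟨x, hx, rfl⟩
      rw [← map_mul, ← map_mul, hz.2.1 x hx]
    · rw [← map_pow, hz.2.2, map_one]
  · rintro z' ⟨hz'K, hz'c, hz'e⟩
    obtain ⟨z, hz, rfl⟩ := hz'K
    refine ⟨z, ⟨hz, fun x hx => ?_, ?_⟩, rfl⟩
    · apply eq_of_map_eq hinj (mul_mem hx hz) (mul_mem hz hx)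
      rw [map_mul, map_mul]
      exact hz'c _ (Subgroup.mem_map_of_mem _ hx)
    · apply eq_of_map_eq hinj (pow_mem hz _) (one_mem _)
      rw [map_pow, map_one]
      exact hz'e

theorem Z_map_hom {e : ℕ} {f : G →* H} {P : Subgroup G} (hinj : P ⊓ f.ker = ⊥) :
    (Z e P).map f = Z e (P.map f) := by
  unfold Z
  have hJ : J e P ⊓ f.ker = ⊥ := by
    rw [eq_bot_iff, ← hinj]
    exact inf_le_inf_right _ J_le
  rw [Zc_map_hom hJ, J_map_hom hinj]

end Cfsg.H5.ZJ
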