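import Mathlib
import Cfsg.Prelude
import Cfsg.Agent.H5.PStableQuot
import Cfsg.Agent.H5.ZJMap
import Cfsg.Agent.H5.ZJBridge

set_option autoImplicit false

/-! Glauberman's theorem for `p`-constrained `p`-stable groups (in the vocabulary of
`Cfsg.IsPConstrained`, `Cfsg.IsPStable`). -/

namespace Cfsg.H5.PSt

open scoped commutatorElement
open Cfsg.H5.ZJ

variable {G : Type*} [Group G] [Finite G] {p : ℕ} [Fact p.Prime]

omit [Finite G] [Fact (Nat.Prime p)] in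
/-- a `p'`-element acting quadratically on a normal `p`-subgroup centralizes it -/
theorem mem_centralizer_of_quadratic_coprime {V : Subgroup G} [hVn : V.Normal]
    (hV : IsPGroup p V) {u : G}
    (hq : ⁅⁅V, Subgroup.zpowers u⁆, Subgroup.zpowers u⁆ = ⊥) (hu : (orderOf u).Coprime p) :
    u ∈ Subgroup.centralizer (V : Set G) := by
  rw [Subgroup.mem_centralizer_iff]
  intro v hv
  have hcV : ⁅v, u⁆ ∈ V := by
    have e : ⁅v, u⁆ = v * (u * v⁻¹ * u⁻¹) := by simp only [commutatorElement_def]; group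
    rw [e]; exact V.mul_mem hv (hVn.conj_mem _ (V.inv_mem hv) u)
  have hcu : ⁅v, u⁆ * u = u * ⁅v, u⁆ := by
    have h1 : ⁅⁅v, u⁆, u⁆ ∈ ⁅⁅V, Subgroup.zpowers u⁆, Subgroup.zpowers u⁆ :=
      Subgroup.commutator_mem_commutator
        (Subgroup.commutator_mem_commutator hv (Subgroup.mem_zpowers u)) (Subgroup.mem_zpowers u)
    rw [hq, Subgroup.mem_bot] at h1
    exact commutatorElement_eq_one_iff_mul_comm.1 h1
  have hrel : u * v⁻¹ * u⁻¹ = v⁻¹ * ⁅v, u⁆ := by simp only [commutatorElement_def]; group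
  have hpow : ∀ k : ℕ, u ^ k * v⁻¹ = v⁻¹ * ⁅v, u⁆ ^ k * u ^ k := by
    intro k
    induction k with
    | zero => simp
    | succ k ih =>
      have hck : u * ⁅v, u⁆ ^ k = ⁅v, u⁆ ^ k * u := ((Commute.pow_left hcu k).eq).symm
      calc u ^ (k + 1) * v⁻¹ = u * (u ^ k * v⁻¹) := by rw [pow_succ', mul_assoc]
        _ = u * (v⁻¹ * ⁅v, u⁆ ^ k * u ^ k) := by rw [ih]
        _ = (u * v⁻¹ * u⁻¹) * (u * ⁅v, u⁆ ^ k) * u ^ k := by group
        _ = (v⁻¹ * ⁅v, u⁆) * (⁅v, u⁆ ^ k * u) * u ^ k := by rw [hrel, hck]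
        _ = v⁻¹ * ⁅v, u⁆ ^ (k + 1) * u ^ (k + 1) := by
          rw [pow_succ' ⁅v, u⁆ k, pow_succ' u k]; simp only [mul_assoc]
  have h2 := hpow (orderOf u)
  rw [pow_orderOf_eq_one, one_mul, mul_one] at h2
  have h3 : ⁅v, u⁆ ^ orderOf u = 1 := by
    have := mul_left_cancel (a := v⁻¹) (b := 1) (c := ⁅v, u⁆ ^ orderOf u) (by rw [mul_one]; exact h2)
    exact this.symm
  have h4 : (orderOf ⁅v, u⁆).Coprime p :=
    Nat.Coprime.coprime_dvd_left (orderOf_dvd_of_pow_eq_one h3) hu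
  have h5 : ⁅v, u⁆ = 1 := Cfsg.H5.eq_one_of_coprime_of_mem_pgroup h4 hV hcV
  exact commutatorElement_eq_one_iff_mul_comm.1 h5

/-- `IsPStable` gives `IsPStableOn` on every normal `p`-subgroup when `O_{p'} = 1` -/
theorem isPStableOn_of_isPStable (hs : Cfsg.IsPStable p G) (hbot : Cfsg.pPrimeCore p G = ⊥)
    (V : Subgroup G) [hVn : V.Normal] (hV : IsPGroup p V) : Cfsg.IsPStableOn p V := by
  intro a hq
  rw [mk_mem_pCore_iff']
  obtain ⟨t, u, ht, hu, hatu, ⟨k, hk⟩, hcop⟩ := Cfsg.Agent.Lib.Helper16.exists_p_decomp' p a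
  have hzt : Subgroup.zpowers t ≤ Subgroup.zpowers a := Subgroup.zpowers_le.2 ht
  have hzu : Subgroup.zpowers u ≤ Subgroup.zpowers a := Subgroup.zpowers_le.2 hu
  have huC : u ∈ Subgroup.centralizer (V : Set G) := by
    apply mem_centralizer_of_quadratic_coprime hV _ hcop
    rw [eq_bot_iff, ← hq]
    exact Subgroup.commutator_mono (Subgroup.commutator_mono le_rfl hzu) hzu
  have hAp : IsPGroup p (Subgroup.zpowers t) :=
    IsPGroup.of_card (n := k) (by rw [Nat.card_zpowers, hk])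
  have hVN : Subgroup.normalizer (V : Set G) = ⊤ := Subgroup.normalizer_eq_top_iff.2 hVn
  have hres := hs.2.2 (Subgroup.zpowers t) V hAp hV
    (fun a' _ x hx => hVn.conj_mem x hx a')
    (by rw [pPrimePCore_eq_pCore_of_bot hbot]; exact Cfsg.H5.le_pCore hVn hV)
    (by rw [hbot, bot_sup_eq]; exact hVn)
    (by
      rw [eq_bot_iff, ← hq]
      exact Subgroup.commutator_mono (Subgroup.commutator_mono le_rfl hzt) hzt)
  rw [img_le_iff] at hres
  obtain ⟨L, hCL, -, hNL, hpow, htL⟩ :=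
    hres t (Subgroup.mem_zpowers t) (by rw [hVN]; trivial)
  have hLn : L.Normal := by
    rw [hVN] at hNL
    exact Subgroup.normalizer_eq_top_iff.1 (top_le_iff.1 hNL)
  exact ⟨L, hLn, hCL, hpow, by rw [hatu]; exact L.mul_mem htL (hCL huC)⟩

/-- Frattini argument in the form used here -/
theorem frattini_T1 (N₀ : Subgroup G) [N₀.Normal] (X : Subgroup G) [X.Normal]
    (P₁ : Sylow p ↥X) (Q : Subgroup G) (hQ : Q = (P₁ : Subgroup X).map X.subtype)
    (hX : X = Q ⊔ N₀) :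
    ∀ g : G, ∃ n ∈ N₀, ∃ h ∈ Subgroup.normalizer (Q : Set G), g = n * h := by
  intro g
  have hfr := Sylow.normalizer_sup_eq_top P₁
  rw [← hQ] at hfr
  have h2 : N₀ ⊔ Subgroup.normalizer (Q : Set G) = ⊤ := by
    rw [eq_top_iff, ← hfr]
    conv_lhs => rw [hX]
    refine sup_le le_sup_right (sup_le (Subgroup.le_normalizer.trans le_sup_right) le_sup_left)
  have hg : g ∈ ((N₀ ⊔ Subgroup.normalizer (Q : Set G) : Subgroup G) : Set G) := by
    rw [h2]; trivial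
  rw [Subgroup.normal_mul] at hg
  obtain ⟨n, hn, h, hh, rfl⟩ := hg
  exact ⟨n, hn, h, hh, rfl⟩

theorem centralizer_pCore_quotient_le (hc : Cfsg.IsPConstrained p G) :
    Subgroup.centralizer (Cfsg.pCore p (G ⧸ Cfsg.pPrimeCore p G) : Set (G ⧸ Cfsg.pPrimeCore p G)) ≤
      Cfsg.pCore p (G ⧸ Cfsg.pPrimeCore p G) := by
  have hN₀ := Cfsg.H5.coprime_card_pPrimeCore p G
  obtain ⟨P₁⟩ : Nonempty (Sylow p ↥(Cfsg.pPrimePCore p G)) := inferInstance
  have hmap := Cfsg.Agent.Lib.Helper10.map_mk_sylow_pPrimePCore p P₁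
  have hcen := hc P₁
  obtain ⟨Q, hQ⟩ : ∃ Q : Subgroup G,
      Q = (P₁ : Subgroup ↥(Cfsg.pPrimePCore p G)).map (Cfsg.pPrimePCore p G).subtype := ⟨_, rfl⟩
  rw [← hQ] at hmap hcen
  have hQp : IsPGroup p Q := by rw [hQ]; exact P₁.isPGroup'.map _
  have hK : Cfsg.pPrimePCore p G = Q ⊔ Cfsg.pPrimeCore p G := by
    have h1 := Subgroup.comap_map_eq (QuotientGroup.mk' (Cfsg.pPrimeCore p G)) Q
    rw [hmap, QuotientGroup.ker_mk'] at h1
    exact h1
  have hT1 := frattini_T1 (Cfsg.pPrimeCore p G) (Cfsg.pPrimePCore p G) P₁ Q hQ hK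
  intro xb hxb
  obtain ⟨g, rfl⟩ := QuotientGroup.mk'_surjective _ xb
  obtain ⟨n, hn, h, hh, rfl⟩ := hT1 g
  have h1 : QuotientGroup.mk' (Cfsg.pPrimeCore p G) n = 1 := (QuotientGroup.eq_one_iff n).2 hn
  have e : QuotientGroup.mk' (Cfsg.pPrimeCore p G) (n * h) =
      QuotientGroup.mk' (Cfsg.pPrimeCore p G) h := by rw [map_mul, h1, one_mul]
  rw [e] at hxb ⊢
  rw [← hmap] at hxb
  have hhC := mem_centralizer_of_map_mem _ hN₀ hQp hh hxb
  exact (Cfsg.Agent.Lib.Helper10.mem_pPrimePCore_iff p h).1 (hcen hhC)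

/-- Frattini for a `p`-subgroup `Z` with `Z N₀` normal, `N₀` a normal `p'`-subgroup -/
theorem normalizer_sup_eq_top_of_coprime (N₀ : Subgroup G) [N₀.Normal]
    (hN₀ : (Nat.card N₀).Coprime p) {Z : Subgroup G} (hZ : IsPGroup p Z)
    (hn : (Z ⊔ N₀).Normal) : N₀ ⊔ Subgroup.normalizer (Z : Set G) = ⊤ := by
  have hinf : Z ⊓ N₀ = ⊥ := by
    rw [eq_bot_iff]
    intro x hx
    rw [Subgroup.mem_bot]
    exact Cfsg.H5.eq_one_of_coprime_of_mem_pgroup
      (Cfsg.H5.coprime_orderOf_of_mem hN₀ hx.2) hZ hx.1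
  have h1 := Cfsg.H5.card_sup_mul_card_inf (H := Z) (N := N₀)
    (by rw [Subgroup.normalizer_eq_top_iff.2 inferInstance]; exact le_top)
  rw [hinf, Subgroup.card_bot, mul_one] at h1
  have h2 := Cfsg.H5.card_mul_relIndex_of_le (le_sup_left : Z ≤ Z ⊔ N₀)
  have h3 : Z.relIndex (Z ⊔ N₀) = Nat.card N₀ := by
    rw [h1] at h2
    exact Nat.eq_of_mul_eq_mul_left Nat.card_pos h2
  have hnd : ¬ p ∣ (Z.subgroupOf (Z ⊔ N₀)).index := by
    intro hdvd
    have h4 : p ∣ Nat.card N₀ := by rw [← h3]; exact hdvd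
    have h5 := Nat.Coprime.eq_one_of_dvd hN₀.symm h4
    exact (Fact.out : p.Prime).one_lt.ne' h5
  have hP₁ : (((hZ.comap_subtype (K := Z ⊔ N₀)).toSylow hnd : Sylow p ↥(Z ⊔ N₀)) :
      Subgroup ↥(Z ⊔ N₀)).map (Z ⊔ N₀).subtype = Z :=
    Subgroup.map_subgroupOf_eq_of_le le_sup_left
  have hfr := Sylow.normalizer_sup_eq_top ((hZ.comap_subtype (K := Z ⊔ N₀)).toSylow hnd)
  rw [hP₁] at hfr
  rw [eq_top_iff, ← hfr]
  exact sup_le le_sup_right (sup_le (Subgroup.le_normalizer.trans le_sup_right) le_sup_left)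

/-- Glauberman's theorem: `G = O_{p'}(G) N_G(Z_e(J_e(P)))` -/
theorem sup_normalizer_Z_eq_top (hc : Cfsg.IsPConstrained p G) (hs : Cfsg.IsPStable p G)
    (P : Sylow p G) (e : ℕ) :
    Cfsg.pPrimeCore p G ⊔ Subgroup.normalizer (Z e (P : Subgroup G) : Set G) = ⊤ := by
  have hp : p ≠ 2 := by
    intro h
    have h1 := hs.1
    rw [h] at h1
    exact absurd h1 (by decide)
  have hN₀ := Cfsg.H5.coprime_card_pPrimeCore p G
  have hsb := isPStable_quotient hs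
  have hbot : Cfsg.pPrimeCore p (G ⧸ Cfsg.pPrimeCore p G) = ⊥ :=
    Cfsg.Agent.Lib.Helper10.pPrimeCore_quotient_eq_bot p
  have hcb := centralizer_pCore_quotient_le hc
  have hstb : ∀ (V : Subgroup (G ⧸ Cfsg.pPrimeCore p G)) [V.Normal], IsPGroup p V →
      Cfsg.IsPStableOn p V := fun V _ hV => isPStableOn_of_isPStable hsb hbot V hV
  have hsurj := QuotientGroup.mk'_surjective (Cfsg.pPrimeCore p G)
  have hZn := Z_normal hp e hcb hstb (P.mapSurjective hsurj)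
  rw [Sylow.coe_mapSurjective] at hZn
  have hinj : (P : Subgroup G) ⊓ (QuotientGroup.mk' (Cfsg.pPrimeCore p G)).ker = ⊥ := by
    rw [QuotientGroup.ker_mk', eq_bot_iff]
    intro x hx
    rw [Subgroup.mem_bot]
    exact Cfsg.H5.eq_one_of_coprime_of_mem_pgroup
      (Cfsg.H5.coprime_orderOf_of_mem hN₀ hx.2) P.isPGroup' hx.1
  rw [← Z_map_hom hinj] at hZn
  have hXn : (Z e (P : Subgroup G) ⊔ Cfsg.pPrimeCore p G).Normal := by
    have h1 := Subgroup.comap_map_eq (QuotientGroup.mk' (Cfsg.pPrimeCore p G))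
      (Z e (P : Subgroup G))
    rw [QuotientGroup.ker_mk'] at h1
    rw [← h1]; exact Subgroup.Normal.comap hZn _
  exact normalizer_sup_eq_top_of_coprime _ hN₀ (P.isPGroup'.to_le Z_le) hXn

end Cfsg.H5.PSt
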