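import Mathlib
import Cfsg.Prelude
import Cfsg.Agent.H5.NPStable
import Cfsg.Agent.H5.PStableZJ

set_option autoImplicit false

/-! `p`-stability in the normalizer form passes to subgroups, and gives `p`-stability of the
action of `G / N₀` (`N₀` a normal `p'`-subgroup) on its normal `p`-subgroups. -/

namespace Cfsg.H5.NPS

open scoped commutatorElement
open Cfsg.H5.PSt
open Cfsg.H5.GlaubRepl (le_normalizer_of_conj_mem)
open Cfsg.H5.ZJ (normalizer_inf_le)

variable {G : Type*} [Group G] [Finite G] {p : ℕ} [Fact p.Prime]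

/-- `p`-stability in the normalizer form passes to subgroups -/
theorem nps_subgroup (h : Cfsg.IsNormalizerPStable p G) (H : Subgroup G) :
    Cfsg.IsNormalizerPStable p ↥H := by
  apply nps_of_inOp
  intro Q hQ x hx hq
  have hx' : (x : G) ∈ Subgroup.normalizer ((Q.map H.subtype : Subgroup G) : Set G) :=
    Subgroup.le_normalizer_map H.subtype ⟨x, hx, rfl⟩
  have hz : (Subgroup.zpowers x).map H.subtype = Subgroup.zpowers (x : G) := by
    rw [MonoidHom.map_zpowers]; rfl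
  have hq' : ⁅⁅Q.map H.subtype, Subgroup.zpowers (x : G)⁆, Subgroup.zpowers (x : G)⁆ = ⊥ := by
    rw [← hz, ← Subgroup.map_commutator, ← Subgroup.map_commutator, hq, Subgroup.map_bot]
  obtain ⟨L, hCL, hLN, hNL, hpow, hxL⟩ := inOp_of_nps h (Q.map H.subtype) (hQ.map _) x hx' hq'
  have hcen : ∀ c : ↥H, c ∈ Subgroup.centralizer (Q : Set ↥H) ↔
      (c : G) ∈ Subgroup.centralizer ((Q.map H.subtype : Subgroup G) : Set G) := by
    intro c
    rw [Subgroup.mem_centralizer_iff, Subgroup.mem_centralizer_iff]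
    constructor
    · rintro hc _ ⟨y, hy, rfl⟩
      have := congrArg Subtype.val (hc y hy)
      simpa using this
    · intro hc y hy
      apply Subtype.ext
      have := hc (y : G) ⟨y, hy, rfl⟩
      simpa using this
  refine ⟨L.comap H.subtype ⊓ Subgroup.normalizer (Q : Set ↥H), ?_, inf_le_right, ?_, ?_,
    Subgroup.mem_inf.2 ⟨hxL, hx⟩⟩
  · intro c hc
    refine Subgroup.mem_inf.2 ⟨?_, Subgroup.centralizer_le_normalizer _ hc⟩
    exact hCL ((hcen c).1 hc)
  · refine le_trans ?_ (normalizer_inf_le _ _)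
    refine le_inf ?_ Subgroup.le_normalizer
    apply le_normalizer_of_conj_mem
    intro g hg k hk
    rw [Subgroup.mem_comap] at hk ⊢
    have hg' : (g : G) ∈ Subgroup.normalizer (L : Set G) :=
      hNL (Subgroup.le_normalizer_map H.subtype ⟨g, hg, rfl⟩)
    have := (Subgroup.mem_set_normalizer_iff.1 hg' _).1 hk
    simpa using this
  · intro l hl
    obtain ⟨hl1, -⟩ := Subgroup.mem_inf.1 hl
    obtain ⟨k, hk⟩ := hpow _ hl1
    refine ⟨k, ?_⟩
    rw [hcen]
    simpa using hk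

/-- for a normal `p'`-subgroup `N₀`, the action of `G / N₀` on its normal `p`-subgroups is
`p`-stable -/
theorem isPStableOn_quotient_of_nps (h : Cfsg.IsNormalizerPStable p G) (N₀ : Subgroup G)
    [N₀.Normal] (hN₀ : (Nat.card N₀).Coprime p) (Vb : Subgroup (G ⧸ N₀)) [hVbn : Vb.Normal]
    (hVb : IsPGroup p Vb) : Cfsg.IsPStableOn p Vb := by
  intro ab hq
  rw [mk_mem_pCore_iff']
  have hsurj := QuotientGroup.mk'_surjective N₀
  obtain ⟨X, hX⟩ : ∃ X : Subgroup G, X = Vb.comap (QuotientGroup.mk' N₀) := ⟨_, rfl⟩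
  have hXn : X.Normal := by rw [hX]; exact Subgroup.Normal.comap hVbn _
  have hXmap : X.map (QuotientGroup.mk' N₀) = Vb := by
    rw [hX]; exact Subgroup.map_comap_eq_self_of_surjective hsurj _
  obtain ⟨P₁⟩ : Nonempty (Sylow p ↥X) := inferInstance
  obtain ⟨V, hVdef⟩ : ∃ V : Subgroup G, V = (P₁ : Subgroup X).map X.subtype := ⟨_, rfl⟩
  have hVp : IsPGroup p V := by rw [hVdef]; exact P₁.isPGroup'.map _
  have hVmap : V.map (QuotientGroup.mk' N₀) = Vb := by
    rw [hVdef, map_sylow_eq _ X (by rw [hXmap]; exact hVb) P₁, hXmap]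
  have hXsup : X = V ⊔ N₀ := by
    have h1 := Subgroup.comap_map_eq (QuotientGroup.mk' N₀) V
    rw [hVmap, QuotientGroup.ker_mk'] at h1
    rw [hX]; exact h1
  have hT1 := frattini_T1 N₀ X P₁ V hVdef hXsup
  obtain ⟨a, rfl⟩ := hsurj ab
  obtain ⟨n, hn, g, hg, rfl⟩ := hT1 a
  have h1 : QuotientGroup.mk' N₀ n = 1 := (QuotientGroup.eq_one_iff n).2 hn
  have e : QuotientGroup.mk' N₀ (n * g) = QuotientGroup.mk' N₀ g := by rw [map_mul, h1, one_mul]
  rw [e] at hq
  rw [e]
  -- `g` acts quadratically on `V`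
  have hzN : Subgroup.zpowers g ≤ Subgroup.normalizer (V : Set G) := Subgroup.zpowers_le.2 hg
  have hnorm : ∀ a ∈ Subgroup.zpowers g, ∀ x ∈ V, a * x * a⁻¹ ∈ V := fun a ha x hx =>
    (Subgroup.mem_set_normalizer_iff.1 (hzN ha) x).1 hx
  have hquad : ⁅⁅V, Subgroup.zpowers g⁆, Subgroup.zpowers g⁆ = ⊥ := by
    have h2 : ⁅V, Subgroup.zpowers g⁆ ≤ V := commutator_le_of_normalizes hnorm
    have h3 : ⁅⁅V, Subgroup.zpowers g⁆, Subgroup.zpowers g⁆ ≤ V :=
      (Subgroup.commutator_mono h2 le_rfl).trans h2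
    have hz : (Subgroup.zpowers g).map (QuotientGroup.mk' N₀) =
        Subgroup.zpowers (QuotientGroup.mk' N₀ g) := by rw [MonoidHom.map_zpowers]
    have h4 : (⁅⁅V, Subgroup.zpowers g⁆, Subgroup.zpowers g⁆).map (QuotientGroup.mk' N₀) = ⊥ := by
      rw [Subgroup.map_commutator, Subgroup.map_commutator, hVmap, hz, hq]
    rw [Subgroup.map_eq_bot_iff, QuotientGroup.ker_mk'] at h4
    rw [eq_bot_iff]
    intro x hx
    rw [Subgroup.mem_bot]
    exact Cfsg.H5.eq_one_of_coprime_of_mem_pgroup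
      (Cfsg.H5.coprime_orderOf_of_mem hN₀ (h4 hx)) hVp (h3 hx)
  have h5 := inOp_of_nps h V hVp g hg hquad
  have h6 := inOp_map N₀ hN₀ hVp (by rw [hVmap]; exact hVbn) hT1 h5
  rw [hVmap] at h6
  obtain ⟨L, hCL, -, hNL, hpow, hgL⟩ := h6
  have hVN : Subgroup.normalizer (Vb : Set (G ⧸ N₀)) = ⊤ := Subgroup.normalizer_eq_top_iff.2 hVbn
  have hLn : L.Normal := by
    rw [hVN] at hNL
    exact Subgroup.normalizer_eq_top_iff.1 (top_le_iff.1 hNL)
  exact ⟨L, hLn, hCL, hpow, hgL⟩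

end Cfsg.H5.NPS
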