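import Mathlib

set_option autoImplicit false

/-! A quadratically acting unit of a ring commutes with every unit of order prime to the
characteristic which commutes with two of its conjugates; group version for a group acting on
an abelian normal subgroup. -/

namespace Cfsg.H5.GT

open scoped commutatorElement

/-- ring lemma: `(x-1)^2 = 0`, `r` a unit with `r^m = 1`, `r` commutes with `x⁻¹ r x` and
`x⁻² r x²`; no `2`-torsion and no `m`-torsion. Then `r` commutes with `x`. -/
theorem ring_comm_of_quadratic {E : Type*} [Ring E] (x y r r' : E) (m : ℕ)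
    (hyx : y * x = 1) (hq : (x - 1) * (x - 1) = 0)
    (hrr' : r * r' = 1) (hr'r : r' * r = 1)
    (h1 : r * (y * r * x) = (y * r * x) * r)
    (h2 : r * (y * y * r * (x * x)) = (y * y * r * (x * x)) * r)
    (htwo : ∀ c : E, c + c = 0 → c = 0) (hm : ∀ c : E, m • c = 0 → c = 0)
    (hrm : r ^ m = 1) : r * x = x * r := by
  obtain ⟨n, hn⟩ : ∃ n : E, n = x - 1 := ⟨_, rfl⟩
  have hx : x = 1 + n := by rw [hn]; abel
  rw [← hn] at hq
  have hy : y = 1 - n := by
    have e1 : x * (1 - n) = 1 := by
      rw [hx, mul_sub, mul_one, add_mul, one_mul, hq]; abel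
    calc y = y * (x * (1 - n)) := by rw [e1, mul_one]
      _ = (y * x) * (1 - n) := by rw [mul_assoc]
      _ = 1 - n := by rw [hyx, one_mul]
  obtain ⟨a, ha⟩ : ∃ a : E, a = r * n - n * r := ⟨_, rfl⟩
  obtain ⟨b, hb⟩ : ∃ b : E, b = n * r * n := ⟨_, rfl⟩
  have e1 : y * r * x = r + a - b := by
    rw [hx, hy, ha, hb]; noncomm_ring
  have hyy : y * y = 1 - (n + n) := by
    rw [hy]
    have : (1 - n) * (1 - n) = 1 - (n + n) + n * n := by noncomm_ring
    rw [this, hq, add_zero]
  have hxx : x * x = 1 + (n + n) := by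
    rw [hx]
    have : (1 + n) * (1 + n) = 1 + (n + n) + n * n := by noncomm_ring
    rw [this, hq, add_zero]
  have e2 : y * y * r * (x * x) = r + (a + a) - (b + b + (b + b)) := by
    rw [hxx, hyy, ha, hb]; noncomm_ring
  rw [e1] at h1
  rw [e2] at h2
  -- commutators
  have k1 : (r * a - a * r) - (r * b - b * r) = 0 := by
    have : r * (r + a - b) - (r + a - b) * r = (r * a - a * r) - (r * b - b * r) := by
      noncomm_ring
    rw [← this, h1, sub_self]
  have k2 : ((r * a - a * r) + (r * a - a * r)) -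
      ((r * b - b * r) + (r * b - b * r) + ((r * b - b * r) + (r * b - b * r))) = 0 := by
    have : r * (r + (a + a) - (b + b + (b + b))) - (r + (a + a) - (b + b + (b + b))) * r =
        ((r * a - a * r) + (r * a - a * r)) -
      ((r * b - b * r) + (r * b - b * r) + ((r * b - b * r) + (r * b - b * r))) := by
      noncomm_ring
    rw [← this, h2, sub_self]
  have k3 : r * a - a * r = r * b - b * r := sub_eq_zero.1 k1
  rw [k3] at k2
  have k4 : (r * b - b * r) + (r * b - b * r) = 0 := by
    have : ((r * b - b * r) + (r * b - b * r)) -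
      ((r * b - b * r) + (r * b - b * r) + ((r * b - b * r) + (r * b - b * r))) =
      - ((r * b - b * r) + (r * b - b * r)) := by abel
    rw [this, neg_eq_zero] at k2
    exact k2
  have k5 : r * b - b * r = 0 := htwo _ k4
  have k6 : r * a = a * r := by rw [k5] at k3; exact sub_eq_zero.1 k3
  -- c = a r'
  obtain ⟨c, hc⟩ : ∃ c : E, c = a * r' := ⟨_, rfl⟩
  have hcr : c * r = a := by rw [hc, mul_assoc, hr'r, mul_one]
  have hrc : r * c = a := by rw [hc, ← mul_assoc, k6, mul_assoc, hrr', mul_one]
  have hrcr' : r * c * r' = c := by rw [hrc, hc]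
  have hrnr' : r * n * r' = n + c := by
    have : r * n = n * r + a := by rw [ha]; abel
    rw [this, add_mul, mul_assoc, hrr', mul_one, hc]
  have hpow : ∀ k : ℕ, r ^ k * n * r' ^ k = n + k • c := by
    intro k
    induction k with
    | zero => simp
    | succ k ih =>
      have : r ^ (k + 1) * n * r' ^ (k + 1) = r * (r ^ k * n * r' ^ k) * r' := by
        rw [pow_succ' r k, pow_succ r' k]; noncomm_ring
      rw [this, ih, mul_add, add_mul, hrnr', mul_smul_comm, smul_mul_assoc, hrcr', succ_nsmul]
      abel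
  have hr'm : r' ^ m = 1 := by
    have hcomm : Commute r r' := by rw [Commute, SemiconjBy, hrr', hr'r]
    have := hcomm.mul_pow m
    rw [hrr', one_pow, hrm, one_mul] at this
    exact this.symm
  have hmc := hpow m
  rw [hrm, hr'm, one_mul, mul_one] at hmc
  have hmc0 : m • c = 0 := by
    have : n + m • c = n + 0 := by rw [add_zero]; exact hmc.symm
    exact add_left_cancel this
  have hc0 : c = 0 := hm c hmc0
  have ha0 : a = 0 := by rw [← hcr, hc0, zero_mul]
  have hrn : r * n = n * r := by rw [ha0] at ha; exact sub_eq_zero.1 ha.symm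
  rw [hx, mul_add, add_mul, mul_one, one_mul, hrn]


section GroupVersion

variable {Γ : Type*} [Group Γ]

/-- group version: `A` an abelian normal `p`-subgroup (`p` odd) of `Γ`, `x` acting quadratically on
`A`, `r` of order prime to `p` modulo `C(A)` and commuting modulo `C(A)` with `x⁻¹ r x` and
`x⁻² r x²`.  Then `[r, x]` centralizes `A`. -/
theorem comm_mem_centralizer_of_quadratic {p : ℕ} (hp : p.Prime) (hp2 : p ≠ 2)
    (A : Subgroup Γ) [hAn : A.Normal]
    (hA : ∀ u ∈ A, ∀ w ∈ A, u * w = w * u) (N : ℕ) (hexp : ∀ w ∈ A, w ^ (p ^ N) = 1)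
    (x r : Γ) (m : ℕ) (hmp : m.Coprime p)
    (hq : ∀ w ∈ A, x * (x * w * x⁻¹ * w⁻¹) = (x * w * x⁻¹ * w⁻¹) * x)
    (hm : r ^ m ∈ Subgroup.centralizer (A : Set Γ))
    (h1 : ⁅r, x⁻¹ * r * x⁆ ∈ Subgroup.centralizer (A : Set Γ))
    (h2 : ⁅r, x⁻¹ * x⁻¹ * r * (x * x)⁆ ∈ Subgroup.centralizer (A : Set Γ)) :
    ⁅r, x⁆ ∈ Subgroup.centralizer (A : Set Γ) := by
  let _ : CommGroup ↥A :=
    { (inferInstance : Group ↥A) with mul_comm := fun a b => Subtype.ext (hA a a.2 b b.2) }
  let Ψ : Γ →* AddMonoid.End (Additive ↥A) :=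
    { toFun := fun g => MonoidHom.toAdditive (MulAut.conjNormal g : MulAut ↥A).toMonoidHom
      map_one' := by rw [map_one]; rfl
      map_mul' := fun g h => by rw [map_mul]; rfl }
  have hval : ∀ (g : Γ) (w : Additive ↥A), ((Ψ g w).toMul : Γ) = g * (w.toMul : Γ) * g⁻¹ :=
    fun g w => rfl
  have hext : ∀ u w : Additive ↥A, ((u.toMul : ↥A) : Γ) = ((w.toMul : ↥A) : Γ) → u = w := by
    intro u w h
    have : u.toMul = w.toMul := Subtype.ext h
    exact Additive.toMul.injective this
  have hsub : ∀ (g : Γ) (w : Additive ↥A),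
      ((((Ψ g - 1 : AddMonoid.End (Additive ↥A)) w).toMul : ↥A) : Γ) =
        g * (w.toMul : Γ) * g⁻¹ * (w.toMul : Γ)⁻¹ := by
    intro g w
    have : (Ψ g - 1 : AddMonoid.End (Additive ↥A)) w = Ψ g w - w := rfl
    rw [this, toMul_sub, Subgroup.coe_div, hval, div_eq_mul_inv]
  have hΨ1 : ∀ g : Γ, g ∈ Subgroup.centralizer (A : Set Γ) → Ψ g = 1 := by
    intro g hg
    apply AddMonoid.End.ext
    intro w
    apply hext
    rw [hval]
    have := Subgroup.mem_centralizer_iff.1 hg (w.toMul : Γ) (w.toMul : ↥A).2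
    rw [← this, mul_inv_cancel_right]
    rfl
  have hΨ1' : ∀ g : Γ, Ψ g = 1 → g ∈ Subgroup.centralizer (A : Set Γ) := by
    intro g hg
    rw [Subgroup.mem_centralizer_iff]
    intro w hw
    have h3 := hval g (Additive.ofMul (⟨w, hw⟩ : ↥A))
    rw [hg] at h3
    have h4 : w = g * w * g⁻¹ := h3
    calc w * g = g * w * g⁻¹ * g := by rw [← h4]
      _ = g * w := by group
  have hcomm : ∀ s : Γ, ⁅r, s⁆ ∈ Subgroup.centralizer (A : Set Γ) → Ψ r * Ψ s = Ψ s * Ψ r := by
    intro s hs
    have e : r * s = ⁅r, s⁆ * (s * r) := by simp only [commutatorElement_def]; group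
    rw [← map_mul, ← map_mul, e, map_mul, hΨ1 _ hs, one_mul]
  have hodd : ∀ (k : ℕ) (_ : k.Coprime p) (u : ↥A), u ^ k = 1 → u = 1 := by
    intro k hk u hu
    have hu2 : u ^ (p ^ N) = 1 := Subtype.ext (by rw [Subgroup.coe_pow]; exact hexp u u.2)
    have h3 : orderOf u ∣ Nat.gcd k (p ^ N) :=
      Nat.dvd_gcd (orderOf_dvd_of_pow_eq_one hu) (orderOf_dvd_of_pow_eq_one hu2)
    have h4 : Nat.gcd k (p ^ N) = 1 := Nat.Coprime.pow_right N hk
    rw [h4, Nat.dvd_one] at h3
    exact orderOf_eq_one_iff.1 h3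
  have h2p : Nat.Coprime 2 p := by
    rw [Nat.coprime_primes Nat.prime_two hp]
    exact fun h => hp2 h.symm
  have hmain := ring_comm_of_quadratic (Ψ x) (Ψ x⁻¹) (Ψ r) (Ψ r⁻¹) m
    (by rw [← map_mul, inv_mul_cancel, map_one])
    (by
      apply AddMonoid.End.ext
      intro w
      apply hext
      rw [AddMonoid.End.coe_mul, Function.comp_apply, hsub, hsub]
      have := hq (w.toMul : Γ) (w.toMul : ↥A).2
      rw [this, mul_inv_cancel_right, mul_inv_cancel]
      rfl)
    (by rw [← map_mul, mul_inv_cancel, map_one])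
    (by rw [← map_mul, inv_mul_cancel, map_one])
    (by
      have := hcomm _ h1
      rw [map_mul, map_mul] at this
      exact this)
    (by
      have := hcomm _ h2
      rw [map_mul, map_mul, map_mul, map_mul] at this
      exact this)
    (by
      intro c hc
      apply AddMonoid.End.ext
      intro w
      have h3 : c w + c w = 0 := by
        have := congrArg (fun f : AddMonoid.End (Additive ↥A) => f w) hc
        exact this
      have h4 : ((c w).toMul) ^ 2 = 1 := by
        rw [pow_two]
        exact congrArg Additive.toMul h3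
      have h5 := hodd 2 h2p _ h4
      exact Additive.toMul.injective h5)
    (by
      intro c hc
      apply AddMonoid.End.ext
      intro w
      have h3 : m • (c w) = 0 := by
        have := congrArg (fun f : AddMonoid.End (Additive ↥A) => f w) hc
        exact this
      have h4 : ((c w).toMul) ^ m = 1 := by
        rw [← toMul_nsmul]
        exact congrArg Additive.toMul h3
      have h5 := hodd m hmp _ h4
      exact Additive.toMul.injective h5)
    (by rw [← map_pow]; exact hΨ1 _ hm)
  apply hΨ1'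
  have e : ⁅r, x⁆ = (r * x) * (x * r)⁻¹ := by simp only [commutatorElement_def]; group
  have h5 : Ψ (r * x) = Ψ (x * r) := by rw [map_mul, map_mul, hmain]
  rw [e, map_mul, h5, ← map_mul, mul_inv_cancel, map_one]

end GroupVersion

end Cfsg.H5.GT
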