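import Mathlib
import Cfsg.Prelude
import Cfsg.Agent.H5.GTRing
import Cfsg.Agent.H5.Quadratic
import Cfsg.Agent.H5.PStableZJ
import Cfsg.Agent.Lib.Helper17.Coprime

set_option autoImplicit false

/-! `p`-stability (`p` odd) of a group `G = K P` with normal subgroups `H ≤ K`, `H` a `p`-group,
`K / H` an abelian `p'`-group: the action on every normal subgroup `V ≤ H` is `p`-stable. -/

namespace Cfsg.H5.GT

open scoped commutatorElement

variable {G : Type*} [Group G]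

/-- the elements of `G` centralizing the section `V / V₁` -/
def secC (V V₁ : Subgroup G) [V₁.Normal] : Subgroup G :=
  (Subgroup.centralizer ((V.map (QuotientGroup.mk' V₁) : Subgroup (G ⧸ V₁)) : Set (G ⧸ V₁))).comap
    (QuotientGroup.mk' V₁)

theorem mem_secC {V V₁ : Subgroup G} [V₁.Normal] {g : G} :
    g ∈ secC V V₁ ↔ ∀ v ∈ V, ⁅v, g⁆ ∈ V₁ := by
  unfold secC
  rw [Subgroup.mem_comap, Subgroup.mem_centralizer_iff]
  constructor
  · intro h v hv
    have h1 := h (QuotientGroup.mk' V₁ v) ⟨v, hv, rfl⟩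
    rw [← QuotientGroup.eq_one_iff, ← QuotientGroup.mk'_apply, map_commutatorElement,
      commutatorElement_eq_one_iff_mul_comm]
    exact h1
  · rintro h _ ⟨v, hv, rfl⟩
    have h1 := h v hv
    rw [← QuotientGroup.eq_one_iff, ← QuotientGroup.mk'_apply, map_commutatorElement,
      commutatorElement_eq_one_iff_mul_comm] at h1
    exact h1

instance secC_normal (V V₁ : Subgroup G) [V.Normal] [V₁.Normal] : (secC V V₁).Normal := by
  unfold secC
  have : (V.map (QuotientGroup.mk' V₁)).Normal :=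
    Subgroup.Normal.map inferInstance _ (QuotientGroup.mk'_surjective V₁)
  exact Subgroup.Normal.comap inferInstance _

/-- section version of `comm_mem_centralizer_of_quadratic` -/
theorem comm_mem_secC_of_quadratic {p : ℕ} (hp : p.Prime) (hp2 : p ≠ 2)
    (V V₁ : Subgroup G) [hVn : V.Normal] [V₁.Normal] (hab : ⁅V, V⁆ ≤ V₁)
    (N : ℕ) (hexp : ∀ v ∈ V, v ^ (p ^ N) = 1) (a y : G) (m : ℕ) (hmp : m.Coprime p)
    (hq : ∀ v ∈ V, a * (a * v * a⁻¹ * v⁻¹) = (a * v * a⁻¹ * v⁻¹) * a)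
    (hm : y ^ m ∈ secC V V₁)
    (h1 : ⁅y, a⁻¹ * y * a⁆ ∈ secC V V₁)
    (h2 : ⁅y, a⁻¹ * a⁻¹ * y * (a * a)⁆ ∈ secC V V₁) : ⁅y, a⁆ ∈ secC V V₁ := by
  have hAn : (V.map (QuotientGroup.mk' V₁)).Normal :=
    Subgroup.Normal.map hVn _ (QuotientGroup.mk'_surjective V₁)
  have hA : ∀ u ∈ V.map (QuotientGroup.mk' V₁), ∀ w ∈ V.map (QuotientGroup.mk' V₁),
      u * w = w * u := by
    rintro _ ⟨v, hv, rfl⟩ _ ⟨v', hv', rfl⟩
    rw [← commutatorElement_eq_one_iff_mul_comm, ← map_commutatorElement,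
      QuotientGroup.mk'_apply, QuotientGroup.eq_one_iff]
    exact hab (Subgroup.commutator_mem_commutator hv hv')
  have hexp' : ∀ w ∈ V.map (QuotientGroup.mk' V₁), w ^ (p ^ N) = 1 := by
    rintro _ ⟨v, hv, rfl⟩
    rw [← map_pow, hexp v hv, map_one]
  have hres := comm_mem_centralizer_of_quadratic hp hp2 (V.map (QuotientGroup.mk' V₁)) hA N hexp'
    (QuotientGroup.mk' V₁ a) (QuotientGroup.mk' V₁ y) m hmp
    (by
      rintro _ ⟨v, hv, rfl⟩
      have := congrArg (QuotientGroup.mk' V₁) (hq v hv)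
      simpa only [map_mul, map_inv] using this)
    (by rw [← map_pow]; exact hm)
    (by
      have : QuotientGroup.mk' V₁ ⁅y, a⁻¹ * y * a⁆ ∈ Subgroup.centralizer
        ((V.map (QuotientGroup.mk' V₁) : Subgroup (G ⧸ V₁)) : Set (G ⧸ V₁)) := h1
      simpa only [map_commutatorElement, map_mul, map_inv] using this)
    (by
      have : QuotientGroup.mk' V₁ ⁅y, a⁻¹ * a⁻¹ * y * (a * a)⁆ ∈ Subgroup.centralizer
        ((V.map (QuotientGroup.mk' V₁) : Subgroup (G ⧸ V₁)) : Set (G ⧸ V₁)) := h2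
      simpa only [map_commutatorElement, map_mul, map_inv] using this)
  show QuotientGroup.mk' V₁ ⁅y, a⁆ ∈ Subgroup.centralizer
    ((V.map (QuotientGroup.mk' V₁) : Subgroup (G ⧸ V₁)) : Set (G ⧸ V₁))
  rw [map_commutatorElement]
  exact hres


/-- the stability group of `V ≥ V₁ ≥ 1` is a `p`-group modulo `C(V)` -/
theorem pow_mem_centralizer_of_stab {V V₁ : Subgroup G} [V₁.Normal] (n : ℕ)
    (hn : ∀ z ∈ V₁, z ^ n = 1) {u : G} (hu1 : u ∈ secC V V₁)
    (hu2 : u ∈ Subgroup.centralizer (V₁ : Set G)) :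
    u ^ n ∈ Subgroup.centralizer (V : Set G) := by
  rw [Subgroup.mem_centralizer_iff]
  intro v hv
  have hz : v⁻¹ * u * v * u⁻¹ ∈ V₁ := by
    have := mem_secC.1 hu1 v⁻¹ (V.inv_mem hv)
    rw [commutatorElement_def, inv_inv] at this
    exact this
  have hc : u * (v⁻¹ * u * v * u⁻¹) = (v⁻¹ * u * v * u⁻¹) * u :=
    (Subgroup.mem_centralizer_iff.1 hu2 _ hz).symm
  have key := Cfsg.H5.conj_pow_of_quadratic v u hc n
  rw [hn _ hz, mul_one] at key
  calc v * u ^ n = (u ^ n * v * (u ^ n)⁻¹) * u ^ n := by rw [key]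
    _ = u ^ n * v := by group

theorem sup_normal_of_conj (A N : Subgroup G) [hN : N.Normal]
    (h : ∀ g : G, ∀ s ∈ A, g * s * g⁻¹ ∈ A ⊔ N) : (A ⊔ N).Normal := by
  constructor
  intro l hl g
  have hl' : l ∈ ((A ⊔ N : Subgroup G) : Set G) := hl
  rw [Subgroup.mul_normal] at hl'
  obtain ⟨s, hs, c, hc, rfl⟩ := hl'
  have e : g * (s * c) * g⁻¹ = (g * s * g⁻¹) * (g * c * g⁻¹) := by group
  rw [e]
  exact (A ⊔ N).mul_mem (h g s hs) ((le_sup_right : N ≤ A ⊔ N) (hN.conj_mem c hc g))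

/-- `p`-stability of `G = K P` with `H ≤ K` normal, `H` a `p`-group, `K/H` an abelian `p'`-group -/
theorem isPStableOn_aux [Finite G] {p : ℕ} [Fact p.Prime] (hp2 : p ≠ 2)
    (H K : Subgroup G) [hHn : H.Normal] [hKn : K.Normal] (hH : IsPGroup p H)
    (hKK : ⁅K, K⁆ ≤ H) (m : ℕ) (hmp : m.Coprime p) (hKm : ∀ y ∈ K, y ^ m ∈ H)
    (P : Sylow p G) (hKP : ∀ g : G, ∃ k ∈ K, ∃ t ∈ (P : Subgroup G), g = k * t) :
    ∀ (n : ℕ) (V : Subgroup G) [V.Normal], Nat.card V = n → V ≤ H → Cfsg.IsPStableOn p V := by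
  have hp : p.Prime := Fact.out
  obtain ⟨N, hN⟩ := hH.exists_card_eq
  have hexpH : ∀ z ∈ H, z ^ (p ^ N) = 1 := by
    intro z hz
    have h1 : (⟨z, hz⟩ : ↥H) ^ Nat.card ↥H = 1 := pow_card_eq_one'
    rw [hN] at h1
    have := congrArg Subtype.val h1
    simpa using this
  intro n
  induction n using Nat.strong_induction_on with
  | _ n ih =>
    intro V hVn hcard hVH a hq
    rw [Cfsg.H5.PSt.mk_mem_pCore_iff']
    by_cases hVb : V = ⊥
    · refine ⟨⊤, inferInstance, le_top, fun l _ => ⟨0, ?_⟩, Subgroup.mem_top a⟩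
      rw [Subgroup.mem_centralizer_iff]
      intro h hh
      rw [hVb] at hh
      have : h = 1 := Subgroup.mem_bot.1 hh
      rw [this, one_mul, mul_one]
    obtain ⟨V₁, hV₁⟩ : ∃ V₁ : Subgroup G, V₁ = ⁅V, H⁆ := ⟨_, rfl⟩
    have hV₁n : V₁.Normal := by rw [hV₁]; infer_instance
    have hV₁V : V₁ ≤ V := by rw [hV₁]; exact Subgroup.commutator_le_left V H
    have hV₁lt : V₁ < V := by
      refine lt_of_le_of_ne hV₁V (fun heq => hVb ?_)
      apply Cfsg.Agent.Lib.Helper17.eq_bot_of_le_commutator_of_nilpotent hH.isNilpotent hVH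
      rw [← hV₁]; exact heq.ge
    have hq₁ : ⁅⁅V₁, Subgroup.zpowers a⁆, Subgroup.zpowers a⁆ = ⊥ :=
      eq_bot_iff.2 ((Subgroup.commutator_mono (Subgroup.commutator_mono hV₁V le_rfl) le_rfl).trans
        hq.le)
    have hih := ih (Nat.card V₁) (by rw [← hcard]; exact Cfsg.H5.ZJ.card_lt_of_lt hV₁lt) V₁ rfl
      (hV₁V.trans hVH) a hq₁
    rw [Cfsg.H5.PSt.mk_mem_pCore_iff'] at hih
    obtain ⟨L₁, hL₁n, hCL₁, hpow₁, haL₁⟩ := hih
    -- elementwise quadratic action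
    have hqe : ∀ v ∈ V, a * (a * v * a⁻¹ * v⁻¹) = (a * v * a⁻¹ * v⁻¹) * a := by
      intro v hv
      have h1 := Cfsg.H5.quadratic_comm hq (V.inv_mem hv) (Subgroup.mem_zpowers a)
        (Subgroup.mem_zpowers a)
      rw [inv_inv] at h1
      have ht : Commute a (v * a * v⁻¹ * a⁻¹) := h1
      have e : a * v * a⁻¹ * v⁻¹ = (v * a * v⁻¹ * a⁻¹)⁻¹ := by group
      rw [e]; exact ht.inv_right
    have hab : ⁅V, V⁆ ≤ V₁ := by rw [hV₁]; exact Subgroup.commutator_mono le_rfl hVH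
    have hexpV : ∀ v ∈ V, v ^ (p ^ N) = 1 := fun v hv => hexpH v (hVH hv)
    obtain ⟨C₁, hC₁⟩ : ∃ C₁ : Subgroup G, C₁ = secC V V₁ := ⟨_, rfl⟩
    have hC₁n : C₁.Normal := by rw [hC₁]; infer_instance
    have hHC₁ : H ≤ C₁ := by
      intro h hh
      rw [hC₁, mem_secC]
      intro v hv
      rw [hV₁]; exact Subgroup.commutator_mem_commutator hv hh
    have haM : ∀ y ∈ K, ⁅y, a⁆ ∈ C₁ := by
      intro y hy
      have hy1 : a⁻¹ * y * a ∈ K := by
        have := hKn.conj_mem y hy a⁻¹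
        rwa [inv_inv] at this
      have hy2 : a⁻¹ * a⁻¹ * y * (a * a) ∈ K := by
        have := hKn.conj_mem y hy (a * a)⁻¹
        rwa [inv_inv, mul_inv_rev] at this
      rw [hC₁]
      apply comm_mem_secC_of_quadratic hp hp2 V V₁ hab N hexpV a y m hmp hqe
      · rw [← hC₁]; exact hHC₁ (hKm y hy)
      · rw [← hC₁]; exact hHC₁ (hKK (Subgroup.commutator_mem_commutator hy hy1))
      · rw [← hC₁]; exact hHC₁ (hKK (Subgroup.commutator_mem_commutator hy hy2))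
    obtain ⟨M₁, hM₁⟩ : ∃ M₁ : Subgroup G, M₁ = secC K C₁ := ⟨_, rfl⟩
    have hM₁n : M₁.Normal := by rw [hM₁]; infer_instance
    have haM₁ : a ∈ M₁ := by rw [hM₁, mem_secC]; exact haM
    have hCVC₁ : Subgroup.centralizer (V : Set G) ≤ C₁ := by
      intro g hg
      rw [hC₁, mem_secC]
      intro v hv
      have := Subgroup.mem_centralizer_iff.1 hg v hv
      rw [commutatorElement_eq_one_iff_mul_comm.2 this]
      exact V₁.one_mem
    have hL'n : ((P : Subgroup G) ⊓ M₁ ⊔ C₁).Normal := by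
      apply sup_normal_of_conj
      intro g s hs
      obtain ⟨k, hk, t, ht, rfl⟩ := hKP g
      have hs' : t * s * t⁻¹ ∈ (P : Subgroup G) ⊓ M₁ :=
        Subgroup.mem_inf.2 ⟨(P : Subgroup G).mul_mem ((P : Subgroup G).mul_mem ht hs.1)
          ((P : Subgroup G).inv_mem ht), hM₁n.conj_mem s hs.2 t⟩
      have hc : ⁅(t * s * t⁻¹)⁻¹, k⁆ ∈ C₁ := by
        have h1 : (t * s * t⁻¹)⁻¹ ∈ secC K C₁ := by rw [← hM₁]; exact M₁.inv_mem hs'.2
        have h2 := mem_secC.1 h1 k hk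
        rw [← commutatorElement_inv]
        exact C₁.inv_mem h2
      have e : k * t * s * (k * t)⁻¹ = (t * s * t⁻¹) * ⁅(t * s * t⁻¹)⁻¹, k⁆ := by
        simp only [commutatorElement_def]; group
      rw [e]
      exact Subgroup.mul_mem _ ((le_sup_left : (P : Subgroup G) ⊓ M₁ ≤ _) hs')
        ((le_sup_right : C₁ ≤ _) hc)
    -- `a` is a `p`-element modulo `C(V)`
    have haL' : a ∈ (P : Subgroup G) ⊓ M₁ ⊔ C₁ := by
      obtain ⟨t, u, ht, hu, hatu, ⟨k, hk⟩, hcop⟩ := Cfsg.Agent.Lib.Helper16.exists_p_decomp' p a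
      have hzu : Subgroup.zpowers u ≤ Subgroup.zpowers a := Subgroup.zpowers_le.2 hu
      have huC : u ∈ Subgroup.centralizer (V : Set G) := by
        apply Cfsg.H5.PSt.mem_centralizer_of_quadratic_coprime (hH.to_le hVH) _ hcop
        rw [eq_bot_iff, ← hq]
        exact Subgroup.commutator_mono (Subgroup.commutator_mono le_rfl hzu) hzu
      have htM : t ∈ M₁ := by
        have : Subgroup.zpowers a ≤ M₁ := Subgroup.zpowers_le.2 haM₁
        exact this ht
      have hAp : IsPGroup p (Subgroup.zpowers t) :=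
        IsPGroup.of_card (n := k) (by rw [Nat.card_zpowers, hk])
      obtain ⟨Q, hQ⟩ := hAp.exists_le_sylow
      obtain ⟨g, hg⟩ := MulAction.exists_smul_eq G P Q
      have htQ : t ∈ ((g • P : Sylow p G) : Subgroup G) := by
        rw [hg]; exact hQ (Subgroup.mem_zpowers t)
      have htQ' : t ∈ (P : Subgroup G).map (MulAut.conj g).toMonoidHom := htQ
      obtain ⟨s, hs, hst⟩ := htQ'
      have hst' : g * s * g⁻¹ = t := hst
      have hsM : s ∈ M₁ := by
        have h1 := hM₁n.conj_mem t htM g⁻¹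
        rw [← hst', inv_inv] at h1
        have e : g⁻¹ * (g * s * g⁻¹) * g = s := by group
        rwa [e] at h1
      have htL : t ∈ (P : Subgroup G) ⊓ M₁ ⊔ C₁ := by
        rw [← hst']
        exact hL'n.conj_mem s ((le_sup_left : (P : Subgroup G) ⊓ M₁ ≤ _)
          (Subgroup.mem_inf.2 ⟨hs, hsM⟩)) g
      rw [hatu]
      exact Subgroup.mul_mem _ htL ((le_sup_right : C₁ ≤ _) (hCVC₁ huC))
    refine ⟨L₁ ⊓ ((P : Subgroup G) ⊓ M₁ ⊔ C₁), ?_, ?_, ?_, Subgroup.mem_inf.2 ⟨haL₁, haL'⟩⟩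
    · exact Subgroup.normal_inf_normal _ _
    · refine le_inf ((Subgroup.centralizer_le (SetLike.coe_subset_coe.2 hV₁V)).trans hCL₁) ?_
      exact hCVC₁.trans le_sup_right
    · intro l hl
      obtain ⟨hl1, hl2⟩ := Subgroup.mem_inf.1 hl
      obtain ⟨k₁, hk₁⟩ := hpow₁ l hl1
      have hl2' : l ∈ (((P : Subgroup G) ⊓ M₁ ⊔ C₁ : Subgroup G) : Set G) := hl2
      rw [Subgroup.mul_normal] at hl2'
      obtain ⟨s, hs, c, hc, rfl⟩ := hl2'
      obtain ⟨k₂, hk₂⟩ := P.isPGroup' ⟨s, hs.1⟩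
      have hk₂' : s ^ (p ^ k₂) = 1 := by
        have := congrArg Subtype.val hk₂
        simpa using this
      have h3 : (s * c) ^ (p ^ k₂) ∈ C₁ := by
        rw [← QuotientGroup.eq_one_iff, ← QuotientGroup.mk'_apply, map_pow, map_mul]
        have hc1 : QuotientGroup.mk' C₁ c = 1 := (QuotientGroup.eq_one_iff c).2 hc
        rw [hc1, mul_one, ← map_pow, hk₂', map_one]
      have h4 : (s * c) ^ (p ^ (k₁ + k₂)) ∈ Subgroup.centralizer (V₁ : Set G) := by
        rw [pow_add, pow_mul]; exact Subgroup.pow_mem _ hk₁ _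
      have h5 : (s * c) ^ (p ^ (k₁ + k₂)) ∈ secC V V₁ := by
        rw [← hC₁, add_comm, pow_add, pow_mul]; exact Subgroup.pow_mem _ h3 _
      refine ⟨k₁ + k₂ + N, ?_⟩
      rw [pow_add, pow_mul]
      exact pow_mem_centralizer_of_stab (p ^ N) (fun z hz => hexpH z (hVH (hV₁V hz))) h5 h4

/-- `p`-stability of `G = K P` with `H ≤ K` normal, `H` a `p`-group, `K/H` an abelian `p'`-group -/
theorem isPStableOn_of_structure [Finite G] {p : ℕ} [Fact p.Prime] (hp2 : p ≠ 2)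
    (H K : Subgroup G) [H.Normal] [K.Normal] (hH : IsPGroup p H)
    (hKK : ⁅K, K⁆ ≤ H) (m : ℕ) (hmp : m.Coprime p) (hKm : ∀ y ∈ K, y ^ m ∈ H)
    (P : Sylow p G) (hKP : ∀ g : G, ∃ k ∈ K, ∃ t ∈ (P : Subgroup G), g = k * t)
    (V : Subgroup G) [V.Normal] (hVH : V ≤ H) : Cfsg.IsPStableOn p V :=
  isPStableOn_aux hp2 H K hH hKK m hmp hKm P hKP (Nat.card V) V rfl hVH

end Cfsg.H5.GT
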