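import Mathlib
import Cfsg.Prelude
import Cfsg.Agent.H5.GTStable
import Cfsg.Agent.H5.PSolvable
import Cfsg.Agent.H5.Cores
import Cfsg.Agent.H5.ZJMain
import Cfsg.Agent.H5.ZJMap
import Cfsg.Agent.Lib.Helper13.PNilpotent
import Cfsg.Agent.Lib.Helper13.MaximalSylow
import Cfsg.Agent.Lib.Helper1.BaerSuzuki

set_option autoImplicit false

/-! The Glauberman–Thompson normal `p`-complement theorem, for the subgroups `Z e P`
(`e`-torsion of the centre of the subgroup generated by the abelian subgroups of exponent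
dividing `e` and largest order). -/

namespace Cfsg.H5.GT

open scoped commutatorElement
open Cfsg.H5.ZJ Cfsg.Agent.Lib.Helper13

universe u

section basics

variable {G : Type u} [Group G] [Finite G] {p : ℕ} [Fact p.Prime]

theorem npc_top_iff :
    Cfsg.HasNormalPComplement p ↥(⊤ : Subgroup G) ↔ Cfsg.HasNormalPComplement p G :=
  ⟨hasNormalPComplement_of_equiv Subgroup.topEquiv,
    hasNormalPComplement_of_equiv Subgroup.topEquiv.symm⟩

omit [Finite G] [Fact p.Prime] in
theorem npc_congr {A B : Subgroup G} (h : A = B) (hA : Cfsg.HasNormalPComplement p ↥A) :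
    Cfsg.HasNormalPComplement p ↥B := by subst h; exact hA

/-- normal `p`-complements of normalizers pull back along the inclusion of a subgroup -/
theorem npc_normalizer_of_map (M : Subgroup G) (W : Subgroup ↥M)
    (h : Cfsg.HasNormalPComplement p
      ↥(Subgroup.normalizer ((W.map M.subtype : Subgroup G) : Set G))) :
    Cfsg.HasNormalPComplement p ↥(Subgroup.normalizer (W : Set ↥M)) := by
  let ψ : ↥(Subgroup.normalizer (W : Set ↥M)) →*
      ↥(Subgroup.normalizer ((W.map M.subtype : Subgroup G) : Set G)) :=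
    (M.subtype.comp (Subgroup.normalizer (W : Set ↥M)).subtype).codRestrict _
      (fun x => Subgroup.le_normalizer_map M.subtype ⟨x.1, x.2, rfl⟩)
  have hψ : Function.Injective ψ := by
    intro x y hxy
    have h1 : (ψ x : G) = (ψ y : G) := congrArg Subtype.val hxy
    exact Subtype.ext (Subtype.ext h1)
  exact hasNormalPComplement_of_injective ψ hψ h

/-- the hypothesis of the theorem does not depend on the Sylow subgroup -/
theorem npc_normalizer_Z_sylow {e : ℕ} (P Q : Sylow p G)
    (h : Cfsg.HasNormalPComplement p ↥(Subgroup.normalizer (Z e (P : Subgroup G) : Set G))) :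
    Cfsg.HasNormalPComplement p ↥(Subgroup.normalizer (Z e (Q : Subgroup G) : Set G)) := by
  obtain ⟨g, rfl⟩ := MulAction.exists_smul_eq G P Q
  have e0 : ((g • P : Sylow p G) : Subgroup G) =
      (P : Subgroup G).map (MulAut.conj g).toMonoidHom := rfl
  have e1 : Subgroup.normalizer (Z e ((g • P : Sylow p G) : Subgroup G) : Set G) =
      (Subgroup.normalizer (Z e (P : Subgroup G) : Set G)).map (MulAut.conj g).toMonoidHom := by
    rw [Subgroup.map_equiv_normalizer_eq, Z_map, e0]
  exact npc_congr e1.symm (hasNormalPComplement_of_equiv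
    (Subgroup.equivMapOfInjective _ _ (MulAut.conj g).injective) h)

/-- normal `p`-complements of normalizers pass to quotients -/
theorem npc_normalizer_of_comap (N₀ : Subgroup G) [N₀.Normal] (W : Subgroup (G ⧸ N₀))
    (h : Cfsg.HasNormalPComplement p
      ↥(Subgroup.normalizer ((W.comap (QuotientGroup.mk' N₀) : Subgroup G) : Set G))) :
    Cfsg.HasNormalPComplement p ↥(Subgroup.normalizer (W : Set (G ⧸ N₀))) := by
  have e1 := Subgroup.comap_normalizer_eq_of_surjective W (QuotientGroup.mk'_surjective N₀)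
  have h' := npc_congr e1.symm h
  exact hasNormalPComplement_of_surjective
    ((QuotientGroup.mk' N₀).subgroupComap (Subgroup.normalizer (W : Set (G ⧸ N₀))))
    (MonoidHom.subgroupComap_surjective_of_surjective _ _ (QuotientGroup.mk'_surjective N₀)) h'

theorem exists_orderOf_eq_prime {X : Type*} [Group X] [Finite X] (hX : IsPGroup p X)
    [Nontrivial X] : ∃ x : X, orderOf x = p := by
  obtain ⟨n, hn⟩ := hX.exists_card_eq
  have h1 : 1 < Nat.card X := Finite.one_lt_card
  have hn0 : n ≠ 0 := by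
    rintro rfl
    rw [pow_zero] at hn; omega
  have hdvd : p ∣ Nat.card X := by rw [hn]; exact dvd_pow_self p hn0
  exact exists_prime_orderOf_dvd_card' p hdvd

/-- `Z e Q` is not trivial for a nontrivial `p`-subgroup `Q` when `p ∣ e` -/
theorem Z_ne_bot {e : ℕ} (he : p ∣ e) {Q : Subgroup G} (hQ : IsPGroup p Q) (hne : Q ≠ ⊥) :
    Z e Q ≠ ⊥ := by
  have hp : p.Prime := Fact.out
  have hxe : ∀ y : G, y ^ p = 1 → y ^ e = 1 := by
    intro y hy
    obtain ⟨c, rfl⟩ := he
    rw [pow_mul, hy, one_pow]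
  have : Nontrivial ↥Q := (Subgroup.nontrivial_iff_ne_bot Q).2 hne
  obtain ⟨x, hx⟩ := exists_orderOf_eq_prime (p := p) hQ
  have hxp : (x : G) ^ p = 1 := by
    rw [← hx, ← Subgroup.orderOf_coe]; exact pow_orderOf_eq_one _
  have hgood : Good e (Subgroup.zpowers (x : G)) := by
    refine ⟨?_, ?_⟩
    · intro a ha b hb
      obtain ⟨i, rfl⟩ := Subgroup.mem_zpowers_iff.1 ha
      obtain ⟨j, rfl⟩ := Subgroup.mem_zpowers_iff.1 hb
      exact Commute.zpow_zpow_self (x : G) i j
    · intro a ha
      obtain ⟨i, rfl⟩ := Subgroup.mem_zpowers_iff.1 ha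
      rw [← zpow_natCast, ← zpow_mul, mul_comm, zpow_mul, zpow_natCast, hxe _ hxp, one_zpow]
  obtain ⟨A, hA⟩ := fam_nonempty e Q
  have hcardA : p ≤ Nat.card A := by
    have h1 := hA.2.2 (Subgroup.zpowers (x : G)) (Subgroup.zpowers_le.2 x.2) hgood
    rwa [Nat.card_zpowers, Subgroup.orderOf_coe, hx] at h1
  have hJne : J e Q ≠ ⊥ := by
    intro h
    have hAb : A = ⊥ := by rw [eq_bot_iff, ← h]; exact le_J hA
    rw [hAb, Subgroup.card_bot] at hcardA
    exact absurd hcardA (by have := hp.one_lt; omega)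
  have hJp : IsPGroup p (J e Q) := hQ.to_le J_le
  have : Nontrivial ↥(J e Q) := (Subgroup.nontrivial_iff_ne_bot _).2 hJne
  have : Nontrivial ↥(Subgroup.center ↥(J e Q)) := hJp.center_nontrivial
  have hcp : IsPGroup p ↥(Subgroup.center ↥(J e Q)) := hJp.to_subgroup _
  obtain ⟨z, hz⟩ := exists_orderOf_eq_prime (p := p) hcp
  have hzp : ((z : ↥(J e Q)) : G) ^ p = 1 := by
    rw [← hz, ← Subgroup.orderOf_coe, ← Subgroup.orderOf_coe]; exact pow_orderOf_eq_one _
  have hzmem : ((z : ↥(J e Q)) : G) ∈ Z e Q := by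
    refine ⟨(z : ↥(J e Q)).2, ?_, hxe _ hzp⟩
    intro y hy
    have h1 := Subgroup.mem_center_iff.1 z.2 ⟨y, hy⟩
    exact congrArg Subtype.val h1
  intro hbot
  rw [hbot, Subgroup.mem_bot] at hzmem
  have h1 : orderOf ((z : ↥(J e Q)) : G) = p := by
    rw [Subgroup.orderOf_coe, Subgroup.orderOf_coe, hz]
  rw [hzmem, orderOf_one] at h1
  exact hp.one_lt.ne h1

omit [Finite G] in
/-- `Z e Q` is trivial for a `p`-subgroup `Q` when `p ∤ e` -/
theorem Z_eq_bot {e : ℕ} (he : ¬ p ∣ e) {Q : Subgroup G} (hQ : IsPGroup p Q) : Z e Q = ⊥ := by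
  have hp : p.Prime := Fact.out
  rw [eq_bot_iff]
  intro z hz
  rw [Subgroup.mem_bot]
  have hzQ : z ∈ Q := Z_le hz
  have hze : z ^ e = 1 := hz.2.2
  obtain ⟨k, hk⟩ := hQ ⟨z, hzQ⟩
  have hk' : z ^ (p ^ k) = 1 := by
    have := congrArg Subtype.val hk
    simpa using this
  have h1 : orderOf z ∣ Nat.gcd e (p ^ k) :=
    Nat.dvd_gcd (orderOf_dvd_of_pow_eq_one hze) (orderOf_dvd_of_pow_eq_one hk')
  have h2 : Nat.gcd e (p ^ k) = 1 :=
    Nat.Coprime.pow_right k ((Nat.Prime.coprime_iff_not_dvd hp).2 he).symm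
  rw [h2, Nat.dvd_one] at h1
  exact orderOf_eq_one_iff.1 h1

end basics


/-- the induction hypothesis of the main theorem -/
def IH (p e n : ℕ) : Prop :=
  ∀ (G' : Type u) [Group G'] [Finite G'], Nat.card G' < n →
    (∃ P : Sylow p G', Cfsg.HasNormalPComplement p
      ↥(Subgroup.normalizer (Z e (P : Subgroup G') : Set G'))) →
    Cfsg.HasNormalPComplement p G'

section steps

variable {G : Type u} [Group G] [Finite G] {p : ℕ} [Fact p.Prime]

omit [Fact p.Prime] in
theorem factorization_card_le (X : Subgroup G) :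
    (Nat.card X).factorization p ≤ (Nat.card G).factorization p := by
  have hdvd : Nat.card X ∣ Nat.card G := Subgroup.card_subgroup_dvd_card X
  exact (Nat.factorization_le_iff_dvd Nat.card_pos.ne' Nat.card_pos.ne').2 hdvd p

omit [Fact p.Prime] in
theorem factorization_card_eq_of_not_dvd_index (X : Subgroup G) (h : ¬ p ∣ X.index) :
    (Nat.card X).factorization p = (Nat.card G).factorization p := by
  have h1 : Nat.card X * X.index = Nat.card G := Subgroup.card_mul_index X
  rw [← h1, Nat.factorization_mul Nat.card_pos.ne' Subgroup.index_ne_zero_of_finite,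
    Finsupp.add_apply, Nat.factorization_eq_zero_of_not_dvd h, add_zero]

theorem le_factorization_of_isPGroup {T X : Subgroup G} (hTX : T ≤ X) {j : ℕ}
    (hj : Nat.card T = p ^ j) : j ≤ (Nat.card X).factorization p := by
  have hdvd : p ^ j ∣ Nat.card X := hj ▸ Subgroup.card_dvd_of_le hTX
  exact (Nat.Prime.pow_dvd_iff_le_factorization Fact.out Nat.card_pos.ne').1 hdvd

theorem card_quotient_lt (H : Subgroup G) [H.Normal] (hH : H ≠ ⊥) :
    Nat.card (G ⧸ H) < Nat.card G := by
  have h1 : Nat.card H * Nat.card (G ⧸ H) = Nat.card G := by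
    rw [← Subgroup.index_eq_card]; exact Subgroup.card_mul_index H
  have h2 : 1 < Nat.card H := by
    have h3 : Nat.card H ≠ 1 := fun h => hH (Subgroup.card_eq_one.1 h)
    have := Nat.card_pos (α := H)
    omega
  have h4 := Nat.card_pos (α := G ⧸ H)
  nlinarith

/-- a proper subgroup containing a Sylow `p`-subgroup has a normal `p`-complement -/
theorem npc_of_sylow_le {e : ℕ} (ih : IH.{u} p e (Nat.card G)) (P : Sylow p G)
    (hP : Cfsg.HasNormalPComplement p ↥(Subgroup.normalizer (Z e (P : Subgroup G) : Set G)))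
    (M : Subgroup G) (hPM : (P : Subgroup G) ≤ M) (hM : M ≠ ⊤) :
    Cfsg.HasNormalPComplement p ↥M := by
  have hcard : Nat.card ↥M < Nat.card G := by
    have := Cfsg.H5.ZJ.card_lt_of_lt (lt_top_iff_ne_top.2 hM)
    rwa [Subgroup.card_top] at this
  apply ih ↥M hcard
  refine ⟨P.subtype hPM, ?_⟩
  apply npc_normalizer_of_map
  have e1 : (Z e ((P.subtype hPM : Sylow p ↥M) : Subgroup ↥M)).map M.subtype =
      Z e (P : Subgroup G) := by
    rw [Z_map_hom (by rw [Subgroup.ker_subtype, inf_bot_eq]), Sylow.coe_subtype,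
      Subgroup.map_subgroupOf_eq_of_le hPM]
  rw [e1]; exact hP

omit [Finite G] in
theorem normalizer_le_normalizer_sup (A N₀ : Subgroup G) [hN : N₀.Normal] :
    Subgroup.normalizer (A : Set G) ≤ Subgroup.normalizer ((A ⊔ N₀ : Subgroup G) : Set G) := by
  apply Cfsg.H5.GlaubRepl.le_normalizer_of_conj_mem
  intro g hg x hx
  have hx' : x ∈ ((A ⊔ N₀ : Subgroup G) : Set G) := hx
  rw [Subgroup.mul_normal] at hx'
  obtain ⟨a, ha, n, hn, rfl⟩ := hx'
  have e : g * (a * n) * g⁻¹ = (g * a * g⁻¹) * (g * n * g⁻¹) := by group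
  rw [e]
  exact Subgroup.mul_mem _
    ((le_sup_left : A ≤ A ⊔ N₀) ((Subgroup.mem_set_normalizer_iff.1 hg a).1 ha))
    ((le_sup_right : N₀ ≤ A ⊔ N₀) (hN.conj_mem n hn g))

/-- Step 1 -/
theorem exists_normal_max {e : ℕ} (he : p ∣ e) (ih : IH.{u} p e (Nat.card G))
    (hall : ∀ Q : Sylow p G, Cfsg.HasNormalPComplement p
      ↥(Subgroup.normalizer (Z e (Q : Subgroup G) : Set G)))
    (hG : ¬ Cfsg.HasNormalPComplement p G) :
    ∃ H : Subgroup G, H.Normal ∧ IsPGroup p H ∧ H ≠ ⊥ ∧
      ∀ L : Subgroup G, IsPGroup p L → Nat.card H < Nat.card L →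
        ¬ p ∣ (Subgroup.normalizer (L : Set G)).index →
        Cfsg.HasNormalPComplement p ↥(Subgroup.normalizer (L : Set G)) := by
  have hp : p.Prime := Fact.out
  obtain ⟨S, hS⟩ : ∃ S : Set (Subgroup G), S = {Q : Subgroup G | IsPGroup p Q ∧ Q ≠ ⊥ ∧
      ¬ Cfsg.HasNormalPComplement p ↥(Subgroup.normalizer (Q : Set G))} := ⟨_, rfl⟩
  have hSne : S.Nonempty := by
    by_contra hemp
    rw [Set.not_nonempty_iff_eq_empty] at hemp
    apply hG
    rw [hasNormalPComplement_iff_local]
    intro Q hQ hQne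
    by_contra hn
    have : Q ∈ S := by rw [hS]; exact ⟨hQ, hQne, hn⟩
    rw [hemp] at this; exact this
  obtain ⟨f, hf⟩ : ∃ f : Subgroup G → ℕ, f = fun Q : Subgroup G =>
      (Nat.card ↥(Subgroup.normalizer (Q : Set G))).factorization p * (Nat.card G + 1) +
        Nat.card Q := ⟨_, rfl⟩
  obtain ⟨H, hHS, hmax⟩ := Set.exists_max_image S f (Set.toFinite S) hSne
  rw [hS] at hHS
  obtain ⟨hHp, hHne, hHnpc⟩ := hHS
  have hcmp : ∀ L : Subgroup G, IsPGroup p L → L ≠ ⊥ →
      ¬ Cfsg.HasNormalPComplement p ↥(Subgroup.normalizer (L : Set G)) → f L ≤ f H := by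
    intro L h1 h2 h3
    exact hmax L (by rw [hS]; exact ⟨h1, h2, h3⟩)
  have hHcard : Nat.card H ≤ Nat.card G := Subgroup.card_le_card_group H
  have hNtop : Subgroup.normalizer (H : Set G) = ⊤ := by
    by_contra hN
    apply hHnpc
    obtain ⟨N, hNdef⟩ : ∃ N : Subgroup G, N = Subgroup.normalizer (H : Set G) := ⟨_, rfl⟩
    rw [← hNdef] at hN ⊢
    have hcardN : Nat.card ↥N < Nat.card G := by
      have := Cfsg.H5.ZJ.card_lt_of_lt (lt_top_iff_ne_top.2 hN)
      rwa [Subgroup.card_top] at this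
    obtain ⟨QN⟩ : Nonempty (Sylow p ↥N) := inferInstance
    obtain ⟨Q, hQdef⟩ : ∃ Q : Subgroup G, Q = (QN : Subgroup ↥N).map N.subtype := ⟨_, rfl⟩
    have hQp : IsPGroup p Q := by rw [hQdef]; exact QN.isPGroup'.map _
    have hQcard : Nat.card Q = p ^ (Nat.card ↥N).factorization p := by
      rw [hQdef, Subgroup.card_map_of_injective N.subtype_injective]
      exact QN.card_eq_multiplicity
    have hHN : H ≤ N := by rw [hNdef]; exact Subgroup.le_normalizer
    have hHQ : H ≤ Q := by
      have hn : (H.subgroupOf N).Normal := by rw [hNdef]; exact Subgroup.normal_in_normalizer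
      have hHp' : IsPGroup p ↥(H.subgroupOf N) := hHp.comap_subtype
      have h1 : H.subgroupOf N ≤ QN := hHp'.le_sylow_of_normal QN
      have h2 : (H.subgroupOf N).map N.subtype = H := Subgroup.map_subgroupOf_eq_of_le hHN
      rw [← h2, hQdef]; exact Subgroup.map_mono h1
    have hQne : Q ≠ ⊥ := fun h => hHne (eq_bot_iff.2 (h ▸ hHQ))
    have hZmap : (Z e (QN : Subgroup ↥N)).map N.subtype = Z e Q := by
      rw [Z_map_hom (by rw [Subgroup.ker_subtype, inf_bot_eq]), hQdef]
    have hZp : IsPGroup p (Z e Q) := hQp.to_le Z_le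
    have hZne : Z e Q ≠ ⊥ := Z_ne_bot he hQp hQne
    have hnpcZ : Cfsg.HasNormalPComplement p ↥(Subgroup.normalizer (Z e Q : Set G)) := by
      by_contra hnpc
      have hle := hcmp (Z e Q) hZp hZne hnpc
      by_cases hsyl : Nat.card Q = p ^ (Nat.card G).factorization p
      · apply hnpc
        exact hall (Sylow.ofCard Q hsyl)
      · obtain ⟨P', hP'⟩ := hQp.exists_le_sylow
        have hlt : Q < (P' : Subgroup G) := by
          refine lt_of_le_of_ne hP' (fun h => hsyl ?_)
          rw [h]; exact P'.card_eq_multiplicity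
        obtain ⟨u, huP', huN, huQ⟩ :=
          Cfsg.Agent.Lib.Helper1.exists_mem_normalizer_notMem_of_lt P'.isPGroup'.isNilpotent hlt
        obtain ⟨T, hTdef⟩ : ∃ T : Subgroup G, T = Q ⊔ Subgroup.zpowers u := ⟨_, rfl⟩
        have hTP' : T ≤ P' := by rw [hTdef]; exact sup_le hP' (Subgroup.zpowers_le.2 huP')
        have hTp : IsPGroup p T := P'.isPGroup'.to_le hTP'
        have hQT : Q < T := by
          refine lt_of_le_of_ne (by rw [hTdef]; exact le_sup_left) (fun h => huQ ?_)
          rw [h, hTdef]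
          exact (le_sup_right : Subgroup.zpowers u ≤ _) (Subgroup.mem_zpowers u)
        have hTN : T ≤ Subgroup.normalizer (Z e Q : Set G) := by
          refine le_trans ?_ (normalizer_le_normalizer_Z Q)
          rw [hTdef]; exact sup_le Subgroup.le_normalizer (Subgroup.zpowers_le.2 huN)
        obtain ⟨j, hj⟩ := hTp.exists_card_eq
        have hj1 : (Nat.card ↥N).factorization p < j := by
          have := Cfsg.H5.ZJ.card_lt_of_lt hQT
          rw [hQcard, hj] at this
          exact (Nat.pow_lt_pow_iff_right hp.one_lt).1 this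
        have hj2 : j ≤ (Nat.card ↥(Subgroup.normalizer (Z e Q : Set G))).factorization p :=
          le_factorization_of_isPGroup hTN hj
        rw [hf] at hle
        simp only at hle
        rw [← hNdef] at hle
        have h5 : ((Nat.card ↥N).factorization p + 1) * (Nat.card G + 1) ≤
            (Nat.card ↥(Subgroup.normalizer (Z e Q : Set G))).factorization p *
              (Nat.card G + 1) := Nat.mul_le_mul_right _ (by omega)
        have h6 : ((Nat.card ↥N).factorization p + 1) * (Nat.card G + 1) =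
            (Nat.card ↥N).factorization p * (Nat.card G + 1) + (Nat.card G + 1) := by ring
        omega
    apply ih ↥N hcardN
    refine ⟨QN, ?_⟩
    apply npc_normalizer_of_map
    rw [hZmap]; exact hnpcZ
  have hHn : H.Normal := Subgroup.normalizer_eq_top_iff.1 hNtop
  refine ⟨H, hHn, hHp, hHne, ?_⟩
  intro L hLp hcard hidx
  by_contra hnpc
  have hLne : L ≠ ⊥ := by
    rintro rfl
    rw [Subgroup.card_bot] at hcard
    have := Nat.card_pos (α := H)
    omega
  have hle := hcmp L hLp hLne hnpc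
  rw [hf] at hle
  simp only at hle
  have h1 := factorization_card_eq_of_not_dvd_index (p := p) _ hidx
  have h2 := factorization_card_le (p := p) (Subgroup.normalizer (H : Set G))
  rw [h1] at hle
  have h3 := Nat.mul_le_mul_right (Nat.card G + 1) h2
  omega


/-- Step 2 -/
theorem npc_quotient {e : ℕ} (he : p ∣ e) (ih : IH.{u} p e (Nat.card G))
    (H : Subgroup G) [hHn : H.Normal] (hHp : IsPGroup p H) (hHne : H ≠ ⊥)
    (hstar : ∀ L : Subgroup G, IsPGroup p L → Nat.card H < Nat.card L →
        ¬ p ∣ (Subgroup.normalizer (L : Set G)).index →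
        Cfsg.HasNormalPComplement p ↥(Subgroup.normalizer (L : Set G))) :
    Cfsg.HasNormalPComplement p (G ⧸ H) := by
  have hp : p.Prime := Fact.out
  by_cases hdvd : p ∣ Nat.card (G ⧸ H)
  swap
  · exact hasNormalPComplement_of_coprime ((Nat.Prime.coprime_iff_not_dvd hp).2 hdvd).symm
  apply ih (G ⧸ H) (card_quotient_lt H hHne)
  obtain ⟨Pb⟩ : Nonempty (Sylow p (G ⧸ H)) := inferInstance
  refine ⟨Pb, ?_⟩
  have hPbne : (Pb : Subgroup (G ⧸ H)) ≠ ⊥ := Pb.ne_bot_of_dvd_card hdvd
  have hZne : Z e (Pb : Subgroup (G ⧸ H)) ≠ ⊥ := Z_ne_bot he Pb.isPGroup' hPbne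
  apply npc_normalizer_of_comap
  obtain ⟨L, hL⟩ : ∃ L : Subgroup G,
      L = (Z e (Pb : Subgroup (G ⧸ H))).comap (QuotientGroup.mk' H) := ⟨_, rfl⟩
  rw [← hL]
  have hLp : IsPGroup p L := by
    rw [hL]
    apply IsPGroup.comap_of_ker_isPGroup (Pb.isPGroup'.to_le Z_le)
    rw [QuotientGroup.ker_mk']; exact hHp
  have hHL : H ≤ L := by
    intro h hh
    rw [hL, Subgroup.mem_comap, QuotientGroup.mk'_apply, (QuotientGroup.eq_one_iff h).2 hh]
    exact Subgroup.one_mem _
  have hHLne : H ≠ L := by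
    intro h
    apply hZne
    have h1 : L.map (QuotientGroup.mk' H) = Z e (Pb : Subgroup (G ⧸ H)) := by
      rw [hL]
      exact Subgroup.map_comap_eq_self_of_surjective (QuotientGroup.mk'_surjective H) _
    rw [← h1, ← h, QuotientGroup.map_mk'_self]
  have hcard : Nat.card H < Nat.card L := Cfsg.H5.ZJ.card_lt_of_lt (lt_of_le_of_ne hHL hHLne)
  have hidx : ¬ p ∣ (Subgroup.normalizer (L : Set G)).index := by
    have e1 := Subgroup.comap_normalizer_eq_of_surjective (Z e (Pb : Subgroup (G ⧸ H)))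
      (QuotientGroup.mk'_surjective H)
    rw [hL, ← e1, Subgroup.index_comap_of_surjective _ (QuotientGroup.mk'_surjective H)]
    intro hd
    apply Pb.not_dvd_index
    exact dvd_trans hd (Subgroup.index_dvd_of_le
      (Subgroup.le_normalizer.trans (normalizer_le_normalizer_Z _)))
  exact hstar L hLp hcard hidx

/-- Step 3 -/
theorem pPrimeCore_eq_bot {e : ℕ} (ih : IH.{u} p e (Nat.card G))
    (hG : ¬ Cfsg.HasNormalPComplement p G) (P : Sylow p G)
    (hP : Cfsg.HasNormalPComplement p ↥(Subgroup.normalizer (Z e (P : Subgroup G) : Set G))) :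
    Cfsg.pPrimeCore p G = ⊥ := by
  by_contra hne
  apply hG
  obtain ⟨L₀, hL₀⟩ : ∃ L₀ : Subgroup G, L₀ = Cfsg.pPrimeCore p G := ⟨_, rfl⟩
  have hL₀n : L₀.Normal := by rw [hL₀]; exact Cfsg.H5.pPrimeCore_normal p G
  have hcop : (Nat.card L₀).Coprime p := by rw [hL₀]; exact Cfsg.H5.coprime_card_pPrimeCore p G
  rw [← hL₀] at hne
  apply hasNormalPComplement_of_quotient L₀ hcop
  have hsurj := QuotientGroup.mk'_surjective L₀
  have hinj : (P : Subgroup G) ⊓ (QuotientGroup.mk' L₀).ker = ⊥ := by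
    rw [QuotientGroup.ker_mk', eq_bot_iff]
    intro x hx
    rw [Subgroup.mem_bot]
    exact Cfsg.H5.eq_one_of_coprime_of_mem_pgroup
      (Cfsg.H5.coprime_orderOf_of_mem hcop hx.2) P.isPGroup' hx.1
  have hZp : IsPGroup p (Z e (P : Subgroup G)) := P.isPGroup'.to_le Z_le
  by_cases hX : Subgroup.normalizer ((Z e (P : Subgroup G) ⊔ L₀ : Subgroup G) : Set G) = ⊤
  · have hn : (Z e (P : Subgroup G) ⊔ L₀).Normal := Subgroup.normalizer_eq_top_iff.1 hX
    have hfr := Cfsg.H5.PSt.normalizer_sup_eq_top_of_coprime L₀ hcop hZp hn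
    have hφ : Function.Surjective ((QuotientGroup.mk' L₀).comp
        (Subgroup.normalizer (Z e (P : Subgroup G) : Set G)).subtype) := by
      intro y
      obtain ⟨g, rfl⟩ := hsurj y
      have hg : g ∈ ((L₀ ⊔ Subgroup.normalizer (Z e (P : Subgroup G) : Set G) : Subgroup G) :
          Set G) := by rw [hfr]; trivial
      rw [Subgroup.normal_mul] at hg
      obtain ⟨n, hn, h, hh, rfl⟩ := hg
      refine ⟨⟨h, hh⟩, ?_⟩
      show QuotientGroup.mk' L₀ h = QuotientGroup.mk' L₀ (n * h)
      have h1 : QuotientGroup.mk' L₀ n = 1 := (QuotientGroup.eq_one_iff n).2 hn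
      rw [map_mul, h1, one_mul]
    exact hasNormalPComplement_of_surjective _ hφ hP
  · apply ih (G ⧸ L₀) (card_quotient_lt L₀ hne)
    refine ⟨P.mapSurjective hsurj, ?_⟩
    rw [Sylow.coe_mapSurjective, ← Z_map_hom hinj]
    apply npc_normalizer_of_comap
    have e1 : ((Z e (P : Subgroup G)).map (QuotientGroup.mk' L₀)).comap (QuotientGroup.mk' L₀) =
        Z e (P : Subgroup G) ⊔ L₀ := by
      rw [Subgroup.comap_map_eq, QuotientGroup.ker_mk']
    rw [e1]
    apply npc_of_sylow_le ih P hP _ _ hX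
    exact (Subgroup.le_normalizer.trans (normalizer_le_normalizer_Z _)).trans
      (normalizer_le_normalizer_sup _ _)


/-- the minimal counterexample argument -/
theorem npc_of_ih (hp2 : p ≠ 2) {e : ℕ} (he : p ∣ e) (ih : IH.{u} p e (Nat.card G))
    (P : Sylow p G)
    (hP : Cfsg.HasNormalPComplement p ↥(Subgroup.normalizer (Z e (P : Subgroup G) : Set G))) :
    Cfsg.HasNormalPComplement p G := by
  have hp : p.Prime := Fact.out
  by_contra hG
  have hall : ∀ Q : Sylow p G, Cfsg.HasNormalPComplement p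
      ↥(Subgroup.normalizer (Z e (Q : Subgroup G) : Set G)) :=
    fun Q => npc_normalizer_Z_sylow P Q hP
  obtain ⟨H, hHn, hHp, hHne, hstar⟩ := exists_normal_max he ih hall hG
  have hGH := npc_quotient he ih H hHp hHne hstar
  obtain ⟨Kb, hKbn, hKbcop, k, hKbidx⟩ := hasNormalPComplement_iff_exists.1 hGH
  have hsurj := QuotientGroup.mk'_surjective H
  obtain ⟨K, hKdef⟩ : ∃ K : Subgroup G, K = Kb.comap (QuotientGroup.mk' H) := ⟨_, rfl⟩
  have hKn : K.Normal := by rw [hKdef]; exact hKbn.comap _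
  have hKidx : K.index = p ^ k := by
    rw [hKdef, Subgroup.index_comap_of_surjective _ hsurj]; exact hKbidx
  have hKmap : K.map (QuotientGroup.mk' H) = Kb := by
    rw [hKdef]; exact Subgroup.map_comap_eq_self_of_surjective hsurj _
  have hKm : ∀ y ∈ K, y ^ Nat.card Kb ∈ H := by
    intro y hy
    rw [hKdef, Subgroup.mem_comap] at hy
    have h1 : (⟨QuotientGroup.mk' H y, hy⟩ : ↥Kb) ^ Nat.card ↥Kb = 1 := pow_card_eq_one'
    have h2 := congrArg Subtype.val h1
    rw [Subgroup.coe_pow, Subgroup.coe_one, ← map_pow] at h2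
    exact (QuotientGroup.eq_one_iff _).1 h2
  -- `H = O_p(G)`
  have hHcore : H = Cfsg.pCore p G := by
    have h1 : H ≤ Cfsg.pCore p G := Cfsg.H5.le_pCore hHn hHp
    refine Subgroup.eq_of_le_of_card_ge h1 ?_
    by_contra hlt
    push Not at hlt
    apply hG
    have hn := Cfsg.H5.pCore_normal p G
    have htop : Subgroup.normalizer (Cfsg.pCore p G : Set G) = ⊤ :=
      Subgroup.normalizer_eq_top_iff.2 hn
    have h2 := hstar (Cfsg.pCore p G) (Cfsg.H5.pCore_isPGroup p G) hlt
      (by rw [htop, Subgroup.index_top]; exact hp.not_dvd_one)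
    exact npc_top_iff.1 (npc_congr htop h2)
  have hO : Cfsg.pPrimeCore p G = ⊥ := pPrimeCore_eq_bot ih hG P hP
  have hHK : H ≤ K := by
    intro h hh
    rw [hKdef, Subgroup.mem_comap, QuotientGroup.mk'_apply, (QuotientGroup.eq_one_iff h).2 hh]
    exact Subgroup.one_mem _
  have hrel : (H.relIndex K).Coprime p := by
    have h2 := Subgroup.relIndex_comap (⊥ : Subgroup (G ⧸ H)) (QuotientGroup.mk' H) K
    have h3 : (⊥ : Subgroup (G ⧸ H)).comap (QuotientGroup.mk' H) = H := by
      rw [MonoidHom.comap_bot, QuotientGroup.ker_mk']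
    rw [h3, Subgroup.relIndex_bot_left, hKmap] at h2
    rw [h2]; exact hKbcop
  have hps : Cfsg.IsPSolvable p G := isPSolvable_of_series H K hHn hKn hHK hHp hrel ⟨k, hKidx⟩
  have hcent : Subgroup.centralizer (Cfsg.pCore p G : Set G) ≤ Cfsg.pCore p G :=
    Cfsg.H5.centralizer_pCore_le_of_isPSolvable hps hO
  have hHP : H ≤ P := hHp.le_sylow_of_normal P
  -- `P` is a maximal subgroup
  have hPtop : (P : Subgroup G) ≠ ⊤ := by
    intro h
    apply hG
    apply hasNormalPComplement_of_isPGroup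
    have : IsPGroup p ↥(⊤ : Subgroup G) := h ▸ P.isPGroup'
    exact this.of_equiv Subgroup.topEquiv
  have hmaxP : ∀ M : Subgroup G, (P : Subgroup G) < M → M = ⊤ := by
    intro M hPM
    by_contra hM
    have hnpcM := npc_of_sylow_le ih P hP M hPM.le hM
    obtain ⟨D, hDn, hDcop, j, hDidx⟩ := hasNormalPComplement_iff_exists.1 hnpcM
    have hHM : H ≤ M := hHP.trans hPM.le
    have hHMn : (H.subgroupOf M).Normal := inferInstance
    have hHMp : IsPGroup p ↥(H.subgroupOf M) := hHp.comap_subtype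
    have hdisj : Disjoint D (H.subgroupOf M) := by
      apply Subgroup.disjoint_of_coprime_natCard
      obtain ⟨a, ha⟩ := hHMp.exists_card_eq
      rw [ha]; exact Nat.Coprime.pow_right a hDcop
    have hDbot : D = ⊥ := by
      rw [eq_bot_iff]
      intro d hd
      have hdC : (d : G) ∈ Subgroup.centralizer (Cfsg.pCore p G : Set G) := by
        rw [← hHcore, Subgroup.mem_centralizer_iff]
        intro h hh
        have hc := Subgroup.commute_of_normal_of_disjoint D (H.subgroupOf M) hDn hHMn hdisj d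
          ⟨h, hHM hh⟩ hd (Subgroup.mem_subgroupOf.2 hh)
        exact (congrArg Subtype.val hc.eq).symm
      have hdH : (d : G) ∈ H := by rw [hHcore]; exact hcent hdC
      have h5 : d ∈ D ⊓ H.subgroupOf M := ⟨hd, Subgroup.mem_subgroupOf.2 hdH⟩
      rw [disjoint_iff.1 hdisj] at h5
      exact h5
    have hMp : IsPGroup p ↥M := by
      apply IsPGroup.of_card (n := j)
      rw [← hDidx, hDbot, Subgroup.index_bot]
    exact hPM.ne (P.is_maximal' hMp hPM.le).symm
  have hcoat : IsCoatom ((P.mapSurjective hsurj : Sylow p (G ⧸ H)) : Subgroup (G ⧸ H)) := by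
    rw [Sylow.coe_mapSurjective]
    have hcm : ((P : Subgroup G).map (QuotientGroup.mk' H)).comap (QuotientGroup.mk' H) = P := by
      rw [Subgroup.comap_map_eq, QuotientGroup.ker_mk', sup_eq_left.2 hHP]
    constructor
    · intro h
      apply hPtop
      rw [← hcm, h, Subgroup.comap_top]
    · intro Mb hMb
      have h1 : (P : Subgroup G) < Mb.comap (QuotientGroup.mk' H) := by
        refine lt_of_le_of_ne ?_ ?_
        · rw [← hcm]; exact Subgroup.comap_mono hMb.le
        · intro h
          apply hMb.ne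
          rw [← Subgroup.map_comap_eq_self_of_surjective hsurj Mb, ← h]
      have h2 := hmaxP _ h1
      rw [← Subgroup.map_comap_eq_self_of_surjective hsurj Mb, h2,
        Subgroup.map_top_of_surjective _ hsurj]
  have hKbab := commute_of_isCoatom_sylow Kb hKbcop (P.mapSurjective hsurj) hcoat
  have hKK : ⁅K, K⁆ ≤ H := by
    rw [Subgroup.commutator_le]
    intro x hx y hy
    rw [hKdef, Subgroup.mem_comap] at hx hy
    rw [← QuotientGroup.eq_one_iff, ← QuotientGroup.mk'_apply, map_commutatorElement,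
      commutatorElement_eq_one_iff_mul_comm]
    exact hKbab _ hx _ hy
  have hKP : ∀ g : G, ∃ k ∈ K, ∃ t ∈ (P : Subgroup G), g = k * t := by
    have h1 := sylow_sup_eq_top_of_index_pow K hKidx P
    intro g
    have hg : g ∈ ((K ⊔ (P : Subgroup G) : Subgroup G) : Set G) := by
      rw [sup_comm, h1]; trivial
    rw [Subgroup.normal_mul] at hg
    obtain ⟨k', hk', t, ht, rfl⟩ := hg
    exact ⟨k', hk', t, ht, rfl⟩
  have hst : ∀ (V : Subgroup G) [V.Normal], IsPGroup p V → Cfsg.IsPStableOn p V := by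
    intro V hVn hVp
    have hVH : V ≤ H := by rw [hHcore]; exact Cfsg.H5.le_pCore hVn hVp
    exact isPStableOn_of_structure hp2 H K hHp hKK (Nat.card Kb) hKbcop hKm P hKP V hVH
  have hZn := Z_normal hp2 e hcent hst P
  have htop : Subgroup.normalizer (Z e (P : Subgroup G) : Set G) = ⊤ :=
    Subgroup.normalizer_eq_top_iff.2 hZn
  exact hG (npc_top_iff.1 (npc_congr htop hP))

end steps

/-- the Glauberman–Thompson theorem, induction form -/
theorem gt_all (p : ℕ) [Fact p.Prime] (hp2 : p ≠ 2) (e : ℕ) (he : p ∣ e) :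
    ∀ n : ℕ, ∀ (G : Type u) [Group G] [Finite G], Nat.card G = n →
      (∃ P : Sylow p G, Cfsg.HasNormalPComplement p
        ↥(Subgroup.normalizer (Z e (P : Subgroup G) : Set G))) →
      Cfsg.HasNormalPComplement p G := by
  intro n
  induction n using Nat.strong_induction_on with
  | _ n ih =>
    intro G _ _ hn hex
    obtain ⟨P, hP⟩ := hex
    have ih' : IH.{u} p e (Nat.card G) := by
      intro G' _ _ hlt hex'
      exact ih (Nat.card G') (hn ▸ hlt) G' rfl hex'
    exact npc_of_ih hp2 he ih' P hP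

/-- **Glauberman–Thompson**: for `p` odd, if `N_G(Z_e(J_e(P)))` has a normal `p`-complement
then so has `G`. -/
theorem glauberman_thompson {G : Type u} [Group G] [Finite G] {p : ℕ} [Fact p.Prime] (hp2 : p ≠ 2) (e : ℕ)
    (P : Sylow p G)
    (h : Cfsg.HasNormalPComplement p ↥(Subgroup.normalizer (Z e (P : Subgroup G) : Set G))) :
    Cfsg.HasNormalPComplement p G := by
  by_cases he : p ∣ e
  · exact gt_all p hp2 e he _ G rfl ⟨P, h⟩
  · have hZ : Z e (P : Subgroup G) = ⊥ := Z_eq_bot he P.isPGroup'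
    have htop : Subgroup.normalizer (Z e (P : Subgroup G) : Set G) = ⊤ := by
      rw [hZ]; exact Subgroup.normalizer_eq_top_iff.2 inferInstance
    exact npc_top_iff.1 (npc_congr htop h)

end Cfsg.H5.GT
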