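import Mathlib
import Cfsg.Prelude
import Cfsg.Agent.H5.ZJMain
import Cfsg.Agent.H5.ZJMap
import Cfsg.Agent.H5.GTMain
import Cfsg.Agent.H5.PStableQuot
import Cfsg.Agent.Lib.Helper13.Sylow

set_option autoImplicit false

/-! Strongly closed systems: conjugation-invariant sets of `p`-elements meeting every `p`-subgroup
in a subgroup.  The set of all conjugates of the elements of a subgroup `D` strongly closed in a
Sylow `p`-subgroup is such a system.  The functor `Wf e 𝔻` sends a `p`-subgroup `Q` to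
`Z e (Q ∩ 𝔻)`, or to `Z e Q` when `Q ∩ 𝔻 = 1`. -/

namespace Cfsg.H5.SC

open Cfsg.H5.ZJ

section defs

variable {G : Type*} [Group G]

/-- strongly closed system for the prime `p` -/
structure IsSCSet (p : ℕ) (𝔻 : Set G) : Prop where
  conj : ∀ x ∈ 𝔻, ∀ g : G, g * x * g⁻¹ ∈ 𝔻
  pel : ∀ x ∈ 𝔻, ∃ k : ℕ, x ^ (p ^ k) = 1
  sub : ∀ Q : Subgroup G, IsPGroup p Q → ∃ E : Subgroup G, (E : Set G) = (Q : Set G) ∩ 𝔻

/-- the subgroup generated by `Q ∩ 𝔻` -/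
def dsub (𝔻 : Set G) (Q : Subgroup G) : Subgroup G := Subgroup.closure ((Q : Set G) ∩ 𝔻)

theorem dsub_le (𝔻 : Set G) (Q : Subgroup G) : dsub 𝔻 Q ≤ Q := by
  unfold dsub
  rw [Subgroup.closure_le]
  exact Set.inter_subset_left

theorem coe_dsub {p : ℕ} {𝔻 : Set G} (h : IsSCSet p 𝔻) {Q : Subgroup G} (hQ : IsPGroup p Q) :
    (dsub 𝔻 Q : Set G) = (Q : Set G) ∩ 𝔻 := by
  obtain ⟨E, hE⟩ := h.sub Q hQ
  unfold dsub
  rw [← hE, Subgroup.closure_eq]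

theorem mem_dsub_iff {p : ℕ} {𝔻 : Set G} (h : IsSCSet p 𝔻) {Q : Subgroup G} (hQ : IsPGroup p Q)
    {x : G} : x ∈ dsub 𝔻 Q ↔ x ∈ Q ∧ x ∈ 𝔻 := by
  rw [← SetLike.mem_coe, coe_dsub h hQ]
  rfl

theorem dsub_one (Q : Subgroup G) : dsub ({1} : Set G) Q = ⊥ := by
  unfold dsub
  rw [eq_bot_iff, Subgroup.closure_le]
  rintro x ⟨-, hx⟩
  rw [Set.mem_singleton_iff] at hx
  rw [hx]; exact Subgroup.one_mem _

theorem isSCSet_one (p : ℕ) : IsSCSet p ({1} : Set G) := by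
  refine ⟨?_, ?_, ?_⟩
  · intro x hx g
    rw [Set.mem_singleton_iff] at hx
    rw [hx, mul_one, mul_inv_cancel]; exact Set.mem_singleton _
  · intro x hx
    rw [Set.mem_singleton_iff] at hx
    exact ⟨0, by rw [hx, one_pow]⟩
  · intro Q _
    refine ⟨⊥, ?_⟩
    ext x
    simp only [Subgroup.coe_bot, Set.mem_singleton_iff, Set.mem_inter_iff, SetLike.mem_coe]
    constructor
    · rintro rfl; exact ⟨Q.one_mem, rfl⟩
    · rintro ⟨-, h⟩; exact h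

theorem dsub_map_conj {𝔻 : Set G} (hconj : ∀ x ∈ 𝔻, ∀ g : G, g * x * g⁻¹ ∈ 𝔻) (Q : Subgroup G)
    (g : G) : dsub 𝔻 (Q.map (MulAut.conj g).toMonoidHom) = (dsub 𝔻 Q).map (MulAut.conj g).toMonoidHom := by
  unfold dsub
  rw [MonoidHom.map_closure]
  congr 1
  ext x
  constructor
  · rintro ⟨⟨y, hy, rfl⟩, hx⟩
    refine ⟨y, ⟨hy, ?_⟩, rfl⟩
    have := hconj _ hx g⁻¹
    simpa [MulAut.conj_apply, mul_assoc] using this
  · rintro ⟨y, ⟨hy, hyD⟩, rfl⟩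
    refine ⟨⟨y, hy, rfl⟩, ?_⟩
    have := hconj _ hyD g
    simpa [MulAut.conj_apply] using this

theorem normalizer_le_normalizer_dsub {𝔻 : Set G}
    (hconj : ∀ x ∈ 𝔻, ∀ g : G, g * x * g⁻¹ ∈ 𝔻) (Q : Subgroup G) :
    Subgroup.normalizer (Q : Set G) ≤ Subgroup.normalizer (dsub 𝔻 Q : Set G) := by
  intro g hg
  rw [Subgroup.mem_normalizer_iff_map_conj_eq] at hg ⊢
  have := dsub_map_conj hconj Q g
  rw [show Q.map (MulAut.conj g).toMonoidHom = Q from hg] at this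
  exact this.symm

theorem dsub_of_le {p : ℕ} {𝔻 : Set G} (h : IsSCSet p 𝔻) {Q R : Subgroup G} (hQ : IsPGroup p Q)
    (hRQ : R ≤ Q) : dsub 𝔻 R = dsub 𝔻 Q ⊓ R := by
  have hR : IsPGroup p R := hQ.to_le hRQ
  ext x
  rw [Subgroup.mem_inf, mem_dsub_iff h hR, mem_dsub_iff h hQ]
  constructor
  · rintro ⟨h1, h2⟩; exact ⟨⟨hRQ h1, h2⟩, h1⟩
  · rintro ⟨⟨-, h2⟩, h1⟩; exact ⟨h1, h2⟩

open Classical in
/-- the conjugacy functor attached to a strongly closed system -/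
noncomputable def Wf (e : ℕ) (𝔻 : Set G) (Q : Subgroup G) : Subgroup G :=
  if dsub 𝔻 Q = ⊥ then Z e Q else Z e (dsub 𝔻 Q)

theorem Wf_of_eq_bot {e : ℕ} {𝔻 : Set G} {Q : Subgroup G} (h : dsub 𝔻 Q = ⊥) :
    Wf e 𝔻 Q = Z e Q := by
  unfold Wf; rw [if_pos h]

theorem Wf_of_ne_bot {e : ℕ} {𝔻 : Set G} {Q : Subgroup G} (h : dsub 𝔻 Q ≠ ⊥) :
    Wf e 𝔻 Q = Z e (dsub 𝔻 Q) := by
  unfold Wf; rw [if_neg h]

theorem Wf_one (e : ℕ) (Q : Subgroup G) : Wf e ({1} : Set G) Q = Z e Q :=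
  Wf_of_eq_bot (dsub_one Q)

theorem Wf_le (e : ℕ) (𝔻 : Set G) (Q : Subgroup G) : Wf e 𝔻 Q ≤ Q := by
  by_cases h : dsub 𝔻 Q = ⊥
  · rw [Wf_of_eq_bot h]; exact Z_le
  · rw [Wf_of_ne_bot h]; exact Z_le.trans (dsub_le 𝔻 Q)

theorem Wf_map_conj {e : ℕ} {𝔻 : Set G} (hconj : ∀ x ∈ 𝔻, ∀ g : G, g * x * g⁻¹ ∈ 𝔻)
    (Q : Subgroup G) (g : G) :
    Wf e 𝔻 (Q.map (MulAut.conj g).toMonoidHom) = (Wf e 𝔻 Q).map (MulAut.conj g).toMonoidHom := by
  have h1 := dsub_map_conj hconj Q g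
  by_cases h : dsub 𝔻 Q = ⊥
  · have h2 : dsub 𝔻 (Q.map (MulAut.conj g).toMonoidHom) = ⊥ := by rw [h1, h, Subgroup.map_bot]
    rw [Wf_of_eq_bot h, Wf_of_eq_bot h2, Z_map]
  · have h2 : dsub 𝔻 (Q.map (MulAut.conj g).toMonoidHom) ≠ ⊥ := by
      rw [h1]
      intro h3
      apply h
      rw [eq_bot_iff] at h3 ⊢
      intro x hx
      have := h3 (Subgroup.mem_map_of_mem _ hx)
      rw [Subgroup.mem_bot] at this ⊢
      exact (MulAut.conj g).injective (by rw [MulEquiv.coe_toMonoidHom] at this; rw [this, map_one])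
    rw [Wf_of_ne_bot h, Wf_of_ne_bot h2, h1, Z_map]

theorem normalizer_le_normalizer_Wf {e : ℕ} {𝔻 : Set G}
    (hconj : ∀ x ∈ 𝔻, ∀ g : G, g * x * g⁻¹ ∈ 𝔻) (Q : Subgroup G) :
    Subgroup.normalizer (Q : Set G) ≤ Subgroup.normalizer (Wf e 𝔻 Q : Set G) := by
  intro g hg
  rw [Subgroup.mem_normalizer_iff_map_conj_eq] at hg ⊢
  have := Wf_map_conj (e := e) hconj Q g
  rw [show Q.map (MulAut.conj g).toMonoidHom = Q from hg] at this
  exact this.symm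

theorem Wf_ne_bot [Finite G] {p : ℕ} [Fact p.Prime] {e : ℕ} (he : p ∣ e) (𝔻 : Set G)
    {Q : Subgroup G} (hQ : IsPGroup p Q) (hne : Q ≠ ⊥) : Wf e 𝔻 Q ≠ ⊥ := by
  by_cases h : dsub 𝔻 Q = ⊥
  · rw [Wf_of_eq_bot h]; exact Cfsg.H5.GT.Z_ne_bot he hQ hne
  · rw [Wf_of_ne_bot h]; exact Cfsg.H5.GT.Z_ne_bot he (hQ.to_le (dsub_le 𝔻 Q)) h

end defs

section strongly

variable {G : Type*} [Group G]

/-- the set of all conjugates of elements of `D` -/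
def conjSet (D : Subgroup G) : Set G := {x | ∃ d ∈ D, ∃ g : G, x = g * d * g⁻¹}

theorem isSCSet_conjSet [Finite G] {p : ℕ} [Fact p.Prime] (P : Sylow p G) {D : Subgroup G}
    (hD : Cfsg.IsStronglyClosed D (P : Subgroup G)) : IsSCSet p (conjSet D) := by
  refine ⟨?_, ?_, ?_⟩
  · rintro x ⟨d, hd, h, rfl⟩ g
    exact ⟨d, hd, g * h, by group⟩
  · rintro x ⟨d, hd, h, rfl⟩
    obtain ⟨k, hk⟩ := P.isPGroup' ⟨d, hD.1 hd⟩
    refine ⟨k, ?_⟩
    have h1 : d ^ (p ^ k) = 1 := by simpa using congrArg Subtype.val hk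
    have e : (h * d * h⁻¹) ^ (p ^ k) = h * d ^ (p ^ k) * h⁻¹ := conj_pow
    rw [e, h1, mul_one, mul_inv_cancel]
  · intro Q hQ
    obtain ⟨g, -, hg⟩ := Cfsg.Agent.Lib.Helper13.exists_conj_le_of_relIndex (⊤ : Subgroup G)
      (P : Subgroup G) Q P.isPGroup'
      (by rw [Subgroup.relIndex_top_right]; exact P.not_dvd_index) le_top hQ
    refine ⟨D.comap (MulAut.conj g).toMonoidHom ⊓ Q, ?_⟩
    ext x
    simp only [Subgroup.coe_inf, Subgroup.coe_comap, Set.mem_inter_iff, Set.mem_preimage,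
      SetLike.mem_coe, MulEquiv.coe_toMonoidHom, MulAut.conj_apply]
    constructor
    · rintro ⟨h1, h2⟩
      exact ⟨h2, g * x * g⁻¹, h1, g⁻¹, by group⟩
    · rintro ⟨h1, d, hd, h, rfl⟩
      refine ⟨?_, h1⟩
      have h2 := hg _ h1
      have e : g * (h * d * h⁻¹) * g⁻¹ = (g * h) * d * (g * h)⁻¹ := by group
      rw [e] at h2 ⊢
      exact hD.2 d hd (g * h) h2

theorem dsub_conjSet {P D : Subgroup G} (hD : Cfsg.IsStronglyClosed D P) :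
    dsub (conjSet D) P = D := by
  unfold dsub
  apply le_antisymm
  · rw [Subgroup.closure_le]
    rintro x ⟨hxP, d, hd, g, rfl⟩
    exact hD.2 d hd g hxP
  · intro d hd
    apply Subgroup.subset_closure
    exact ⟨hD.1 hd, d, hd, 1, by group⟩

end strongly

end Cfsg.H5.SC
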