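import Mathlib
import Cfsg.Prelude
import Cfsg.Agent.H5.SCDefs
import Cfsg.Agent.H5.Card
import Cfsg.Agent.Lib.Helper13.RelSylow

set_option autoImplicit false

/-! Strongly closed systems in subgroups and in quotients. -/

namespace Cfsg.H5.SC

open Cfsg.H5.ZJ

section subgroup

variable {G : Type*} [Group G]

theorem isSCSet_comap {p : ℕ} {𝔻 : Set G} (h : IsSCSet p 𝔻) (N : Subgroup G) :
    IsSCSet p (N.subtype ⁻¹' 𝔻) := by
  refine ⟨?_, ?_, ?_⟩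
  · intro x hx g
    have := h.conj _ hx (g : G)
    simpa using this
  · intro x hx
    obtain ⟨k, hk⟩ := h.pel _ hx
    refine ⟨k, ?_⟩
    apply Subtype.ext
    simpa using hk
  · intro Q hQ
    obtain ⟨E, hE⟩ := h.sub (Q.map N.subtype) (hQ.map _)
    refine ⟨E.comap N.subtype, ?_⟩
    ext x
    have h1 : (x : G) ∈ (E : Set G) ↔ (x : G) ∈ ((Q.map N.subtype : Subgroup G) : Set G) ∩ 𝔻 := by
      rw [hE]
    simp only [Subgroup.coe_comap, Set.mem_preimage, Set.mem_inter_iff, SetLike.mem_coe,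
      Subgroup.subtype_apply] at h1 ⊢
    rw [h1]
    constructor
    · rintro ⟨⟨y, hy, hyx⟩, h2⟩
      have : y = x := Subtype.ext hyx
      exact ⟨this ▸ hy, h2⟩
    · rintro ⟨h2, h3⟩
      exact ⟨⟨x, h2, rfl⟩, h3⟩

theorem dsub_map_subtype (𝔻 : Set G) (N : Subgroup G) (Q : Subgroup ↥N) :
    (dsub (N.subtype ⁻¹' 𝔻) Q).map N.subtype = dsub 𝔻 (Q.map N.subtype) := by
  unfold dsub
  rw [MonoidHom.map_closure]
  congr 1
  ext x
  constructor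
  · rintro ⟨y, ⟨hy, hyD⟩, rfl⟩
    exact ⟨⟨y, hy, rfl⟩, hyD⟩
  · rintro ⟨⟨y, hy, rfl⟩, hx⟩
    exact ⟨y, ⟨hy, hx⟩, rfl⟩

theorem Wf_map_subtype (e : ℕ) (𝔻 : Set G) (N : Subgroup G) (Q : Subgroup ↥N) :
    (Wf e (N.subtype ⁻¹' 𝔻) Q).map N.subtype = Wf e 𝔻 (Q.map N.subtype) := by
  have h1 := dsub_map_subtype 𝔻 N Q
  have hinj : ∀ R : Subgroup ↥N, R ⊓ N.subtype.ker = ⊥ := fun R => by
    rw [Subgroup.ker_subtype, inf_bot_eq]
  by_cases h : dsub (N.subtype ⁻¹' 𝔻) Q = ⊥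
  · have h2 : dsub 𝔻 (Q.map N.subtype) = ⊥ := by rw [← h1, h, Subgroup.map_bot]
    rw [Wf_of_eq_bot h, Wf_of_eq_bot h2, Z_map_hom (hinj _)]
  · have h2 : dsub 𝔻 (Q.map N.subtype) ≠ ⊥ := by
      rw [← h1]
      intro h3
      apply h
      rw [Subgroup.map_eq_bot_iff, Subgroup.ker_subtype, le_bot_iff] at h3
      exact h3
    rw [Wf_of_ne_bot h, Wf_of_ne_bot h2, Z_map_hom (hinj _), h1]

end subgroup

section quotient

variable {G : Type*} [Group G] [Finite G] {p : ℕ} [Fact p.Prime]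

theorem image_inter {𝔻 : Set G} (h : IsSCSet p 𝔻) (N₀ : Subgroup G) [N₀.Normal]
    (Q₁ : Subgroup G) (hQ₁ : IsPGroup p Q₁)
    (hidx : ¬ p ∣ Q₁.relIndex ((Q₁.map (QuotientGroup.mk' N₀)).comap (QuotientGroup.mk' N₀))) :
    ((Q₁.map (QuotientGroup.mk' N₀) : Subgroup (G ⧸ N₀)) : Set (G ⧸ N₀)) ∩
      (QuotientGroup.mk' N₀) '' 𝔻 = (QuotientGroup.mk' N₀) '' ((Q₁ : Set G) ∩ 𝔻) := by
  apply Set.Subset.antisymm
  · rintro y ⟨hyQ, d, hd, rfl⟩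
    obtain ⟨k, hk⟩ := h.pel d hd
    have hdp : IsPGroup p (Subgroup.zpowers d) := by
      rintro ⟨z, hz⟩
      obtain ⟨i, rfl⟩ := Subgroup.mem_zpowers_iff.1 hz
      refine ⟨k, ?_⟩
      apply Subtype.ext
      simp only [SubgroupClass.coe_pow, Subgroup.coe_one]
      rw [← zpow_natCast, ← zpow_mul, mul_comm, zpow_mul, zpow_natCast, hk, one_zpow]
    have hdle : Subgroup.zpowers d ≤
        (Q₁.map (QuotientGroup.mk' N₀)).comap (QuotientGroup.mk' N₀) := by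
      rw [Subgroup.zpowers_le, Subgroup.mem_comap]; exact hyQ
    obtain ⟨g, hg, hgd⟩ := Cfsg.Agent.Lib.Helper13.exists_conj_le_of_relIndex _ Q₁
      (Subgroup.zpowers d) hQ₁ hidx hdle hdp
    have h1 : g * d * g⁻¹ ∈ Q₁ := hgd d (Subgroup.mem_zpowers d)
    rw [Subgroup.mem_comap] at hg
    obtain ⟨q, hq, hqg⟩ := hg
    refine ⟨q⁻¹ * (g * d * g⁻¹) * q, ⟨?_, ?_⟩, ?_⟩
    · exact Q₁.mul_mem (Q₁.mul_mem (Q₁.inv_mem hq) h1) hq
    · have := h.conj d hd (q⁻¹ * g)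
      have e : q⁻¹ * g * d * (q⁻¹ * g)⁻¹ = q⁻¹ * (g * d * g⁻¹) * q := by group
      rwa [e] at this
    · rw [map_mul, map_mul, map_mul, map_mul, map_inv, map_inv, hqg]
      group
  · rintro _ ⟨x, ⟨hxQ, hxD⟩, rfl⟩
    exact ⟨Subgroup.mem_map_of_mem _ hxQ, x, hxD, rfl⟩

theorem dsub_map_mk {𝔻 : Set G} (h : IsSCSet p 𝔻) (N₀ : Subgroup G) [N₀.Normal]
    (Q₁ : Subgroup G) (hQ₁ : IsPGroup p Q₁)
    (hidx : ¬ p ∣ Q₁.relIndex ((Q₁.map (QuotientGroup.mk' N₀)).comap (QuotientGroup.mk' N₀))) :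
    dsub ((QuotientGroup.mk' N₀) '' 𝔻) (Q₁.map (QuotientGroup.mk' N₀)) =
      (dsub 𝔻 Q₁).map (QuotientGroup.mk' N₀) := by
  unfold dsub
  rw [MonoidHom.map_closure, image_inter h N₀ Q₁ hQ₁ hidx]

omit [Finite G] in
theorem relIndex_map_subtype (K : Subgroup G) (A : Subgroup ↥K) :
    (A.map K.subtype).relIndex K = A.index := by
  rw [Subgroup.relIndex]
  congr 1
  ext x
  rw [Subgroup.mem_subgroupOf]
  constructor
  · rintro ⟨y, hy, hyx⟩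
    have : y = x := Subtype.ext hyx
    rw [← this]; exact hy
  · intro hx
    exact ⟨x, hx, rfl⟩

theorem isSCSet_image {𝔻 : Set G} (h : IsSCSet p 𝔻) (N₀ : Subgroup G) [N₀.Normal] :
    IsSCSet p ((QuotientGroup.mk' N₀) '' 𝔻) := by
  have hsurj := QuotientGroup.mk'_surjective N₀
  refine ⟨?_, ?_, ?_⟩
  · rintro _ ⟨d, hd, rfl⟩ gb
    obtain ⟨g, rfl⟩ := hsurj gb
    exact ⟨g * d * g⁻¹, h.conj d hd g, by simp⟩
  · rintro _ ⟨d, hd, rfl⟩
    obtain ⟨k, hk⟩ := h.pel d hd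
    exact ⟨k, by rw [← map_pow, hk, map_one]⟩
  · intro Qb hQb
    obtain ⟨Q₁s⟩ : Nonempty (Sylow p ↥(Qb.comap (QuotientGroup.mk' N₀))) := inferInstance
    obtain ⟨Q₁, hQ₁def⟩ : ∃ Q₁ : Subgroup G, Q₁ = (Q₁s : Subgroup ↥(Qb.comap
      (QuotientGroup.mk' N₀))).map (Qb.comap (QuotientGroup.mk' N₀)).subtype := ⟨_, rfl⟩
    have hmc : (Qb.comap (QuotientGroup.mk' N₀)).map (QuotientGroup.mk' N₀) = Qb :=
      Subgroup.map_comap_eq_self_of_surjective hsurj Qb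
    have hQ₁map : Q₁.map (QuotientGroup.mk' N₀) = Qb := by
      rw [hQ₁def, Cfsg.H5.PSt.map_sylow_eq _ _ (by rw [hmc]; exact hQb), hmc]
    have hQ₁p : IsPGroup p Q₁ := by rw [hQ₁def]; exact Q₁s.isPGroup'.map _
    have hidx : ¬ p ∣ Q₁.relIndex ((Q₁.map (QuotientGroup.mk' N₀)).comap
        (QuotientGroup.mk' N₀)) := by
      rw [hQ₁map, hQ₁def, relIndex_map_subtype]
      exact Q₁s.not_dvd_index
    refine ⟨(dsub 𝔻 Q₁).map (QuotientGroup.mk' N₀), ?_⟩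
    rw [Subgroup.coe_map, coe_dsub h hQ₁p, ← image_inter h N₀ Q₁ hQ₁p hidx, hQ₁map]

/-- the index condition for a `p`-subgroup and a normal `p'`-subgroup -/
theorem not_dvd_relIndex_comap_map (N₀ : Subgroup G) [N₀.Normal] (hN₀ : (Nat.card N₀).Coprime p)
    (P : Subgroup G) (hP : IsPGroup p P) :
    ¬ p ∣ P.relIndex ((P.map (QuotientGroup.mk' N₀)).comap (QuotientGroup.mk' N₀)) := by
  rw [Subgroup.comap_map_eq, QuotientGroup.ker_mk']
  have hinf : P ⊓ N₀ = ⊥ := by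
    rw [eq_bot_iff]
    intro x hx
    rw [Subgroup.mem_bot]
    exact Cfsg.H5.eq_one_of_coprime_of_mem_pgroup
      (Cfsg.H5.coprime_orderOf_of_mem hN₀ hx.2) hP hx.1
  have h1 := Cfsg.H5.card_sup_mul_card_inf (H := P) (N := N₀)
    (by rw [Subgroup.normalizer_eq_top_iff.2 inferInstance]; exact le_top)
  rw [hinf, Subgroup.card_bot, mul_one] at h1
  have h2 := Cfsg.H5.card_mul_relIndex_of_le (le_sup_left : P ≤ P ⊔ N₀)
  have h3 : P.relIndex (P ⊔ N₀) = Nat.card N₀ := by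
    rw [h1] at h2
    exact Nat.eq_of_mul_eq_mul_left Nat.card_pos h2
  rw [h3]
  intro hdvd
  have h5 := Nat.Coprime.eq_one_of_dvd hN₀.symm hdvd
  exact (Fact.out : p.Prime).one_lt.ne' h5

omit [Fact p.Prime] in
theorem inf_ker_mk_eq_bot (N₀ : Subgroup G) [N₀.Normal] (hN₀ : (Nat.card N₀).Coprime p)
    (P : Subgroup G) (hP : IsPGroup p P) : P ⊓ (QuotientGroup.mk' N₀).ker = ⊥ := by
  rw [QuotientGroup.ker_mk', eq_bot_iff]
  intro x hx
  rw [Subgroup.mem_bot]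
  exact Cfsg.H5.eq_one_of_coprime_of_mem_pgroup
    (Cfsg.H5.coprime_orderOf_of_mem hN₀ hx.2) hP hx.1

theorem Wf_map_mk (e : ℕ) {𝔻 : Set G} (h : IsSCSet p 𝔻) (N₀ : Subgroup G) [N₀.Normal]
    (hN₀ : (Nat.card N₀).Coprime p) (P : Subgroup G) (hP : IsPGroup p P) :
    Wf e ((QuotientGroup.mk' N₀) '' 𝔻) (P.map (QuotientGroup.mk' N₀)) =
      (Wf e 𝔻 P).map (QuotientGroup.mk' N₀) := by
  have h1 := dsub_map_mk h N₀ P hP (not_dvd_relIndex_comap_map N₀ hN₀ P hP)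
  have hinj := inf_ker_mk_eq_bot N₀ hN₀ P hP
  have hinj' : dsub 𝔻 P ⊓ (QuotientGroup.mk' N₀).ker = ⊥ := by
    rw [eq_bot_iff, ← hinj]; exact inf_le_inf_right _ (dsub_le 𝔻 P)
  by_cases hb : dsub 𝔻 P = ⊥
  · have h2 : dsub ((QuotientGroup.mk' N₀) '' 𝔻) (P.map (QuotientGroup.mk' N₀)) = ⊥ := by
      rw [h1, hb, Subgroup.map_bot]
    rw [Wf_of_eq_bot hb, Wf_of_eq_bot h2, Z_map_hom hinj]
  · have h2 : dsub ((QuotientGroup.mk' N₀) '' 𝔻) (P.map (QuotientGroup.mk' N₀)) ≠ ⊥ := by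
      rw [h1]
      intro h3
      apply hb
      rw [Subgroup.map_eq_bot_iff] at h3
      rw [eq_bot_iff, ← hinj']
      exact le_inf le_rfl h3
    rw [Wf_of_ne_bot hb, Wf_of_ne_bot h2, h1, Z_map_hom hinj']

end quotient

end Cfsg.H5.SC
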