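import Mathlib
import Cfsg.Prelude
import Cfsg.Agent.H5.SCDefs

set_option autoImplicit false

/-! Glauberman's ZJ-theorem for strongly closed systems: in a `p`-stable group of characteristic
`p` (`p` odd), `Z e (S ∩ 𝔻)` is normal. -/

namespace Cfsg.H5.SC

open scoped commutatorElement
open Cfsg.H5.ZJ Cfsg.H5.GlaubRepl

variable {G : Type*} [Group G] [Finite G] {p : ℕ} [Fact p.Prime]

theorem inf_normal_sc (hp : p ≠ 2) (e : ℕ)
    (hst : ∀ (P : Subgroup G) [P.Normal], IsPGroup p P → Cfsg.IsPStableOn p P)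
    (S : Sylow p G) {𝔻 : Set G} (h𝔻 : IsSCSet p 𝔻) :
    ∀ n : ℕ, ∀ B : Subgroup G, B.Normal → IsPGroup p B → B ≤ dsub 𝔻 (S : Subgroup G) →
      Nat.card B = n → (Z e (dsub 𝔻 (S : Subgroup G)) ⊓ B).Normal := by
  intro n
  induction n using Nat.strong_induction_on with
  | _ n ih =>
  intro B hBn hBp hBD hcard
  haveI := hBn
  obtain ⟨D, hDdef⟩ : ∃ D : Subgroup G, D = dsub 𝔻 (S : Subgroup G) := ⟨_, rfl⟩
  rw [← hDdef] at hBD ih ⊢
  have hSp : IsPGroup p (S : Subgroup G) := S.isPGroup'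
  have hDS : D ≤ S := by rw [hDdef]; exact dsub_le _ _
  have hDp : IsPGroup p D := hSp.to_le hDS
  have hDB : D ≤ Subgroup.normalizer (B : Set G) := by
    rw [Subgroup.normalizer_eq_top_iff.2 hBn]; exact le_top
  have hZD : D ≤ Subgroup.normalizer (Z e D : Set G) :=
    Subgroup.le_normalizer.trans (normalizer_le_normalizer_Z _)
  -- Step 1: `B` is the normal closure of `W`
  by_cases h1 : Subgroup.normalClosure ((Z e D ⊓ B : Subgroup G) : Set G) = B
  swap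
  · have hle : Subgroup.normalClosure ((Z e D ⊓ B : Subgroup G) : Set G) ≤ B :=
      Subgroup.normalClosure_le_normal (fun x hx => hx.2)
    have hlt : Nat.card (Subgroup.normalClosure ((Z e D ⊓ B : Subgroup G) : Set G)) < n := by
      rw [← hcard]; exact card_lt_of_lt (lt_of_le_of_ne hle h1)
    have h2 := ih _ hlt _ Subgroup.normalClosure_normal (hBp.to_le hle) (hle.trans hBD) rfl
    have e1 : Z e D ⊓ Subgroup.normalClosure ((Z e D ⊓ B : Subgroup G) : Set G) = Z e D ⊓ B :=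
      le_antisymm (inf_le_inf_left _ hle) (le_inf inf_le_left Subgroup.subset_normalClosure)
    rwa [e1] at h2
  -- Step 2
  by_cases hbot : B = ⊥
  · rw [hbot, inf_bot_eq]; infer_instance
  have hB'lt : ⁅B, B⁆ < B := commutator_lt_of_isPGroup hBp hbot
  have hW'n : (Z e D ⊓ ⁅B, B⁆).Normal :=
    ih _ (by rw [← hcard]; exact card_lt_of_lt hB'lt) ⁅B, B⁆ inferInstance
      (hBp.to_le hB'lt.le) (hB'lt.le.trans hBD) rfl
  -- Steps 3, 4
  have hBBZ : ⁅B, B⁆ ≤ Z e D := by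
    have h3 : ⁅Z e D ⊓ B, B⁆ ≤ Z e D ⊓ ⁅B, B⁆ := by
      refine le_inf ?_ (Subgroup.commutator_mono inf_le_right le_rfl)
      rw [Subgroup.commutator_le]
      intro z hz b hb
      have hb' := hZD (hBD hb)
      have h5 : b * z⁻¹ * b⁻¹ ∈ Z e D :=
        (Subgroup.mem_set_normalizer_iff.1 hb' z⁻¹).1 (inv_mem hz.1)
      have e2 : ⁅z, b⁆ = z * (b * z⁻¹ * b⁻¹) := by simp only [commutatorElement_def]; group
      rw [e2]; exact mul_mem hz.1 h5
    have h4 := commutator_normalClosure_le (hN := hW'n) h3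
    rw [h1] at h4
    exact h4.trans inf_le_left
  have hB' : ∀ A ∈ fam e D, ⁅B, B⁆ ≤ A :=
    fun A hA => hBBZ.trans (Z_le_of_mem_fam hA)
  -- the subgroup `R = D ∩ L`
  have hRD : D ⊓ Lq p B ≤ D := inf_le_left
  have hquad : ∀ A ∈ fam e D, B ≤ Subgroup.normalizer (A : Set G) → A ≤ D ⊓ Lq p B :=
    fun A hA hBA => le_inf hA.1 (le_Lq_of_normalizes (hst B hBp) hA.2.1.1 hBA)
  obtain ⟨A₀, hA₀, hBA₀⟩ := exists_normalized hp hDp hBD hDB hB'
  have hA₀R := hquad A₀ hA₀ hBA₀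
  have hZZ : Z e D ≤ Z e (D ⊓ Lq p B) := Z_le_Z hRD hA₀ hA₀R
  -- `D ∩ L` is `(S ∩ L) ∩ 𝔻`
  have hReq : D ⊓ Lq p B = dsub 𝔻 ((S : Subgroup G) ⊓ Lq p B) := by
    rw [dsub_of_le h𝔻 hSp inf_le_left, ← hDdef]
    ext x
    simp only [Subgroup.mem_inf]
    constructor
    · rintro ⟨h1, h2⟩; exact ⟨h1, hDS h1, h2⟩
    · rintro ⟨h1, -, h2⟩; exact ⟨h1, h2⟩
  -- `Z(R) ∩ B` is normal
  have hB2n : (Z e (D ⊓ Lq p B) ⊓ B).Normal := by
    rw [← Subgroup.normalizer_eq_top_iff, eq_top_iff]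
    intro g _
    obtain ⟨a, ha, c, hc, rfl⟩ := Cfsg.Agent.Lib.Helper16.frattini_inf_normal S (Lq p B) g
    obtain ⟨r, hr, c₀, hc₀, rfl⟩ := Lq_decomp S B hc
    have har : a * r ∈ Subgroup.normalizer (((S : Subgroup G) ⊓ Lq p B : Subgroup G) : Set G) :=
      mul_mem ha (Subgroup.le_normalizer hr)
    have har' : a * r ∈ Subgroup.normalizer ((D ⊓ Lq p B : Subgroup G) : Set G) := by
      rw [hReq]; exact normalizer_le_normalizer_dsub h𝔻.conj _ har
    have h5 : a * r ∈ Subgroup.normalizer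
        ((Z e (D ⊓ Lq p B) ⊓ B : Subgroup G) : Set G) := by
      apply normalizer_inf_le
      refine Subgroup.mem_inf.2 ⟨normalizer_le_normalizer_Z _ har', ?_⟩
      rw [Subgroup.normalizer_eq_top_iff.2 hBn]; trivial
    have h6 : c₀ ∈ Subgroup.normalizer
        ((Z e (D ⊓ Lq p B) ⊓ B : Subgroup G) : Set G) := by
      apply Subgroup.centralizer_le_normalizer
      exact Subgroup.centralizer_le (fun x hx => hx.2) hc₀
    rw [← mul_assoc]; exact mul_mem h5 h6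
  -- minimality again
  by_cases hB2 : Z e (D ⊓ Lq p B) ⊓ B = B
  swap
  · have hlt : Nat.card ↥(Z e (D ⊓ Lq p B) ⊓ B) < n := by
      rw [← hcard]; exact card_lt_of_lt (lt_of_le_of_ne inf_le_right hB2)
    have h2 := ih _ hlt _ hB2n (hBp.to_le inf_le_right) (inf_le_right.trans hBD) rfl
    have e1 : Z e D ⊓ (Z e (D ⊓ Lq p B) ⊓ B) = Z e D ⊓ B :=
      le_antisymm (inf_le_inf_left _ inf_le_right)
        (le_inf inf_le_left (le_inf (inf_le_left.trans hZZ) inf_le_right))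
    rwa [e1] at h2
  have hBZR : B ≤ Z e (D ⊓ Lq p B) := inf_eq_right.1 hB2
  have hii : ∀ A ∈ fam e D, A ≤ D ⊓ Lq p B → B ≤ A :=
    fun A hA hAR => hBZR.trans (Z_le_of_mem_fam (mem_fam_of_le hRD hA hAR))
  have hall := all_le hp hDp hBD hDB hB' hquad hii
  have hJR : J e D ≤ D ⊓ Lq p B := sSup_le hall
  have hZeq : Z e (D ⊓ Lq p B) = Z e D := Z_eq_of_J_le hRD hJR
  rw [← hZeq]; exact hB2n

/-- the ZJ-theorem for strongly closed systems -/
theorem Z_normal_sc (hp : p ≠ 2) (e : ℕ)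
    (hc : Subgroup.centralizer (Cfsg.pCore p G : Set G) ≤ Cfsg.pCore p G)
    (hst : ∀ (P : Subgroup G) [P.Normal], IsPGroup p P → Cfsg.IsPStableOn p P)
    (S : Sylow p G) {𝔻 : Set G} (h𝔻 : IsSCSet p 𝔻) :
    (Z e (dsub 𝔻 (S : Subgroup G))).Normal := by
  have hQn := Cfsg.H5.pCore_normal p G
  have hQp := Cfsg.H5.pCore_isPGroup p G
  haveI := hQn
  have hSp : IsPGroup p (S : Subgroup G) := S.isPGroup'
  have hQS : Cfsg.pCore p G ≤ S := hQp.le_sylow_of_normal S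
  obtain ⟨D, hDdef⟩ : ∃ D : Subgroup G, D = dsub 𝔻 (S : Subgroup G) := ⟨_, rfl⟩
  have hDS : D ≤ S := by rw [hDdef]; exact dsub_le _ _
  -- `B = D ∩ O_p(G)`
  have hBeq : D ⊓ Cfsg.pCore p G = dsub 𝔻 (Cfsg.pCore p G) := by
    rw [dsub_of_le h𝔻 hSp hQS, ← hDdef]
  have hBn : (D ⊓ Cfsg.pCore p G).Normal := by
    rw [hBeq, ← Subgroup.normalizer_eq_top_iff, eq_top_iff]
    refine le_trans ?_ (normalizer_le_normalizer_dsub h𝔻.conj _)
    rw [Subgroup.normalizer_eq_top_iff.2 hQn]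
  have hBp : IsPGroup p ↥(D ⊓ Cfsg.pCore p G) := hQp.to_le inf_le_right
  have h1 := inf_normal_sc hp e hst S h𝔻 _ (D ⊓ Cfsg.pCore p G) hBn hBp
    (by rw [← hDdef]; exact inf_le_left) rfl
  rw [← hDdef] at h1 ⊢
  suffices hle : Z e D ≤ D ⊓ Cfsg.pCore p G by rwa [inf_eq_left.2 hle] at h1
  refine le_inf Z_le ?_
  intro z hz
  have hZS : (S : Subgroup G) ≤ Subgroup.normalizer (Z e D : Set G) := by
    refine le_trans ?_ (normalizer_le_normalizer_Z _)
    rw [hDdef]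
    exact Subgroup.le_normalizer.trans (normalizer_le_normalizer_dsub h𝔻.conj _)
  have hquad : ⁅⁅Cfsg.pCore p G, Subgroup.zpowers z⁆, Subgroup.zpowers z⁆ = ⊥ := by
    have hzp : Subgroup.zpowers z ≤ Z e D := Subgroup.zpowers_le.2 hz
    have h2 : ⁅Cfsg.pCore p G, Subgroup.zpowers z⁆ ≤ Z e D := by
      rw [Subgroup.commutator_le]
      intro q hq w hw
      have hq' := hZS (hQS hq)
      have h3 : q * w * q⁻¹ ∈ Z e D :=
        (Subgroup.mem_set_normalizer_iff.1 hq' w).1 (hzp hw)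
      have e2 : ⁅q, w⁆ = (q * w * q⁻¹) * w⁻¹ := by simp only [commutatorElement_def]
      rw [e2]; exact mul_mem h3 (inv_mem (hzp hw))
    rw [eq_bot_iff]
    refine (Subgroup.commutator_mono h2 hzp).trans ?_
    rw [Subgroup.commutator_le]
    intro x hx y hy
    rw [Subgroup.mem_bot, commutatorElement_eq_one_iff_mul_comm]
    exact (good_Zc e _).1 x hx y hy
  have hmem : z ∈ Lq p (Cfsg.pCore p G) := mem_Lq.2 (hst (Cfsg.pCore p G) hQp z hquad)
  have hLp : IsPGroup p (Lq p (Cfsg.pCore p G)) := by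
    unfold Lq
    apply IsPGroup.comap_of_ker_isPGroup (Cfsg.H5.pCore_isPGroup p _)
    rw [QuotientGroup.ker_mk']
    exact hQp.to_le hc
  exact Cfsg.H5.le_pCore (Lq_normal p _) hLp hmem

end Cfsg.H5.SC
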