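import Mathlib
import Cfsg.Prelude
import Cfsg.Agent.H5.SCDefs
import Cfsg.Agent.H5.SCMap
import Cfsg.Agent.H5.SCZJ
import Cfsg.Agent.H5.NPStable2
import Cfsg.Agent.H5.PStableZJ
import Cfsg.Agent.S1961

set_option autoImplicit false

/-! Control of strong fusion by `N_G(Wf e 𝔻 P)` in a group that is `p`-stable in the normalizer
form and whose `p`-local subgroups `N_G(U)`, `1 ≠ U ≤ P`, are `p`-constrained (`p` odd). -/

namespace Cfsg.H5.SC

open Cfsg.H5.ZJ Cfsg.Agent.Lib.Helper13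

section constrained

variable {X : Type*} [Group X] [Finite X] {p : ℕ} [Fact p.Prime]

/-- Glauberman's theorem for `p`-constrained groups, `p`-stable in the normalizer form -/
theorem sup_normalizer_Wf_eq_top (hp2 : p ≠ 2) (hc : Cfsg.IsPConstrained p X)
    (hs : Cfsg.IsNormalizerPStable p X) {𝔻 : Set X} (h𝔻 : IsSCSet p 𝔻) (T : Sylow p X) (e : ℕ) :
    Cfsg.pPrimeCore p X ⊔ Subgroup.normalizer (Wf e 𝔻 (T : Subgroup X) : Set X) = ⊤ := by
  have hN₀ := Cfsg.H5.coprime_card_pPrimeCore p X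
  have hcb := Cfsg.H5.PSt.centralizer_pCore_quotient_le hc
  have hstb : ∀ (V : Subgroup (X ⧸ Cfsg.pPrimeCore p X)) [V.Normal], IsPGroup p V →
      Cfsg.IsPStableOn p V :=
    fun V _ hV => Cfsg.H5.NPS.isPStableOn_quotient_of_nps hs _ hN₀ V hV
  have hsurj := QuotientGroup.mk'_surjective (Cfsg.pPrimeCore p X)
  have h𝔻b := isSCSet_image h𝔻 (Cfsg.pPrimeCore p X)
  have hZn : (Wf e ((QuotientGroup.mk' (Cfsg.pPrimeCore p X)) '' 𝔻)
      ((T.mapSurjective hsurj : Sylow p (X ⧸ Cfsg.pPrimeCore p X)) :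
        Subgroup (X ⧸ Cfsg.pPrimeCore p X))).Normal := by
    by_cases hb : dsub ((QuotientGroup.mk' (Cfsg.pPrimeCore p X)) '' 𝔻)
        ((T.mapSurjective hsurj : Sylow p (X ⧸ Cfsg.pPrimeCore p X)) :
          Subgroup (X ⧸ Cfsg.pPrimeCore p X)) = ⊥
    · rw [Wf_of_eq_bot hb]; exact Z_normal hp2 e hcb hstb _
    · rw [Wf_of_ne_bot hb]; exact Z_normal_sc hp2 e hcb hstb _ h𝔻b
  rw [Sylow.coe_mapSurjective, Wf_map_mk e h𝔻 _ hN₀ _ T.isPGroup'] at hZn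
  have hXn : (Wf e 𝔻 (T : Subgroup X) ⊔ Cfsg.pPrimeCore p X).Normal := by
    have h1 := Subgroup.comap_map_eq (QuotientGroup.mk' (Cfsg.pPrimeCore p X))
      (Wf e 𝔻 (T : Subgroup X))
    rw [QuotientGroup.ker_mk'] at h1
    rw [← h1]; exact Subgroup.Normal.comap hZn _
  exact Cfsg.H5.PSt.normalizer_sup_eq_top_of_coprime _ hN₀
    (T.isPGroup'.to_le (Wf_le e 𝔻 _)) hXn

/-- if `X = K N` with `K` a normal `p'`-subgroup, then conjugation of a `p`-subgroup `B` of `N`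
into `N` is induced by an element of `N` -/
theorem fusion_of_sup_eq_top (K N : Subgroup X) [hKn : K.Normal] (hK : (Nat.card K).Coprime p)
    (hKN : K ⊔ N = ⊤) (B : Subgroup X) (hB : IsPGroup p B) (hBN : B ≤ N) (h : X)
    (hh : ∀ b ∈ B, h * b * h⁻¹ ∈ N) : ∃ x ∈ N, ∀ b ∈ B, x * b * x⁻¹ = h * b * h⁻¹ := by
  have hp : p.Prime := Fact.out
  have hmem : h ∈ ((N ⊔ K : Subgroup X) : Set X) := by rw [sup_comm, hKN]; trivial
  rw [Subgroup.mul_normal] at hmem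
  obtain ⟨n, hn, k, hk, rfl⟩ := hmem
  have hkb : ∀ b ∈ B, k * b * k⁻¹ ∈ N := fun b hb => by
    have h1 := hh b hb
    have e : k * b * k⁻¹ = n⁻¹ * (n * k * b * (n * k)⁻¹) * n := by group
    rw [e]; exact N.mul_mem (N.mul_mem (N.inv_mem hn) h1) hn
  have hKB : K ⊓ B = ⊥ := by
    rw [eq_bot_iff]
    intro x hx
    rw [Subgroup.mem_bot]
    exact Cfsg.H5.eq_one_of_coprime_of_mem_pgroup
      (Cfsg.H5.coprime_orderOf_of_mem hK hx.1) hB hx.2
  obtain ⟨M, hM⟩ : ∃ M : Subgroup X, M = K ⊓ N := ⟨_, rfl⟩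
  have hMK : M ≤ K := by rw [hM]; exact inf_le_left
  have hMN : M ≤ N := by rw [hM]; exact inf_le_right
  have hcm : ∀ b ∈ B, k * b * k⁻¹ * b⁻¹ ∈ M := fun b hb => by
    rw [hM]
    refine Subgroup.mem_inf.2 ⟨?_, N.mul_mem (hkb b hb) (N.inv_mem (hBN hb))⟩
    have h1 : b * k⁻¹ * b⁻¹ ∈ K := hKn.conj_mem _ (K.inv_mem hk) b
    have e : k * b * k⁻¹ * b⁻¹ = k * (b * k⁻¹ * b⁻¹) := by group
    rw [e]; exact K.mul_mem hk h1
  have hBM : B ≤ Subgroup.normalizer (M : Set X) := by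
    rw [hM]
    refine le_trans ?_ (normalizer_inf_le K N)
    refine le_inf ?_ (hBN.trans Subgroup.le_normalizer)
    rw [Subgroup.normalizer_eq_top_iff.2 hKn]; exact le_top
  have hBMinf : B ⊓ M = ⊥ := by
    rw [eq_bot_iff, ← hKB, inf_comm]
    exact inf_le_inf_right _ hMK
  have hMcop : (Nat.card M).Coprime p :=
    Nat.Coprime.coprime_dvd_left (Subgroup.card_dvd_of_le hMK) hK
  have hidx : ¬ p ∣ B.relIndex (B ⊔ M) := by
    have h1 := Cfsg.H5.card_sup_mul_card_inf hBM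
    rw [hBMinf, Subgroup.card_bot, mul_one] at h1
    have h2 := Cfsg.H5.card_mul_relIndex_of_le (le_sup_left : B ≤ B ⊔ M)
    have h3 : B.relIndex (B ⊔ M) = Nat.card M := by
      rw [h1] at h2
      exact Nat.eq_of_mul_eq_mul_left Nat.card_pos h2
    rw [h3]
    intro hdvd
    exact hp.one_lt.ne' (Nat.Coprime.eq_one_of_dvd hMcop.symm hdvd)
  have hB'Y : B.map (MulAut.conj k).toMonoidHom ≤ B ⊔ M := by
    rintro _ ⟨b, hb, rfl⟩
    have e : (MulAut.conj k).toMonoidHom b = (k * b * k⁻¹ * b⁻¹) * b := by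
      simp [MulAut.conj_apply]
    rw [e]
    exact Subgroup.mul_mem _ (le_sup_right (a := B) (hcm b hb)) (le_sup_left (b := M) hb)
  obtain ⟨y, hyY, hy⟩ := exists_conj_le_of_relIndex (B ⊔ M) B
    (B.map (MulAut.conj k).toMonoidHom) hB hidx hB'Y (hB.map _)
  -- decompose `y = b₀ m`
  have hymap : QuotientGroup.mk' K y ∈ B.map (QuotientGroup.mk' K) := by
    have h1 : QuotientGroup.mk' K y ∈ (B ⊔ M).map (QuotientGroup.mk' K) :=
      Subgroup.mem_map_of_mem _ hyY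
    have h2 : M.map (QuotientGroup.mk' K) = ⊥ := by
      rw [Subgroup.map_eq_bot_iff, QuotientGroup.ker_mk']; exact hMK
    rwa [Subgroup.map_sup, h2, sup_bot_eq] at h1
  obtain ⟨b₀, hb₀, hb₀y⟩ := hymap
  have hmK : b₀⁻¹ * y ∈ K := QuotientGroup.eq.1 hb₀y
  have hyN : y ∈ N := (sup_le hBN hMN) hyY
  have hmN : b₀⁻¹ * y ∈ N := N.mul_mem (N.inv_mem (hBN hb₀)) hyN
  have hcB : ∀ b ∈ B, (b₀⁻¹ * y * k) * b * (b₀⁻¹ * y * k)⁻¹ ∈ B := fun b hb => by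
    have h1 := hy _ (Subgroup.mem_map_of_mem _ hb)
    have e : (b₀⁻¹ * y * k) * b * (b₀⁻¹ * y * k)⁻¹ =
        b₀⁻¹ * (y * (MulAut.conj k).toMonoidHom b * y⁻¹) * b₀ := by
      simp [MulAut.conj_apply]; group
    rw [e]; exact B.mul_mem (B.mul_mem (B.inv_mem hb₀) h1) hb₀
  have hcK : b₀⁻¹ * y * k ∈ K := K.mul_mem hmK hk
  have hcent : ∀ b ∈ B, (b₀⁻¹ * y * k) * b * (b₀⁻¹ * y * k)⁻¹ = b := fun b hb => by
    have h1 : (b₀⁻¹ * y * k) * b * (b₀⁻¹ * y * k)⁻¹ * b⁻¹ ∈ K ⊓ B := by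
      refine Subgroup.mem_inf.2 ⟨?_, B.mul_mem (hcB b hb) (B.inv_mem hb)⟩
      have h2 : b * (b₀⁻¹ * y * k)⁻¹ * b⁻¹ ∈ K := hKn.conj_mem _ (K.inv_mem hcK) b
      have e : (b₀⁻¹ * y * k) * b * (b₀⁻¹ * y * k)⁻¹ * b⁻¹ =
          (b₀⁻¹ * y * k) * (b * (b₀⁻¹ * y * k)⁻¹ * b⁻¹) := by group
      rw [e]; exact K.mul_mem hcK h2
    rw [hKB, Subgroup.mem_bot] at h1
    exact mul_inv_eq_one.1 h1
  refine ⟨n * (b₀⁻¹ * y)⁻¹, N.mul_mem hn (N.inv_mem hmN), ?_⟩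
  intro b hb
  have h1 := hcent b hb
  calc n * (b₀⁻¹ * y)⁻¹ * b * (n * (b₀⁻¹ * y)⁻¹)⁻¹
      = n * (b₀⁻¹ * y)⁻¹ * ((b₀⁻¹ * y * k) * b * (b₀⁻¹ * y * k)⁻¹) * (b₀⁻¹ * y) * n⁻¹ := by
        rw [h1]; group
    _ = n * k * b * (n * k)⁻¹ := by group

end constrained

section main

variable {G : Type*} [Group G] [Finite G] {p : ℕ} [Fact p.Prime]

theorem isConjugacyFunctor_Wf {e : ℕ} (he : p ∣ e) {𝔻 : Set G} (h𝔻 : IsSCSet p 𝔻) :
    Cfsg.IsConjugacyFunctor p (Wf e 𝔻) :=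
  fun P hP => ⟨Wf_le e 𝔻 P, Wf_ne_bot he 𝔻 hP, fun g => Wf_map_conj h𝔻.conj P g⟩

/-- `Wf e 𝔻` controls strong fusion in a `p`-constrained subgroup -/
theorem controls_in_of_constrained (hp2 : p ≠ 2) (hs : Cfsg.IsNormalizerPStable p G)
    {𝔻 : Set G} (h𝔻 : IsSCSet p 𝔻) (H : Subgroup G) (hc : Cfsg.IsPConstrained p ↥H) (e : ℕ) :
    Cfsg.ControlsStrongFusionIn p (Wf e 𝔻) H := by
  have hsX := Cfsg.H5.NPS.nps_subgroup hs H
  have h𝔻H := isSCSet_comap h𝔻 H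
  obtain ⟨Ts⟩ : Nonempty (Sylow p ↥H) := inferInstance
  have hsup := sup_normalizer_Wf_eq_top hp2 hc hsX h𝔻H Ts e
  have hcop := Cfsg.H5.coprime_card_pPrimeCore p ↥H
  have hKn := Cfsg.H5.pPrimeCore_normal p ↥H
  refine ⟨(Ts : Subgroup ↥H).map H.subtype, Subgroup.map_subtype_le _, Ts.isPGroup'.map _, ?_, ?_⟩
  · rw [relIndex_map_subtype]; exact Ts.not_dvd_index
  · intro A h hh hAT hAh
    obtain ⟨B, hBdef⟩ : ∃ B : Subgroup ↥H, B = (Subgroup.closure A).comap H.subtype := ⟨_, rfl⟩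
    have hclT : Subgroup.closure A ≤ (Ts : Subgroup ↥H).map H.subtype :=
      (Subgroup.closure_le _).2 hAT
    have hBTs : B ≤ Ts := by
      intro b hb
      rw [hBdef, Subgroup.mem_comap] at hb
      obtain ⟨t, ht, htb⟩ := hclT hb
      have : t = b := Subtype.ext htb
      rw [← this]; exact ht
    have hBp : IsPGroup p B := Ts.isPGroup'.to_le hBTs
    have hTsN : (Ts : Subgroup ↥H) ≤ Subgroup.normalizer
        (Wf e (H.subtype ⁻¹' 𝔻) (Ts : Subgroup ↥H) : Set ↥H) :=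
      Subgroup.le_normalizer.trans (normalizer_le_normalizer_Wf h𝔻H.conj _)
    have hconjT : ∀ b ∈ Subgroup.closure A, h * b * h⁻¹ ∈ (Ts : Subgroup ↥H).map H.subtype := by
      intro b hb
      induction hb using Subgroup.closure_induction with
      | mem x hx => exact hAh ⟨x, hx, rfl⟩
      | one => rw [mul_one, mul_inv_cancel]; exact Subgroup.one_mem _
      | mul x y _ _ ihx ihy =>
        have e1 : h * (x * y) * h⁻¹ = (h * x * h⁻¹) * (h * y * h⁻¹) := by group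
        rw [e1]; exact Subgroup.mul_mem _ ihx ihy
      | inv x _ ihx =>
        have e1 : h * x⁻¹ * h⁻¹ = (h * x * h⁻¹)⁻¹ := by group
        rw [e1]; exact Subgroup.inv_mem _ ihx
    have hh' : ∀ b ∈ B, (⟨h, hh⟩ : ↥H) * b * (⟨h, hh⟩ : ↥H)⁻¹ ∈ Subgroup.normalizer
        (Wf e (H.subtype ⁻¹' 𝔻) (Ts : Subgroup ↥H) : Set ↥H) := by
      intro b hb
      apply hTsN
      rw [hBdef, Subgroup.mem_comap] at hb
      obtain ⟨t, ht, htb⟩ := hconjT _ hb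
      have : t = (⟨h, hh⟩ : ↥H) * b * (⟨h, hh⟩ : ↥H)⁻¹ := Subtype.ext (by simpa using htb)
      rw [← this]; exact ht
    obtain ⟨x, hxN, hx⟩ := fusion_of_sup_eq_top (Cfsg.pPrimeCore p ↥H) _ hcop hsup B hBp
      (hBTs.trans hTsN) ⟨h, hh⟩ hh'
    refine ⟨(x : G), Subgroup.mem_inf.2 ⟨x.2, ?_⟩, ?_⟩
    · rw [← Wf_map_subtype]
      exact Subgroup.le_normalizer_map H.subtype ⟨x, hxN, rfl⟩
    · intro a ha
      have haH : a ∈ H := Subgroup.map_subtype_le _ (hAT ha)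
      have haB : (⟨a, haH⟩ : ↥H) ∈ B := by
        rw [hBdef, Subgroup.mem_comap]; exact Subgroup.subset_closure ha
      have := congrArg Subtype.val (hx _ haB)
      simpa using this

/-- **control of strong fusion** -/
theorem controls_strong_fusion_sc (hp2 : p ≠ 2) (e : ℕ) (he : p ∣ e)
    (hs : Cfsg.IsNormalizerPStable p G) (P : Sylow p G)
    (hc : ∀ U : Subgroup G, U ≤ (P : Subgroup G) → U ≠ ⊥ →
      Cfsg.IsPConstrained p ↥(Subgroup.normalizer (U : Set G)))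
    {𝔻 : Set G} (h𝔻 : IsSCSet p 𝔻) (A : Set G) (hA : A ⊆ (P : Subgroup G)) (g : G)
    (hAg : (fun a => g * a * g⁻¹) '' A ⊆ (P : Subgroup G)) :
    ∃ x ∈ Subgroup.normalizer (Wf e 𝔻 (P : Subgroup G) : Set G),
      ∀ a ∈ A, g * a * g⁻¹ = x * a * x⁻¹ := by
  have hW := isConjugacyFunctor_Wf he h𝔻
  have hctl := Cfsg.Agent.S1961.result P (Wf e 𝔻) hW
    (fun T hT hwp => controls_in_of_constrained hp2 hs h𝔻 _ (hc T hwp.1 hT) e)
  obtain ⟨x, hx, hxA⟩ := Cfsg.Agent.S1961.control_any_sylow (Wf e 𝔻) hW ⊤ hctl (P : Subgroup G)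
    le_top P.isPGroup' (by rw [Subgroup.relIndex_top_right]; exact P.not_dvd_index) A g
    (Subgroup.mem_top g) hA hAg
  exact ⟨x, (Subgroup.mem_inf.1 hx).2, fun a ha => (hxA a ha).symm⟩

end main

end Cfsg.H5.SC
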