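import Mathlib
import Cfsg.Agent.H5.QdStable
import Cfsg.Agent.H5.SCFusion
import Cfsg.Agent.H5.NPStable
import Cfsg.Agent.Lib.Helper27.Involves

/-!
# `Qd(p)`-free groups: control of strong fusion by `N(Z(J(S)))`, part 1

Transport lemmas and the group-theoretic reductions.
-/

set_option autoImplicit false
set_option linter.style.haveILetI false

namespace Cfsg.H5.QdF

open Cfsg Cfsg.H5.ZJ Cfsg.H5.SC
open scoped commutatorElement

section nps

variable {G : Type*} [Group G] [Finite G] {p : ℕ} [Fact p.Prime]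

/-- `Qd(p)`-free groups are `p`-stable in the normalizer form -/
theorem nps_of_qdFree (hp2 : p ≠ 2) (hfree : ¬ Cfsg.Involves ↥(Cfsg.qd p) G) :
    Cfsg.IsNormalizerPStable p G := by
  apply Cfsg.H5.NPS.nps_of_inOp
  intro P hP g hg hq
  obtain ⟨N, hN⟩ : ∃ N : Subgroup G, N = Subgroup.normalizer (P : Set G) := ⟨_, rfl⟩
  rw [← hN] at hg
  have hPN : P ≤ N := by rw [hN]; exact Subgroup.le_normalizer
  have hfreeN : ¬ Cfsg.Involves ↥(Cfsg.qd p) ↥N := fun h =>
    hfree (Cfsg.Agent.Lib.Helper27.involves_of_injective N.subtype N.subtype_injective h)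
  haveI hPn : (P.subgroupOf N).Normal := by rw [hN]; exact Subgroup.normal_in_normalizer
  have hP' : IsPGroup p (P.subgroupOf N) := hP.comap_subtype
  have hq' : ⁅⁅P.subgroupOf N, Subgroup.zpowers (⟨g, hg⟩ : ↥N)⁆,
      Subgroup.zpowers (⟨g, hg⟩ : ↥N)⁆ = ⊥ := by
    apply Subgroup.map_injective N.subtype_injective
    rw [Subgroup.map_commutator, Subgroup.map_commutator, Subgroup.subgroupOf_map_subtype,
      inf_eq_left.2 hPN, MonoidHom.map_zpowers, Subgroup.map_bot]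
    exact hq
  obtain ⟨L', h1, -, h3, h4, h5⟩ :=
    Cfsg.H5.Qd.inOp_of_qdFree hp2 hfreeN (P.subgroupOf N) hP' ⟨g, hg⟩ hq'
  have hcen : ∀ y : ↥N, (y : G) ∈ Subgroup.centralizer (P : Set G) ↔
      y ∈ Subgroup.centralizer ((P.subgroupOf N : Subgroup ↥N) : Set ↥N) := by
    intro y
    rw [Subgroup.mem_centralizer_iff, Subgroup.mem_centralizer_iff]
    constructor
    · intro h x hx
      apply Subtype.ext
      exact h (x : G) (Subgroup.mem_subgroupOf.1 hx)
    · intro h x hx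
      have := h ⟨x, hPN hx⟩ (Subgroup.mem_subgroupOf.2 hx)
      exact congrArg Subtype.val this
  refine ⟨L'.map N.subtype, ?_, ?_, ?_, ?_, ⟨⟨g, hg⟩, h5, rfl⟩⟩
  · intro c hc
    have hcN : c ∈ N := by rw [hN]; exact Subgroup.centralizer_le_normalizer _ hc
    exact ⟨⟨c, hcN⟩, h1 ((hcen ⟨c, hcN⟩).1 hc), rfl⟩
  · rw [← hN]; exact Subgroup.map_subtype_le _
  · rw [← hN]
    intro n hn
    have h6 : (⟨n, hn⟩ : ↥N) ∈ Subgroup.normalizer ((L' : Subgroup ↥N) : Set ↥N) := by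
      apply h3
      rw [Subgroup.normalizer_eq_top]
      trivial
    exact Subgroup.le_normalizer_map N.subtype ⟨⟨n, hn⟩, h6, rfl⟩
  · rintro _ ⟨l, hl, rfl⟩
    obtain ⟨k, hk⟩ := h4 l hl
    refine ⟨k, ?_⟩
    have := (hcen (l ^ (p ^ k))).2 hk
    simpa using this

end nps

section ctl

variable {G : Type*} [Group G]

/-- `N_G(Wf e 𝔻 S)` controls strong fusion in `S`, subgroup form -/
def Ctl (e : ℕ) (𝔻 : Set G) (S : Subgroup G) : Prop :=
  ∀ (B : Subgroup G) (g : G), B ≤ S → (∀ b ∈ B, g * b * g⁻¹ ∈ S) →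
    ∃ y ∈ Subgroup.normalizer (Wf e 𝔻 S : Set G), ∀ b ∈ B, y * b * y⁻¹ = g * b * g⁻¹

/-- conjugation of the generated subgroup -/
theorem conj_closure_mem {A : Set G} {S : Subgroup G} {g : G}
    (h : (fun a => g * a * g⁻¹) '' A ⊆ S) : ∀ b ∈ Subgroup.closure A, g * b * g⁻¹ ∈ S := by
  intro b hb
  induction hb using Subgroup.closure_induction with
  | mem x hx => exact h ⟨x, hx, rfl⟩
  | one => rw [mul_one, mul_inv_cancel]; exact Subgroup.one_mem _
  | mul x y _ _ ihx ihy =>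
    have e1 : g * (x * y) * g⁻¹ = (g * x * g⁻¹) * (g * y * g⁻¹) := by group
    rw [e1]; exact Subgroup.mul_mem _ ihx ihy
  | inv x _ ihx =>
    have e1 : g * x⁻¹ * g⁻¹ = (g * x * g⁻¹)⁻¹ := by group
    rw [e1]; exact Subgroup.inv_mem _ ihx

/-- transport from a subgroup, viewed as a group, to the ambient group -/
theorem ctl_map_subtype {e : ℕ} {𝔻 : Set G} (H : Subgroup G) (Ts : Subgroup ↥H)
    (hctl : Ctl e (H.subtype ⁻¹' 𝔻) Ts) (B : Subgroup G) (g : G) (hg : g ∈ H)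
    (hB : B ≤ Ts.map H.subtype) (hBg : ∀ b ∈ B, g * b * g⁻¹ ∈ Ts.map H.subtype) :
    ∃ y ∈ H ⊓ Subgroup.normalizer (Wf e 𝔻 (Ts.map H.subtype) : Set G),
      ∀ b ∈ B, y * b * y⁻¹ = g * b * g⁻¹ := by
  have hBH : B ≤ H := hB.trans (Subgroup.map_subtype_le _)
  have hmem : ∀ x : ↥H, (x : G) ∈ Ts.map H.subtype → x ∈ Ts := by
    rintro x ⟨t, ht, htx⟩
    have : t = x := Subtype.ext htx
    rw [← this]; exact ht
  obtain ⟨y, hyN, hy⟩ := hctl (B.subgroupOf H) ⟨g, hg⟩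
    (fun b hb => hmem b (hB (Subgroup.mem_subgroupOf.1 hb)))
    (fun b hb => hmem _ (by simpa using hBg _ (Subgroup.mem_subgroupOf.1 hb)))
  refine ⟨(y : G), Subgroup.mem_inf.2 ⟨y.2, ?_⟩, ?_⟩
  · rw [← Wf_map_subtype]
    exact Subgroup.le_normalizer_map H.subtype ⟨y, hyN, rfl⟩
  · intro b hb
    have := hy ⟨b, hBH hb⟩ (Subgroup.mem_subgroupOf.2 hb)
    simpa using congrArg Subtype.val this

end ctl

section quotient

variable {G : Type*} [Group G] [Finite G] {p : ℕ} [Fact p.Prime]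

omit [Finite G] in
theorem mem_normalizer_comap_mk (Q : Subgroup G) [Q.Normal] {K : Subgroup (G ⧸ Q)} {n : G}
    (h : QuotientGroup.mk' Q n ∈ Subgroup.normalizer (K : Set (G ⧸ Q))) :
    n ∈ Subgroup.normalizer ((K.comap (QuotientGroup.mk' Q) : Subgroup G) : Set G) := by
  rw [Subgroup.mem_normalizer_iff] at h ⊢
  intro x
  rw [Subgroup.mem_comap, Subgroup.mem_comap, map_mul, map_mul, map_inv]
  exact h _

omit [Finite G] in
/-- control of fusion in `G / Q` gives control modulo `Q` -/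
theorem quotient_step {e : ℕ} (Q : Subgroup G) [Q.Normal] (S : Subgroup G)
    (hctl : Ctl e ({1} : Set (G ⧸ Q)) (S.map (QuotientGroup.mk' Q)))
    (B : Subgroup G) (g : G) (hB : B ≤ S) (hBg : ∀ b ∈ B, g * b * g⁻¹ ∈ S) :
    ∃ n ∈ Subgroup.normalizer
        (((Z e (S.map (QuotientGroup.mk' Q))).comap (QuotientGroup.mk' Q) : Subgroup G) : Set G),
      ∀ b ∈ B, (g * b * g⁻¹)⁻¹ * (n * b * n⁻¹) ∈ Q := by
  obtain ⟨y, hyN, hy⟩ := hctl (B.map (QuotientGroup.mk' Q)) (QuotientGroup.mk' Q g)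
    (Subgroup.map_mono hB) (by
      rintro _ ⟨b, hb, rfl⟩
      rw [← map_inv, ← map_mul, ← map_mul]
      exact Subgroup.mem_map_of_mem _ (hBg b hb))
  obtain ⟨n, rfl⟩ := QuotientGroup.mk'_surjective Q y
  rw [Wf_one] at hyN
  refine ⟨n, mem_normalizer_comap_mk Q hyN, ?_⟩
  intro b hb
  have h1 := hy _ (Subgroup.mem_map_of_mem _ hb)
  rw [← map_inv, ← map_mul, ← map_mul, ← map_inv, ← map_mul, ← map_mul] at h1
  exact QuotientGroup.eq.1 h1.symm

omit [Finite G] in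
theorem ker_le_Y {e : ℕ} (Q : Subgroup G) [Q.Normal] (S : Subgroup G) :
    Q ≤ (Z e (S.map (QuotientGroup.mk' Q))).comap (QuotientGroup.mk' Q) := by
  intro q hq
  rw [Subgroup.mem_comap, QuotientGroup.mk'_apply, (QuotientGroup.eq_one_iff q).2 hq]
  exact Subgroup.one_mem _

omit [Finite G] in
theorem Y_le {e : ℕ} (Q : Subgroup G) [Q.Normal] (S : Subgroup G) (hQS : Q ≤ S) :
    (Z e (S.map (QuotientGroup.mk' Q))).comap (QuotientGroup.mk' Q) ≤ S := by
  intro y hy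
  obtain ⟨s, hs, hsy⟩ := (Z_le (e := e) (P := S.map (QuotientGroup.mk' Q))) (Subgroup.mem_comap.1 hy)
  have h1 : s⁻¹ * y ∈ Q := QuotientGroup.eq.1 hsy
  have e1 : y = s * (s⁻¹ * y) := by group
  rw [e1]; exact S.mul_mem hs (hQS h1)

omit [Finite G] in
theorem le_normalizer_Y {e : ℕ} (Q : Subgroup G) [Q.Normal] (S : Subgroup G) :
    S ≤ Subgroup.normalizer
      (((Z e (S.map (QuotientGroup.mk' Q))).comap (QuotientGroup.mk' Q) : Subgroup G) : Set G) := by
  intro s hs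
  apply mem_normalizer_comap_mk
  apply normalizer_le_normalizer_Z
  exact Subgroup.le_normalizer (Subgroup.mem_map_of_mem _ hs)

/-- if `Y` is normal in `G` then `S = O_p(G)` -/
theorem le_pCore_of_Y_normal {e : ℕ} (he : p ∣ e) (S : Sylow p G)
    (hYn : ((Z e ((S : Subgroup G).map (QuotientGroup.mk' (Cfsg.pCore p G)))).comap
      (QuotientGroup.mk' (Cfsg.pCore p G))).Normal) :
    (S : Subgroup G) ≤ Cfsg.pCore p G := by
  have hQp := Cfsg.H5.pCore_isPGroup p G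
  have hQS : Cfsg.pCore p G ≤ S := hQp.le_sylow_of_normal S
  have hYS := Y_le (e := e) (Cfsg.pCore p G) (S : Subgroup G) hQS
  have hYQ := Cfsg.H5.le_pCore hYn (S.isPGroup'.to_le hYS)
  have hZ : Z e ((S : Subgroup G).map (QuotientGroup.mk' (Cfsg.pCore p G))) = ⊥ := by
    rw [eq_bot_iff]
    intro z hz
    obtain ⟨y, rfl⟩ := QuotientGroup.mk'_surjective _ z
    rw [Subgroup.mem_bot, QuotientGroup.mk'_apply, QuotientGroup.eq_one_iff]
    exact hYQ (Subgroup.mem_comap.2 hz)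
  have hSb : (S : Subgroup G).map (QuotientGroup.mk' (Cfsg.pCore p G)) = ⊥ := by
    by_contra hne
    exact Cfsg.H5.GT.Z_ne_bot he (S.isPGroup'.map _) hne hZ
  rw [Subgroup.map_eq_bot_iff, QuotientGroup.ker_mk'] at hSb
  exact hSb

end quotient

section frattini

variable {G : Type*} [Group G] [Finite G] {p : ℕ} [Fact p.Prime]

/-- fusion is generated by fusion in a normal subgroup `L` and in `N_G(S ∩ L)` -/
theorem frattini_fusion (S : Sylow p G) (L : Subgroup G) [hLn : L.Normal] (B : Subgroup G)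
    (hBS : B ≤ S) (g : G) (hg : ∀ b ∈ B, g * b * g⁻¹ ∈ (S : Subgroup G)) :
    ∃ l ∈ L, ∃ n ∈ Subgroup.normalizer (((S : Subgroup G) ⊓ L : Subgroup G) : Set G),
      g = n * l ∧ ∀ b ∈ B, l * b * l⁻¹ ∈ (S : Subgroup G) := by
  obtain ⟨a, ha, c, hc, rfl⟩ := Cfsg.Agent.Lib.Helper16.frattini_inf_normal S L g
  obtain ⟨S₁, hS₁⟩ : ∃ S₁ : Subgroup G, S₁ = (S : Subgroup G) ⊓ L := ⟨_, rfl⟩
  rw [← hS₁] at ha ⊢
  have hS₁S : S₁ ≤ S := by rw [hS₁]; exact inf_le_left
  have hS₁L : S₁ ≤ L := by rw [hS₁]; exact inf_le_right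
  have hSp : IsPGroup p (S : Subgroup G) := S.isPGroup'
  obtain ⟨E, hE⟩ : ∃ E : Subgroup G, E = B.map (MulAut.conj c).toMonoidHom ⊔ S₁ := ⟨_, rfl⟩
  have hEp : IsPGroup p E := by
    have hle : E ≤ (S : Subgroup G).map (MulAut.conj a⁻¹).toMonoidHom := by
      rw [hE]
      apply sup_le
      · rintro _ ⟨b, hb, rfl⟩
        refine ⟨a * c * b * (a * c)⁻¹, hg b hb, ?_⟩
        simp only [MulEquiv.coe_toMonoidHom, MulAut.conj_apply]
        group
      · intro x hx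
        refine ⟨a * x * a⁻¹, hS₁S ((Subgroup.mem_normalizer_iff.1 ha x).1 hx), ?_⟩
        simp only [MulEquiv.coe_toMonoidHom, MulAut.conj_apply]
        group
    exact (hSp.map _).to_le hle
  obtain ⟨X, hX⟩ : ∃ X : Subgroup G, X = B ⊔ L := ⟨_, rfl⟩
  obtain ⟨T, hT⟩ : ∃ T : Subgroup G, T = B ⊔ S₁ := ⟨_, rfl⟩
  have hTS : T ≤ S := by rw [hT]; exact sup_le hBS hS₁S
  have hTX : T ≤ X := by rw [hT, hX]; exact sup_le_sup_left hS₁L _
  have hBT : B ≤ T := by rw [hT]; exact le_sup_left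
  have hEX : E ≤ X := by
    rw [hE, hX]
    apply sup_le
    · rintro _ ⟨b, hb, rfl⟩
      have e1 : (MulAut.conj c).toMonoidHom b = (c * (b * c⁻¹ * b⁻¹)) * b := by
        simp only [MulEquiv.coe_toMonoidHom, MulAut.conj_apply]
        group
      rw [e1]
      exact Subgroup.mul_mem _ (Subgroup.mem_sup_right
        (L.mul_mem hc (hLn.conj_mem _ (L.inv_mem hc) b))) (Subgroup.mem_sup_left hb)
    · exact hS₁L.trans le_sup_right
  -- the index of `T` in `X`
  have hidx : ¬ p ∣ T.relIndex X := by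
    have e1 := Cfsg.H5.card_sup_mul_card_inf (H := B) (N := L)
      (by rw [Subgroup.normalizer_eq_top]; exact le_top)
    have hBN : B ≤ Subgroup.normalizer (S₁ : Set G) := by
      rw [hS₁]
      refine le_trans ?_ (Cfsg.H5.ZJ.normalizer_inf_le _ _)
      refine le_inf (hBS.trans Subgroup.le_normalizer) ?_
      rw [Subgroup.normalizer_eq_top]; exact le_top
    have e2 := Cfsg.H5.card_sup_mul_card_inf (H := B) (N := S₁) hBN
    have e3 : B ⊓ L = B ⊓ S₁ := by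
      rw [hS₁, ← inf_assoc, inf_eq_left.2 hBS]
    have e4 := Cfsg.H5.card_mul_relIndex_of_le hS₁L
    have e5 := Cfsg.H5.card_mul_relIndex_of_le hTX
    have hr : ¬ p ∣ S₁.relIndex L := by
      rw [hS₁, Subgroup.inf_relIndex_right]
      exact (Cfsg.Agent.Lib.Helper16.sylowInf S L).not_dvd_index
    rw [← hX, e3] at e1
    rw [← hT] at e2
    have hTpos : 0 < Nat.card T := Nat.card_pos
    have hipos : 0 < Nat.card ↥(B ⊓ S₁) := Nat.card_pos
    have : T.relIndex X = S₁.relIndex L := by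
      have h1 : Nat.card T * Nat.card ↥(B ⊓ S₁) * T.relIndex X =
          Nat.card T * Nat.card ↥(B ⊓ S₁) * S₁.relIndex L := by
        calc Nat.card T * Nat.card ↥(B ⊓ S₁) * T.relIndex X
            = (Nat.card T * T.relIndex X) * Nat.card ↥(B ⊓ S₁) := by ring
          _ = Nat.card B * Nat.card L := by rw [e5, e1]
          _ = Nat.card B * (Nat.card S₁ * S₁.relIndex L) := by rw [e4]
          _ = (Nat.card B * Nat.card S₁) * S₁.relIndex L := by ring
          _ = Nat.card T * Nat.card ↥(B ⊓ S₁) * S₁.relIndex L := by rw [e2]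
      exact Nat.eq_of_mul_eq_mul_left (Nat.mul_pos hTpos hipos) h1
    rw [this]; exact hr
  obtain ⟨h, hhX, hh⟩ := Cfsg.Agent.Lib.Helper13.exists_conj_le_of_relIndex X T E
    (hSp.to_le hTS) hidx hEX hEp
  have hmem : h ∈ ((B ⊔ L : Subgroup G) : Set G) := by rw [← hX]; exact hhX
  rw [Subgroup.mul_normal] at hmem
  obtain ⟨b₀, hb₀, l₀, hl₀, rfl⟩ := hmem
  have hl₀E : ∀ q ∈ E, l₀ * q * l₀⁻¹ ∈ T := by
    intro q hq
    have h1 := hh q hq
    have e1 : l₀ * q * l₀⁻¹ = b₀⁻¹ * (b₀ * l₀ * q * (b₀ * l₀)⁻¹) * b₀ := by group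
    rw [e1]
    exact T.mul_mem (T.mul_mem (T.inv_mem (hBT hb₀)) h1) (hBT hb₀)
  have hl₀N : l₀ ∈ Subgroup.normalizer (S₁ : Set G) := by
    apply Subgroup.mem_normalizer_fintype
    intro x hx
    have hxE : x ∈ E := by rw [hE]; exact Subgroup.mem_sup_right hx
    rw [SetLike.mem_coe, hS₁]
    exact Subgroup.mem_inf.2 ⟨hTS (hl₀E x hxE), hLn.conj_mem x (hS₁L hx) l₀⟩
  refine ⟨l₀ * c, L.mul_mem hl₀ hc, a * l₀⁻¹, Subgroup.mul_mem _ ha (Subgroup.inv_mem _ hl₀N),
    by group, ?_⟩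
  intro b hb
  have hcb : c * b * c⁻¹ ∈ E := by
    rw [hE]
    exact Subgroup.mem_sup_left ⟨b, hb, by simp [MulAut.conj_apply]⟩
  have e1 : l₀ * c * b * (l₀ * c)⁻¹ = l₀ * (c * b * c⁻¹) * l₀⁻¹ := by group
  rw [e1]
  exact hTS (hl₀E _ hcb)

end frattini

end Cfsg.H5.QdF
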