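import Mathlib
import Cfsg.Agent.H5.FamFusion1
import Cfsg.Agent.H5.QdFusion

/-!
# Families of isomorphism-invariant functors: lifting fusion chains from quotients
-/

set_option autoImplicit false
set_option linter.style.haveILetI false

namespace Cfsg.H5.FF

open Cfsg Cfsg.Agent.S1959 Cfsg.Agent.Lib.Helper13

universe u

section coprime

variable {X : Type*} [Group X] [Finite X] {p : ℕ} [Fact p.Prime]

theorem not_dvd_relIndex_sup (K : Subgroup X) [K.Normal] (hK : (Nat.card K).Coprime p)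
    {V : Subgroup X} (hV : IsPGroup p V) : ¬ p ∣ V.relIndex (V ⊔ K) := by
  have hinf : V ⊓ K = ⊥ := by
    rw [eq_bot_iff]
    intro x hx
    rw [Subgroup.mem_bot]
    exact Cfsg.H5.eq_one_of_coprime_of_mem_pgroup
      (Cfsg.H5.coprime_orderOf_of_mem hK hx.2) hV hx.1
  have h1 := Cfsg.H5.card_sup_mul_card_inf (H := V) (N := K)
    (by rw [Subgroup.normalizer_eq_top_iff.2 inferInstance]; exact le_top)
  rw [hinf, Subgroup.card_bot, mul_one] at h1
  have h2 := Cfsg.H5.card_mul_relIndex_of_le (le_sup_left : V ≤ V ⊔ K)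
  have h3 : V.relIndex (V ⊔ K) = Nat.card K := by
    rw [h1] at h2
    exact Nat.eq_of_mul_eq_mul_left Nat.card_pos h2
  intro hdvd
  rw [h3] at hdvd
  have h5 := Nat.Coprime.eq_one_of_dvd hK.symm hdvd
  exact (Fact.out : p.Prime).one_lt.ne' h5

/-- an element of the quotient by a normal `p'`-subgroup normalizing the image of a `p`-subgroup
`V` lifts to an element normalizing `V` -/
theorem exists_lift_normalizer (K : Subgroup X) [hKn : K.Normal] (hK : (Nat.card K).Coprime p)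
    {V : Subgroup X} (hV : IsPGroup p V) (d : X ⧸ K)
    (hd : d ∈ Subgroup.normalizer ((V.map (QuotientGroup.mk' K) : Subgroup (X ⧸ K)) : Set (X ⧸ K))) :
    ∃ d₁ ∈ Subgroup.normalizer (V : Set X), QuotientGroup.mk' K d₁ = d := by
  obtain ⟨d₀, rfl⟩ := QuotientGroup.mk'_surjective K d
  have hle : V.map (MulAut.conj d₀).toMonoidHom ≤ V ⊔ K := by
    rintro _ ⟨v, hv, rfl⟩
    have h1 := (Subgroup.mem_normalizer_iff.1 hd _).1 (Subgroup.mem_map_of_mem (QuotientGroup.mk' K) hv)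
    obtain ⟨v', hv', hvv'⟩ := h1
    have h2 : v'⁻¹ * (d₀ * v * d₀⁻¹) ∈ K := by
      apply QuotientGroup.eq.1
      rw [← QuotientGroup.mk'_apply, hvv', ← map_inv, ← map_mul, ← map_mul]
      rfl
    have e1 : (MulAut.conj d₀).toMonoidHom v = v' * (v'⁻¹ * (d₀ * v * d₀⁻¹)) := by
      simp only [MulEquiv.coe_toMonoidHom, MulAut.conj_apply]
      group
    rw [e1]
    exact Subgroup.mul_mem _ (Subgroup.mem_sup_left hv') (Subgroup.mem_sup_right h2)
  obtain ⟨h, hh, hhV⟩ := exists_conj_le_of_relIndex (V ⊔ K) V (V.map (MulAut.conj d₀).toMonoidHom)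
    hV (not_dvd_relIndex_sup K hK hV) hle (hV.map _)
  have hmem : h ∈ ((V ⊔ K : Subgroup X) : Set X) := hh
  rw [Subgroup.mul_normal] at hmem
  obtain ⟨v, hv, k, hk, rfl⟩ := hmem
  have hN : v * k * d₀ ∈ Subgroup.normalizer (V : Set X) := by
    apply Subgroup.mem_normalizer_fintype
    intro x hx
    have := hhV _ (conj_mem_map_conj V d₀ hx)
    have e1 : v * k * d₀ * x * (v * k * d₀)⁻¹ = v * k * (d₀ * x * d₀⁻¹) * (v * k)⁻¹ := by group
    rw [SetLike.mem_coe, e1]
    exact this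
  refine ⟨k * d₀, ?_, ?_⟩
  · have e1 : k * d₀ = v⁻¹ * (v * k * d₀) := by group
    rw [e1]
    exact Subgroup.mul_mem _ (Subgroup.inv_mem _ (Subgroup.le_normalizer hv)) hN
  · rw [map_mul, QuotientGroup.mk'_apply, (QuotientGroup.eq_one_iff k).2 hk, one_mul]

end coprime

section lifting

variable {p : ℕ} {𝓦₀ : Set (∀ (Q : Type u) [Group Q], Subgroup Q)}

/-- the functors on `X` obtained by pulling back from `X ⧸ Q` -/
def famY (𝓦₀ : Set (∀ (Q : Type u) [Group Q], Subgroup Q)) {X : Type u} [Group X] (Q : Subgroup X)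
    [Q.Normal] : Set (Subgroup X → Subgroup X) :=
  (fun W => fun T : Subgroup X => (Cfsg.inducedFunctor (G := X ⧸ Q) W
    (T.map (QuotientGroup.mk' Q))).comap (QuotientGroup.mk' Q)) '' 𝓦₀

/-- lifting a chain from `X ⧸ Q`, `Q ≤ S` -/
theorem Rz.lift_quotient {X : Type u} [Group X] (Q : Subgroup X) [Q.Normal] (S : Subgroup X)
    (hQS : Q ≤ S) {A' : Set (X ⧸ Q)} {g' : X ⧸ Q}
    (h : Rz (fam 𝓦₀ (X ⧸ Q)) ⊤ (S.map (QuotientGroup.mk' Q)) A' g') :
    ∀ A : Set X, A ⊆ S → A' = (QuotientGroup.mk' Q) '' A →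
      ∃ g : X, QuotientGroup.mk' Q g = g' ∧ Rz (famY 𝓦₀ Q) ⊤ S A g := by
  induction h with
  | base hA' =>
    intro A hAS _
    exact ⟨1, map_one _, Rz.base A hAS⟩
  | step g' d' _ hd' hs ih =>
    intro A hAS hA'
    obtain ⟨g, hg, hRz⟩ := ih A hAS hA'
    obtain ⟨d, rfl⟩ := QuotientGroup.mk'_surjective Q d'
    obtain ⟨_, ⟨W, hW, rfl⟩, hdW⟩ := hd'
    refine ⟨d * g, by rw [map_mul, hg], Rz.step A g d hRz ⟨_, ⟨W, hW, rfl⟩, ?_⟩ ?_⟩
    · exact Subgroup.mem_inf.2 ⟨Subgroup.mem_top _,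
        Cfsg.H5.QdF.mem_normalizer_comap_mk Q (Subgroup.mem_inf.1 hdW).2⟩
    · rintro _ ⟨a, ha, rfl⟩
      have h1 : (QuotientGroup.mk' Q d * g') * (QuotientGroup.mk' Q a) *
          (QuotientGroup.mk' Q d * g')⁻¹ ∈ S.map (QuotientGroup.mk' Q) := by
        apply hs
        refine ⟨QuotientGroup.mk' Q a, ?_, rfl⟩
        rw [hA']
        exact ⟨a, ha, rfl⟩
      obtain ⟨s, hs', hss⟩ := h1
      have h2 : s⁻¹ * (d * g * a * (d * g)⁻¹) ∈ Q := by
        apply QuotientGroup.eq.1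
        rw [← QuotientGroup.mk'_apply, hss, ← hg, ← map_mul, ← map_inv, ← map_mul, ← map_mul]
        rfl
      have e1 : d * g * a * (d * g)⁻¹ = s * (s⁻¹ * (d * g * a * (d * g)⁻¹)) := by group
      show d * g * a * (d * g)⁻¹ ∈ S
      rw [e1]
      exact S.mul_mem hs' (hQS h2)

variable [Fact p.Prime]

/-- lifting a chain from the quotient by a normal `p'`-subgroup -/
theorem Rz.lift_coprime (h𝓦 : ∀ W ∈ 𝓦₀, Cfsg.IsCharPFunctor.{u} p W) {X : Type u} [Group X]
    [Finite X] (K : Subgroup X) [hKn : K.Normal] (hK : (Nat.card K).Coprime p) (S : Sylow p X)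
    {A' : Set (X ⧸ K)} {g' : X ⧸ K}
    (h : Rz (fam 𝓦₀ (X ⧸ K)) ⊤ ((S : Subgroup X).map (QuotientGroup.mk' K)) A' g') :
    ∀ A : Set X, A ⊆ (S : Subgroup X) → A' = (QuotientGroup.mk' K) '' A →
      ∃ g : X, QuotientGroup.mk' K g = g' ∧ Rz (fam 𝓦₀ X) ⊤ (S : Subgroup X) A g := by
  have hSp : IsPGroup p (S : Subgroup X) := S.isPGroup'
  have hinj : ∀ t ∈ (S : Subgroup X), QuotientGroup.mk' K t = 1 → t = 1 := by
    intro t ht h1
    have htK : t ∈ K := (QuotientGroup.eq_one_iff t).1 h1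
    exact Cfsg.H5.eq_one_of_coprime_of_mem_pgroup (Cfsg.H5.coprime_orderOf_of_mem hK htK) hSp ht
  induction h with
  | base hA' =>
    intro A hAS _
    exact ⟨1, map_one _, Rz.base A hAS⟩
  | step g' d' _ hd' hs ih =>
    intro A hAS hA'
    obtain ⟨g, hg, hRz⟩ := ih A hAS hA'
    obtain ⟨_, ⟨W, hW, rfl⟩, hdW⟩ := hd'
    obtain ⟨V, hV⟩ : ∃ V : Subgroup X, V = Cfsg.inducedFunctor W (S : Subgroup X) := ⟨_, rfl⟩
    have hVS : V ≤ S := by rw [hV]; exact inducedFunctor_le _
    have hVp : IsPGroup p V := hSp.to_le hVS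
    have hSV : (S : Subgroup X) ≤ Subgroup.normalizer (V : Set X) := by
      rw [hV]
      exact Subgroup.le_normalizer.trans
        (normalizer_le_normalizer_inducedFunctor (h𝓦 W hW) (S : Subgroup X) hSp)
    have hdN : d' ∈ Subgroup.normalizer ((V.map (QuotientGroup.mk' K) : Subgroup (X ⧸ K)) :
        Set (X ⧸ K)) := by
      rw [hV, ← inducedFunctor_map_of_injOn (h𝓦 W hW) (QuotientGroup.mk' K) (S : Subgroup X) hSp hinj]
      exact (Subgroup.mem_inf.1 hdW).2
    obtain ⟨d₁, hd₁N, hd₁⟩ := exists_lift_normalizer K hK hVp d' hdN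
    -- the conjugate of `A` under `g`, and its closure
    have hA₁ : (fun a => g * a * g⁻¹) '' A ⊆ (S : Subgroup X) := hRz.image_subset
    obtain ⟨P, hP⟩ : ∃ P : Subgroup X,
        P = (Subgroup.closure ((fun a => g * a * g⁻¹) '' A)).map (MulAut.conj d₁).toMonoidHom :=
      ⟨_, rfl⟩
    have hclS : Subgroup.closure ((fun a => g * a * g⁻¹) '' A) ≤ (S : Subgroup X) :=
      (Subgroup.closure_le _).2 hA₁
    have hPp : IsPGroup p P := by rw [hP]; exact (hSp.to_le hclS).map _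
    obtain ⟨M, hM⟩ : ∃ M : Subgroup X,
        M = Subgroup.normalizer (V : Set X) ⊓ ((S : Subgroup X) ⊔ K) := ⟨_, rfl⟩
    have hSM : (S : Subgroup X) ≤ M := by rw [hM]; exact le_inf hSV le_sup_left
    have hPM : P ≤ M := by
      rw [hP, hM, map_conj_le_iff]
      intro x hx
      refine Subgroup.mem_inf.2 ⟨?_, ?_⟩
      · exact Subgroup.mul_mem _ (Subgroup.mul_mem _ hd₁N (hSV (hclS hx))) (Subgroup.inv_mem _ hd₁N)
      · -- the image lies in the image of `S`
        have hx' : ∀ y ∈ Subgroup.closure ((fun a => g * a * g⁻¹) '' A),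
            QuotientGroup.mk' K (d₁ * y * d₁⁻¹) ∈ (S : Subgroup X).map (QuotientGroup.mk' K) := by
          intro y hy
          induction hy using Subgroup.closure_induction with
          | mem z hz =>
            obtain ⟨a, ha, rfl⟩ := hz
            have h1 : (d' * g') * (QuotientGroup.mk' K a) * (d' * g')⁻¹ ∈
                (S : Subgroup X).map (QuotientGroup.mk' K) := by
              apply hs
              refine ⟨QuotientGroup.mk' K a, ?_, rfl⟩
              rw [hA']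
              exact ⟨a, ha, rfl⟩
            rw [← hd₁, ← hg] at h1
            have e1 : QuotientGroup.mk' K (d₁ * (g * a * g⁻¹) * d₁⁻¹) =
                (QuotientGroup.mk' K d₁ * QuotientGroup.mk' K g) * (QuotientGroup.mk' K a) *
                  (QuotientGroup.mk' K d₁ * QuotientGroup.mk' K g)⁻¹ := by
              rw [← map_mul, ← map_mul, ← map_inv, ← map_mul]
              congr 1
              group
            rw [e1]; exact h1
          | one =>
            rw [mul_one, mul_inv_cancel, map_one]; exact Subgroup.one_mem _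
          | mul y z _ _ ihy ihz =>
            have e1 : d₁ * (y * z) * d₁⁻¹ = (d₁ * y * d₁⁻¹) * (d₁ * z * d₁⁻¹) := by group
            rw [e1, map_mul]; exact Subgroup.mul_mem _ ihy ihz
          | inv y _ ihy =>
            have e1 : d₁ * y⁻¹ * d₁⁻¹ = (d₁ * y * d₁⁻¹)⁻¹ := by group
            rw [e1, map_inv]; exact Subgroup.inv_mem _ ihy
        obtain ⟨s, hs', hss⟩ := hx' x hx
        have h2 : s⁻¹ * (d₁ * x * d₁⁻¹) ∈ K := by
          apply QuotientGroup.eq.1
          rw [← QuotientGroup.mk'_apply, hss]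
          rfl
        have e1 : d₁ * x * d₁⁻¹ = s * (s⁻¹ * (d₁ * x * d₁⁻¹)) := by group
        rw [e1]
        exact Subgroup.mul_mem _ (Subgroup.mem_sup_left hs') (Subgroup.mem_sup_right h2)
    have hidx : ¬ p ∣ (S : Subgroup X).relIndex M := by
      intro hdvd
      apply S.not_dvd_index
      rw [← Subgroup.relIndex_top_right]
      have := Subgroup.relIndex_mul_relIndex (S : Subgroup X) M ⊤ hSM le_top
      rw [← this]
      exact Dvd.dvd.mul_right hdvd _
    obtain ⟨h, hhM, hhP⟩ := exists_conj_le_of_relIndex M (S : Subgroup X) P hSp hidx hPM hPp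
    have hhN : h ∈ Subgroup.normalizer (V : Set X) := by
      rw [hM] at hhM; exact (Subgroup.mem_inf.1 hhM).1
    have hmem : h ∈ (((S : Subgroup X) ⊔ K : Subgroup X) : Set X) := by
      rw [hM] at hhM; exact (Subgroup.mem_inf.1 hhM).2
    rw [Subgroup.mul_normal] at hmem
    obtain ⟨s, hs', k, hk, rfl⟩ := hmem
    have hkN : k ∈ Subgroup.normalizer (V : Set X) := by
      have e1 : k = s⁻¹ * (s * k) := by group
      rw [e1]
      exact Subgroup.mul_mem _ (Subgroup.inv_mem _ (hSV hs')) hhN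
    refine ⟨k * d₁ * g, ?_, Rz.step A g (k * d₁) hRz ⟨_, ⟨W, hW, rfl⟩, ?_⟩ ?_⟩
    · rw [map_mul, map_mul, hg, hd₁, QuotientGroup.mk'_apply, (QuotientGroup.eq_one_iff k).2 hk,
        one_mul]
    · refine Subgroup.mem_inf.2 ⟨Subgroup.mem_top _, ?_⟩
      show k * d₁ ∈ Subgroup.normalizer ((Cfsg.inducedFunctor W (S : Subgroup X) : Subgroup X) : Set X)
      rw [← hV]
      exact Subgroup.mul_mem _ hkN hd₁N
    · rintro _ ⟨a, ha, rfl⟩
      have hx : g * a * g⁻¹ ∈ Subgroup.closure ((fun a => g * a * g⁻¹) '' A) :=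
        Subgroup.subset_closure ⟨a, ha, rfl⟩
      have h1 := hhP _ (by rw [hP]; exact conj_mem_map_conj _ d₁ hx)
      have e1 : k * d₁ * g * a * (k * d₁ * g)⁻¹ =
          s⁻¹ * (s * k * (d₁ * (g * a * g⁻¹) * d₁⁻¹) * (s * k)⁻¹) * s := by group
      show k * d₁ * g * a * (k * d₁ * g)⁻¹ ∈ (S : Subgroup X)
      rw [e1]
      exact Subgroup.mul_mem _ (Subgroup.mul_mem _ (Subgroup.inv_mem _ hs') h1) hs'

end lifting

end Cfsg.H5.FF
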