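import Mathlib
import Cfsg.Agent.H5.QdFusion
import Cfsg.Agent.S1963
import Cfsg.Agent.S1965
import Cfsg.Agent.Lib.Helper13.PGroup
import Cfsg.Agent.Lib.Helper13.Conj

/-!
# `Qd(p)`-free groups: control of strong fusion, part 2

The case `G = S C_G(Q)` (`Q` a normal `p`-subgroup): the stability-group argument and the
Alperin-style downward induction.
-/

set_option autoImplicit false
set_option linter.style.haveILetI false

namespace Cfsg.H5.QdF

open Cfsg Cfsg.H5.ZJ Cfsg.H5.SC Cfsg.Agent.Lib.Helper13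
open scoped commutatorElement

section stab

variable {G : Type*} [Group G]

theorem conj_pow_of_comm {l u z : G} (hz : l * z = z * l) (h : l * u * l⁻¹ = z * u) (m : ℕ) :
    l ^ m * u * (l ^ m)⁻¹ = z ^ m * u := by
  induction m with
  | zero => simp
  | succ m ih =>
    have hc : Commute l z := hz
    have hzm : l * z ^ m = z ^ m * l := (hc.pow_right m).eq
    calc l ^ (m + 1) * u * (l ^ (m + 1))⁻¹ = l * (l ^ m * u * (l ^ m)⁻¹) * l⁻¹ := by
          rw [pow_succ']; group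
      _ = l * (z ^ m * u) * l⁻¹ := by rw [ih]
      _ = (l * z ^ m) * u * l⁻¹ := by group
      _ = z ^ m * (l * u * l⁻¹) := by rw [hzm]; group
      _ = z ^ (m + 1) * u := by rw [h, pow_succ]; group

variable [Finite G] {p : ℕ} [Fact p.Prime]

/-- an element of `N_G(U)` acting trivially on `U / Q` is realized by an element of `N_S(U)` when
`G / C_G(Q)` is a `p`-group and `U` is fully normalized -/
theorem realize_stab (S : Sylow p G) (Q : Subgroup G) [hQn : Q.Normal] (hQp : IsPGroup p Q)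
    (hGC : ∀ x : G, ∃ a : ℕ, x ^ (p ^ a) ∈ Subgroup.centralizer (Q : Set G))
    (U : Subgroup G)
    (hfn : ¬ p ∣ ((S : Subgroup G) ⊓ Subgroup.normalizer (U : Set G)).relIndex
      (Subgroup.normalizer (U : Set G)))
    (t : G) (ht : t ∈ Subgroup.normalizer (U : Set G))
    (htQ : ∀ u ∈ U, t * u * t⁻¹ * u⁻¹ ∈ Q) :
    ∃ s ∈ (S : Subgroup G) ⊓ Subgroup.normalizer (U : Set G),
      ∀ u ∈ U, t * u * t⁻¹ = s * u * s⁻¹ := by
  let K : Subgroup G :=
    { carrier := {l | ∀ u ∈ U, l * u * l⁻¹ * u⁻¹ ∈ Q}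
      one_mem' := fun u _ => by
        have : (1 : G) * u * 1⁻¹ * u⁻¹ = 1 := by group
        rw [this]; exact Q.one_mem
      mul_mem' := by
        intro l l' hl hl' u hu
        have e1 : l * l' * u * (l * l')⁻¹ * u⁻¹ =
            (l * (l' * u * l'⁻¹ * u⁻¹) * l⁻¹) * (l * u * l⁻¹ * u⁻¹) := by group
        rw [e1]
        exact Q.mul_mem (hQn.conj_mem _ (hl' u hu) l) (hl u hu)
      inv_mem' := by
        intro l hl u hu
        have e1 : l⁻¹ * u * l⁻¹⁻¹ * u⁻¹ = l⁻¹ * (l * u * l⁻¹ * u⁻¹)⁻¹ * l⁻¹⁻¹ := by group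
        rw [e1]
        exact hQn.conj_mem _ (Q.inv_mem (hl u hu)) l⁻¹ }
  have hK : ∀ l, l ∈ K ↔ ∀ u ∈ U, l * u * l⁻¹ * u⁻¹ ∈ Q := fun l => Iff.rfl
  obtain ⟨b, hb⟩ := IsPGroup.iff_card.1 hQp
  have hin : Cfsg.H5.PSt.InOp p U t := by
    refine ⟨Subgroup.normalizer (U : Set G) ⊓ K, ?_, inf_le_left, ?_, ?_,
      Subgroup.mem_inf.2 ⟨ht, htQ⟩⟩
    · intro c hc
      refine Subgroup.mem_inf.2 ⟨Subgroup.centralizer_le_normalizer _ hc, ?_⟩
      rw [hK]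
      intro u hu
      have h1 := Subgroup.mem_centralizer_iff.1 hc u hu
      have e1 : c * u * c⁻¹ * u⁻¹ = 1 := by
        rw [← h1]; group
      rw [e1]; exact Q.one_mem
    · apply Cfsg.H5.GlaubRepl.le_normalizer_of_conj_mem
      intro n hn k hk
      obtain ⟨hk1, hk2⟩ := Subgroup.mem_inf.1 hk
      refine Subgroup.mem_inf.2 ⟨Subgroup.mul_mem _ (Subgroup.mul_mem _ hn hk1)
        (Subgroup.inv_mem _ hn), ?_⟩
      rw [hK]
      intro u hu
      have hu' : n⁻¹ * u * n⁻¹⁻¹ ∈ U :=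
        (Subgroup.mem_normalizer_iff.1 (Subgroup.inv_mem _ hn) u).1 hu
      have e1 : n * k * n⁻¹ * u * (n * k * n⁻¹)⁻¹ * u⁻¹ =
          n * (k * (n⁻¹ * u * n⁻¹⁻¹) * k⁻¹ * (n⁻¹ * u * n⁻¹⁻¹)⁻¹) * n⁻¹ := by group
      rw [e1]
      exact hQn.conj_mem _ (hk2 _ hu') n
    · intro l hl
      obtain ⟨hl1, hl2⟩ := Subgroup.mem_inf.1 hl
      obtain ⟨a, ha⟩ := hGC l
      refine ⟨a + b, ?_⟩
      rw [pow_add, pow_mul]
      obtain ⟨l₁, hl₁⟩ : ∃ l₁ : G, l₁ = l ^ (p ^ a) := ⟨_, rfl⟩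
      rw [← hl₁] at ha ⊢
      have hl₁K : l₁ ∈ K := by rw [hl₁]; exact K.pow_mem hl2 _
      rw [Subgroup.mem_centralizer_iff]
      intro u hu
      have hz := hl₁K u hu
      have hcomm : l₁ * (l₁ * u * l₁⁻¹ * u⁻¹) = (l₁ * u * l₁⁻¹ * u⁻¹) * l₁ :=
        (Subgroup.mem_centralizer_iff.1 ha _ hz).symm
      have hconj : l₁ * u * l₁⁻¹ = (l₁ * u * l₁⁻¹ * u⁻¹) * u := by group
      have h1 := conj_pow_of_comm hcomm hconj (p ^ b)
      have h2 : (l₁ * u * l₁⁻¹ * u⁻¹) ^ (p ^ b) = 1 := by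
        have := pow_card_eq_one' (G := ↥Q) (x := ⟨_, hz⟩)
        rw [hb] at this
        simpa using congrArg Subtype.val this
      rw [h2, one_mul] at h1
      calc u * l₁ ^ p ^ b = (l₁ ^ p ^ b * u * (l₁ ^ p ^ b)⁻¹) * l₁ ^ p ^ b := by rw [h1]
        _ = l₁ ^ p ^ b * u := by group
  have hmem := (Cfsg.H5.PSt.mk_mem_pCore_iff U t ht).2 hin
  have hSNp : IsPGroup p ((S : Subgroup G) ⊓ Subgroup.normalizer (U : Set G) : Subgroup G) :=
    S.isPGroup'.to_le inf_le_left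
  let Ts : Sylow p ↥(Subgroup.normalizer (U : Set G)) :=
    (hSNp.comap_subtype (K := Subgroup.normalizer (U : Set G))).toSylow hfn
  have hn := Cfsg.H5.pCore_normal p (↥(Subgroup.normalizer (U : Set G)) ⧸
    (Subgroup.centralizer (U : Set G)).subgroupOf (Subgroup.normalizer (U : Set G)))
  have hpg := Cfsg.H5.pCore_isPGroup p (↥(Subgroup.normalizer (U : Set G)) ⧸
    (Subgroup.centralizer (U : Set G)).subgroupOf (Subgroup.normalizer (U : Set G)))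
  have hle := hpg.le_sylow_of_normal (Ts.mapSurjective (QuotientGroup.mk'_surjective
    ((Subgroup.centralizer (U : Set G)).subgroupOf (Subgroup.normalizer (U : Set G)))))
  have h1 := hle hmem
  rw [Sylow.coe_mapSurjective] at h1
  obtain ⟨s, hs, hst⟩ := h1
  have hsS : (s : G) ∈ (S : Subgroup G) ⊓ Subgroup.normalizer (U : Set G) :=
    Subgroup.mem_subgroupOf.1 hs
  have h2 : s⁻¹ * ⟨t, ht⟩ ∈ (Subgroup.centralizer (U : Set G)).subgroupOf
      (Subgroup.normalizer (U : Set G)) := QuotientGroup.eq.1 hst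
  have h3 : (s : G)⁻¹ * t ∈ Subgroup.centralizer (U : Set G) := by
    simpa using Subgroup.mem_subgroupOf.1 h2
  refine ⟨(s : G), hsS, ?_⟩
  intro u hu
  have h4 := Subgroup.mem_centralizer_iff.1 h3 u hu
  calc t * u * t⁻¹ = (s : G) * ((s : G)⁻¹ * t * u) * t⁻¹ := by group
    _ = (s : G) * (u * ((s : G)⁻¹ * t)) * t⁻¹ := by rw [← h4]
    _ = (s : G) * u * (s : G)⁻¹ := by group

end stab

section stepC

variable {G : Type*} [Group G] [Finite G] {p : ℕ} [Fact p.Prime]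

omit [Finite G] in
/-- a normal subgroup inside `B` lies in every conjugate of `B` -/
theorem le_map_conj_of_normal {Q B : Subgroup G} [hQn : Q.Normal] (hQB : Q ≤ B) (g : G) :
    Q ≤ B.map (MulAut.conj g).toMonoidHom := by
  intro q hq
  refine ⟨g⁻¹ * q * g, hQB ?_, ?_⟩
  · have := hQn.conj_mem q hq g⁻¹
    rwa [inv_inv] at this
  · simp only [MulEquiv.coe_toMonoidHom, MulAut.conj_apply]
    group

/-- **the case `G = S C_G(Q)`**: Alperin-style downward induction -/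
theorem stepC {e : ℕ} (he : p ∣ e) {𝔻 : Set G} (h𝔻 : IsSCSet p 𝔻) (S : Sylow p G)
    (Q : Subgroup G) [hQn : Q.Normal] (hQp : IsPGroup p Q)
    (hGC : ∀ x : G, ∃ a : ℕ, x ^ (p ^ a) ∈ Subgroup.centralizer (Q : Set G))
    (Y : Subgroup G)
    (hquot : ∀ (B : Subgroup G) (g : G), B ≤ (S : Subgroup G) →
      (∀ b ∈ B, g * b * g⁻¹ ∈ (S : Subgroup G)) →
      ∃ n ∈ Subgroup.normalizer (Y : Set G), ∀ b ∈ B, (g * b * g⁻¹)⁻¹ * (n * b * n⁻¹) ∈ Q)
    (hM : ∀ (B : Subgroup G) (m : G), m ∈ Subgroup.normalizer (Y : Set G) →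
      B ≤ (S : Subgroup G) → (∀ b ∈ B, m * b * m⁻¹ ∈ (S : Subgroup G)) →
      ∃ y ∈ Subgroup.normalizer (Wf e 𝔻 (S : Subgroup G) : Set G),
        ∀ b ∈ B, y * b * y⁻¹ = m * b * m⁻¹) :
    ∀ (k : ℕ) (B : Subgroup G) (g : G), Q ≤ B → B ≤ (S : Subgroup G) →
      (∀ b ∈ B, g * b * g⁻¹ ∈ (S : Subgroup G)) →
      Nat.card (S : Subgroup G) - Nat.card B = k →
      ∃ y ∈ Subgroup.normalizer (Wf e 𝔻 (S : Subgroup G) : Set G),
        ∀ b ∈ B, y * b * y⁻¹ = g * b * g⁻¹ := by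
  have hW : Cfsg.IsConjugacyFunctor p (Wf e 𝔻) := isConjugacyFunctor_Wf he h𝔻
  have hSp : IsPGroup p (S : Subgroup G) := S.isPGroup'
  have hSW : (S : Subgroup G) ≤ Subgroup.normalizer (Wf e 𝔻 (S : Subgroup G) : Set G) :=
    Subgroup.le_normalizer.trans (normalizer_le_normalizer_Wf h𝔻.conj _)
  intro k
  induction k using Nat.strong_induction_on with
  | _ k ih =>
  intro B g hQB hBS hBg hk
  by_cases hBeq : B = (S : Subgroup G)
  · -- `g` normalizes `S`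
    subst hBeq
    have hgN : g ∈ Subgroup.normalizer ((S : Subgroup G) : Set G) :=
      Subgroup.mem_normalizer_fintype (fun x hx => hBg x hx)
    exact ⟨g, normalizer_le_normalizer_Wf h𝔻.conj _ hgN, fun b _ => rfl⟩
  have hBlt : B < (S : Subgroup G) := lt_of_le_of_ne hBS hBeq
  -- a fully normalized conjugate
  obtain ⟨a₀, hwp⟩ := Cfsg.Agent.S1963.result S (Wf e 𝔻) hW B hBS
  obtain ⟨U, hU⟩ : ∃ U : Subgroup G, U = B.map (MulAut.conj a₀).toMonoidHom := ⟨_, rfl⟩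
  rw [← hU] at hwp
  have hUS : U ≤ (S : Subgroup G) := hwp.1
  have hfn : ¬ p ∣ ((S : Subgroup G) ⊓ Subgroup.normalizer (U : Set G)).relIndex
      (Subgroup.normalizer (U : Set G)) := hwp.2 0
  obtain ⟨a, haU, haN⟩ := Cfsg.Agent.S1965.step_X S U B a₀ hfn hU.symm
  obtain ⟨B', hB'⟩ : ∃ B' : Subgroup G, B' = B.map (MulAut.conj g).toMonoidHom := ⟨_, rfl⟩
  have hB'S : B' ≤ (S : Subgroup G) := by
    rw [hB', map_conj_le_iff]; exact hBg
  have hB'U : B'.map (MulAut.conj (a * g⁻¹)).toMonoidHom = U := by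
    rw [hB', ← map_conj_mul, inv_mul_cancel_right, haU]
  obtain ⟨a', ha'U, ha'N⟩ := Cfsg.Agent.S1965.step_X S U B' (a * g⁻¹) hfn hB'U
  have hQU : Q ≤ U := by rw [hU]; exact le_map_conj_of_normal hQB a₀
  have hQB' : Q ≤ B' := by rw [hB']; exact le_map_conj_of_normal hQB g
  have hcardB' : Nat.card B' = Nat.card B := by rw [hB', card_map_conj]
  -- the induction hypothesis for the normalizers
  have hlt1 := lt_inf_normalizer_of_lt (S : Subgroup G) B hSp hBlt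
  have hB'lt : B' < (S : Subgroup G) := by
    refine lt_of_le_of_ne hB'S ?_
    intro h
    have h1 : Nat.card B = Nat.card (S : Subgroup G) := by rw [← hcardB', h]
    exact hBeq (Subgroup.eq_of_le_of_card_ge hBS h1.ge)
  have hlt2 := lt_inf_normalizer_of_lt (S : Subgroup G) B' hSp hB'lt
  have hc1 : Nat.card B < Nat.card ((S : Subgroup G) ⊓ Subgroup.normalizer (B : Set G) :
      Subgroup G) := card_lt_card_of_lt hlt1
  have hc2 : Nat.card B' < Nat.card ((S : Subgroup G) ⊓ Subgroup.normalizer (B' : Set G) :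
      Subgroup G) := card_lt_card_of_lt hlt2
  have hcS1 : Nat.card ((S : Subgroup G) ⊓ Subgroup.normalizer (B : Set G) : Subgroup G) ≤
      Nat.card (S : Subgroup G) := Subgroup.card_le_of_le inf_le_left
  have hcS2 : Nat.card ((S : Subgroup G) ⊓ Subgroup.normalizer (B' : Set G) : Subgroup G) ≤
      Nat.card (S : Subgroup G) := Subgroup.card_le_of_le inf_le_left
  obtain ⟨ya, hyaN, hya⟩ := ih _ (by omega) ((S : Subgroup G) ⊓ Subgroup.normalizer (B : Set G)) a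
    (hQB.trans hlt1.le) inf_le_left (fun q hq => (haN q hq).1) rfl
  obtain ⟨ya', hya'N, hya'⟩ := ih _ (by omega)
    ((S : Subgroup G) ⊓ Subgroup.normalizer (B' : Set G)) a'
    (hQB'.trans hlt2.le) inf_le_left (fun q hq => (ha'N q hq).1) rfl
  -- the element `x` of `N_G(U)`
  have hxU : ∀ u ∈ U, (a' * g * a⁻¹) * u * (a' * g * a⁻¹)⁻¹ ∈ U := by
    intro u hu
    rw [← haU] at hu
    obtain ⟨b, hb, rfl⟩ := hu
    rw [← ha'U]
    refine ⟨g * b * g⁻¹, by rw [hB']; exact conj_mem_map_conj B g hb, ?_⟩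
    simp only [MulEquiv.coe_toMonoidHom, MulAut.conj_apply]
    group
  have hxN : a' * g * a⁻¹ ∈ Subgroup.normalizer (U : Set G) :=
    Subgroup.mem_normalizer_fintype hxU
  obtain ⟨n, hnY, hn⟩ := hquot U (a' * g * a⁻¹) hUS (fun u hu => hUS (hxU u hu))
  have hnU : ∀ u ∈ U, n * u * n⁻¹ ∈ U := by
    intro u hu
    have e1 : n * u * n⁻¹ = ((a' * g * a⁻¹) * u * (a' * g * a⁻¹)⁻¹) *
        (((a' * g * a⁻¹) * u * (a' * g * a⁻¹)⁻¹)⁻¹ * (n * u * n⁻¹)) := by group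
    rw [e1]
    exact U.mul_mem (hxU u hu) (hQU (hn u hu))
  have hnN : n ∈ Subgroup.normalizer (U : Set G) := Subgroup.mem_normalizer_fintype hnU
  have htN : n⁻¹ * (a' * g * a⁻¹) ∈ Subgroup.normalizer (U : Set G) :=
    Subgroup.mul_mem _ (Subgroup.inv_mem _ hnN) hxN
  have htQ : ∀ u ∈ U, (n⁻¹ * (a' * g * a⁻¹)) * u * (n⁻¹ * (a' * g * a⁻¹))⁻¹ * u⁻¹ ∈ Q := by
    intro u hu
    have e1 : (n⁻¹ * (a' * g * a⁻¹)) * u * (n⁻¹ * (a' * g * a⁻¹))⁻¹ * u⁻¹ =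
        n⁻¹ * (((a' * g * a⁻¹) * u * (a' * g * a⁻¹)⁻¹) *
          (((a' * g * a⁻¹) * u * (a' * g * a⁻¹)⁻¹)⁻¹ * (n * u * n⁻¹))⁻¹ *
          ((a' * g * a⁻¹) * u * (a' * g * a⁻¹)⁻¹)⁻¹) * n⁻¹⁻¹ := by group
    rw [e1]
    exact hQn.conj_mem _ (hQn.conj_mem _ (Q.inv_mem (hn u hu)) _) _
  obtain ⟨s, hs, hst⟩ := realize_stab S Q hQp hGC U hfn _ htN htQ
  obtain ⟨hsS, hsN⟩ := Subgroup.mem_inf.1 hs
  obtain ⟨yn, hynN, hyn⟩ := hM U n hnY hUS (fun u hu => hUS (hnU u hu))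
  refine ⟨ya'⁻¹ * (yn * s) * ya, Subgroup.mul_mem _ (Subgroup.mul_mem _ (Subgroup.inv_mem _ hya'N)
    (Subgroup.mul_mem _ hynN (hSW hsS))) hyaN, ?_⟩
  intro b hb
  have hbN : b ∈ (S : Subgroup G) ⊓ Subgroup.normalizer (B : Set G) := hlt1.le hb
  have h1 := hya b hbN
  have hu : a * b * a⁻¹ ∈ U := by rw [← haU]; exact conj_mem_map_conj B a hb
  have h2 := hst _ hu
  have hsu : s * (a * b * a⁻¹) * s⁻¹ ∈ U := (Subgroup.mem_normalizer_iff.1 hsN _).1 hu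
  have h3 := hyn _ hsu
  have hgb : g * b * g⁻¹ ∈ B' := by rw [hB']; exact conj_mem_map_conj B g hb
  have h4 := hya' _ (hlt2.le hgb)
  calc ya'⁻¹ * (yn * s) * ya * b * (ya'⁻¹ * (yn * s) * ya)⁻¹
      = ya'⁻¹ * (yn * (s * (ya * b * ya⁻¹) * s⁻¹) * yn⁻¹) * ya' := by group
    _ = ya'⁻¹ * (yn * (s * (a * b * a⁻¹) * s⁻¹) * yn⁻¹) * ya' := by rw [h1]
    _ = ya'⁻¹ * (n * (s * (a * b * a⁻¹) * s⁻¹) * n⁻¹) * ya' := by rw [h3]
    _ = ya'⁻¹ * (n * ((n⁻¹ * (a' * g * a⁻¹)) * (a * b * a⁻¹) *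
          (n⁻¹ * (a' * g * a⁻¹))⁻¹) * n⁻¹) * ya' := by rw [h2]
    _ = ya'⁻¹ * (a' * (g * b * g⁻¹) * a'⁻¹) * ya' := by group
    _ = ya'⁻¹ * (ya' * (g * b * g⁻¹) * ya'⁻¹) * ya' := by rw [h4]
    _ = g * b * g⁻¹ := by group

end stepC

end Cfsg.H5.QdF
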