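import Mathlib
import Cfsg.Agent.H5.QdFusion2
import Cfsg.Agent.Lib.Helper13.NormalPComplement
import Cfsg.Agent.Lib.Helper16.SylowInf

/-!
# `Qd(p)`-free groups: control of strong fusion, part 3

The constrained case `C_S(O_p(G)) ≤ O_p(G)` and the main induction.
-/

set_option autoImplicit false
set_option linter.style.haveILetI false

namespace Cfsg.H5.QdF

open Cfsg Cfsg.H5.ZJ Cfsg.H5.SC Cfsg.Agent.Lib.Helper13
open scoped commutatorElement

universe u

section constrained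

variable {G : Type*} [Group G] [Finite G] {p : ℕ} [Fact p.Prime]

/-- if `C_S(O_p(G)) ≤ O_p(G)` then `O_p` of `G / O_{p'}(G)` contains its centralizer -/
theorem centralizer_pCore_quotient_le' (S : Sylow p G)
    (hSC : (S : Subgroup G) ⊓ Subgroup.centralizer (Cfsg.pCore p G : Set G) ≤ Cfsg.pCore p G) :
    Subgroup.centralizer (Cfsg.pCore p (G ⧸ Cfsg.pPrimeCore p G) :
      Set (G ⧸ Cfsg.pPrimeCore p G)) ≤ Cfsg.pCore p (G ⧸ Cfsg.pPrimeCore p G) := by
  have hpp : p.Prime := Fact.out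
  haveI hQn : (Cfsg.pCore p G).Normal := Cfsg.H5.pCore_normal p G
  have hQp := Cfsg.H5.pCore_isPGroup p G
  haveI hN₀n : (Cfsg.pPrimeCore p G).Normal := Cfsg.H5.pPrimeCore_normal p G
  have hN₀ := Cfsg.H5.coprime_card_pPrimeCore p G
  obtain ⟨C, hC⟩ : ∃ C : Subgroup G, C = Subgroup.centralizer (Cfsg.pCore p G : Set G) := ⟨_, rfl⟩
  haveI hCn : C.Normal := by rw [hC]; infer_instance
  rw [← hC] at hSC
  -- the image of `O_p(G)`
  have hQb : (Cfsg.pCore p G).map (QuotientGroup.mk' (Cfsg.pPrimeCore p G)) ≤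
      Cfsg.pCore p (G ⧸ Cfsg.pPrimeCore p G) :=
    Cfsg.H5.le_pCore (Subgroup.Normal.map hQn _ (QuotientGroup.mk'_surjective _)) (hQp.map _)
  -- Burnside in `C`
  have hD : ((Cfsg.Agent.Lib.Helper16.sylowInf S C : Sylow p ↥C) : Subgroup ↥C) ≤
      Subgroup.center ↥C := by
    intro d hd
    rw [Cfsg.Agent.Lib.Helper16.coe_sylowInf, Subgroup.mem_subgroupOf] at hd
    have hdQ : (d : G) ∈ Cfsg.pCore p G := hSC ⟨hd, d.2⟩
    rw [Subgroup.mem_center_iff]
    intro c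
    apply Subtype.ext
    have hc : (c : G) ∈ Subgroup.centralizer (Cfsg.pCore p G : Set G) := by rw [← hC]; exact c.2
    have := Subgroup.mem_centralizer_iff.1 hc _ hdQ
    simpa using this.symm
  obtain ⟨K, hKn, hKcard, hK⟩ := exists_normal_pPrime_of_central_sylow _ hD
  have hKel : ∀ x : ↥C, x ∈ K ↔ (orderOf (x : G)).Coprime p := by
    intro x
    constructor
    · intro hx
      have h1 : orderOf (⟨x, hx⟩ : ↥K) ∣ Nat.card ↥K := orderOf_dvd_natCard _
      have h2 : (Nat.card ↥K).Coprime p := ((Nat.Prime.coprime_iff_not_dvd hpp).2 hKcard).symm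
      have h3 : orderOf (x : G) = orderOf (⟨x, hx⟩ : ↥K) := by
        rw [← Subgroup.orderOf_coe (⟨x, hx⟩ : ↥K), ← Subgroup.orderOf_coe x]
      rw [h3]
      exact h2.coprime_dvd_left h1
    · intro hx
      apply hK
      rw [Subgroup.orderOf_coe] at hx
      exact hx
  have hKGn : (K.map C.subtype).Normal := by
    refine ⟨?_⟩
    rintro _ ⟨k, hk, rfl⟩ g
    have hgk : g * (k : G) * g⁻¹ ∈ C := hCn.conj_mem _ k.2 g
    refine ⟨⟨_, hgk⟩, ?_, rfl⟩
    rw [SetLike.mem_coe, hKel]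
    have h1 : orderOf (g * (k : G) * g⁻¹) = orderOf (k : G) :=
      orderOf_injective (MulAut.conj g).toMonoidHom (MulAut.conj g).injective (k : G)
    simp only
    rw [h1]
    exact (hKel k).1 hk
  have hKGc : (Nat.card ↥(K.map C.subtype)).Coprime p := by
    rw [Nat.card_congr (K.equivMapOfInjective C.subtype C.subtype_injective).symm.toEquiv]
    exact ((Nat.Prime.coprime_iff_not_dvd hpp).2 hKcard).symm
  have hKGle := Cfsg.H5.le_pPrimeCore hKGn hKGc
  have hidx : ¬ p ∣ ((S : Subgroup G) ⊓ C).relIndex C := by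
    rw [Subgroup.inf_relIndex_right]
    exact (Cfsg.Agent.Lib.Helper16.sylowInf S C).not_dvd_index
  -- the main argument
  intro xb hxb
  obtain ⟨h, rfl⟩ := QuotientGroup.mk'_surjective _ xb
  have hhC : h ∈ C := by
    rw [hC]
    apply Cfsg.H5.PSt.mem_centralizer_of_map_mem _ hN₀ hQp
    · rw [Subgroup.normalizer_eq_top]; trivial
    · exact Subgroup.centralizer_le hQb hxb
  obtain ⟨t, w, ht, hw, htw, ⟨k, hk⟩, hwc⟩ := Cfsg.Agent.Lib.Helper16.exists_p_decomp' p h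
  have hzC : Subgroup.zpowers h ≤ C := Subgroup.zpowers_le.2 hhC
  have hwK : w ∈ K.map C.subtype := ⟨⟨w, hzC hw⟩, (hKel _).2 hwc, rfl⟩
  have htp : IsPGroup p (Subgroup.zpowers t) :=
    IsPGroup.of_card (n := k) (by rw [Nat.card_zpowers]; exact hk)
  obtain ⟨c, -, hc⟩ := exists_conj_le_of_relIndex C ((S : Subgroup G) ⊓ C) (Subgroup.zpowers t)
    (S.isPGroup'.to_le inf_le_left) hidx ((Subgroup.zpowers_le.2 ht).trans hzC) htp
  have htQ : t ∈ Cfsg.pCore p G := by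
    have h1 := hSC (hc t (Subgroup.mem_zpowers t))
    have h2 := hQn.conj_mem _ h1 c⁻¹
    have e1 : c⁻¹ * (c * t * c⁻¹) * c⁻¹⁻¹ = t := by group
    rwa [e1] at h2
  apply hQb
  refine ⟨t, htQ, ?_⟩
  rw [htw, map_mul]
  have h1 : QuotientGroup.mk' (Cfsg.pPrimeCore p G) w = 1 :=
    (QuotientGroup.eq_one_iff w).2 (hKGle hwK)
  rw [h1, mul_one]

/-- Glauberman's theorem in the form `G = O_{p'}(G) N_G(W(S))` -/
theorem sup_normalizer_Wf_eq_top' (hp2 : p ≠ 2)
    (hcb : Subgroup.centralizer (Cfsg.pCore p (G ⧸ Cfsg.pPrimeCore p G) :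
      Set (G ⧸ Cfsg.pPrimeCore p G)) ≤ Cfsg.pCore p (G ⧸ Cfsg.pPrimeCore p G))
    (hs : Cfsg.IsNormalizerPStable p G) {𝔻 : Set G} (h𝔻 : IsSCSet p 𝔻) (T : Sylow p G) (e : ℕ) :
    Cfsg.pPrimeCore p G ⊔ Subgroup.normalizer (Wf e 𝔻 (T : Subgroup G) : Set G) = ⊤ := by
  have hN₀ := Cfsg.H5.coprime_card_pPrimeCore p G
  have hstb : ∀ (V : Subgroup (G ⧸ Cfsg.pPrimeCore p G)) [V.Normal], IsPGroup p V →
      Cfsg.IsPStableOn p V :=
    fun V _ hV => Cfsg.H5.NPS.isPStableOn_quotient_of_nps hs _ hN₀ V hV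
  have hsurj := QuotientGroup.mk'_surjective (Cfsg.pPrimeCore p G)
  have h𝔻b := isSCSet_image h𝔻 (Cfsg.pPrimeCore p G)
  have hZn : (Wf e ((QuotientGroup.mk' (Cfsg.pPrimeCore p G)) '' 𝔻)
      ((T.mapSurjective hsurj : Sylow p (G ⧸ Cfsg.pPrimeCore p G)) :
        Subgroup (G ⧸ Cfsg.pPrimeCore p G))).Normal := by
    by_cases hb : dsub ((QuotientGroup.mk' (Cfsg.pPrimeCore p G)) '' 𝔻)
        ((T.mapSurjective hsurj : Sylow p (G ⧸ Cfsg.pPrimeCore p G)) :
          Subgroup (G ⧸ Cfsg.pPrimeCore p G)) = ⊥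
    · rw [Wf_of_eq_bot hb]; exact Z_normal hp2 e hcb hstb _
    · rw [Wf_of_ne_bot hb]; exact Z_normal_sc hp2 e hcb hstb _ h𝔻b
  rw [Sylow.coe_mapSurjective, Wf_map_mk e h𝔻 _ hN₀ _ T.isPGroup'] at hZn
  have hXn : (Wf e 𝔻 (T : Subgroup G) ⊔ Cfsg.pPrimeCore p G).Normal := by
    have h1 := Subgroup.comap_map_eq (QuotientGroup.mk' (Cfsg.pPrimeCore p G))
      (Wf e 𝔻 (T : Subgroup G))
    rw [QuotientGroup.ker_mk'] at h1
    rw [← h1]; exact Subgroup.Normal.comap hZn _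
  exact Cfsg.H5.PSt.normalizer_sup_eq_top_of_coprime _ hN₀
    (T.isPGroup'.to_le (Wf_le e 𝔻 _)) hXn

/-- the constrained case -/
theorem ctl_of_constrained (hp2 : p ≠ 2) (hfree : ¬ Cfsg.Involves ↥(Cfsg.qd p) G) (e : ℕ)
    {𝔻 : Set G} (h𝔻 : IsSCSet p 𝔻) (S : Sylow p G)
    (hSC : (S : Subgroup G) ⊓ Subgroup.centralizer (Cfsg.pCore p G : Set G) ≤ Cfsg.pCore p G) :
    Ctl e 𝔻 (S : Subgroup G) := by
  have hcb := centralizer_pCore_quotient_le' S hSC
  have hs := nps_of_qdFree hp2 hfree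
  have hsup := sup_normalizer_Wf_eq_top' hp2 hcb hs h𝔻 S e
  have hcop := Cfsg.H5.coprime_card_pPrimeCore p G
  haveI hKn := Cfsg.H5.pPrimeCore_normal p G
  have hSW : (S : Subgroup G) ≤ Subgroup.normalizer (Wf e 𝔻 (S : Subgroup G) : Set G) :=
    Subgroup.le_normalizer.trans (normalizer_le_normalizer_Wf h𝔻.conj _)
  intro B g hBS hBg
  exact fusion_of_sup_eq_top (Cfsg.pPrimeCore p G) _ hcop hsup B (S.isPGroup'.to_le hBS)
    (hBS.trans hSW) g (fun b hb => hSW (hBg b hb))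

end constrained

section main

/-- the induction hypothesis -/
def IHq (p e n : ℕ) : Prop :=
  ∀ (X : Type u) [Group X] [Finite X], Nat.card X < n → ¬ Cfsg.Involves ↥(Cfsg.qd p) X →
    ∀ (𝔻 : Set X), IsSCSet p 𝔻 → ∀ T : Sylow p X, Ctl e 𝔻 (T : Subgroup X)

variable {G : Type u} [Group G] [Finite G] {p : ℕ} [Fact p.Prime]

omit [Fact p.Prime] in
/-- the induction hypothesis applied to a proper subgroup containing the Sylow subgroup -/
theorem ih_subgroup {e : ℕ} (ih : IHq.{u} p e (Nat.card G))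
    (hfree : ¬ Cfsg.Involves ↥(Cfsg.qd p) G) {𝔻 : Set G} (h𝔻 : IsSCSet p 𝔻) (S : Sylow p G)
    (H : Subgroup G) (hH : H ≠ ⊤) (hSH : (S : Subgroup G) ≤ H)
    (B : Subgroup G) (m : G) (hm : m ∈ H) (hBS : B ≤ (S : Subgroup G))
    (hBm : ∀ b ∈ B, m * b * m⁻¹ ∈ (S : Subgroup G)) :
    ∃ y ∈ Subgroup.normalizer (Wf e 𝔻 (S : Subgroup G) : Set G),
      ∀ b ∈ B, y * b * y⁻¹ = m * b * m⁻¹ := by
  have hcard : Nat.card ↥H < Nat.card G := by
    rw [← Subgroup.card_top (G := G)]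
    exact card_lt_of_lt (lt_top_iff_ne_top.2 hH)
  have hfreeH : ¬ Cfsg.Involves ↥(Cfsg.qd p) ↥H := fun h =>
    hfree (Cfsg.Agent.Lib.Helper27.involves_of_injective H.subtype H.subtype_injective h)
  have hctl := ih ↥H hcard hfreeH _ (isSCSet_comap h𝔻 H) (S.subtype hSH)
  rw [Sylow.coe_subtype] at hctl
  have hmap : ((S : Subgroup G).subgroupOf H).map H.subtype = (S : Subgroup G) := by
    rw [Subgroup.subgroupOf_map_subtype, inf_eq_left.2 hSH]
  obtain ⟨y, hy, hyB⟩ := ctl_map_subtype H _ hctl B m hm (by rw [hmap]; exact hBS)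
    (by rw [hmap]; exact hBm)
  rw [hmap] at hy
  exact ⟨y, (Subgroup.mem_inf.1 hy).2, hyB⟩

/-- the minimal counterexample argument -/
theorem ctl_of_ih (hp2 : p ≠ 2) {e : ℕ} (he : p ∣ e) (ih : IHq.{u} p e (Nat.card G))
    (hfree : ¬ Cfsg.Involves ↥(Cfsg.qd p) G) {𝔻 : Set G} (h𝔻 : IsSCSet p 𝔻) (S : Sylow p G) :
    Ctl e 𝔻 (S : Subgroup G) := by
  have hW : Cfsg.IsConjugacyFunctor p (Wf e 𝔻) := isConjugacyFunctor_Wf he h𝔻
  have hSp : IsPGroup p (S : Subgroup G) := S.isPGroup'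
  have hSW : (S : Subgroup G) ≤ Subgroup.normalizer (Wf e 𝔻 (S : Subgroup G) : Set G) :=
    Subgroup.le_normalizer.trans (normalizer_le_normalizer_Wf h𝔻.conj _)
  haveI hQn : (Cfsg.pCore p G).Normal := Cfsg.H5.pCore_normal p G
  have hQp := Cfsg.H5.pCore_isPGroup p G
  have hQS : Cfsg.pCore p G ≤ S := hQp.le_sylow_of_normal S
  by_cases hQ : Cfsg.pCore p G = ⊥
  · -- Step A: the Alperin–Gorenstein theorem
    have hloc : ∀ T : Subgroup G, T ≠ ⊥ → Cfsg.IsWellPlaced p (Wf e 𝔻) (S : Subgroup G) T →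
        Cfsg.ControlsStrongFusionIn p (Wf e 𝔻) (Subgroup.normalizer (T : Set G)) := by
      intro T hT hwp
      have hNtop : Subgroup.normalizer (T : Set G) ≠ ⊤ := by
        intro h
        apply hT
        have hTn : T.Normal := Subgroup.normalizer_eq_top_iff.1 h
        have := Cfsg.H5.le_pCore hTn (hSp.to_le hwp.1)
        rwa [hQ, le_bot_iff] at this
      have hcard : Nat.card ↥(Subgroup.normalizer (T : Set G)) < Nat.card G := by
        rw [← Subgroup.card_top (G := G)]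
        exact card_lt_of_lt (lt_top_iff_ne_top.2 hNtop)
      have hfreeN : ¬ Cfsg.Involves ↥(Cfsg.qd p) ↥(Subgroup.normalizer (T : Set G)) := fun h =>
        hfree (Cfsg.Agent.Lib.Helper27.involves_of_injective _ (Subgroup.subtype_injective _) h)
      obtain ⟨Ts⟩ : Nonempty (Sylow p ↥(Subgroup.normalizer (T : Set G))) := inferInstance
      have hctl := ih _ hcard hfreeN _ (isSCSet_comap h𝔻 _) Ts
      refine ⟨(Ts : Subgroup ↥(Subgroup.normalizer (T : Set G))).map (Subgroup.subtype _),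
        Subgroup.map_subtype_le _, Ts.isPGroup'.map _, ?_, ?_⟩
      · rw [relIndex_map_subtype]; exact Ts.not_dvd_index
      · intro A h hh hAT hAh
        obtain ⟨y, hy, hyB⟩ := ctl_map_subtype _ _ hctl (Subgroup.closure A) h hh
          ((Subgroup.closure_le _).2 hAT) (conj_closure_mem hAh)
        exact ⟨y, hy, fun a ha => hyB a (Subgroup.subset_closure ha)⟩
    have hctl := Cfsg.Agent.S1961.result S (Wf e 𝔻) hW hloc
    intro B g hBS hBg
    obtain ⟨x, hx, hxB⟩ := Cfsg.Agent.S1961.control_any_sylow (Wf e 𝔻) hW ⊤ hctl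
      (S : Subgroup G) le_top hSp (by rw [Subgroup.relIndex_top_right]; exact S.not_dvd_index)
      (B : Set G) g (Subgroup.mem_top g) hBS (by rintro _ ⟨b, hb, rfl⟩; exact hBg b hb)
    exact ⟨x, (Subgroup.mem_inf.1 hx).2, hxB⟩
  -- Steps B and C
  obtain ⟨C, hC⟩ : ∃ C : Subgroup G, C = Subgroup.centralizer (Cfsg.pCore p G : Set G) := ⟨_, rfl⟩
  haveI hCn : C.Normal := by rw [hC]; infer_instance
  obtain ⟨L, hL⟩ : ∃ L : Subgroup G, L = Cfsg.pCore p G ⊔ C := ⟨_, rfl⟩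
  haveI hLn : L.Normal := by rw [hL]; infer_instance
  by_cases hN₁ : Subgroup.normalizer (((S : Subgroup G) ⊓ L : Subgroup G) : Set G) = ⊤
  · -- the constrained case
    apply ctl_of_constrained hp2 hfree e h𝔻 S
    have hS₁n : ((S : Subgroup G) ⊓ L).Normal := Subgroup.normalizer_eq_top_iff.1 hN₁
    have h1 := Cfsg.H5.le_pCore hS₁n (hSp.to_le inf_le_left)
    refine le_trans ?_ h1
    rw [← hC, hL]
    exact inf_le_inf_left _ le_sup_right
  intro B g hBS hBg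
  obtain ⟨l, hl, n, hn, rfl, hlB⟩ := frattini_fusion S L B hBS g hBg
  have hlmem : l ∈ ((Cfsg.pCore p G ⊔ C : Subgroup G) : Set G) := by rw [← hL]; exact hl
  rw [Subgroup.mul_normal] at hlmem
  obtain ⟨q, hq, c, hc, rfl⟩ := hlmem
  have hcB : ∀ b ∈ B, c * b * c⁻¹ ∈ (S : Subgroup G) := by
    intro b hb
    have h1 := hlB b hb
    have e1 : c * b * c⁻¹ = q⁻¹ * (q * c * b * (q * c)⁻¹) * q := by group
    rw [e1]
    exact Subgroup.mul_mem _ (Subgroup.mul_mem _ (Subgroup.inv_mem _ (hQS hq)) h1) (hQS hq)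
  -- realize `n`
  have hSN₁ : (S : Subgroup G) ≤ Subgroup.normalizer (((S : Subgroup G) ⊓ L : Subgroup G) : Set G) := by
    refine le_trans ?_ (Cfsg.H5.ZJ.normalizer_inf_le _ _)
    refine le_inf Subgroup.le_normalizer ?_
    rw [Subgroup.normalizer_eq_top]; exact le_top
  obtain ⟨yn, hynN, hyn⟩ := ih_subgroup ih hfree h𝔻 S _ hN₁ hSN₁
    (B.map (MulAut.conj (q * c)).toMonoidHom) n hn
    (by rw [map_conj_le_iff]; exact hlB)
    (by
      rintro _ ⟨b, hb, rfl⟩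
      have h1 := hBg b hb
      have e1 : n * (MulAut.conj (q * c)).toMonoidHom b * n⁻¹ =
          n * (q * c) * b * (n * (q * c))⁻¹ := by
        simp only [MulEquiv.coe_toMonoidHom, MulAut.conj_apply]
        group
      rw [e1]; exact h1)
  -- realize `c`
  have hyc : ∃ yc ∈ Subgroup.normalizer (Wf e 𝔻 (S : Subgroup G) : Set G),
      ∀ b ∈ B, yc * b * yc⁻¹ = c * b * c⁻¹ := by
    by_cases hG₁ : (S : Subgroup G) ⊔ C = ⊤
    swap
    · exact ih_subgroup ih hfree h𝔻 S _ hG₁ le_sup_left B c (Subgroup.mem_sup_right hc) hBS hcB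
    -- Step C
    have hGC : ∀ x : G, ∃ a : ℕ, x ^ (p ^ a) ∈ Subgroup.centralizer (Cfsg.pCore p G : Set G) := by
      intro x
      have hx : x ∈ (((S : Subgroup G) ⊔ C : Subgroup G) : Set G) := by rw [hG₁]; trivial
      rw [Subgroup.mul_normal] at hx
      obtain ⟨s, hs, c', hc', rfl⟩ := hx
      obtain ⟨a, ha⟩ := hSp ⟨s, hs⟩
      have ha' : s ^ (p ^ a) = 1 := by simpa using congrArg Subtype.val ha
      refine ⟨a, ?_⟩
      rw [← hC, ← QuotientGroup.eq_one_iff (N := C), QuotientGroup.mk_pow, QuotientGroup.mk_mul,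
        (QuotientGroup.eq_one_iff c').2 hc', mul_one, ← QuotientGroup.mk_pow, ha']
      rfl
    by_cases hSQ : (S : Subgroup G) ≤ Cfsg.pCore p G
    · -- `S` is normal
      have hSn : (S : Subgroup G).Normal := by
        rw [le_antisymm hSQ hQS]; exact hQn
      refine ⟨c, ?_, fun b _ => rfl⟩
      apply normalizer_le_normalizer_Wf h𝔻.conj
      rw [Subgroup.normalizer_eq_top]; trivial
    obtain ⟨Y, hY⟩ : ∃ Y : Subgroup G, Y = (Z e ((S : Subgroup G).map
      (QuotientGroup.mk' (Cfsg.pCore p G)))).comap (QuotientGroup.mk' (Cfsg.pCore p G)) := ⟨_, rfl⟩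
    have hYtop : Subgroup.normalizer (Y : Set G) ≠ ⊤ := by
      intro h
      apply hSQ
      apply le_pCore_of_Y_normal he S
      rw [← hY]
      exact Subgroup.normalizer_eq_top_iff.1 h
    have hSY : (S : Subgroup G) ≤ Subgroup.normalizer (Y : Set G) := by
      rw [hY]; exact le_normalizer_Y _ _
    -- the quotient
    have hcardq : Nat.card (G ⧸ Cfsg.pCore p G) < Nat.card G := by
      rw [Subgroup.card_eq_card_quotient_mul_card_subgroup (Cfsg.pCore p G)]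
      have h1 : 1 < Nat.card ↥(Cfsg.pCore p G) := by
        rw [Subgroup.one_lt_card_iff_ne_bot]; exact hQ
      have h2 : 0 < Nat.card (G ⧸ Cfsg.pCore p G) := Nat.card_pos
      nlinarith
    have hfreeq : ¬ Cfsg.Involves ↥(Cfsg.qd p) (G ⧸ Cfsg.pCore p G) := fun h =>
      hfree (Cfsg.Agent.Lib.Helper27.involves_trans h
        (Cfsg.Agent.Lib.Helper27.involves_of_surjective (QuotientGroup.mk' (Cfsg.pCore p G))
          (QuotientGroup.mk'_surjective _)))
    have hctlq := ih (G ⧸ Cfsg.pCore p G) hcardq hfreeq _ (isSCSet_one p)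
      (S.mapSurjective (QuotientGroup.mk'_surjective (Cfsg.pCore p G)))
    rw [Sylow.coe_mapSurjective] at hctlq
    have hquot : ∀ (B : Subgroup G) (g : G), B ≤ (S : Subgroup G) →
        (∀ b ∈ B, g * b * g⁻¹ ∈ (S : Subgroup G)) →
        ∃ n ∈ Subgroup.normalizer (Y : Set G),
          ∀ b ∈ B, (g * b * g⁻¹)⁻¹ * (n * b * n⁻¹) ∈ Cfsg.pCore p G := by
      intro B g hB hBg
      rw [hY]
      exact quotient_step (Cfsg.pCore p G) (S : Subgroup G) hctlq B g hB hBg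
    have hM : ∀ (B : Subgroup G) (m : G), m ∈ Subgroup.normalizer (Y : Set G) →
        B ≤ (S : Subgroup G) → (∀ b ∈ B, m * b * m⁻¹ ∈ (S : Subgroup G)) →
        ∃ y ∈ Subgroup.normalizer (Wf e 𝔻 (S : Subgroup G) : Set G),
          ∀ b ∈ B, y * b * y⁻¹ = m * b * m⁻¹ :=
      fun B m hm hB hBm => ih_subgroup ih hfree h𝔻 S _ hYtop hSY B m hm hB hBm
    have hBQ : ∀ x ∈ B ⊔ Cfsg.pCore p G, c * x * c⁻¹ ∈ (S : Subgroup G) := by
      have hle : B ⊔ Cfsg.pCore p G ≤ (S : Subgroup G).comap (MulAut.conj c).toMonoidHom := by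
        apply sup_le
        · intro b hb
          rw [Subgroup.mem_comap]
          simpa [MulAut.conj_apply] using hcB b hb
        · intro x hx
          rw [Subgroup.mem_comap]
          simpa [MulAut.conj_apply] using hQS (hQn.conj_mem x hx c)
      intro x hx
      have := hle hx
      rw [Subgroup.mem_comap] at this
      simpa [MulAut.conj_apply] using this
    obtain ⟨y, hyN, hy⟩ := stepC he h𝔻 S (Cfsg.pCore p G) hQp hGC Y hquot hM _
      (B ⊔ Cfsg.pCore p G) c le_sup_right (sup_le hBS hQS) hBQ rfl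
    exact ⟨y, hyN, fun b hb => hy b (Subgroup.mem_sup_left hb)⟩
  obtain ⟨yc, hycN, hyc⟩ := hyc
  refine ⟨yn * q * yc, Subgroup.mul_mem _ (Subgroup.mul_mem _ hynN (hSW (hQS hq))) hycN, ?_⟩
  intro b hb
  have h1 := hyc b hb
  have h2 := hyn ((q * c) * b * (q * c)⁻¹) (conj_mem_map_conj B (q * c) hb)
  calc yn * q * yc * b * (yn * q * yc)⁻¹ = yn * (q * (yc * b * yc⁻¹) * q⁻¹) * yn⁻¹ := by group
    _ = yn * ((q * c) * b * (q * c)⁻¹) * yn⁻¹ := by rw [h1]; group
    _ = n * ((q * c) * b * (q * c)⁻¹) * n⁻¹ := h2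
    _ = n * (q * c) * b * (n * (q * c))⁻¹ := by group

/-- induction form -/
theorem ctl_all (p : ℕ) [Fact p.Prime] (hp2 : p ≠ 2) (e : ℕ) (he : p ∣ e) :
    ∀ n : ℕ, IHq.{u} p e n := by
  intro n
  induction n using Nat.strong_induction_on with
  | _ n ih =>
  intro X _ _ hcard hfree 𝔻 h𝔻 T
  exact ctl_of_ih hp2 he (ih (Nat.card X) hcard) hfree h𝔻 T

/-- **Glauberman's theorem**: in a finite group not involving `Qd(p)` (`p` odd, `p ∣ e`) the
normalizer of `Wf e 𝔻 P` controls strong fusion in the Sylow `p`-subgroup `P`. -/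
theorem controls_strong_fusion_qdFree (hp2 : p ≠ 2) (e : ℕ) (he : p ∣ e)
    (hfree : ¬ Cfsg.Involves ↥(Cfsg.qd p) G) (P : Sylow p G) {𝔻 : Set G} (h𝔻 : IsSCSet p 𝔻)
    (A : Set G) (hA : A ⊆ (P : Subgroup G)) (g : G)
    (hAg : (fun a => g * a * g⁻¹) '' A ⊆ (P : Subgroup G)) :
    ∃ x ∈ Subgroup.normalizer (Wf e 𝔻 (P : Subgroup G) : Set G),
      ∀ a ∈ A, g * a * g⁻¹ = x * a * x⁻¹ := by
  have hctl := ctl_all.{u} p hp2 e he (Nat.card G + 1) G (Nat.lt_succ_self _) hfree 𝔻 h𝔻 P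
  obtain ⟨y, hy, hyB⟩ := hctl (Subgroup.closure A) g ((Subgroup.closure_le _).2 hA)
    (conj_closure_mem hAg)
  exact ⟨y, hy, fun a ha => (hyB a (Subgroup.subset_closure ha)).symm⟩

/-- the version for `Z(J(P))` itself -/
theorem controls_strong_fusion_qdFree_Z (hp2 : p ≠ 2) (e : ℕ) (he : p ∣ e)
    (hfree : ¬ Cfsg.Involves ↥(Cfsg.qd p) G) (P : Sylow p G)
    (A : Set G) (hA : A ⊆ (P : Subgroup G)) (g : G)
    (hAg : (fun a => g * a * g⁻¹) '' A ⊆ (P : Subgroup G)) :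
    ∃ x ∈ Subgroup.normalizer (Z e (P : Subgroup G) : Set G),
      ∀ a ∈ A, g * a * g⁻¹ = x * a * x⁻¹ := by
  have := controls_strong_fusion_qdFree hp2 e he hfree P (isSCSet_one p) A hA g hAg
  rwa [Wf_one] at this

end main

end Cfsg.H5.QdF
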