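import Mathlib
import Cfsg.Agent.H5.FamFusion2
import Cfsg.Agent.H5.QdFusion3

/-!
# Families of isomorphism-invariant functors: from constrained sections to all sections

Glauberman's local-to-global theorem for control of strong fusion by a set of
isomorphism-invariant `p`-group functors.
-/

set_option autoImplicit false
set_option linter.style.haveILetI false
set_option linter.unusedSectionVars false

namespace Cfsg.H5.FF

open Cfsg Cfsg.Agent.S1959 Cfsg.Agent.Lib.Helper13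

universe u

section defs

variable (p : ℕ) (𝓦₀ : Set (∀ (Q : Type u) [Group Q], Subgroup Q))

/-- subgroup form of control of strong fusion by the family, for the subgroup `S` -/
def FCtl {X : Type u} [Group X] (S : Subgroup X) : Prop :=
  ∀ (B : Subgroup X) (g : X), B ≤ S → (∀ b ∈ B, g * b * g⁻¹ ∈ S) →
    Real (fam 𝓦₀ X) ⊤ S (B : Set X) g

/-- the family controls strong fusion in every section of `X` in which `O_p` contains its
centralizer -/
def Hyp (X : Type u) [Group X] : Prop :=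
  ∀ (Y : Type u) [Group Y] [Finite Y], Cfsg.Involves Y X →
    Subgroup.centralizer (Cfsg.pCore p Y : Set Y) ≤ Cfsg.pCore p Y →
    ∀ T : Sylow p Y, FCtl 𝓦₀ (T : Subgroup Y)

/-- the induction hypothesis -/
def IHf (n : ℕ) : Prop :=
  ∀ (X : Type u) [Group X] [Finite X], Nat.card X < n → Hyp p 𝓦₀ X →
    ∀ T : Sylow p X, FCtl 𝓦₀ (T : Subgroup X)

end defs

section basics

variable {p : ℕ} {𝓦₀ : Set (∀ (Q : Type u) [Group Q], Subgroup Q)}

theorem hyp_of_involves {X X' : Type u} [Group X] [Group X'] (h : Hyp p 𝓦₀ X)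
    (hinv : Cfsg.Involves X' X) : Hyp p 𝓦₀ X' := by
  intro Y _ _ hY hc T
  exact h Y (Cfsg.Agent.Lib.Helper27.involves_trans hY hinv) hc T

theorem involves_self (X : Type u) [Group X] : Cfsg.Involves X X :=
  Cfsg.Agent.Lib.Helper27.involves_of_surjective (MonoidHom.id X) Function.surjective_id

theorem hyp_subgroup {X : Type u} [Group X] (h : Hyp p 𝓦₀ X) (H : Subgroup X) : Hyp p 𝓦₀ ↥H :=
  hyp_of_involves h
    (Cfsg.Agent.Lib.Helper27.involves_of_injective H.subtype H.subtype_injective (involves_self ↥H))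

theorem hyp_quotient {X : Type u} [Group X] (h : Hyp p 𝓦₀ X) (N : Subgroup X) [N.Normal] :
    Hyp p 𝓦₀ (X ⧸ N) :=
  hyp_of_involves h
    (Cfsg.Agent.Lib.Helper27.involves_of_surjective (QuotientGroup.mk' N)
      (QuotientGroup.mk'_surjective N))

theorem coe_map_conj {X : Type*} [Group X] (B : Subgroup X) (g : X) :
    ((B.map (MulAut.conj g).toMonoidHom : Subgroup X) : Set X) =
      (fun a => g * a * g⁻¹) '' (B : Set X) := by
  ext x
  constructor
  · rintro ⟨b, hb, rfl⟩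
    exact ⟨b, hb, by simp [MulAut.conj_apply]⟩
  · rintro ⟨b, hb, rfl⟩
    exact ⟨b, hb, by simp [MulAut.conj_apply]⟩

/-- transport of control from a subgroup, viewed as a group, to the ambient group -/
theorem fctl_subgroup (h𝓦 : ∀ W ∈ 𝓦₀, Cfsg.IsCharPFunctor.{u} p W) {X : Type u} [Group X]
    [Finite X] (H : Subgroup X) (Ts : Subgroup ↥H) (hTs : IsPGroup p Ts) (hctl : FCtl 𝓦₀ Ts)
    (B : Subgroup X) (m : X) (hm : m ∈ H) (hB : B ≤ Ts.map H.subtype)
    (hBm : ∀ b ∈ B, m * b * m⁻¹ ∈ Ts.map H.subtype) :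
    Real (fam 𝓦₀ X) H (Ts.map H.subtype) (B : Set X) m := by
  have hBH : B ≤ H := hB.trans (Subgroup.map_subtype_le _)
  have hmem : ∀ x : ↥H, (x : X) ∈ Ts.map H.subtype → x ∈ Ts := by
    rintro x ⟨t, ht, htx⟩
    have : t = x := Subtype.ext htx
    rw [← this]; exact ht
  have h1 := hctl (B.subgroupOf H) ⟨m, hm⟩
    (fun b hb => hmem b (hB (Subgroup.mem_subgroupOf.1 hb)))
    (fun b hb => hmem _ (by simpa using hBm _ (Subgroup.mem_subgroupOf.1 hb)))
  have h2 := Real.map_injective h𝓦 H.subtype H.subtype_injective hTs h1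
  have h3 : H.subtype '' ((B.subgroupOf H : Subgroup ↥H) : Set ↥H) = (B : Set X) := by
    rw [← Subgroup.coe_map, Subgroup.subgroupOf_map_subtype, inf_eq_left.2 hBH]
  rw [h3] at h2
  exact Real.mono_H (Subgroup.map_subtype_le _) h2

variable [Fact p.Prime]

/-- elements of the Sylow subgroup are realized -/
theorem real_of_mem_sylow (h𝓦 : ∀ W ∈ 𝓦₀, Cfsg.IsCharPFunctor.{u} p W) {X : Type u} [Group X]
    [Finite X] (hyp : Hyp p 𝓦₀ X) (S : Sylow p X) (s : X) (hs : s ∈ (S : Subgroup X))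
    (B : Subgroup X) (hB : B ≤ (S : Subgroup X)) :
    Real (fam 𝓦₀ X) ⊤ (S : Subgroup X) (B : Set X) s := by
  have hSp : IsPGroup p ↥(S : Subgroup X) := S.isPGroup'
  have htop : IsPGroup p ↥(⊤ : Subgroup ↥(S : Subgroup X)) := hSp.to_subgroup ⊤
  obtain ⟨T', hT'⟩ := htop.exists_le_sylow
  have hT'top : (T' : Subgroup ↥(S : Subgroup X)) = ⊤ := top_le_iff.1 hT'
  have hcore : Cfsg.pCore p ↥(S : Subgroup X) = ⊤ := by
    rw [eq_top_iff]
    exact Cfsg.H5.le_pCore (inferInstance : (⊤ : Subgroup ↥(S : Subgroup X)).Normal) htop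
  have hctl := hyp_subgroup hyp (S : Subgroup X) ↥(S : Subgroup X) (involves_self _)
    (by rw [hcore]; exact le_top) T'
  rw [hT'top] at hctl
  have hmap : (⊤ : Subgroup ↥(S : Subgroup X)).map (S : Subgroup X).subtype = (S : Subgroup X) := by
    rw [← Subgroup.top_subgroupOf (S : Subgroup X), Subgroup.subgroupOf_map_subtype, top_inf_eq]
  have h1 := fctl_subgroup h𝓦 (S : Subgroup X) ⊤ htop hctl B s hs (by rw [hmap]; exact hB)
    (by
      rw [hmap]
      intro b hb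
      exact Subgroup.mul_mem _ (Subgroup.mul_mem _ hs (hB hb)) (Subgroup.inv_mem _ hs))
  rw [hmap] at h1
  exact Real.mono_H le_top h1

/-- the induction hypothesis applied to a proper subgroup containing the Sylow subgroup -/
theorem ih_subgroup (h𝓦 : ∀ W ∈ 𝓦₀, Cfsg.IsCharPFunctor.{u} p W) {X : Type u} [Group X]
    [Finite X] (ih : IHf.{u} p 𝓦₀ (Nat.card X)) (hyp : Hyp p 𝓦₀ X) (S : Sylow p X)
    (H : Subgroup X) (hH : H ≠ ⊤) (hSH : (S : Subgroup X) ≤ H)
    (B : Subgroup X) (m : X) (hm : m ∈ H) (hBS : B ≤ (S : Subgroup X))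
    (hBm : ∀ b ∈ B, m * b * m⁻¹ ∈ (S : Subgroup X)) :
    Real (fam 𝓦₀ X) ⊤ (S : Subgroup X) (B : Set X) m := by
  have hcard : Nat.card ↥H < Nat.card X := by
    rw [← Subgroup.card_top (G := X)]
    exact card_lt_card_of_lt (lt_top_iff_ne_top.2 hH)
  have hctl := ih ↥H hcard (hyp_subgroup hyp H) (S.subtype hSH)
  rw [Sylow.coe_subtype] at hctl
  have hmap : ((S : Subgroup X).subgroupOf H).map H.subtype = (S : Subgroup X) := by
    rw [Subgroup.subgroupOf_map_subtype, inf_eq_left.2 hSH]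
  have h1 := fctl_subgroup h𝓦 H ((S : Subgroup X).subgroupOf H) (S.isPGroup'.comap_subtype) hctl B m hm
    (by rw [hmap]; exact hBS) (by rw [hmap]; exact hBm)
  rw [hmap] at h1
  exact Real.mono_H le_top h1

end basics

section steps

variable {p : ℕ} [Fact p.Prime] {𝓦₀ : Set (∀ (Q : Type u) [Group Q], Subgroup Q)}
  {X : Type u} [Group X] [Finite X]

/-- the constrained case -/
theorem fctl_of_constrained (h𝓦 : ∀ W ∈ 𝓦₀, Cfsg.IsCharPFunctor.{u} p W) (hyp : Hyp p 𝓦₀ X)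
    (S : Sylow p X)
    (hSC : (S : Subgroup X) ⊓ Subgroup.centralizer (Cfsg.pCore p X : Set X) ≤ Cfsg.pCore p X) :
    FCtl 𝓦₀ (S : Subgroup X) := by
  have hcb := Cfsg.H5.QdF.centralizer_pCore_quotient_le' S hSC
  have hcop := Cfsg.H5.coprime_card_pPrimeCore p X
  haveI hKn := Cfsg.H5.pPrimeCore_normal p X
  have hSp : IsPGroup p (S : Subgroup X) := S.isPGroup'
  have hctl := hyp_quotient hyp (Cfsg.pPrimeCore p X) (X ⧸ Cfsg.pPrimeCore p X) (involves_self _) hcb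
    (S.mapSurjective (QuotientGroup.mk'_surjective (Cfsg.pPrimeCore p X)))
  rw [Sylow.coe_mapSurjective] at hctl
  intro B g hBS hBg
  obtain ⟨g', hRz, hag⟩ := hctl (B.map (QuotientGroup.mk' (Cfsg.pPrimeCore p X)))
    (QuotientGroup.mk' (Cfsg.pPrimeCore p X) g) (Subgroup.map_mono hBS) (by
      rintro _ ⟨b, hb, rfl⟩
      rw [← map_inv, ← map_mul, ← map_mul]
      exact Subgroup.mem_map_of_mem _ (hBg b hb))
  obtain ⟨g₁, hg₁, hRz₁⟩ := Rz.lift_coprime h𝓦 (Cfsg.pPrimeCore p X) hcop S hRz (B : Set X) hBS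
    (Subgroup.coe_map _ _)
  refine ⟨g₁, hRz₁, ?_⟩
  intro b hb
  have h1 : g₁ * b * g₁⁻¹ ∈ (S : Subgroup X) := hRz₁.image_subset ⟨b, hb, rfl⟩
  have h2 : g * b * g⁻¹ ∈ (S : Subgroup X) := hBg b hb
  have h3 := hag _ (Subgroup.mem_map_of_mem (QuotientGroup.mk' (Cfsg.pPrimeCore p X)) hb)
  rw [← hg₁, ← map_inv, ← map_mul, ← map_mul, ← map_inv, ← map_mul, ← map_mul] at h3
  have h4 : (g * b * g⁻¹)⁻¹ * (g₁ * b * g₁⁻¹) ∈ Cfsg.pPrimeCore p X := QuotientGroup.eq.1 h3.symm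
  have h5 : (g * b * g⁻¹)⁻¹ * (g₁ * b * g₁⁻¹) ∈ (S : Subgroup X) :=
    Subgroup.mul_mem _ (Subgroup.inv_mem _ h2) h1
  have h6 := Cfsg.H5.eq_one_of_coprime_of_mem_pgroup (Cfsg.H5.coprime_orderOf_of_mem hcop h4) hSp h5
  calc g₁ * b * g₁⁻¹ = (g * b * g⁻¹) * ((g * b * g⁻¹)⁻¹ * (g₁ * b * g₁⁻¹)) := by group
    _ = g * b * g⁻¹ := by rw [h6, mul_one]

/-- the case `O_p(X) = 1` -/
theorem fctl_of_pCore_eq_bot (h𝓦 : ∀ W ∈ 𝓦₀, Cfsg.IsCharPFunctor.{u} p W)
    (ih : IHf.{u} p 𝓦₀ (Nat.card X)) (hyp : Hyp p 𝓦₀ X) (S : Sylow p X)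
    (hQ : Cfsg.pCore p X = ⊥) : FCtl 𝓦₀ (S : Subgroup X) := by
  have hSp : IsPGroup p (S : Subgroup X) := S.isPGroup'
  have hloc : ∀ T : Subgroup X, T ≤ (S : Subgroup X) → T ≠ ⊥ →
      ¬ p ∣ ((S : Subgroup X) ⊓ Subgroup.normalizer ((T : Subgroup X) : Set X)).relIndex
        (Subgroup.normalizer ((T : Subgroup X) : Set X)) →
      Cfsg.FamilyControlsStrongFusionIn p (fam 𝓦₀ X)
        (Subgroup.normalizer ((T : Subgroup X) : Set X)) := by
    intro T hTS hT _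
    have hNtop : Subgroup.normalizer (T : Set X) ≠ ⊤ := by
      intro h
      apply hT
      have hTn : T.Normal := Subgroup.normalizer_eq_top_iff.1 h
      have := Cfsg.H5.le_pCore hTn (hSp.to_le hTS)
      rwa [hQ, le_bot_iff] at this
    have hcard : Nat.card ↥(Subgroup.normalizer (T : Set X)) < Nat.card X := by
      rw [← Subgroup.card_top (G := X)]
      exact card_lt_card_of_lt (lt_top_iff_ne_top.2 hNtop)
    obtain ⟨Ts⟩ : Nonempty (Sylow p ↥(Subgroup.normalizer (T : Set X))) := inferInstance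
    have hctl := ih _ hcard (hyp_subgroup hyp _) Ts
    rw [fam_iff]
    refine ⟨(Ts : Subgroup ↥(Subgroup.normalizer (T : Set X))).map (Subgroup.subtype _),
      Subgroup.map_subtype_le _, Ts.isPGroup'.map _, ?_, ?_⟩
    · rw [Cfsg.H5.SC.relIndex_map_subtype]; exact Ts.not_dvd_index
    · intro A h hh hAT hAh
      have h1 := fctl_subgroup h𝓦 _ _ Ts.isPGroup' hctl (Subgroup.closure A) h hh
        ((Subgroup.closure_le _).2 hAT) (Cfsg.H5.QdF.conj_closure_mem hAh)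
      exact h1.mono Subgroup.subset_closure
  have hfam := Cfsg.Agent.S1959.result S (fam 𝓦₀ X) (fam_conj h𝓦 X) hloc
  intro B g hBS hBg
  exact fam_any_sylow (fam_conj h𝓦 X) ⊤ hfam (S : Subgroup X) le_top hSp
    (by rw [Subgroup.relIndex_top_right]; exact S.not_dvd_index)
    (B : Set X) g (Subgroup.mem_top g) hBS (by rintro _ ⟨b, hb, rfl⟩; exact hBg b hb)


/-- control in `X / O_p(X)` and in the proper subgroups give control modulo `O_p(X)` -/
theorem quot_step (h𝓦 : ∀ W ∈ 𝓦₀, Cfsg.IsCharPFunctor.{u} p W)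
    (ih : IHf.{u} p 𝓦₀ (Nat.card X)) (hyp : Hyp p 𝓦₀ X) (S : Sylow p X)
    (hQ : Cfsg.pCore p X ≠ ⊥) (hSQ : ¬ (S : Subgroup X) ≤ Cfsg.pCore p X)
    (B : Subgroup X) (g : X) (hBS : B ≤ (S : Subgroup X))
    (hBg : ∀ b ∈ B, g * b * g⁻¹ ∈ (S : Subgroup X)) :
    ∃ n : X, Real (fam 𝓦₀ X) ⊤ (S : Subgroup X) (B : Set X) n ∧
      ∀ b ∈ B, (g * b * g⁻¹)⁻¹ * (n * b * n⁻¹) ∈ Cfsg.pCore p X := by
  have hSp : IsPGroup p (S : Subgroup X) := S.isPGroup'
  haveI hQn : (Cfsg.pCore p X).Normal := Cfsg.H5.pCore_normal p X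
  have hQp := Cfsg.H5.pCore_isPGroup p X
  have hQS : Cfsg.pCore p X ≤ S := hQp.le_sylow_of_normal S
  have hcardq : Nat.card (X ⧸ Cfsg.pCore p X) < Nat.card X := by
    rw [Subgroup.card_eq_card_quotient_mul_card_subgroup (Cfsg.pCore p X)]
    have h1 : 1 < Nat.card ↥(Cfsg.pCore p X) := by
      rw [Subgroup.one_lt_card_iff_ne_bot]; exact hQ
    have h2 : 0 < Nat.card (X ⧸ Cfsg.pCore p X) := Nat.card_pos
    nlinarith
  have hctlq := ih (X ⧸ Cfsg.pCore p X) hcardq (hyp_quotient hyp _)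
    (S.mapSurjective (QuotientGroup.mk'_surjective (Cfsg.pCore p X)))
  rw [Sylow.coe_mapSurjective] at hctlq
  obtain ⟨g', hRz, hag⟩ := hctlq (B.map (QuotientGroup.mk' (Cfsg.pCore p X)))
    (QuotientGroup.mk' (Cfsg.pCore p X) g) (Subgroup.map_mono hBS) (by
      rintro _ ⟨b, hb, rfl⟩
      rw [← map_inv, ← map_mul, ← map_mul]
      exact Subgroup.mem_map_of_mem _ (hBg b hb))
  obtain ⟨g₁, hg₁, hRz₁⟩ := Rz.lift_quotient (𝓦₀ := 𝓦₀) (Cfsg.pCore p X) (S : Subgroup X) hQS hRz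
    (B : Set X) hBS (Subgroup.coe_map _ _)
  have hSbar_ne : (S : Subgroup X).map (QuotientGroup.mk' (Cfsg.pCore p X)) ≠ ⊥ := by
    intro h
    rw [Subgroup.map_eq_bot_iff, QuotientGroup.ker_mk'] at h
    exact hSQ h
  have hSbar_p : IsPGroup p ((S : Subgroup X).map (QuotientGroup.mk' (Cfsg.pCore p X))) :=
    hSp.map _
  have hreal : Real (fam 𝓦₀ X) ⊤ (S : Subgroup X) (B : Set X) g₁ := by
    apply Rz.lift _ hRz₁
    rintro _ ⟨W, hW, rfl⟩ d hd A hAS hAd
    obtain ⟨Y, hY⟩ : ∃ Y : Subgroup X, Y = (Cfsg.inducedFunctor (G := X ⧸ Cfsg.pCore p X) W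
        ((S : Subgroup X).map (QuotientGroup.mk' (Cfsg.pCore p X)))).comap
          (QuotientGroup.mk' (Cfsg.pCore p X)) := ⟨_, rfl⟩
    have hdY : d ∈ Subgroup.normalizer (Y : Set X) := by rw [hY]; exact (Subgroup.mem_inf.1 hd).2
    have hYS : Y ≤ (S : Subgroup X) := by
      intro y hy
      rw [hY] at hy
      obtain ⟨s, hs, hsy⟩ := inducedFunctor_le (W := W) _ (Subgroup.mem_comap.1 hy)
      have h1 : s⁻¹ * y ∈ Cfsg.pCore p X := QuotientGroup.eq.1 hsy
      have e1 : y = s * (s⁻¹ * y) := by group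
      rw [e1]; exact Subgroup.mul_mem _ hs (hQS h1)
    have hYtop : Subgroup.normalizer (Y : Set X) ≠ ⊤ := by
      intro h
      have hYn : Y.Normal := Subgroup.normalizer_eq_top_iff.1 h
      have hYQ := Cfsg.H5.le_pCore hYn (hSp.to_le hYS)
      apply inducedFunctor_ne_bot (h𝓦 W hW) _ hSbar_p hSbar_ne
      rw [eq_bot_iff]
      intro z hz
      obtain ⟨y, rfl⟩ := QuotientGroup.mk'_surjective _ z
      rw [Subgroup.mem_bot, QuotientGroup.mk'_apply, QuotientGroup.eq_one_iff]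
      apply hYQ
      rw [hY]
      exact Subgroup.mem_comap.2 hz
    have hSY : (S : Subgroup X) ≤ Subgroup.normalizer (Y : Set X) := by
      intro s hs
      rw [hY]
      apply Cfsg.H5.QdF.mem_normalizer_comap_mk
      apply normalizer_le_normalizer_inducedFunctor (h𝓦 W hW) _ hSbar_p
      exact Subgroup.le_normalizer (Subgroup.mem_map_of_mem _ hs)
    have h1 := ih_subgroup h𝓦 ih hyp S _ hYtop hSY (Subgroup.closure A) d hdY
      ((Subgroup.closure_le _).2 hAS) (Cfsg.H5.QdF.conj_closure_mem hAd)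
    exact h1.mono Subgroup.subset_closure
  refine ⟨g₁, hreal, ?_⟩
  intro b hb
  have h3 := hag _ (Subgroup.mem_map_of_mem (QuotientGroup.mk' (Cfsg.pCore p X)) hb)
  rw [← hg₁, ← map_inv, ← map_mul, ← map_mul, ← map_inv, ← map_mul, ← map_mul] at h3
  exact QuotientGroup.eq.1 h3.symm

/-- **the case `X = S C_X(Q)`**: Alperin-style downward induction -/
theorem stepC (S : Sylow p X) (Q : Subgroup X) [hQn : Q.Normal] (hQp : IsPGroup p Q)
    (hGC : ∀ x : X, ∃ a : ℕ, x ^ (p ^ a) ∈ Subgroup.centralizer (Q : Set X))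
    (hSreal : ∀ s ∈ (S : Subgroup X), ∀ B : Subgroup X, B ≤ (S : Subgroup X) →
      Real (fam 𝓦₀ X) ⊤ (S : Subgroup X) (B : Set X) s)
    (hNS : ∀ g ∈ Subgroup.normalizer ((S : Subgroup X) : Set X),
      Real (fam 𝓦₀ X) ⊤ (S : Subgroup X) ((S : Subgroup X) : Set X) g)
    (hquot : ∀ (B : Subgroup X) (g : X), B ≤ (S : Subgroup X) →
      (∀ b ∈ B, g * b * g⁻¹ ∈ (S : Subgroup X)) →
      ∃ n : X, Real (fam 𝓦₀ X) ⊤ (S : Subgroup X) (B : Set X) n ∧
        ∀ b ∈ B, (g * b * g⁻¹)⁻¹ * (n * b * n⁻¹) ∈ Q) :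
    ∀ (k : ℕ) (B : Subgroup X) (g : X), Q ≤ B → B ≤ (S : Subgroup X) →
      (∀ b ∈ B, g * b * g⁻¹ ∈ (S : Subgroup X)) →
      Nat.card (S : Subgroup X) - Nat.card B = k →
      Real (fam 𝓦₀ X) ⊤ (S : Subgroup X) (B : Set X) g := by
  have hSp : IsPGroup p (S : Subgroup X) := S.isPGroup'
  intro k
  induction k using Nat.strong_induction_on with
  | _ k ih =>
  intro B g hQB hBS hBg hk
  by_cases hBeq : B = (S : Subgroup X)
  · subst hBeq
    exact hNS g (Subgroup.mem_normalizer_fintype (fun x hx => hBg x hx))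
  have hBlt : B < (S : Subgroup X) := lt_of_le_of_ne hBS hBeq
  -- a fully normalized conjugate
  obtain ⟨a₀, ha₀S, hfn'⟩ := exists_conj_normalizer_sylow S B
  obtain ⟨U, hU⟩ : ∃ U : Subgroup X, U = B.map (MulAut.conj a₀).toMonoidHom := ⟨_, rfl⟩
  rw [← hU] at hfn'
  have hfn : ¬ p ∣ ((S : Subgroup X) ⊓ Subgroup.normalizer (U : Set X)).relIndex
      (Subgroup.normalizer (U : Set X)) := hfn'
  have hUS : U ≤ (S : Subgroup X) := by
    rw [hU]
    exact (Subgroup.map_mono (le_inf hBS Subgroup.le_normalizer)).trans ha₀S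
  obtain ⟨a, haU, haN⟩ := Cfsg.Agent.S1965.step_X S U B a₀ hfn hU.symm
  obtain ⟨B', hB'⟩ : ∃ B' : Subgroup X, B' = B.map (MulAut.conj g).toMonoidHom := ⟨_, rfl⟩
  have hB'S : B' ≤ (S : Subgroup X) := by
    rw [hB', map_conj_le_iff]; exact hBg
  have hB'U : B'.map (MulAut.conj (a * g⁻¹)).toMonoidHom = U := by
    rw [hB', ← map_conj_mul, inv_mul_cancel_right, haU]
  obtain ⟨a', ha'U, ha'N⟩ := Cfsg.Agent.S1965.step_X S U B' (a * g⁻¹) hfn hB'U
  have hQU : Q ≤ U := by rw [hU]; exact Cfsg.H5.QdF.le_map_conj_of_normal hQB a₀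
  have hQB' : Q ≤ B' := by rw [hB']; exact Cfsg.H5.QdF.le_map_conj_of_normal hQB g
  have hcardB' : Nat.card B' = Nat.card B := by rw [hB', card_map_conj]
  have hlt1 := lt_inf_normalizer_of_lt (S : Subgroup X) B hSp hBlt
  have hB'lt : B' < (S : Subgroup X) := by
    refine lt_of_le_of_ne hB'S ?_
    intro h
    have h1 : Nat.card B = Nat.card (S : Subgroup X) := by rw [← hcardB', h]
    exact hBeq (Subgroup.eq_of_le_of_card_ge hBS h1.ge)
  have hlt2 := lt_inf_normalizer_of_lt (S : Subgroup X) B' hSp hB'lt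
  have hc1 : Nat.card B < Nat.card ((S : Subgroup X) ⊓ Subgroup.normalizer (B : Set X) :
      Subgroup X) := card_lt_card_of_lt hlt1
  have hc2 : Nat.card B' < Nat.card ((S : Subgroup X) ⊓ Subgroup.normalizer (B' : Set X) :
      Subgroup X) := card_lt_card_of_lt hlt2
  have hcS1 : Nat.card ((S : Subgroup X) ⊓ Subgroup.normalizer (B : Set X) : Subgroup X) ≤
      Nat.card (S : Subgroup X) := Subgroup.card_le_of_le inf_le_left
  have hcS2 : Nat.card ((S : Subgroup X) ⊓ Subgroup.normalizer (B' : Set X) : Subgroup X) ≤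
      Nat.card (S : Subgroup X) := Subgroup.card_le_of_le inf_le_left
  have hra := ih _ (by omega) ((S : Subgroup X) ⊓ Subgroup.normalizer (B : Set X)) a
    (hQB.trans hlt1.le) inf_le_left (fun q hq => (haN q hq).1) rfl
  have hra' := ih _ (by omega) ((S : Subgroup X) ⊓ Subgroup.normalizer (B' : Set X)) a'
    (hQB'.trans hlt2.le) inf_le_left (fun q hq => (ha'N q hq).1) rfl
  -- the element `x` of `N_X(U)`
  have hxU : ∀ u ∈ U, (a' * g * a⁻¹) * u * (a' * g * a⁻¹)⁻¹ ∈ U := by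
    intro u hu
    rw [← haU] at hu
    obtain ⟨b, hb, rfl⟩ := hu
    rw [← ha'U]
    refine ⟨g * b * g⁻¹, by rw [hB']; exact conj_mem_map_conj B g hb, ?_⟩
    simp only [MulEquiv.coe_toMonoidHom, MulAut.conj_apply]
    group
  have hxN : a' * g * a⁻¹ ∈ Subgroup.normalizer (U : Set X) :=
    Subgroup.mem_normalizer_fintype hxU
  obtain ⟨n, hnR, hn⟩ := hquot U (a' * g * a⁻¹) hUS (fun u hu => hUS (hxU u hu))
  have hnU : ∀ u ∈ U, n * u * n⁻¹ ∈ U := by
    intro u hu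
    have e1 : n * u * n⁻¹ = ((a' * g * a⁻¹) * u * (a' * g * a⁻¹)⁻¹) *
        (((a' * g * a⁻¹) * u * (a' * g * a⁻¹)⁻¹)⁻¹ * (n * u * n⁻¹)) := by group
    rw [e1]
    exact U.mul_mem (hxU u hu) (hQU (hn u hu))
  have hnN : n ∈ Subgroup.normalizer (U : Set X) := Subgroup.mem_normalizer_fintype hnU
  have htN : n⁻¹ * (a' * g * a⁻¹) ∈ Subgroup.normalizer (U : Set X) :=
    Subgroup.mul_mem _ (Subgroup.inv_mem _ hnN) hxN
  have htQ : ∀ u ∈ U, (n⁻¹ * (a' * g * a⁻¹)) * u * (n⁻¹ * (a' * g * a⁻¹))⁻¹ * u⁻¹ ∈ Q := by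
    intro u hu
    have e1 : (n⁻¹ * (a' * g * a⁻¹)) * u * (n⁻¹ * (a' * g * a⁻¹))⁻¹ * u⁻¹ =
        n⁻¹ * (((a' * g * a⁻¹) * u * (a' * g * a⁻¹)⁻¹) *
          (((a' * g * a⁻¹) * u * (a' * g * a⁻¹)⁻¹)⁻¹ * (n * u * n⁻¹))⁻¹ *
          ((a' * g * a⁻¹) * u * (a' * g * a⁻¹)⁻¹)⁻¹) * n⁻¹⁻¹ := by group
    rw [e1]
    exact hQn.conj_mem _ (hQn.conj_mem _ (Q.inv_mem (hn u hu)) _) _
  obtain ⟨s, hs, hst⟩ := Cfsg.H5.QdF.realize_stab S Q hQp hGC U hfn _ htN htQ
  obtain ⟨hsS, hsN⟩ := Subgroup.mem_inf.1 hs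
  -- `x` is realized on `U`
  have hsU : (fun u => s * u * s⁻¹) '' (U : Set X) = (U : Set X) := by
    rw [← coe_map_conj, (map_conj_eq_self_iff_mem_normalizer U s).2 hsN]
  have hrs : Real (fam 𝓦₀ X) ⊤ (S : Subgroup X) (U : Set X) s := hSreal s hsS U hUS
  have hrns : Real (fam 𝓦₀ X) ⊤ (S : Subgroup X) (U : Set X) (n * s) :=
    Real.trans hrs (by rw [hsU]; exact hnR)
  have hrx : Real (fam 𝓦₀ X) ⊤ (S : Subgroup X) (U : Set X) (a' * g * a⁻¹) := by
    apply hrns.congr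
    intro u hu
    have h2 := hst u hu
    calc a' * g * a⁻¹ * u * (a' * g * a⁻¹)⁻¹
        = n * ((n⁻¹ * (a' * g * a⁻¹)) * u * (n⁻¹ * (a' * g * a⁻¹))⁻¹) * n⁻¹ := by group
      _ = n * (s * u * s⁻¹) * n⁻¹ := by rw [h2]
      _ = n * s * u * (n * s)⁻¹ := by group
  -- assemble
  have hraB : Real (fam 𝓦₀ X) ⊤ (S : Subgroup X) (B : Set X) a := hra.mono hlt1.le
  have haB : (fun b => a * b * a⁻¹) '' (B : Set X) = (U : Set X) := by
    rw [← coe_map_conj, haU]
  have hxUU : (fun u => (a' * g * a⁻¹) * u * (a' * g * a⁻¹)⁻¹) '' (U : Set X) = (U : Set X) := by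
    rw [← coe_map_conj, (map_conj_eq_self_iff_mem_normalizer U _).2 hxN]
  have hra'B : Real (fam 𝓦₀ X) ⊤ (S : Subgroup X) (B' : Set X) a' := hra'.mono hlt2.le
  have ha'B : (fun b => a' * b * a'⁻¹) '' (B' : Set X) = (U : Set X) := by
    rw [← coe_map_conj, ha'U]
  have hra'inv : Real (fam 𝓦₀ X) ⊤ (S : Subgroup X) (U : Set X) a'⁻¹ := by
    have := hra'B.symm
    rwa [ha'B] at this
  have c1 : Real (fam 𝓦₀ X) ⊤ (S : Subgroup X) (B : Set X) ((a' * g * a⁻¹) * a) :=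
    Real.trans hraB (by rw [haB]; exact hrx)
  have hset : (fun b => ((a' * g * a⁻¹) * a) * b * ((a' * g * a⁻¹) * a)⁻¹) '' (B : Set X) =
      (U : Set X) := by
    rw [← lc_lc, haB, hxUU]
  have c2 : Real (fam 𝓦₀ X) ⊤ (S : Subgroup X) (B : Set X) (a'⁻¹ * ((a' * g * a⁻¹) * a)) :=
    Real.trans c1 (by rw [hset]; exact hra'inv)
  have e : a'⁻¹ * ((a' * g * a⁻¹) * a) = g := by group
  rw [e] at c2
  exact c2


/-- the minimal counterexample argument -/
theorem fctl_of_ih (h𝓦 : ∀ W ∈ 𝓦₀, Cfsg.IsCharPFunctor.{u} p W)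
    (ih : IHf.{u} p 𝓦₀ (Nat.card X)) (hyp : Hyp p 𝓦₀ X) (S : Sylow p X) :
    FCtl 𝓦₀ (S : Subgroup X) := by
  have hSp : IsPGroup p (S : Subgroup X) := S.isPGroup'
  haveI hQn : (Cfsg.pCore p X).Normal := Cfsg.H5.pCore_normal p X
  have hQp := Cfsg.H5.pCore_isPGroup p X
  have hQS : Cfsg.pCore p X ≤ S := hQp.le_sylow_of_normal S
  have hSreal := real_of_mem_sylow h𝓦 hyp S
  by_cases hQ : Cfsg.pCore p X = ⊥
  · exact fctl_of_pCore_eq_bot h𝓦 ih hyp S hQ
  obtain ⟨C, hC⟩ : ∃ C : Subgroup X, C = Subgroup.centralizer (Cfsg.pCore p X : Set X) := ⟨_, rfl⟩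
  haveI hCn : C.Normal := by rw [hC]; infer_instance
  obtain ⟨L, hL⟩ : ∃ L : Subgroup X, L = Cfsg.pCore p X ⊔ C := ⟨_, rfl⟩
  haveI hLn : L.Normal := by rw [hL]; infer_instance
  by_cases hN₁ : Subgroup.normalizer (((S : Subgroup X) ⊓ L : Subgroup X) : Set X) = ⊤
  · -- the constrained case
    apply fctl_of_constrained h𝓦 hyp S
    have hS₁n : ((S : Subgroup X) ⊓ L).Normal := Subgroup.normalizer_eq_top_iff.1 hN₁
    have h1 := Cfsg.H5.le_pCore hS₁n (hSp.to_le inf_le_left)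
    refine le_trans ?_ h1
    rw [← hC, hL]
    exact inf_le_inf_left _ le_sup_right
  intro B g hBS hBg
  obtain ⟨l, hl, n, hn, rfl, hlB⟩ := Cfsg.H5.QdF.frattini_fusion S L B hBS g hBg
  have hlmem : l ∈ ((Cfsg.pCore p X ⊔ C : Subgroup X) : Set X) := by rw [← hL]; exact hl
  rw [Subgroup.mul_normal] at hlmem
  obtain ⟨q, hq, c, hc, rfl⟩ := hlmem
  have hcB : ∀ b ∈ B, c * b * c⁻¹ ∈ (S : Subgroup X) := by
    intro b hb
    have h1 := hlB b hb
    have e1 : c * b * c⁻¹ = q⁻¹ * (q * c * b * (q * c)⁻¹) * q := by group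
    rw [e1]
    exact Subgroup.mul_mem _ (Subgroup.mul_mem _ (Subgroup.inv_mem _ (hQS hq)) h1) (hQS hq)
  have hSN₁ : (S : Subgroup X) ≤
      Subgroup.normalizer (((S : Subgroup X) ⊓ L : Subgroup X) : Set X) := by
    refine le_trans ?_ (Cfsg.H5.ZJ.normalizer_inf_le _ _)
    refine le_inf Subgroup.le_normalizer ?_
    rw [Subgroup.normalizer_eq_top]; exact le_top
  -- realize `n`
  have hnR := ih_subgroup h𝓦 ih hyp S _ hN₁ hSN₁
    (B.map (MulAut.conj (q * c)).toMonoidHom) n hn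
    (by rw [map_conj_le_iff]; exact hlB)
    (by
      rintro _ ⟨b, hb, rfl⟩
      have h1 := hBg b hb
      have e1 : n * (MulAut.conj (q * c)).toMonoidHom b * n⁻¹ =
          n * (q * c) * b * (n * (q * c))⁻¹ := by
        simp only [MulEquiv.coe_toMonoidHom, MulAut.conj_apply]
        group
      rw [e1]; exact h1)
  rw [coe_map_conj] at hnR
  -- realize `q`
  have hqR := hSreal q (hQS hq) (B.map (MulAut.conj c).toMonoidHom)
    (by rw [map_conj_le_iff]; exact hcB)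
  rw [coe_map_conj] at hqR
  -- realize `c`
  have hcR : Real (fam 𝓦₀ X) ⊤ (S : Subgroup X) (B : Set X) c := by
    by_cases hG₁ : (S : Subgroup X) ⊔ C = ⊤
    swap
    · exact ih_subgroup h𝓦 ih hyp S _ hG₁ le_sup_left B c (Subgroup.mem_sup_right hc) hBS hcB
    -- Step C
    have hGC : ∀ x : X, ∃ a : ℕ, x ^ (p ^ a) ∈ Subgroup.centralizer (Cfsg.pCore p X : Set X) := by
      intro x
      have hx : x ∈ (((S : Subgroup X) ⊔ C : Subgroup X) : Set X) := by rw [hG₁]; trivial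
      rw [Subgroup.mul_normal] at hx
      obtain ⟨s, hs, c', hc', rfl⟩ := hx
      obtain ⟨a, ha⟩ := hSp ⟨s, hs⟩
      have ha' : s ^ (p ^ a) = 1 := by simpa using congrArg Subtype.val ha
      refine ⟨a, ?_⟩
      rw [← hC, ← QuotientGroup.eq_one_iff (N := C), QuotientGroup.mk_pow, QuotientGroup.mk_mul,
        (QuotientGroup.eq_one_iff c').2 hc', mul_one, ← QuotientGroup.mk_pow, ha']
      rfl
    by_cases hSQ : (S : Subgroup X) ≤ Cfsg.pCore p X
    · -- `S` is normal, `c` centralizes `S`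
      refine ⟨1, Rz.base _ hBS, ?_⟩
      intro b hb
      have hcc : c ∈ Subgroup.centralizer (Cfsg.pCore p X : Set X) := by rw [← hC]; exact hc
      have h1 := Subgroup.mem_centralizer_iff.1 hcc b (hSQ (hBS hb))
      calc (1 : X) * b * 1⁻¹ = b * c * c⁻¹ := by group
        _ = c * b * c⁻¹ := by rw [h1]
    have hNS : ∀ g ∈ Subgroup.normalizer ((S : Subgroup X) : Set X),
        Real (fam 𝓦₀ X) ⊤ (S : Subgroup X) ((S : Subgroup X) : Set X) g := by
      intro g hg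
      have hNtop : Subgroup.normalizer ((S : Subgroup X) : Set X) ≠ ⊤ := by
        intro h
        apply hSQ
        exact Cfsg.H5.le_pCore (Subgroup.normalizer_eq_top_iff.1 h) hSp
      exact ih_subgroup h𝓦 ih hyp S _ hNtop Subgroup.le_normalizer (S : Subgroup X) g hg le_rfl
        (fun b hb => (Subgroup.mem_normalizer_iff.1 hg b).1 hb)
    have hquot := quot_step h𝓦 ih hyp S hQ hSQ
    have hBQ : ∀ x ∈ B ⊔ Cfsg.pCore p X, c * x * c⁻¹ ∈ (S : Subgroup X) := by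
      have hle : B ⊔ Cfsg.pCore p X ≤ (S : Subgroup X).comap (MulAut.conj c).toMonoidHom := by
        apply sup_le
        · intro b hb
          rw [Subgroup.mem_comap]
          simpa [MulAut.conj_apply] using hcB b hb
        · intro x hx
          rw [Subgroup.mem_comap]
          simpa [MulAut.conj_apply] using hQS (hQn.conj_mem x hx c)
      intro x hx
      have := hle hx
      rw [Subgroup.mem_comap] at this
      simpa [MulAut.conj_apply] using this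
    have h1 := stepC S (Cfsg.pCore p X) hQp hGC hSreal hNS hquot _
      (B ⊔ Cfsg.pCore p X) c le_sup_right (sup_le hBS hQS) hBQ rfl
    exact h1.mono (le_sup_left : B ≤ B ⊔ Cfsg.pCore p X)
  -- compose
  have c1 := Real.trans hcR hqR
  exact Real.trans c1 hnR

/-- induction form -/
theorem fctl_all (p : ℕ) [Fact p.Prime] (𝓦₀ : Set (∀ (Q : Type u) [Group Q], Subgroup Q))
    (h𝓦 : ∀ W ∈ 𝓦₀, Cfsg.IsCharPFunctor.{u} p W) : ∀ n : ℕ, IHf.{u} p 𝓦₀ n := by
  intro n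
  induction n using Nat.strong_induction_on with
  | _ n ih =>
  intro Y _ _ hcard hyp T
  exact fctl_of_ih h𝓦 (ih (Nat.card Y) hcard) hyp T

/-- **Glauberman's local-to-global theorem** for a set of isomorphism-invariant functors: if the set
controls strong fusion in every section in which `O_p` contains its centralizer, it controls
strong fusion in the group. -/
theorem fctl_of_hyp (h𝓦 : ∀ W ∈ 𝓦₀, Cfsg.IsCharPFunctor.{u} p W) (hyp : Hyp p 𝓦₀ X)
    (S : Sylow p X) : FCtl 𝓦₀ (S : Subgroup X) :=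
  fctl_all.{u} p 𝓦₀ h𝓦 (Nat.card X + 1) X (Nat.lt_succ_self _) hyp S

/-- set form -/
theorem real_of_hyp (h𝓦 : ∀ W ∈ 𝓦₀, Cfsg.IsCharPFunctor.{u} p W) (hyp : Hyp p 𝓦₀ X)
    (S : Sylow p X) (A : Set X) (g : X) (hA : A ⊆ (S : Subgroup X))
    (hAg : (fun a => g * a * g⁻¹) '' A ⊆ (S : Subgroup X)) :
    Real (fam 𝓦₀ X) ⊤ (S : Subgroup X) A g := by
  have h1 := fctl_of_hyp h𝓦 hyp S (Subgroup.closure A) g ((Subgroup.closure_le _).2 hA)
    (Cfsg.H5.QdF.conj_closure_mem hAg)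
  exact h1.mono Subgroup.subset_closure

theorem familyControls_of_hyp (h𝓦 : ∀ W ∈ 𝓦₀, Cfsg.IsCharPFunctor.{u} p W) (hyp : Hyp p 𝓦₀ X) :
    Cfsg.FamilyControlsStrongFusionIn p (fam 𝓦₀ X) ⊤ := by
  obtain ⟨S⟩ : Nonempty (Sylow p X) := inferInstance
  rw [fam_iff]
  refine ⟨(S : Subgroup X), le_top, S.isPGroup', ?_, ?_⟩
  · rw [Subgroup.relIndex_top_right]; exact S.not_dvd_index
  · intro A h _ hA hAh
    exact real_of_hyp h𝓦 hyp S A h hA hAh

end steps

end Cfsg.H5.FF
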