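import Mathlib
import Cfsg.Agent.H5.FamFusion3
import Cfsg.Agent.Lib.Helper10.Transport

/-!
# Families of isomorphism-invariant functors: the hypotheses on sections `K / R`
-/

set_option autoImplicit false
set_option linter.style.haveILetI false
set_option linter.unusedSectionVars false

namespace Cfsg.H5.FF

open Cfsg Cfsg.Agent.S1959 Cfsg.Agent.Lib.Helper13

universe u

section

variable {p : ℕ} [Fact p.Prime] {𝓦₀ : Set (∀ (Q : Type u) [Group Q], Subgroup Q)}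

/-- `C(O_p) ≤ O_p` is invariant under isomorphisms -/
theorem constrained_of_equiv {Y Z : Type*} [Group Y] [Group Z] (e : Y ≃* Z)
    (hc : Subgroup.centralizer (Cfsg.pCore p Z : Set Z) ≤ Cfsg.pCore p Z) :
    Subgroup.centralizer (Cfsg.pCore p Y : Set Y) ≤ Cfsg.pCore p Y := by
  have hmap := Cfsg.Agent.Lib.Helper10.map_pCore e p
  intro x hx
  have h1 : e x ∈ Subgroup.centralizer (Cfsg.pCore p Z : Set Z) := by
    rw [Subgroup.mem_centralizer_iff]
    intro z hz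
    rw [SetLike.mem_coe, ← hmap] at hz
    obtain ⟨y, hy, rfl⟩ := hz
    have := Subgroup.mem_centralizer_iff.1 hx y hy
    show e y * e x = e x * e y
    rw [← map_mul, ← map_mul, this]
  have h2 := hc h1
  rw [← hmap] at h2
  obtain ⟨y, hy, hyx⟩ := h2
  have : y = x := e.injective hyx
  rw [← this]; exact hy

/-- control in an isomorphic copy -/
theorem fctl_of_equiv (h𝓦 : ∀ W ∈ 𝓦₀, Cfsg.IsCharPFunctor.{u} p W) {Y Z : Type u} [Group Y]
    [Group Z] [Finite Y] (e : Y ≃* Z) (hfam : Cfsg.FamilyControlsStrongFusionIn p (fam 𝓦₀ Y) ⊤)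
    (T : Sylow p Z) : FCtl 𝓦₀ (T : Subgroup Z) := by
  haveI : Finite Z := Finite.of_equiv Y e.toEquiv
  obtain ⟨T₀, hT₀⟩ : ∃ T₀ : Subgroup Y, T₀ = (T : Subgroup Z).map e.symm.toMonoidHom := ⟨_, rfl⟩
  have hT₀p : IsPGroup p T₀ := by rw [hT₀]; exact T.isPGroup'.map _
  have hT₀i : ¬ p ∣ T₀.relIndex ⊤ := by
    rw [Subgroup.relIndex_top_right, hT₀]
    have : ((T : Subgroup Z).map e.symm.toMonoidHom).index = (T : Subgroup Z).index :=
      Subgroup.index_map_equiv (T : Subgroup Z) e.symm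
    rw [this]
    exact T.not_dvd_index
  have hT₀map : T₀.map e.toMonoidHom = (T : Subgroup Z) := by
    rw [hT₀]
    exact Cfsg.Agent.Lib.Helper10.map_map_symm e _
  have hreal := fam_any_sylow (fam_conj h𝓦 Y) ⊤ hfam T₀ le_top hT₀p hT₀i
  intro B g hBT hBg
  have h1 := hreal (e.symm '' (B : Set Z)) (e.symm g) (Subgroup.mem_top _)
    (by
      rintro _ ⟨b, hb, rfl⟩
      rw [hT₀]
      exact Subgroup.mem_map_of_mem e.symm.toMonoidHom (hBT hb))
    (by
      rintro _ ⟨_, ⟨b, hb, rfl⟩, rfl⟩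
      rw [hT₀]
      refine ⟨g * b * g⁻¹, hBg b hb, ?_⟩
      simp)
  have h2 := Real.map_injective h𝓦 e.toMonoidHom e.injective hT₀p h1
  rw [hT₀map] at h2
  have h3 : e.toMonoidHom '' (e.symm '' (B : Set Z)) = (B : Set Z) := by
    rw [Set.image_image]
    simp
  have h4 : e.toMonoidHom (e.symm g) = g := e.apply_symm_apply g
  rw [h3, h4] at h2
  exact Real.mono_H le_top h2

/-- the hypothesis `Hyp` from control in the constrained sections `K / R` -/
theorem hyp_of_sections (h𝓦 : ∀ W ∈ 𝓦₀, Cfsg.IsCharPFunctor.{u} p W) {G : Type u} [Group G]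
    [Finite G]
    (hloc : ∀ (K R : Subgroup G) [hR : (R.subgroupOf K).Normal],
      Subgroup.centralizer ((Cfsg.pCore p (↥K ⧸ R.subgroupOf K) : Subgroup (↥K ⧸ R.subgroupOf K)) :
        Set (↥K ⧸ R.subgroupOf K)) ≤ Cfsg.pCore p (↥K ⧸ R.subgroupOf K) →
      Cfsg.FamilyControlsStrongFusionIn p (fam 𝓦₀ (↥K ⧸ R.subgroupOf K)) ⊤) :
    Hyp p 𝓦₀ G := by
  intro Y _ _ hinv hc T
  obtain ⟨K, R, hR, ⟨e⟩⟩ := hinv
  exact fctl_of_equiv h𝓦 e (hloc K R (constrained_of_equiv e hc)) T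

/-- the conclusion for the sections `K / R` -/
theorem familyControls_section (h𝓦 : ∀ W ∈ 𝓦₀, Cfsg.IsCharPFunctor.{u} p W) {G : Type u}
    [Group G] [Finite G] (hyp : Hyp p 𝓦₀ G) (K R : Subgroup G) [hR : (R.subgroupOf K).Normal] :
    Cfsg.FamilyControlsStrongFusionIn p (fam 𝓦₀ (↥K ⧸ R.subgroupOf K)) ⊤ :=
  familyControls_of_hyp h𝓦 (hyp_of_involves hyp ⟨K, R, hR, ⟨MulEquiv.refl _⟩⟩)

end

section single

variable {X : Type*} [Group X]

/-- a chain all of whose steps lie in a subgroup `N` ends in `N` -/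
theorem Rz.mem_of_le {𝓦 : Set (Subgroup X → Subgroup X)} {H T N : Subgroup X}
    (hN : ∀ W ∈ 𝓦, Subgroup.normalizer ((W T : Subgroup X) : Set X) ≤ N)
    {A : Set X} {g : X} (h : Rz 𝓦 H T A g) : g ∈ N := by
  induction h with
  | base _ => exact N.one_mem
  | step g d _ hd _ ih =>
    obtain ⟨W, hW, hdW⟩ := hd
    exact N.mul_mem (hN W hW (Subgroup.mem_inf.1 hdW).2) ih

end single

section two

variable {p : ℕ} [Fact p.Prime] {X : Type*} [Group X] [Finite X]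

/-- a factorization `X = N(W₁ T) N(W₂ T)` gives control of strong fusion by `{W₁, W₂}` -/
theorem real_of_factorization (T : Sylow p X) (W₁ W₂ : Subgroup X → Subgroup X)
    (hT₁ : (T : Subgroup X) ≤ Subgroup.normalizer ((W₁ (T : Subgroup X) : Subgroup X) : Set X))
    (hT₂ : (T : Subgroup X) ≤ Subgroup.normalizer ((W₂ (T : Subgroup X) : Subgroup X) : Set X))
    (hfac : ∀ x : X, ∃ a ∈ Subgroup.normalizer ((W₁ (T : Subgroup X) : Subgroup X) : Set X),
      ∃ b ∈ Subgroup.normalizer ((W₂ (T : Subgroup X) : Subgroup X) : Set X), x = a * b)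
    (A : Set X) (h : X) (hA : A ⊆ (T : Subgroup X))
    (hAh : (fun a => h * a * h⁻¹) '' A ⊆ (T : Subgroup X)) :
    Real ({W₁, W₂} : Set (Subgroup X → Subgroup X)) ⊤ (T : Subgroup X) A h := by
  obtain ⟨a, ha, b, hb, rfl⟩ := hfac h
  obtain ⟨N₁, hN₁⟩ : ∃ N₁ : Subgroup X,
      N₁ = Subgroup.normalizer ((W₁ (T : Subgroup X) : Subgroup X) : Set X) := ⟨_, rfl⟩
  obtain ⟨N₂, hN₂⟩ : ∃ N₂ : Subgroup X,
      N₂ = Subgroup.normalizer ((W₂ (T : Subgroup X) : Subgroup X) : Set X) := ⟨_, rfl⟩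
  rw [← hN₁] at ha hT₁
  rw [← hN₂] at hb hT₂
  have hTp : IsPGroup p (T : Subgroup X) := T.isPGroup'
  obtain ⟨P, hP⟩ : ∃ P : Subgroup X,
      P = (Subgroup.closure A).map (MulAut.conj b).toMonoidHom := ⟨_, rfl⟩
  have hclT : Subgroup.closure A ≤ (T : Subgroup X) := (Subgroup.closure_le _).2 hA
  have hPp : IsPGroup p P := by rw [hP]; exact (hTp.to_le hclT).map _
  have hclh := Cfsg.H5.QdF.conj_closure_mem hAh
  have hPD : P ≤ N₁ ⊓ N₂ := by
    rw [hP, map_conj_le_iff]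
    intro x hx
    refine Subgroup.mem_inf.2 ⟨?_, ?_⟩
    · have h1 := hT₁ (hclh x hx)
      have e1 : b * x * b⁻¹ = a⁻¹ * (a * b * x * (a * b)⁻¹) * a := by group
      rw [e1]
      exact N₁.mul_mem (N₁.mul_mem (N₁.inv_mem ha) h1) ha
    · exact N₂.mul_mem (N₂.mul_mem hb (hT₂ (hclT hx))) (N₂.inv_mem hb)
  have hTD : (T : Subgroup X) ≤ N₁ ⊓ N₂ := le_inf hT₁ hT₂
  have hidx : ¬ p ∣ (T : Subgroup X).relIndex (N₁ ⊓ N₂) := by
    intro hdvd
    apply T.not_dvd_index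
    rw [← Subgroup.relIndex_top_right]
    have := Subgroup.relIndex_mul_relIndex (T : Subgroup X) (N₁ ⊓ N₂) ⊤ hTD le_top
    rw [← this]
    exact Dvd.dvd.mul_right hdvd _
  obtain ⟨d, hdD, hdP⟩ := exists_conj_le_of_relIndex (N₁ ⊓ N₂) (T : Subgroup X) P hTp hidx hPD hPp
  obtain ⟨hd1, hd2⟩ := Subgroup.mem_inf.1 hdD
  have hstep1 : (fun x => (d * b) * x * (d * b)⁻¹) '' A ⊆ (T : Subgroup X) := by
    rintro _ ⟨x, hx, rfl⟩
    have h1 := hdP _ (by rw [hP]; exact conj_mem_map_conj _ b (Subgroup.subset_closure hx))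
    have e1 : d * b * x * (d * b)⁻¹ = d * (b * x * b⁻¹) * d⁻¹ := by group
    show d * b * x * (d * b)⁻¹ ∈ (T : Subgroup X)
    rw [e1]; exact h1
  have r1 : Rz ({W₁, W₂} : Set (Subgroup X → Subgroup X)) ⊤ (T : Subgroup X) A (d * b) := by
    apply Rz.single hA ⟨W₂, by simp, Subgroup.mem_inf.2 ⟨Subgroup.mem_top _, ?_⟩⟩ hstep1
    rw [← hN₂]; exact N₂.mul_mem hd2 hb
  have e : a * b = (a * d⁻¹) * (d * b) := by group
  have r2 : Rz ({W₁, W₂} : Set (Subgroup X → Subgroup X)) ⊤ (T : Subgroup X) A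
      ((a * d⁻¹) * (d * b)) := by
    apply Rz.step A (d * b) (a * d⁻¹) r1 ⟨W₁, by simp, Subgroup.mem_inf.2 ⟨Subgroup.mem_top _, ?_⟩⟩
    · rw [← e]; exact hAh
    · rw [← hN₁]; exact N₁.mul_mem ha (N₁.inv_mem hd1)
  rw [← e] at r2
  exact ⟨a * b, r2, fun _ _ => rfl⟩

end two

end Cfsg.H5.FF
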