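import Mathlib

set_option autoImplicit false

namespace Cfsg.H5

open scoped BigOperators Pointwise

/-- A Frobenius group `F = N ⋊ H` acting on a finite abelian group `V` of order prime to `|N|`
such that `N` and `H` both act without nontrivial fixed points: then `V` is trivial. -/
theorem frobenius_fixed_points {F : Type*} [Group F] [Finite F] {V : Type*} [CommGroup V]
    [Finite V] (c : F →* MulAut V) (H N : Subgroup F) (hdisj : N ⊓ H = ⊥)
    (hcard : Nat.card N * Nat.card H = Nat.card F)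
    (hfrob : ∀ g : F, g ∉ H → H ⊓ (MulAut.conj g • H) = ⊥)
    (hcop : (Nat.card V).Coprime (Nat.card N))
    (hCN : ∀ v : V, (∀ k ∈ N, c k v = v) → v = 1)
    (hCH : ∀ v : V, (∀ h ∈ H, c h v = v) → v = 1) (v : V) : v = 1 := by
  classical
  have : Fintype F := Fintype.ofFinite F
  -- trace over a subgroup is fixed
  have hfix : ∀ (X : Subgroup F) (w : V) (x : F), x ∈ X →
      c x (∏ g : X, c (g : F) w) = ∏ g : X, c (g : F) w := by
    intro X w x hx
    rw [map_prod]
    apply Fintype.prod_equiv (Equiv.mulLeft (⟨x, hx⟩ : X))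
    intro g
    show c x (c g w) = c ((⟨x, hx⟩ * g : X) : F) w
    rw [Subgroup.coe_mul, map_mul]
    rfl
  have hTH : ∀ w : V, ∏ h : H, c (h : F) w = 1 := fun w => hCH _ (fun h hh => hfix H w h hh)
  have hTN : ∏ k : N, c (k : F) v = 1 := hCN _ (fun k hk => hfix N v k hk)
  have hTF : ∏ g : F, c g v = 1 := by
    apply hCN
    intro k _
    rw [map_prod]
    apply Fintype.prod_equiv (Equiv.mulLeft k)
    intro g
    show c k (c g v) = c (k * g) v
    rw [map_mul]
    rfl
  -- the inner products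
  have hinner : ∀ x : F, ∏ h : {h : H // h ≠ 1}, c (x * (h : H) * x⁻¹) v = v⁻¹ := by
    intro x
    have h1 : ∀ h : {h : H // h ≠ 1}, c (x * (h : H) * x⁻¹) v = c x (c ((h : H) : F) (c x⁻¹ v)) := by
      intro h
      rw [map_mul, map_mul]
      rfl
    rw [Fintype.prod_congr _ _ h1, ← map_prod]
    have h2 := hTH (c x⁻¹ v)
    rw [Fintype.prod_eq_mul_prod_subtype_ne _ (1 : H)] at h2
    have h3 : c ((1 : H) : F) (c x⁻¹ v) = c x⁻¹ v := by
      rw [Subgroup.coe_one, map_one]
      rfl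
    rw [h3] at h2
    have h4 : ∏ h : {h : H // h ≠ 1}, c ((h : H) : F) (c x⁻¹ v) = (c x⁻¹ v)⁻¹ :=
      eq_inv_of_mul_eq_one_right h2
    rw [h4, map_inv]
    congr 1
    have : c x (c x⁻¹ v) = (c x * c x⁻¹) v := rfl
    rw [this, ← map_mul, mul_inv_cancel, map_one]
    rfl
  -- the bijection
  have hΨmem : ∀ (x : N) (h : {h : H // h ≠ 1}), (x : F) * ((h : H) : F) * (x : F)⁻¹ ∉ N := by
    intro x h hmem
    have h1 : ((h : H) : F) ∈ N := by
      have := N.mul_mem (N.mul_mem (N.inv_mem x.2) hmem) x.2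
      have e : (x : F)⁻¹ * ((x : F) * ((h : H) : F) * (x : F)⁻¹) * (x : F) = ((h : H) : F) := by
        group
      rwa [e] at this
    have h2 : ((h : H) : F) ∈ N ⊓ H := ⟨h1, h.1.2⟩
    rw [hdisj, Subgroup.mem_bot] at h2
    exact h.2 (Subtype.ext h2)
  let Ψ : N × {h : H // h ≠ 1} → {g : F // g ∉ N} :=
    fun p => ⟨(p.1 : F) * ((p.2 : H) : F) * (p.1 : F)⁻¹, hΨmem p.1 p.2⟩
  have hΨinj : Function.Injective Ψ := by
    rintro ⟨x, h⟩ ⟨y, h'⟩ hxy
    have hxy' : (x : F) * ((h : H) : F) * (x : F)⁻¹ = (y : F) * ((h' : H) : F) * (y : F)⁻¹ :=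
      congrArg Subtype.val hxy
    have hg : ((h : H) : F) = ((x : F)⁻¹ * y) * ((h' : H) : F) * ((x : F)⁻¹ * y)⁻¹ := by
      have : ((h : H) : F) = (x : F)⁻¹ * ((x : F) * ((h : H) : F) * (x : F)⁻¹) * x := by group
      rw [this, hxy']
      group
    have hgH : (x : F)⁻¹ * y ∈ H := by
      by_contra hnot
      have h1 := hfrob _ hnot
      have h2 : ((h : H) : F) ∈ H ⊓ (MulAut.conj ((x : F)⁻¹ * y) • H) := by
        refine ⟨h.1.2, ?_⟩
        show ((h : H) : F) ∈ MulAut.conj ((x : F)⁻¹ * y) • H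
        rw [Subgroup.mem_pointwise_smul_iff_inv_smul_mem]
        rw [hg]
        simp only [MulAut.smul_def, MulAut.inv_apply, MulAut.conj_symm_apply]
        have e : ((x : F)⁻¹ * y)⁻¹ * (((x : F)⁻¹ * y) * ((h' : H) : F) * ((x : F)⁻¹ * y)⁻¹) *
            ((x : F)⁻¹ * y) = ((h' : H) : F) := by group
        rw [e]
        exact h'.1.2
      rw [h1, Subgroup.mem_bot] at h2
      exact h.2 (Subtype.ext h2)
    have hgN : (x : F)⁻¹ * y ∈ N := N.mul_mem (N.inv_mem x.2) y.2
    have hg1 : (x : F)⁻¹ * y = 1 := by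
      have : (x : F)⁻¹ * y ∈ N ⊓ H := ⟨hgN, hgH⟩
      rwa [hdisj, Subgroup.mem_bot] at this
    have hxy1 : (x : F) = y := by
      have := inv_mul_eq_one.mp hg1
      exact this
    have hx : x = y := Subtype.ext hxy1
    subst hx
    have hh : ((h : H) : F) = ((h' : H) : F) := by
      rw [hg, hg1]
      group
    have : h = h' := Subtype.ext (Subtype.ext hh)
    rw [this]
  have hΨbij : Function.Bijective Ψ := by
    rw [Nat.bijective_iff_injective_and_card]
    refine ⟨hΨinj, ?_⟩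
    rw [Nat.card_prod]
    have h1 : Nat.card {h : H // h ≠ 1} + 1 = Nat.card H := by
      rw [← Nat.card_congr (Equiv.optionSubtypeNe (1 : H)), Finite.card_option]
    have h2 : Nat.card {g : F // g ∉ N} + Nat.card N = Nat.card F := by
      have := Fintype.card_subtype_compl (fun g : F => g ∈ N)
      rw [Nat.card_eq_fintype_card, Nat.card_eq_fintype_card, Nat.card_eq_fintype_card, this]
      have hle : Fintype.card {x : F // x ∈ N} ≤ Fintype.card F := Fintype.card_subtype_le _
      have : Fintype.card N = Fintype.card {x : F // x ∈ N} := Fintype.card_congr (Equiv.refl _)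
      omega
    have h3 : Nat.card N * (Nat.card {h : H // h ≠ 1} + 1) =
        Nat.card {g : F // g ∉ N} + Nat.card N := by
      rw [h1, hcard, h2]
    rw [Nat.mul_add, Nat.mul_one] at h3
    omega
  have hsplit := Fintype.prod_subtype_mul_prod_subtype (fun g : F => g ∈ N) (fun g => c g v)
  rw [hTF] at hsplit
  have hN1 : ∏ i : {x : F // x ∈ N}, c (i : F) v = 1 := by
    convert hTN
  rw [hN1, one_mul] at hsplit
  have hcompl : ∏ i : {x : F // x ∉ N}, c (i : F) v = (v⁻¹) ^ Nat.card N := by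
    rw [← Fintype.prod_bijective Ψ hΨbij (fun p => c ((p.1 : F) * ((p.2 : H) : F) * (p.1 : F)⁻¹) v)
      (fun g => c (g : F) v) (fun _ => rfl)]
    rw [Fintype.prod_prod_type]
    have : ∀ x : N, ∏ h : {h : H // h ≠ 1}, c ((x : F) * ((h : H) : F) * (x : F)⁻¹) v = v⁻¹ :=
      fun x => hinner x
    rw [Fintype.prod_congr _ _ this, Finset.prod_const, Finset.card_univ, Nat.card_eq_fintype_card]
  rw [hcompl] at hsplit
  have hv : v ^ Nat.card N = 1 := by
    rw [inv_pow, inv_eq_one] at hsplit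
    exact hsplit
  have h1 : orderOf v ∣ Nat.card N := orderOf_dvd_of_pow_eq_one hv
  have h2 : orderOf v ∣ Nat.card V := orderOf_dvd_natCard v
  have h3 : orderOf v ∣ 1 := by
    have := Nat.dvd_gcd h2 h1
    rwa [Nat.Coprime.gcd_eq_one hcop] at this
  exact orderOf_eq_one_iff.mp (Nat.dvd_one.mp h3)

end Cfsg.H5
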