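import Mathlib
import Cfsg.Prelude
import Cfsg.Agent.H5.ZJMain
import Cfsg.Agent.H5.ZJMap

set_option autoImplicit false

/-! The ZJ-theorem for the **full** centre of `J e P` (for instance the full centre of the
subgroup generated by the elementary abelian subgroups of largest order, `e = p`).

The proof follows the induction of `Cfsg.H5.ZJ.inf_normal`, applying the replacement theorem to
`Ω₁(B)` instead of `B`. -/

namespace Cfsg.H5.FZ

open scoped commutatorElement
open Cfsg.H5.ZJ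

section defs

variable {G : Type*} [Group G]

/-- the full centre of `J e P` -/
def Zf (e : ℕ) (P : Subgroup G) : Subgroup G := Zc 0 (J e P)

theorem mem_Zf {e : ℕ} {P : Subgroup G} {z : G} :
    z ∈ Zf e P ↔ z ∈ J e P ∧ ∀ x ∈ J e P, x * z = z * x := by
  unfold Zf
  rw [mem_Zc]
  constructor
  · rintro ⟨h1, h2, -⟩
    exact ⟨h1, h2⟩
  · rintro ⟨h1, h2⟩
    exact ⟨h1, h2, pow_zero z⟩

theorem Zf_le_J {e : ℕ} {P : Subgroup G} : Zf e P ≤ J e P := Zc_le

theorem Zf_le {e : ℕ} {P : Subgroup G} : Zf e P ≤ P := Zc_le.trans J_le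

theorem Zf_comm {e : ℕ} {P : Subgroup G} {x y : G} (hx : x ∈ Zf e P) (hy : y ∈ Zf e P) :
    x * y = y * x := (good_Zc 0 _).1 x hx y hy

theorem Z_le_Zf {e : ℕ} {P : Subgroup G} : Z e P ≤ Zf e P :=
  fun _ hz => mem_Zf.2 ⟨hz.1, hz.2.1⟩

theorem mem_Z_of_mem_Zf {e : ℕ} {P : Subgroup G} {z : G} (hz : z ∈ Zf e P) (hze : z ^ e = 1) :
    z ∈ Z e P := ⟨(mem_Zf.1 hz).1, (mem_Zf.1 hz).2, hze⟩

theorem Zf_eq_inf (e : ℕ) (P : Subgroup G) :
    Zf e P = J e P ⊓ Subgroup.centralizer (J e P : Set G) := by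
  ext z
  rw [mem_Zf, Subgroup.mem_inf, Subgroup.mem_centralizer_iff]
  rfl

theorem Zf_map {e : ℕ} (P : Subgroup G) (φ : G ≃* G) :
    (Zf e P).map φ.toMonoidHom = Zf e (P.map φ.toMonoidHom) := by
  unfold Zf
  rw [Zc_map, J_map]

theorem Zf_map_hom {H : Type*} [Group H] {e : ℕ} {f : G →* H} {P : Subgroup G}
    (hinj : P ⊓ f.ker = ⊥) : (Zf e P).map f = Zf e (P.map f) := by
  unfold Zf
  have hJ : J e P ⊓ f.ker = ⊥ := by
    rw [eq_bot_iff, ← hinj]
    exact inf_le_inf_right _ J_le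
  rw [Zc_map_hom hJ, J_map_hom hinj]

/-- the normalizer of `R` normalizes `Zf e R` -/
theorem normalizer_le_normalizer_Zf {e : ℕ} (R : Subgroup G) :
    Subgroup.normalizer (R : Set G) ≤ Subgroup.normalizer (Zf e R : Set G) := by
  intro g hg
  rw [Subgroup.mem_normalizer_iff_map_conj_eq] at hg ⊢
  have := Zf_map (e := e) R (MulAut.conj g)
  rw [show R.map (MulAut.conj g).toMonoidHom = R from hg] at this
  exact this

/-- the normalizer of `R` normalizes `J e R` -/
theorem normalizer_le_normalizer_J {e : ℕ} (R : Subgroup G) :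
    Subgroup.normalizer (R : Set G) ≤ Subgroup.normalizer (J e R : Set G) := by
  intro g hg
  rw [Subgroup.mem_normalizer_iff_map_conj_eq] at hg ⊢
  have := J_map (e := e) R (MulAut.conj g)
  rw [show R.map (MulAut.conj g).toMonoidHom = R from hg] at this
  exact this

theorem J_eq_of_J_le [Finite G] {e : ℕ} {P R : Subgroup G} (hRP : R ≤ P)
    (hJ : J e P ≤ R) : J e R = J e P := by
  obtain ⟨A₀, hA₀⟩ := fam_nonempty e P
  have h1 : fam e R = fam e P := by
    apply Set.Subset.antisymm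
    · exact fam_subset_of_le hRP hA₀ ((le_J hA₀).trans hJ)
    · intro A hA
      exact mem_fam_of_le hRP hA ((le_J hA).trans hJ)
  unfold J
  rw [h1]

theorem Zf_eq_of_J_le [Finite G] {e : ℕ} {P R : Subgroup G} (hRP : R ≤ P)
    (hJ : J e P ≤ R) : Zf e R = Zf e P := by
  unfold Zf
  rw [J_eq_of_J_le hRP hJ]

/-- an element of `P` of order dividing `e` centralizing a member of the family lies in it -/
theorem mem_of_commute_of_mem_fam [Finite G] {e : ℕ} {P A : Subgroup G} (hA : A ∈ fam e P)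
    {b : G} (hbP : b ∈ P) (hbe : b ^ e = 1) (hc : ∀ a ∈ A, a * b = b * a) : b ∈ A := by
  have hgz : Good e (Subgroup.zpowers b) := by
    refine ⟨fun x hx y hy => ?_, fun a ha => ?_⟩
    · obtain ⟨i, rfl⟩ := Subgroup.mem_zpowers_iff.1 hx
      obtain ⟨j, rfl⟩ := Subgroup.mem_zpowers_iff.1 hy
      exact ((Commute.refl b).zpow_zpow i j).eq
    · obtain ⟨i, rfl⟩ := Subgroup.mem_zpowers_iff.1 ha
      rw [← zpow_natCast, ← zpow_mul, mul_comm, zpow_mul, zpow_natCast, hbe, one_zpow]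
  have hgood : Good e (A ⊔ Subgroup.zpowers b) := by
    apply good_sup hA.2.1 hgz
    intro a ha x hx
    obtain ⟨i, rfl⟩ := Subgroup.mem_zpowers_iff.1 hx
    have h1 : Commute a b := hc a ha
    exact (h1.zpow_right i).eq
  have hle : A ⊔ Subgroup.zpowers b ≤ P := sup_le hA.1 (Subgroup.zpowers_le.2 hbP)
  have hcard := hA.2.2 _ hle hgood
  have heq : A = A ⊔ Subgroup.zpowers b := Subgroup.eq_of_le_of_card_ge le_sup_left hcard
  rw [heq]
  exact Subgroup.mem_sup_right (Subgroup.mem_zpowers b)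

end defs

section omega

variable {G : Type*} [Group G]

/-- the subgroup generated by the elements of `B` of order dividing `p` -/
def Om (p : ℕ) (B : Subgroup G) : Subgroup G := Subgroup.closure {b | b ∈ B ∧ b ^ p = 1}

theorem Om_le (p : ℕ) (B : Subgroup G) : Om p B ≤ B :=
  (Subgroup.closure_le _).2 fun _ hx => hx.1

theorem mem_Om {p : ℕ} {B : Subgroup G} {b : G} (hb : b ∈ B) (hbp : b ^ p = 1) : b ∈ Om p B :=
  Subgroup.subset_closure ⟨hb, hbp⟩

instance Om_normal (p : ℕ) (B : Subgroup G) [hB : B.Normal] : (Om p B).Normal := by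
  constructor
  intro n hn g
  unfold Om at hn ⊢
  induction hn using Subgroup.closure_induction with
  | mem x hx =>
    apply Subgroup.subset_closure
    refine ⟨hB.conj_mem x hx.1 g, ?_⟩
    rw [conj_pow, hx.2, mul_one, mul_inv_cancel]
  | one => rw [mul_one, mul_inv_cancel]; exact Subgroup.one_mem _
  | mul x y _ _ ihx ihy =>
    have e1 : g * (x * y) * g⁻¹ = (g * x * g⁻¹) * (g * y * g⁻¹) := by group
    rw [e1]; exact Subgroup.mul_mem _ ihx ihy
  | inv x _ ihx =>
    have e1 : g * x⁻¹ * g⁻¹ = (g * x * g⁻¹)⁻¹ := by group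
    rw [e1]; exact Subgroup.inv_mem _ ihx

theorem sub_pow_left (H : Subgroup G)
    (hH : ∀ x ∈ H, ∀ y ∈ H, ∀ z ∈ H, z * ⁅x, y⁆ = ⁅x, y⁆ * z) {x y : G} (hx : x ∈ H)
    (hy : y ∈ H) (n : ℕ) : ⁅x ^ n, y⁆ = ⁅x, y⁆ ^ n := by
  have := congrArg Subtype.val
    (Cfsg.H5.Class2.pow_left (Cfsg.H5.GlaubRepl.hK_of H hH) ⟨x, hx⟩ ⟨y, hy⟩ n)
  simpa [commutatorElement_def] using this

/-- in a group of class at most two, for `p` odd, `Ω₁` has exponent `p` -/
theorem pow_eq_one_of_mem_Om {p : ℕ} (hodd : Odd p) {B : Subgroup G}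
    (hcl : ∀ x ∈ B, ∀ y ∈ B, ∀ z ∈ B, z * ⁅x, y⁆ = ⁅x, y⁆ * z) {x : G} (hx : x ∈ Om p B) :
    x ^ p = 1 := by
  obtain ⟨m, hm⟩ := Cfsg.H5.GlaubRepl.odd_dvd_choose_two hodd
  unfold Om at hx
  induction hx using Subgroup.closure_induction with
  | mem x hx => exact hx.2
  | one => exact one_pow p
  | mul x y hx hy ihx ihy =>
    have hxB : x ∈ B := Om_le p B hx
    have hyB : y ∈ B := Om_le p B hy
    rw [Cfsg.H5.GlaubRepl.sub_mul_pow_eq B hcl hxB hyB p, ihx, ihy, one_mul, one_mul, hm,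
      pow_mul, ← sub_pow_left B hcl hyB hxB p, ihy]
    simp [commutatorElement_def]
  | inv x _ ihx => rw [inv_pow, ihx, inv_one]

end omega

section coprime

variable {G : Type*} [Group G] [Finite G] {p : ℕ} [Fact p.Prime]

/-- an element of order prime to `p` normalizing a `p`-group `B` of class at most two (`p` odd)
and centralizing its elements of order `p` centralizes `B` -/
theorem commute_of_commute_Om (hp : p ≠ 2) {B : Subgroup G} (hBp : IsPGroup p B)
    (hcl : ∀ x ∈ B, ∀ y ∈ B, ∀ z ∈ B, z * ⁅x, y⁆ = ⁅x, y⁆ * z) {x : G}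
    (hxB : ∀ b ∈ B, x * b * x⁻¹ ∈ B) (hcop : (orderOf x).Coprime p)
    (hx : ∀ b ∈ B, b ^ p = 1 → x * b = b * x) : ∀ b ∈ B, x * b = b * x := by
  have hodd : Odd p := (Fact.out : p.Prime).odd_of_ne_two hp
  obtain ⟨m, hm⟩ := Cfsg.H5.GlaubRepl.odd_dvd_choose_two hodd
  have key : ∀ k : ℕ, ∀ b ∈ B, b ^ (p ^ k) = 1 → x * b = b * x := by
    intro k
    induction k with
    | zero =>
      intro b _ hb
      rw [pow_zero, pow_one] at hb
      rw [hb, mul_one, one_mul]
    | succ k ih =>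
      intro b hb hbk
      have hbp : x * b ^ p = b ^ p * x := by
        apply ih (b ^ p) (B.pow_mem hb p)
        rw [← pow_mul, ← pow_succ']
        exact hbk
      obtain ⟨c, hc⟩ : ∃ c, c = b⁻¹ * (x * b * x⁻¹) := ⟨_, rfl⟩
      have hcB : c ∈ B := hc ▸ B.mul_mem (B.inv_mem hb) (hxB b hb)
      have hbc : x * b * x⁻¹ = b * c := by rw [hc]; group
      have h1 : (b * c) ^ p = b ^ p := by
        rw [← hbc, conj_pow, hbp, mul_inv_cancel_right]
      rw [Cfsg.H5.GlaubRepl.sub_mul_pow_eq B hcl hb hcB p, hm, pow_mul,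
        ← sub_pow_left B hcl hcB hb p] at h1
      have h2 : c ^ p * ⁅c ^ p, b⁆ ^ m = 1 := by
        have h3 : b ^ p * (c ^ p * ⁅c ^ p, b⁆ ^ m) = b ^ p * 1 := by
          rw [← mul_assoc, h1, mul_one]
        exact mul_left_cancel h3
      have hcomm : Commute b ⁅c ^ p, b⁆ := hcl _ (B.pow_mem hcB p) _ hb b hb
      have hub : c ^ p * b = b * c ^ p := by
        have hu : c ^ p = (⁅c ^ p, b⁆ ^ m)⁻¹ := eq_inv_of_mul_eq_one_left h2
        have h4 : Commute b ((⁅c ^ p, b⁆ ^ m)⁻¹) := (hcomm.pow_right m).inv_right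
        rw [hu]
        exact h4.eq.symm
      have hcomm1 : ⁅c ^ p, b⁆ = 1 := commutatorElement_eq_one_iff_mul_comm.2 hub
      have hcp : c ^ p = 1 := by
        rw [hcomm1, one_pow, mul_one] at h2
        exact h2
      have hxc : Commute x c := hx c hcB hcp
      have hiter : ∀ n : ℕ, x ^ n * b * (x ^ n)⁻¹ = b * c ^ n := by
        intro n
        induction n with
        | zero => simp
        | succ n ihn =>
          have e1 : x ^ (n + 1) * b * (x ^ (n + 1))⁻¹ = x * (x ^ n * b * (x ^ n)⁻¹) * x⁻¹ := by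
            rw [pow_succ']; group
          have hxcn : x * c ^ n = c ^ n * x := (hxc.pow_right n).eq
          rw [e1, ihn]
          calc x * (b * c ^ n) * x⁻¹ = (x * b * x⁻¹) * (x * c ^ n * x⁻¹) := by group
            _ = b * c * c ^ n := by rw [hbc, hxcn, mul_inv_cancel_right]
            _ = b * c ^ (n + 1) := by rw [mul_assoc, ← pow_succ']
      have hcn : c ^ orderOf x = 1 := by
        have h5 := hiter (orderOf x)
        rw [pow_orderOf_eq_one, one_mul, inv_one, mul_one] at h5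
        have h6 : b * c ^ orderOf x = b * 1 := by rw [← h5, mul_one]
        exact mul_left_cancel h6
      have hc1 : c = 1 := by
        have h3 : orderOf c ∣ Nat.gcd (orderOf x) p :=
          Nat.dvd_gcd (orderOf_dvd_of_pow_eq_one hcn) (orderOf_dvd_of_pow_eq_one hcp)
        rw [Nat.Coprime.gcd_eq_one hcop, Nat.dvd_one] at h3
        exact orderOf_eq_one_iff.1 h3
      rw [hc1, mul_one] at hbc
      calc x * b = (x * b * x⁻¹) * x := by group
        _ = b * x := by rw [hbc]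
  intro b hb
  obtain ⟨k, hk⟩ := hBp ⟨b, hb⟩
  apply key k b hb
  have := congrArg Subtype.val hk
  simpa using this

/-- the preimages of `O_p(G/C_G(Ω₁(B)))` and `O_p(G/C_G(B))` agree (one inclusion) -/
theorem Lq_Om_le (hp : p ≠ 2) (B : Subgroup G) [hBn : B.Normal] (hBp : IsPGroup p B)
    (hcl : ∀ x ∈ B, ∀ y ∈ B, ∀ z ∈ B, z * ⁅x, y⁆ = ⁅x, y⁆ * z) :
    Lq p (Om p B) ≤ Lq p B := by
  have hpr : p.Prime := Fact.out
  have hsurj := QuotientGroup.mk'_surjective (Subgroup.centralizer (B : Set G))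
  have hn : ((Lq p (Om p B)).map
      (QuotientGroup.mk' (Subgroup.centralizer (B : Set G)))).Normal :=
    (Lq_normal p (Om p B)).map _ hsurj
  have hpg : IsPGroup p ↥((Lq p (Om p B)).map
      (QuotientGroup.mk' (Subgroup.centralizer (B : Set G)))) := by
    rintro ⟨_, g, hg, rfl⟩
    have hpc := Cfsg.H5.pCore_isPGroup p (G ⧸ Subgroup.centralizer ((Om p B : Subgroup G) : Set G))
    obtain ⟨k₁, hk₁⟩ := hpc ⟨_, mem_Lq.1 hg⟩
    have hc : g ^ (p ^ k₁) ∈ Subgroup.centralizer ((Om p B : Subgroup G) : Set G) := by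
      have h1 := congrArg Subtype.val hk₁
      rw [Subgroup.coe_pow, Subgroup.coe_one] at h1
      rw [← QuotientGroup.eq_one_iff]
      exact h1
    obtain ⟨j, m, hm, hord⟩ := Nat.exists_eq_pow_mul_and_not_dvd
      (orderOf_pos (g ^ (p ^ k₁))).ne' p hpr.ne_one
    obtain ⟨c', hc'⟩ : ∃ c', c' = (g ^ (p ^ k₁)) ^ (p ^ j) := ⟨_, rfl⟩
    have hc'm : c' ^ m = 1 := by
      rw [hc', ← pow_mul, ← hord, pow_orderOf_eq_one]
    have hcop : (orderOf c').Coprime p :=
      Nat.Coprime.coprime_dvd_left (orderOf_dvd_of_pow_eq_one hc'm)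
        ((Nat.Prime.coprime_iff_not_dvd hpr).2 hm).symm
    have hc'C : c' ∈ Subgroup.centralizer ((Om p B : Subgroup G) : Set G) := by
      rw [hc']; exact Subgroup.pow_mem _ hc _
    have hall := commute_of_commute_Om hp hBp hcl (x := c')
      (fun b hb => hBn.conj_mem b hb c') hcop
      (fun b hb hbp => (Subgroup.mem_centralizer_iff.1 hc'C b (mem_Om hb hbp)).symm)
    have hc'B : c' ∈ Subgroup.centralizer (B : Set G) := by
      rw [Subgroup.mem_centralizer_iff]
      intro b hb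
      exact (hall b hb).symm
    refine ⟨k₁ + j, ?_⟩
    apply Subtype.ext
    rw [Subgroup.coe_pow, Subgroup.coe_one]
    show (QuotientGroup.mk' (Subgroup.centralizer (B : Set G)) g) ^ (p ^ (k₁ + j)) = 1
    rw [← map_pow, pow_add, pow_mul, ← hc']
    exact (QuotientGroup.eq_one_iff c').2 hc'B
  have hle := Cfsg.H5.le_pCore hn hpg
  intro g hg
  rw [mem_Lq]
  exact hle (Subgroup.mem_map_of_mem _ hg)

end coprime

section main

variable {G : Type*} [Group G] [Finite G] {p : ℕ} [Fact p.Prime]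

theorem inf_normal_full (hp : p ≠ 2) {e : ℕ} (he : p ∣ e)
    (hst : ∀ (P : Subgroup G) [P.Normal], IsPGroup p P → Cfsg.IsPStableOn p P)
    (S : Sylow p G) :
    ∀ n : ℕ, ∀ B : Subgroup G, B.Normal → IsPGroup p B → Nat.card B = n →
      (Zf e (S : Subgroup G) ⊓ B).Normal := by
  have hodd : Odd p := (Fact.out : p.Prime).odd_of_ne_two hp
  intro n
  induction n using Nat.strong_induction_on with
  | _ n ih =>
  intro B hBn hBp hcard
  haveI := hBn
  have hSp : IsPGroup p (S : Subgroup G) := S.isPGroup'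
  have hBS : B ≤ S := hBp.le_sylow_of_normal S
  have hZS : (S : Subgroup G) ≤ Subgroup.normalizer (Zf e (S : Subgroup G) : Set G) :=
    Subgroup.le_normalizer.trans (normalizer_le_normalizer_Zf _)
  -- Step 1: `B` is the normal closure of `Zf ∩ B`
  by_cases h1 : Subgroup.normalClosure ((Zf e (S : Subgroup G) ⊓ B : Subgroup G) : Set G) = B
  swap
  · have hle : Subgroup.normalClosure ((Zf e (S : Subgroup G) ⊓ B : Subgroup G) : Set G) ≤ B :=
      Subgroup.normalClosure_le_normal (fun x hx => hx.2)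
    have hlt : Nat.card (Subgroup.normalClosure
        ((Zf e (S : Subgroup G) ⊓ B : Subgroup G) : Set G)) < n := by
      rw [← hcard]; exact card_lt_of_lt (lt_of_le_of_ne hle h1)
    have h2 := ih _ hlt _ Subgroup.normalClosure_normal (hBp.to_le hle) rfl
    have e1 : Zf e (S : Subgroup G) ⊓
        Subgroup.normalClosure ((Zf e (S : Subgroup G) ⊓ B : Subgroup G) : Set G) =
        Zf e (S : Subgroup G) ⊓ B :=
      le_antisymm (inf_le_inf_left _ hle) (le_inf inf_le_left Subgroup.subset_normalClosure)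
    rwa [e1] at h2
  -- Step 2
  by_cases hbot : B = ⊥
  · rw [hbot, inf_bot_eq]; infer_instance
  have hB'lt : ⁅B, B⁆ < B := commutator_lt_of_isPGroup hBp hbot
  have hW'n : (Zf e (S : Subgroup G) ⊓ ⁅B, B⁆).Normal :=
    ih _ (by rw [← hcard]; exact card_lt_of_lt hB'lt) ⁅B, B⁆ inferInstance
      (hBp.to_le hB'lt.le) rfl
  -- Step 3
  have hBBZ : ⁅B, B⁆ ≤ Zf e (S : Subgroup G) := by
    have h3 : ⁅Zf e (S : Subgroup G) ⊓ B, B⁆ ≤ Zf e (S : Subgroup G) ⊓ ⁅B, B⁆ := by
      refine le_inf ?_ (Subgroup.commutator_mono inf_le_right le_rfl)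
      rw [Subgroup.commutator_le]
      intro z hz b hb
      have hb' := hZS (hBS hb)
      have h5 : b * z⁻¹ * b⁻¹ ∈ Zf e (S : Subgroup G) :=
        (Subgroup.mem_set_normalizer_iff.1 hb' z⁻¹).1 (inv_mem hz.1)
      have e2 : ⁅z, b⁆ = z * (b * z⁻¹ * b⁻¹) := by simp only [commutatorElement_def]; group
      rw [e2]; exact mul_mem hz.1 h5
    have h4 := commutator_normalClosure_le (hN := hW'n) h3
    rw [h1] at h4
    exact h4.trans inf_le_left
  -- `B` has class at most two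
  have hBcent : B ≤ Subgroup.centralizer ((⁅B, B⁆ : Subgroup G) : Set G) := by
    have h3 : Subgroup.normalClosure ((Zf e (S : Subgroup G) ⊓ B : Subgroup G) : Set G) ≤
        Subgroup.centralizer ((⁅B, B⁆ : Subgroup G) : Set G) := by
      apply Subgroup.normalClosure_le_normal
      intro z hz
      rw [SetLike.mem_coe, Subgroup.mem_centralizer_iff]
      intro c hc
      exact Zf_comm (hBBZ hc) hz.1
    rwa [h1] at h3
  have hcl : ∀ x ∈ B, ∀ y ∈ B, ∀ z ∈ B, z * ⁅x, y⁆ = ⁅x, y⁆ * z := by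
    intro x hx y hy z hz
    exact (Subgroup.mem_centralizer_iff.1 (hBcent hz) _
      (Subgroup.commutator_mem_commutator hx hy)).symm
  -- `Ω₁(B)`
  have hB₁p : IsPGroup p (Om p B) := hBp.to_le (Om_le p B)
  have hB₁S : Om p B ≤ S := (Om_le p B).trans hBS
  have hSB₁ : (S : Subgroup G) ≤ Subgroup.normalizer ((Om p B : Subgroup G) : Set G) := by
    rw [Subgroup.normalizer_eq_top_iff.2 (Om_normal p B)]; exact le_top
  have hpe : ∀ y : G, y ^ p = 1 → y ^ e = 1 := by
    intro y hy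
    obtain ⟨c, rfl⟩ := he
    rw [pow_mul, hy, one_pow]
  have hB' : ∀ A ∈ fam e (S : Subgroup G), ⁅Om p B, Om p B⁆ ≤ A := by
    intro A hA x hx
    have hx1 : x ∈ Om p B := Subgroup.commutator_le_right (Om p B) (Om p B) hx
    have hx2 : x ∈ Zf e (S : Subgroup G) :=
      hBBZ (Subgroup.commutator_mono (Om_le p B) (Om_le p B) hx)
    exact Z_le_of_mem_fam hA
      (mem_Z_of_mem_Zf hx2 (hpe x (pow_eq_one_of_mem_Om hodd hcl hx1)))
  -- the subgroup `R = S ∩ L`
  have hRS : (S : Subgroup G) ⊓ Lq p B ≤ S := inf_le_left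
  have hquad : ∀ A ∈ fam e (S : Subgroup G), Om p B ≤ Subgroup.normalizer (A : Set G) →
      A ≤ (S : Subgroup G) ⊓ Lq p B :=
    fun A hA hBA => le_inf hA.1
      ((le_Lq_of_normalizes (hst (Om p B) hB₁p) hA.2.1.1 hBA).trans (Lq_Om_le hp B hBp hcl))
  obtain ⟨A₀, hA₀, hBA₀⟩ := exists_normalized hp hSp hB₁S hSB₁ hB'
  have hA₀R := hquad A₀ hA₀ hBA₀
  have hJRS : J e ((S : Subgroup G) ⊓ Lq p B) ≤ J e (S : Subgroup G) :=
    sSup_le_sSup (fam_subset_of_le hRS hA₀ hA₀R)
  -- `G = N_G(R) C_G(B)`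
  have hdec : ∀ g : G, ∃ n ∈ Subgroup.normalizer (((S : Subgroup G) ⊓ Lq p B : Subgroup G) : Set G),
      ∃ c₀ ∈ Subgroup.centralizer (B : Set G), g = n * c₀ := by
    intro g
    obtain ⟨a, ha, c, hc, rfl⟩ := Cfsg.Agent.Lib.Helper16.frattini_inf_normal S (Lq p B) g
    obtain ⟨r, hr, c₀, hc₀, rfl⟩ := Lq_decomp S B hc
    exact ⟨a * r, mul_mem ha (Subgroup.le_normalizer hr), c₀, hc₀, by rw [mul_assoc]⟩
  -- `B` centralizes `J(R)`
  have hBJ : B ≤ Subgroup.centralizer ((J e ((S : Subgroup G) ⊓ Lq p B) : Subgroup G) : Set G) := by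
    have h3 : Subgroup.normalClosure ((Zf e (S : Subgroup G) ⊓ B : Subgroup G) : Set G) ≤
        Subgroup.centralizer ((J e ((S : Subgroup G) ⊓ Lq p B) : Subgroup G) : Set G) := by
      unfold Subgroup.normalClosure
      rw [Subgroup.closure_le]
      intro y hy
      obtain ⟨z, hz, hconj⟩ := Group.mem_conjugatesOfSet_iff.1 hy
      obtain ⟨g, hg⟩ := isConj_iff.1 hconj
      obtain ⟨n, hn, c₀, hc₀, rfl⟩ := hdec g
      have hcz : c₀ * z * c₀⁻¹ = z := by
        have h4 := Subgroup.mem_centralizer_iff.1 hc₀ z hz.2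
        rw [← h4, mul_inv_cancel_right]
      have hy' : y = n * z * n⁻¹ := by
        rw [← hg]
        calc (n * c₀) * z * (n * c₀)⁻¹ = n * (c₀ * z * c₀⁻¹) * n⁻¹ := by group
          _ = n * z * n⁻¹ := by rw [hcz]
      rw [SetLike.mem_coe, hy', Subgroup.mem_centralizer_iff]
      intro x hx
      have hnJ := normalizer_le_normalizer_J (e := e) _ hn
      have hx' : n⁻¹ * x * n ∈ J e ((S : Subgroup G) ⊓ Lq p B) := by
        apply (Subgroup.mem_set_normalizer_iff.1 hnJ _).2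
        have e1 : n * (n⁻¹ * x * n) * n⁻¹ = x := by group
        rw [e1]; exact hx
      have hcomm : (n⁻¹ * x * n) * z = z * (n⁻¹ * x * n) :=
        (mem_Zf.1 hz.1).2 _ (hJRS hx')
      calc x * (n * z * n⁻¹) = n * ((n⁻¹ * x * n) * z) * n⁻¹ := by group
        _ = n * (z * (n⁻¹ * x * n)) * n⁻¹ := by rw [hcomm]
        _ = (n * z * n⁻¹) * x := by group
    rwa [h1] at h3
  have hii : ∀ A ∈ fam e (S : Subgroup G), A ≤ (S : Subgroup G) ⊓ Lq p B → Om p B ≤ A := by
    intro A hA hAR b hb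
    have hbB : b ∈ B := Om_le p B hb
    have hbe : b ^ e = 1 := hpe b (pow_eq_one_of_mem_Om hodd hcl hb)
    apply mem_of_commute_of_mem_fam hA (hBS hbB) hbe
    intro a ha
    exact Subgroup.mem_centralizer_iff.1 (hBJ hbB) a
      (le_J (mem_fam_of_le hRS hA hAR) ha)
  have hall := all_le hp hSp hB₁S hSB₁ hB' hquad hii
  have hJR : J e (S : Subgroup G) ≤ (S : Subgroup G) ⊓ Lq p B := sSup_le hall
  have hZeq : Zf e ((S : Subgroup G) ⊓ Lq p B) = Zf e (S : Subgroup G) := Zf_eq_of_J_le hRS hJR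
  -- normality
  rw [← Subgroup.normalizer_eq_top_iff, eq_top_iff]
  intro g _
  obtain ⟨n, hn, c₀, hc₀, rfl⟩ := hdec g
  have h5 : n ∈ Subgroup.normalizer ((Zf e (S : Subgroup G) ⊓ B : Subgroup G) : Set G) := by
    apply normalizer_inf_le
    refine Subgroup.mem_inf.2 ⟨?_, ?_⟩
    · rw [← hZeq]; exact normalizer_le_normalizer_Zf _ hn
    · rw [Subgroup.normalizer_eq_top_iff.2 hBn]; trivial
  have h6 : c₀ ∈ Subgroup.normalizer ((Zf e (S : Subgroup G) ⊓ B : Subgroup G) : Set G) := by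
    apply Subgroup.centralizer_le_normalizer
    exact Subgroup.centralizer_le (fun x hx => hx.2) hc₀
  exact mul_mem h5 h6

/-- the ZJ-theorem for the full centre of `J e S`, normality -/
theorem Zf_normal (hp : p ≠ 2) {e : ℕ} (he : p ∣ e)
    (hc : Subgroup.centralizer (Cfsg.pCore p G : Set G) ≤ Cfsg.pCore p G)
    (hst : ∀ (P : Subgroup G) [P.Normal], IsPGroup p P → Cfsg.IsPStableOn p P)
    (S : Sylow p G) : (Zf e (S : Subgroup G)).Normal := by
  have hQn := Cfsg.H5.pCore_normal p G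
  have hQp := Cfsg.H5.pCore_isPGroup p G
  have h1 := inf_normal_full hp he hst S _ (Cfsg.pCore p G) hQn hQp rfl
  suffices hle : Zf e (S : Subgroup G) ≤ Cfsg.pCore p G by rwa [inf_eq_left.2 hle] at h1
  haveI := hQn
  intro z hz
  have hZS : (S : Subgroup G) ≤ Subgroup.normalizer (Zf e (S : Subgroup G) : Set G) :=
    Subgroup.le_normalizer.trans (normalizer_le_normalizer_Zf _)
  have hQS : Cfsg.pCore p G ≤ S := hQp.le_sylow_of_normal S
  have hquad : ⁅⁅Cfsg.pCore p G, Subgroup.zpowers z⁆, Subgroup.zpowers z⁆ = ⊥ := by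
    have hzp : Subgroup.zpowers z ≤ Zf e (S : Subgroup G) := Subgroup.zpowers_le.2 hz
    have h2 : ⁅Cfsg.pCore p G, Subgroup.zpowers z⁆ ≤ Zf e (S : Subgroup G) := by
      rw [Subgroup.commutator_le]
      intro q hq w hw
      have hq' := hZS (hQS hq)
      have h3 : q * w * q⁻¹ ∈ Zf e (S : Subgroup G) :=
        (Subgroup.mem_set_normalizer_iff.1 hq' w).1 (hzp hw)
      have e2 : ⁅q, w⁆ = (q * w * q⁻¹) * w⁻¹ := by simp only [commutatorElement_def]
      rw [e2]; exact mul_mem h3 (inv_mem (hzp hw))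
    rw [eq_bot_iff]
    refine (Subgroup.commutator_mono h2 hzp).trans ?_
    rw [Subgroup.commutator_le]
    intro x hx y hy
    rw [Subgroup.mem_bot, commutatorElement_eq_one_iff_mul_comm]
    exact Zf_comm hx hy
  have hmem : z ∈ Lq p (Cfsg.pCore p G) := mem_Lq.2 (hst (Cfsg.pCore p G) hQp z hquad)
  have hLp : IsPGroup p (Lq p (Cfsg.pCore p G)) := by
    unfold Lq
    apply IsPGroup.comap_of_ker_isPGroup (Cfsg.H5.pCore_isPGroup p _)
    rw [QuotientGroup.ker_mk']
    exact hQp.to_le hc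
  exact Cfsg.H5.le_pCore (Lq_normal p _) hLp hmem

end main

end Cfsg.H5.FZ
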