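import Mathlib
import Cfsg.Prelude
import Cfsg.Agent.H5.ZJBridge

set_option autoImplicit false

/-! `Ω₁(Z(J_e(P)))` in the vocabulary of `Cfsg.centerThompsonOf`. -/

namespace Cfsg.H5.ZJ

universe u

variable {G : Type u} [Group G]

theorem thompsonSubgroupOf_eq (p : ℕ) (P : Subgroup G) : Cfsg.thompsonSubgroupOf p P = J p P := by
  unfold Cfsg.thompsonSubgroupOf Cfsg.thompsonSubgroup
  rw [maxElementaryAbelianSubgroups_eq, map_sSup_famX]

theorem omegaOne_centerThompsonOf_eq (p : ℕ) (P : Subgroup G) :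
    Cfsg.omegaOne p (Cfsg.centerThompsonOf p P) = Z p P := by
  unfold Cfsg.omegaOne Cfsg.centerThompsonOf
  rw [thompsonSubgroupOf_eq]
  apply le_antisymm
  · rw [Subgroup.closure_le]
    rintro x ⟨hx, hxp⟩
    obtain ⟨hxJ, hxC⟩ := Subgroup.mem_inf.1 hx
    exact ⟨hxJ, fun y hy => Subgroup.mem_centralizer_iff.1 hxC y hy, hxp⟩
  · intro z hz
    obtain ⟨hzJ, hzc, hzp⟩ := hz
    apply Subgroup.subset_closure
    exact ⟨Subgroup.mem_inf.2 ⟨hzJ, Subgroup.mem_centralizer_iff.2 hzc⟩, hzp⟩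

end Cfsg.H5.ZJ
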