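import Mathlib
import Cfsg.Prelude
import Cfsg.Agent.H5.FullZJ
import Cfsg.Agent.H5.GTFunctor
import Cfsg.Agent.H5.SCBridge

set_option autoImplicit false

/-! The Glauberman–Thompson theorem for the full centre of the Thompson subgroup generated by
the elementary abelian subgroups of largest order (`Cfsg.centerThompsonOf`). -/

namespace Cfsg.H5.FZ

open Cfsg.H5.ZJ Cfsg.H5.GTF

universe u

theorem centerThompsonOf_eq_Zf {G : Type u} [Group G] (p : ℕ) (P : Subgroup G) :
    Cfsg.centerThompsonOf p P = Zf p P := by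
  unfold Cfsg.centerThompsonOf
  rw [thompsonSubgroupOf_eq, Zf_eq_inf]

theorem Zf_ne_bot {G : Type u} [Group G] [Finite G] {p : ℕ} [Fact p.Prime] {e : ℕ} (he : p ∣ e)
    {Q : Subgroup G} (hQ : IsPGroup p Q) (hne : Q ≠ ⊥) : Zf e Q ≠ ⊥ := by
  intro h
  apply Cfsg.H5.GT.Z_ne_bot he hQ hne
  rw [eq_bot_iff, ← h]
  exact Z_le_Zf

/-- the functor `P ↦ Z(J_e(P))` (full centre), `p ∣ e`, `p` odd -/
def zfFun (p : ℕ) [Fact p.Prime] (hp : p ≠ 2) (e : ℕ) (he : p ∣ e) : GFun.{u} p where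
  F := fun _ _ P => Zf e P
  le' := fun _ _ _ => Zf_le
  map_hom' := fun _ _ _ _ _ _ hinj => Zf_map_hom hinj
  ne_bot' := fun _ _ _ _ hQ hne => Zf_ne_bot he hQ hne
  normal' := fun _ _ _ hc hst S => Zf_normal hp he hc hst S

/-- **Glauberman–Thompson** for the full centre of `J e P` -/
theorem glauberman_thompson_full {G : Type u} [Group G] [Finite G] {p : ℕ} [Fact p.Prime]
    (hp : p ≠ 2) {e : ℕ} (he : p ∣ e) (P : Sylow p G)
    (h : Cfsg.HasNormalPComplement p ↥(Subgroup.normalizer (Zf e (P : Subgroup G) : Set G))) :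
    Cfsg.HasNormalPComplement p G :=
  glauberman_thompson_functor hp (zfFun p hp e he) P h

end Cfsg.H5.FZ
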