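import Mathlib
import Cfsg.Prelude
import Cfsg.Agent.H5.FullGT
import Cfsg.Agent.H5.FamFusion4
import Cfsg.Agent.H5.SL2pStable

set_option autoImplicit false
set_option linter.unusedSectionVars false

/-! Control of strong fusion by the normalizer of the full centre of the Thompson subgroup
generated by the elementary abelian subgroups of largest order, in groups without a section
isomorphic to `SL(2, p)`, `p` odd. -/

namespace Cfsg.H5.FZ

open Cfsg Cfsg.H5.ZJ Cfsg.Agent.S1959 Cfsg.H5.SL2p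

universe u

/-- groups without a section `SL(2, p)` act `p`-stably on their normal `p`-subgroups -/
theorem isPStableOn_of_not_hasSectionP {X : Type u} [Group X] [Finite X] {p : ℕ} [Fact p.Prime]
    (hp2 : p ≠ 2) (hns : ¬ HasSectionP p X) (P : Subgroup X) [hPn : P.Normal]
    (hP : IsPGroup p P) : Cfsg.IsPStableOn p P := by
  intro a hq
  obtain ⟨L, hCL, -, hNL, hpow, haL⟩ := inOp_of_not_hasSectionP hp2 hns P hP a hq
  rw [Cfsg.H5.PSt.mk_mem_pCore_iff']
  refine ⟨L, ?_, hCL, hpow, haL⟩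
  rw [Subgroup.normalizer_eq_top] at hNL
  exact Subgroup.normalizer_eq_top_iff.1 (top_le_iff.1 hNL)

/-- the isomorphism-invariant functor `Q ↦ Z(J_e(Q))` (full centre) -/
def zfW (e : ℕ) : ∀ (Q : Type u) [Group Q], Subgroup Q := fun Q _ => Zf e (⊤ : Subgroup Q)

theorem inducedFunctor_zfW {G : Type u} [Group G] (e : ℕ) (P : Subgroup G) :
    Cfsg.inducedFunctor (G := G) (zfW e) P = Zf e P := by
  unfold Cfsg.inducedFunctor zfW
  rw [Zf_map_hom (by rw [Subgroup.ker_subtype, inf_bot_eq]), ← MonoidHom.range_eq_map,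
    Subgroup.range_subtype]

theorem isCharPFunctor_zfW (p : ℕ) [Fact p.Prime] {e : ℕ} (he : p ∣ e) :
    Cfsg.IsCharPFunctor.{u} p (zfW e) := by
  refine ⟨?_, ?_⟩
  · intro Q _ _ hQ hnt
    apply Zf_ne_bot he (hQ.to_subgroup ⊤)
    exact top_ne_bot
  · intro Q R _ _ _ _ φ
    unfold zfW
    have hk : (⊤ : Subgroup Q) ⊓ φ.toMonoidHom.ker = ⊥ := by
      have : φ.toMonoidHom.ker = ⊥ := (MonoidHom.ker_eq_bot_iff _).2 φ.injective
      rw [this, inf_bot_eq]
    rw [Zf_map_hom hk, Subgroup.map_top_of_surjective _ φ.surjective]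

/-- **control of strong fusion** by `N_G(Z(J_e(S)))` (full centre), left conjugation form -/
theorem controls_fusion_full {G : Type u} [Group G] [Finite G] {p : ℕ} [Fact p.Prime]
    (hp : p ≠ 2) {e : ℕ} (he : p ∣ e) (hns : ¬ HasSectionP p G) (S : Sylow p G) (A : Set G)
    (g : G) (hA : A ⊆ ((S : Subgroup G) : Set G))
    (hAg : (fun a => g * a * g⁻¹) '' A ⊆ ((S : Subgroup G) : Set G)) :
    ∃ n ∈ Subgroup.normalizer (Zf e (S : Subgroup G) : Set G),
      ∀ a ∈ A, n * a * n⁻¹ = g * a * g⁻¹ := by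
  have h𝓦 : ∀ W ∈ ({zfW e} : Set (∀ (Q : Type u) [Group Q], Subgroup Q)),
      Cfsg.IsCharPFunctor.{u} p W := by
    intro W hW
    rw [Set.mem_singleton_iff.1 hW]
    exact isCharPFunctor_zfW p he
  have hyp : Cfsg.H5.FF.Hyp p ({zfW e} : Set (∀ (Q : Type u) [Group Q], Subgroup Q)) G := by
    apply Cfsg.H5.FF.hyp_of_sections h𝓦
    intro K R hR hc
    obtain ⟨T⟩ : Nonempty (Sylow p (↥K ⧸ R.subgroupOf K)) := inferInstance
    rw [Cfsg.Agent.S1959.fam_iff]
    refine ⟨(T : Subgroup (↥K ⧸ R.subgroupOf K)), le_top, T.isPGroup', ?_, ?_⟩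
    · rw [Subgroup.relIndex_top_right]; exact T.not_dvd_index
    · intro B h _ hB hBh
      have hnsY : ¬ HasSectionP p (↥K ⧸ R.subgroupOf K) := fun h' =>
        hns (hasSectionP_of_subgroup K (hasSectionP_of_surjective (QuotientGroup.mk' _)
          (QuotientGroup.mk'_surjective _) h'))
      have hst : ∀ (V : Subgroup (↥K ⧸ R.subgroupOf K)) [V.Normal], IsPGroup p V →
          Cfsg.IsPStableOn p V := fun V _ hV => isPStableOn_of_not_hasSectionP hp hnsY V hV
      have hn := Zf_normal hp he hc hst T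
      refine ⟨h, ?_, fun a _ => rfl⟩
      have h2 := Rz.step (𝓦 := Cfsg.H5.FF.fam ({zfW e} : Set (∀ (Q : Type u) [Group Q], Subgroup Q))
          (↥K ⧸ R.subgroupOf K)) (H := ⊤) (T := (T : Subgroup (↥K ⧸ R.subgroupOf K))) B 1 h
        (Rz.base B hB)
        ⟨Cfsg.inducedFunctor (zfW e), ⟨zfW e, Set.mem_singleton _, rfl⟩,
          Subgroup.mem_inf.2 ⟨Subgroup.mem_top _, by
            rw [inducedFunctor_zfW, Subgroup.normalizer_eq_top_iff.2 hn]; trivial⟩⟩
        (by rw [mul_one]; exact hBh)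
      rwa [mul_one] at h2
  obtain ⟨g', hg', hag⟩ := Cfsg.H5.FF.real_of_hyp h𝓦 hyp S A g hA hAg
  refine ⟨g', ?_, hag⟩
  apply Cfsg.H5.FF.Rz.mem_of_le _ hg'
  rintro _ ⟨W, hW, rfl⟩
  rw [Set.mem_singleton_iff.1 hW]
  show Subgroup.normalizer ((Cfsg.inducedFunctor (zfW e) (S : Subgroup G) : Subgroup G) : Set G) ≤ _
  rw [inducedFunctor_zfW]

end Cfsg.H5.FZ
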