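import Mathlib
import Cfsg.Agent.Lib.Helper1.Gaschutz

/-!
# helper5 library: complements containing a stable partial complement

For `K` abelian normal in the finite group `G`, `K ≤ U ≤ G` with `(|K|, |G : U|) = 1` and `A` a
complement of `K` in `U` which is *stable* (for every `g : G` some `z ∈ K` conjugates all of
`g A g⁻¹ ∩ U` into `A`), there is a complement `H` of `K` in `G` with `A ≤ H`
(`Cfsg.H5.StC.exists_isComplement'_ge`).  This is the degree one stable element theorem, in the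
form needed for the uniqueness of models of constrained fusion systems.
-/

set_option autoImplicit false

namespace Cfsg.H5.StC

open Cfsg.Agent.Lib.Helper1 Cfsg.Agent.Lib.Helper1.Gaschutz
open scoped IsMulCommutative

variable {G : Type*} [Group G] (K U : Subgroup G) [hKn : K.Normal]

theorem cocyc_mem' {r : G ⧸ U → G} (hr : ∀ c, ((r c : G) : G ⧸ U) = c) (g : G) (c : G ⧸ U) :
    (r (g • c))⁻¹ * g * r c ∈ U := by
  have h1 : ((g * r c : G) : G ⧸ U) = ((r (g • c) : G) : G ⧸ U) := by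
    rw [hr]
    conv_rhs => rw [← hr c]
    rfl
  rw [eq_comm, QuotientGroup.eq] at h1
  rwa [mul_assoc]

variable [hKc : IsMulCommutative K]

/-- transfer of a crossed homomorphism with respect to the coset representatives `r` -/
noncomputable def Tr [Fintype (G ⧸ U)] (r : G ⧸ U → G) (θ : G → K) (g : G) : K :=
  ∏ c : G ⧸ U, cj K (r (g • c)) (θ ((r (g • c))⁻¹ * g * r c))

theorem Tr_mul [Fintype (G ⧸ U)] {r : G ⧸ U → G} (hr : ∀ c, ((r c : G) : G ⧸ U) = c)
    (θ : G → K) (hθ : IsCrossedOn K U θ) (g g' : G) :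
    Tr K U r θ (g * g') = Tr K U r θ g * cj K g (Tr K U r θ g') := by
  unfold Tr
  rw [map_prod]
  have h1 : ∀ c : G ⧸ U, cj K (r ((g * g') • c)) (θ ((r ((g * g') • c))⁻¹ * (g * g') * r c)) =
      cj K (r (g • (g' • c))) (θ ((r (g • (g' • c)))⁻¹ * g * r (g' • c))) *
        cj K g (cj K (r (g' • c)) (θ ((r (g' • c))⁻¹ * g' * r c))) := by
    intro c
    have e1 : (r ((g * g') • c))⁻¹ * (g * g') * r c =
        ((r (g • (g' • c)))⁻¹ * g * r (g' • c)) * ((r (g' • c))⁻¹ * g' * r c) := by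
      rw [mul_smul]; group
    rw [e1, hθ _ (cocyc_mem' U hr g (g' • c)) _ (cocyc_mem' U hr g' c), map_mul, mul_smul,
      ← cj_mul, ← cj_mul]
    congr 3
    group
  simp_rw [h1]
  rw [Finset.prod_mul_distrib]
  congr 1
  exact Fintype.prod_equiv (MulAction.toPerm g') _ _ (fun c => rfl)

theorem Tr_of_mem [Fintype (G ⧸ U)] {r : G ⧸ U → G} (hKU : K ≤ U) (θ : G → K)
    (hθK : ∀ k : K, θ k = k) (k : K) : Tr K U r θ k = k ^ U.index := by
  unfold Tr
  have hfix : ∀ c : G ⧸ U, (k : G) • c = c := by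
    intro c
    induction c using QuotientGroup.induction_on with
    | H x =>
      show (((k : G) * x : G) : G ⧸ U) = (x : G ⧸ U)
      rw [QuotientGroup.eq]
      have : ((k : G) * x)⁻¹ * x = x⁻¹ * (k : G)⁻¹ * x⁻¹⁻¹ := by group
      rw [this]
      exact hKU (hKn.conj_mem _ (K.inv_mem k.2) _)
  have h1 : ∀ c : G ⧸ U, cj K (r ((k : G) • c)) (θ ((r ((k : G) • c))⁻¹ * (k : G) * r c)) = k := by
    intro c
    have hmem : (r ((k : G) • c))⁻¹ * (k : G) * r c ∈ K := by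
      rw [hfix]
      have := hKn.conj_mem _ k.2 (r c)⁻¹
      rwa [inv_inv] at this
    have h2 := hθK ⟨_, hmem⟩
    have h3 : θ ((r ((k : G) • c))⁻¹ * (k : G) * r c) = ⟨_, hmem⟩ := h2
    rw [h3]
    apply Subtype.ext
    simp only [cj_apply]
    rw [hfix]
    group
  simp_rw [h1]
  rw [Finset.prod_const, Finset.card_univ, Subgroup.index, Nat.card_eq_fintype_card]


/-- A crossed homomorphism `G → K` restricting to the identity on `K` yields a complement,
namely its kernel. -/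
theorem exists_isComplement'_of_crossed' (θ : G → K)
    (hθ : ∀ g g' : G, θ (g * g') = θ g * cj K g (θ g')) (hθK : ∀ k : K, θ k = k) :
    ∃ H : Subgroup G, Subgroup.IsComplement' K H ∧ ∀ g, g ∈ H ↔ θ g = 1 := by
  have h1 : θ 1 = 1 := by
    have := hθK 1
    simpa using this
  let H : Subgroup G :=
    { carrier := {g | θ g = 1}
      one_mem' := h1
      mul_mem' := by
        intro a b ha hb
        show θ (a * b) = 1
        rw [hθ, show θ a = 1 from ha, show θ b = 1 from hb, map_one, mul_one]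
      inv_mem' := by
        intro a ha
        show θ a⁻¹ = 1
        have h2 := hθ a a⁻¹
        rw [mul_inv_cancel, h1, show θ a = 1 from ha, one_mul] at h2
        have h3 : cj K a (θ a⁻¹) = cj K a 1 := by rw [← h2, map_one]
        have hinj : Function.Injective (cj K a) := (MulAut.conjNormal a : MulAut K).injective
        exact hinj h3 }
  refine ⟨H, Subgroup.isComplement'_of_disjoint_and_mul_eq_univ ?_ ?_, fun g => Iff.rfl⟩
  · rw [Subgroup.disjoint_def]
    intro x hxK hxH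
    have h2 : θ x = 1 := hxH
    have h3 := hθK ⟨x, hxK⟩
    have h4 : θ x = ⟨x, hxK⟩ := h3
    rw [h4] at h2
    exact congrArg Subtype.val h2
  · rw [Set.eq_univ_iff_forall]
    intro g
    refine ⟨(θ g : G), (θ g).2, (θ g : G)⁻¹ * g, ?_, by group⟩
    show θ ((θ g : G)⁻¹ * g) = 1
    rw [hθ]
    have h5 : θ ((θ g : G)⁻¹) = (θ g)⁻¹ := hθK (θ g)⁻¹
    rw [h5, cj_of_mem K (K.inv_mem (θ g).2), inv_mul_cancel]

theorem comm_id {M : Type*} [CommGroup M] (a b c d f : M) :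
    a * (c⁻¹ * d)⁻¹ * (b * (d⁻¹ * f)⁻¹) = a * b * (c⁻¹ * f)⁻¹ := by
  have h1 : (c⁻¹ * d)⁻¹ * (d⁻¹ * f)⁻¹ = (c⁻¹ * f)⁻¹ := by
    rw [← mul_inv]; congr 1; group
  calc a * (c⁻¹ * d)⁻¹ * (b * (d⁻¹ * f)⁻¹) = (a * b) * ((c⁻¹ * d)⁻¹ * (d⁻¹ * f)⁻¹) :=
        mul_mul_mul_comm _ _ _ _
    _ = a * b * (c⁻¹ * f)⁻¹ := by rw [h1]

/-- a choice function on nonempty sets depending only on the set -/
noncomputable def pick {X : Type*} (s : Set X) (h : s.Nonempty) : X := h.some

theorem pick_mem {X : Type*} (s : Set X) (h : s.Nonempty) : pick s h ∈ s := h.some_mem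

theorem pick_congr {X : Type*} {s s' : Set X} (e : s = s') (h : s.Nonempty) (h' : s'.Nonempty) :
    pick s h = pick s' h' := by
  subst e; rfl

section adapted

variable (A : Subgroup G)

/-- the chosen representative of the `A`-orbit of the coset `c` -/
noncomputable def om (c : G ⧸ U) : G ⧸ U :=
  pick (MulAction.orbit A c) ⟨c, MulAction.mem_orbit_self c⟩

theorem om_smul (a : A) (c : G ⧸ U) : om U A (a • c) = om U A c :=
  pick_congr (MulAction.orbit_smul a c) _ _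

theorem exists_al (c : G ⧸ U) : ∃ a : A, a • om U A c = c := by
  obtain ⟨a, ha⟩ := pick_mem (MulAction.orbit A c) ⟨c, MulAction.mem_orbit_self c⟩
  refine ⟨a⁻¹, ?_⟩
  show a⁻¹ • om U A c = c
  unfold om
  rw [← ha, inv_smul_smul]

/-- an element of `A` moving the chosen orbit representative to `c` -/
noncomputable def al (c : G ⧸ U) : A := (exists_al U A c).choose

theorem al_smul (c : G ⧸ U) : (al U A c : G) • om U A c = c := (exists_al U A c).choose_spec

/-- coset representatives adapted to the `A`-orbits -/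
noncomputable def ar (c : G ⧸ U) : G := (al U A c : G) * rep U (om U A c)

theorem ar_mk (c : G ⧸ U) : ((ar U A c : G) : G ⧸ U) = c := by
  unfold ar
  have h1 : (((al U A c : G) * rep U (om U A c) : G) : G ⧸ U) =
      (al U A c : G) • ((rep U (om U A c) : G) : G ⧸ U) := rfl
  rw [h1, mk_rep, al_smul]

end adapted

/-- **transfer of a stable crossed homomorphism vanishing on `A`**: its restriction to `A` is a
coboundary. -/
theorem Tr_of_stable [Fintype (G ⧸ U)] (A : Subgroup G) (θ : G → K)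
    (hst : ∀ g : G, ∃ z : K, ∀ a ∈ A, g * a * g⁻¹ ∈ U →
      θ (g * a * g⁻¹) = z⁻¹ * cj K (g * a * g⁻¹) z) :
    ∃ W : K, ∀ a ∈ A, Tr K U (ar U A) θ a = W⁻¹ * cj K a W := by
  classical
  choose z hz using hst
  -- the local factor
  let w : G ⧸ U → K := fun c => cj K (ar U A c) (z (rep U (om U A c))⁻¹)
  refine ⟨∏ c : G ⧸ U, w c, fun a ha => ?_⟩
  unfold Tr
  have hterm : ∀ c : G ⧸ U, cj K (ar U A (a • c)) (θ ((ar U A (a • c))⁻¹ * a * ar U A c)) =
      (w (a • c))⁻¹ * cj K a (w c) := by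
    intro c
    have hom : om U A (a • c) = om U A c := om_smul U A ⟨a, ha⟩ c
    set t := rep U (om U A c) with ht
    -- the element of `A`
    set b : G := (al U A (a • c) : G)⁻¹ * a * (al U A c : G) with hb
    have hbA : b ∈ A :=
      A.mul_mem (A.mul_mem (A.inv_mem (al U A (a • c)).2) ha) (al U A c).2
    have e1 : (ar U A (a • c))⁻¹ * a * ar U A c = t⁻¹ * b * t⁻¹⁻¹ := by
      unfold ar
      rw [hom, hb, ← ht]
      group
    have hmemU : t⁻¹ * b * t⁻¹⁻¹ ∈ U := by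
      rw [← e1]
      exact cocyc_mem' U (ar_mk U A) a c
    have h2 := hz t⁻¹ b hbA hmemU
    rw [e1, h2, map_mul, map_inv]
    have e2 : ar U A (a • c) * (t⁻¹ * b * t⁻¹⁻¹) = a * ar U A c := by
      unfold ar
      rw [hom, hb, ← ht]
      group
    show (cj K (ar U A (a • c)) (z t⁻¹))⁻¹ * cj K (ar U A (a • c)) (cj K (t⁻¹ * b * t⁻¹⁻¹) (z t⁻¹)) =
      (cj K (ar U A (a • c)) (z (rep U (om U A (a • c)))⁻¹))⁻¹ *
        cj K a (cj K (ar U A c) (z (rep U (om U A c))⁻¹))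
    rw [hom, ← ht, ← cj_mul, ← cj_mul, e2]
  simp_rw [hterm]
  rw [Finset.prod_mul_distrib, Finset.prod_inv_distrib, map_prod]
  congr 2
  exact Fintype.prod_equiv (MulAction.toPerm a) _ _ (fun c => rfl)

/-- **Complements through a stable partial complement.**  Let `K` be abelian normal in the finite
group `G`, `K ≤ U` with `(|K|, |G : U|) = 1`, and `A` a complement of `K` in `U` such that for
every `g : G` some `z ∈ K` conjugates `g A g⁻¹ ∩ U` into `A`.  Then `K` has a complement `H` in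
`G` with `A ≤ H`. -/
theorem exists_isComplement'_ge [Finite G] (hKU : K ≤ U) (hcop : (Nat.card K).Coprime U.index)
    (A : Subgroup G) (hAK : A ⊓ K = ⊥) (hKA : K ⊔ A = U)
    (hst : ∀ g : G, ∃ z ∈ K, ∀ a ∈ A, g * a * g⁻¹ ∈ U → z * (g * a * g⁻¹) * z⁻¹ ∈ A) :
    ∃ H : Subgroup G, Subgroup.IsComplement' K H ∧ A ≤ H := by
  classical
  have : Fintype (G ⧸ U) := Fintype.ofFinite _
  obtain ⟨θU, hθU, hcr⟩ := exists_kpart K U A hAK hKA
  obtain ⟨e, he⟩ := exists_zpow_root K hcop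
  have hθUK : ∀ k : K, θU k = k := by
    intro k
    have := hθU k 1 A.one_mem
    rwa [mul_one] at this
  have hθUA : ∀ a ∈ A, θU a = 1 := by
    intro a ha
    have := hθU 1 a ha
    simpa using this
  -- stability in crossed-homomorphism form
  have hst' : ∀ g : G, ∃ z : K, ∀ a ∈ A, g * a * g⁻¹ ∈ U →
      θU (g * a * g⁻¹) = z⁻¹ * cj K (g * a * g⁻¹) z := by
    intro g
    obtain ⟨z, hzK, hz⟩ := hst g
    refine ⟨⟨z, hzK⟩, fun a ha hu => ?_⟩
    have ha' := hz a ha hu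
    set u := g * a * g⁻¹ with hu_def
    set a' := z * u * z⁻¹ with ha'_def
    -- `u = (z⁻¹ * a' z a'⁻¹) * a'`
    have e1 : u = (((⟨z, hzK⟩ : K)⁻¹ * cj K a' ⟨z, hzK⟩ : K) : G) * a' := by
      simp only [Subgroup.coe_mul, Subgroup.coe_inv, cj_apply]
      rw [ha'_def]; group
    have e2 : cj K a' ⟨z, hzK⟩ = cj K u ⟨z, hzK⟩ := by
      rw [ha'_def, cj_mul, cj_mul, cj_of_mem K (K.inv_mem hzK), cj_of_mem K hzK]
    conv_lhs => rw [e1]
    rw [hθU _ _ ha', e2]
  obtain ⟨W, hW⟩ := Tr_of_stable K U A θU hst'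
  set Θ := Tr K U (ar U A) θU with hΘ
  have hΘmul : ∀ g g' : G, Θ (g * g') = Θ g * cj K g (Θ g') := Tr_mul K U (ar_mk U A) θU hcr
  have hΘK : ∀ k : K, Θ k = k ^ U.index := Tr_of_mem K U hKU θU hθUK
  obtain ⟨W₁, hW₁⟩ : ∃ W₁ : K, W₁ = W ^ e := ⟨_, rfl⟩
  -- the corrected crossed homomorphism
  let θ₂ : G → K := fun g => (Θ g) ^ e * (W₁⁻¹ * cj K g W₁)⁻¹
  have hθ₂mul : ∀ g g' : G, θ₂ (g * g') = θ₂ g * cj K g (θ₂ g') := by
    intro g g'
    show (Θ (g * g')) ^ e * (W₁⁻¹ * cj K (g * g') W₁)⁻¹ =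
      (Θ g) ^ e * (W₁⁻¹ * cj K g W₁)⁻¹ * cj K g ((Θ g') ^ e * (W₁⁻¹ * cj K g' W₁)⁻¹)
    have e1 : (Θ (g * g')) ^ e = (Θ g) ^ e * (cj K g (Θ g')) ^ e := by
      rw [hΘmul, mul_zpow]
    have e2 : cj K g ((Θ g') ^ e * (W₁⁻¹ * cj K g' W₁)⁻¹) =
        (cj K g (Θ g')) ^ e * ((cj K g W₁)⁻¹ * cj K (g * g') W₁)⁻¹ := by
      rw [map_mul, map_zpow, map_inv, map_mul, map_inv, cj_mul]
    rw [e1, e2]
    exact (comm_id (M := K) _ _ _ _ _).symm
  have hθ₂K : ∀ k : K, θ₂ k = k := by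
    intro k
    show (Θ k) ^ e * (W₁⁻¹ * cj K (k : G) W₁)⁻¹ = k
    rw [hΘK, he, cj_of_mem K k.2, inv_mul_cancel, inv_one, mul_one]
  have hθ₂A : ∀ a ∈ A, θ₂ a = 1 := by
    intro a ha
    show (Θ a) ^ e * (W₁⁻¹ * cj K a W₁)⁻¹ = 1
    rw [hW a ha, mul_zpow, inv_zpow, ← map_zpow, ← hW₁, mul_inv_cancel]
  obtain ⟨H, hH, hHmem⟩ := exists_isComplement'_of_crossed' K θ₂ hθ₂mul hθ₂K
  exact ⟨H, hH, fun a ha => (hHmem a).2 (hθ₂A a ha)⟩

end Cfsg.H5.StC
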