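import Mathlib
import Cfsg.Agent.H5.StableCompl

/-!
# helper5 library: abstract uniqueness of models

Two finite groups `G₁, G₂` containing (via `ι₁, ι₂`) the same `p`-group `S` as a Sylow
`p`-subgroup, with the same fusion on `S`, and with a subgroup `Q` of `S` whose images are normal
and self-centralizing in `G₁` and `G₂`, are isomorphic by an isomorphism compatible with `ι₁, ι₂`
(`Cfsg.H5.MU.Dat.exists_iso`).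
-/

set_option autoImplicit false

namespace Cfsg.H5.MU

open Cfsg.H5.StC

/-- the data: two embeddings of `S`, a subgroup `Q` with normal self-centralizing images. -/
structure Dat (S : Type*) (G₁ : Type*) (G₂ : Type*) [Group S] [Group G₁] [Group G₂] where
  ι₁ : S →* G₁
  ι₂ : S →* G₂
  Q : Subgroup S
  inj₁ : Function.Injective ι₁
  inj₂ : Function.Injective ι₂
  nor₁ : (Q.map ι₁).Normal
  nor₂ : (Q.map ι₂).Normal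
  cen₁ : Subgroup.centralizer ((Q.map ι₁ : Subgroup G₁) : Set G₁) ≤ Q.map ι₁
  cen₂ : Subgroup.centralizer ((Q.map ι₂ : Subgroup G₂) : Set G₂) ≤ Q.map ι₂

namespace Dat

variable {S : Type*} {G₁ : Type*} {G₂ : Type*} [Group S] [Group G₁] [Group G₂]
  (D : Dat S G₁ G₂)

theorem conj_mem₁ (g : G₁) {x : S} (hx : x ∈ D.Q) : ∃ y ∈ D.Q, g * D.ι₁ x * g⁻¹ = D.ι₁ y := by
  obtain ⟨y, hy, e⟩ := D.nor₁.conj_mem (D.ι₁ x) ⟨x, hx, rfl⟩ g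
  exact ⟨y, hy, e.symm⟩

theorem conj_mem₂ (g : G₂) {x : S} (hx : x ∈ D.Q) : ∃ y ∈ D.Q, g * D.ι₂ x * g⁻¹ = D.ι₂ y := by
  obtain ⟨y, hy, e⟩ := D.nor₂.conj_mem (D.ι₂ x) ⟨x, hx, rfl⟩ g
  exact ⟨y, hy, e.symm⟩

theorem Q_conj (s : S) {x : S} (hx : x ∈ D.Q) : s * x * s⁻¹ ∈ D.Q := by
  obtain ⟨y, hy, e⟩ := D.conj_mem₁ (D.ι₁ s) hx
  have : s * x * s⁻¹ = y := D.inj₁ (by rw [← e, map_mul, map_mul, map_inv])
  rw [this]; exact hy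

/-- the pullback of `G₁` and `G₂` over the automorphism group of `Q` -/
def Pi : Subgroup (G₁ × G₂) where
  carrier := {g | ∀ x ∈ D.Q, ∃ y ∈ D.Q, g.1 * D.ι₁ x * g.1⁻¹ = D.ι₁ y ∧
    g.2 * D.ι₂ x * g.2⁻¹ = D.ι₂ y}
  mul_mem' := by
    intro a b ha hb x hx
    obtain ⟨y, hy, e1, e2⟩ := hb x hx
    obtain ⟨w, hw, f1, f2⟩ := ha y hy
    refine ⟨w, hw, ?_, ?_⟩
    · show a.1 * b.1 * D.ι₁ x * (a.1 * b.1)⁻¹ = D.ι₁ w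
      rw [← f1, ← e1]; group
    · show a.2 * b.2 * D.ι₂ x * (a.2 * b.2)⁻¹ = D.ι₂ w
      rw [← f2, ← e2]; group
  one_mem' := by
    intro x hx
    exact ⟨x, hx, by simp, by simp⟩
  inv_mem' := by
    intro a ha x hx
    obtain ⟨y, hy, e⟩ := D.conj_mem₁ a.1⁻¹ hx
    obtain ⟨w, hw, f1, f2⟩ := ha y hy
    have hwx : w = x := D.inj₁ (by rw [← f1, ← e]; group)
    subst hwx
    refine ⟨y, hy, e, ?_⟩
    show a.2⁻¹ * D.ι₂ w * a.2⁻¹⁻¹ = D.ι₂ y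
    rw [← f2]; group

theorem mem_Pi {g : G₁ × G₂} : g ∈ D.Pi ↔ ∀ x ∈ D.Q, ∃ y ∈ D.Q, g.1 * D.ι₁ x * g.1⁻¹ = D.ι₁ y ∧
    g.2 * D.ι₂ x * g.2⁻¹ = D.ι₂ y := Iff.rfl

/-- first projection -/
def pr₁ : ↥D.Pi →* G₁ := (MonoidHom.fst G₁ G₂).comp D.Pi.subtype

/-- second projection -/
def pr₂ : ↥D.Pi →* G₂ := (MonoidHom.snd G₁ G₂).comp D.Pi.subtype

theorem pr₁_apply (g : ↥D.Pi) : D.pr₁ g = (g : G₁ × G₂).1 := rfl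
theorem pr₂_apply (g : ↥D.Pi) : D.pr₂ g = (g : G₁ × G₂).2 := rfl

theorem ext_Pi {g g' : ↥D.Pi} (h1 : D.pr₁ g = D.pr₁ g') (h2 : D.pr₂ g = D.pr₂ g') : g = g' :=
  Subtype.ext (Prod.ext h1 h2)

/-- the diagonal embedding of `S` -/
def δ : S →* ↥D.Pi := (D.ι₁.prod D.ι₂).codRestrict D.Pi (fun s => by
  intro x hx
  refine ⟨s * x * s⁻¹, D.Q_conj s hx, ?_, ?_⟩
  · show D.ι₁ s * D.ι₁ x * (D.ι₁ s)⁻¹ = _
    rw [map_mul, map_mul, map_inv]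
  · show D.ι₂ s * D.ι₂ x * (D.ι₂ s)⁻¹ = _
    rw [map_mul, map_mul, map_inv])

theorem pr₁_δ (s : S) : D.pr₁ (D.δ s) = D.ι₁ s := rfl
theorem pr₂_δ (s : S) : D.pr₂ (D.δ s) = D.ι₂ s := rfl

theorem δ_injective : Function.Injective D.δ := fun a b h =>
  D.inj₁ (by rw [← pr₁_δ, ← pr₁_δ, h])

/-- the kernel of the first projection -/
def K : Subgroup ↥D.Pi := D.pr₁.ker

instance : D.K.Normal := MonoidHom.normal_ker _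

theorem mem_K {g : ↥D.Pi} : g ∈ D.K ↔ D.pr₁ g = 1 := MonoidHom.mem_ker

theorem pr₂_mem_centralizer {k : ↥D.Pi} (hk : k ∈ D.K) :
    D.pr₂ k ∈ Subgroup.centralizer ((D.Q.map D.ι₂ : Subgroup G₂) : Set G₂) := by
  rw [Subgroup.mem_centralizer_iff]
  rintro _ ⟨x, hx, rfl⟩
  obtain ⟨y, hy, e1, e2⟩ := k.2 x hx
  have h1 : (k : G₁ × G₂).1 = 1 := D.mem_K.mp hk
  rw [h1, one_mul, inv_one, mul_one] at e1
  have hxy : x = y := D.inj₁ e1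
  subst hxy
  show D.ι₂ x * (k : G₁ × G₂).2 = (k : G₁ × G₂).2 * D.ι₂ x
  calc D.ι₂ x * (k : G₁ × G₂).2 = ((k : G₁ × G₂).2 * D.ι₂ x * (k : G₁ × G₂).2⁻¹) * (k : G₁ × G₂).2 := by
        rw [e2]
    _ = (k : G₁ × G₂).2 * D.ι₂ x := by group

theorem exists_of_mem_K {k : ↥D.Pi} (hk : k ∈ D.K) : ∃ z ∈ D.Q, D.pr₂ k = D.ι₂ z := by
  obtain ⟨z, hz, e⟩ := D.cen₂ (D.pr₂_mem_centralizer hk)
  exact ⟨z, hz, e.symm⟩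

instance : IsMulCommutative D.K := by
  refine ⟨⟨fun a b => ?_⟩⟩
  apply Subtype.ext
  apply D.ext_Pi
  · show D.pr₁ ((a : ↥D.Pi) * b) = D.pr₁ ((b : ↥D.Pi) * a)
    rw [map_mul, map_mul, D.mem_K.mp a.2, D.mem_K.mp b.2]
  · show D.pr₂ ((a : ↥D.Pi) * b) = D.pr₂ ((b : ↥D.Pi) * a)
    rw [map_mul, map_mul]
    obtain ⟨z, hz, e⟩ := D.exists_of_mem_K b.2
    have := D.pr₂_mem_centralizer a.2
    rw [Subgroup.mem_centralizer_iff] at this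
    rw [e]
    exact (this _ ⟨z, hz, rfl⟩).symm

/-- the diagonal copy of `S` -/
def A : Subgroup ↥D.Pi := D.δ.range

theorem A_inf_K : D.A ⊓ D.K = ⊥ := by
  rw [eq_bot_iff]
  rintro g ⟨⟨s, rfl⟩, hk⟩
  have h1 : D.ι₁ s = 1 := D.mem_K.mp hk
  have : s = 1 := D.inj₁ (by rw [h1, map_one])
  rw [this, map_one]
  exact Subgroup.mem_bot.mpr rfl

/-- `U = K A` -/
def U : Subgroup ↥D.Pi := D.K ⊔ D.A

theorem U_le : D.U ≤ (D.ι₁.range).comap D.pr₁ := by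
  refine sup_le ?_ ?_
  · intro k hk
    show D.pr₁ k ∈ D.ι₁.range
    rw [D.mem_K.mp hk]; exact one_mem _
  · rintro _ ⟨s, rfl⟩
    exact ⟨s, rfl⟩

theorem U_eq : D.U = (D.ι₁.range).comap D.pr₁ := by
  apply le_antisymm D.U_le
  intro g hg
  obtain ⟨s, hs⟩ := hg
  have h1 : g * (D.δ s)⁻¹ ∈ D.K := by
    rw [D.mem_K, map_mul, map_inv, D.pr₁_δ, hs, mul_inv_cancel]
  have h2 : g = g * (D.δ s)⁻¹ * D.δ s := by group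
  rw [h2]
  exact Subgroup.mul_mem _ ((le_sup_left : D.K ≤ D.U) h1) ((le_sup_right : D.A ≤ D.U) ⟨s, rfl⟩)

theorem isPGroup_K (p : ℕ) (hS : IsPGroup p S) : IsPGroup p D.K := by
  intro k
  obtain ⟨z, hz, e⟩ := D.exists_of_mem_K k.2
  obtain ⟨n, hn⟩ := hS z
  refine ⟨n, ?_⟩
  apply Subtype.ext
  apply D.ext_Pi
  · rw [Subgroup.coe_pow, map_pow, D.mem_K.mp k.2, one_pow]
    rfl
  · rw [Subgroup.coe_pow, map_pow, e, ← map_pow, hn, map_one]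
    rfl

theorem card_K_coprime [Finite G₁] [Finite G₂] (p : ℕ) [Fact p.Prime] (hS : IsPGroup p S)
    (hT : (D.ι₁.range.index).Coprime p) : (Nat.card D.K).Coprime D.U.index := by
  obtain ⟨n, hn⟩ := IsPGroup.iff_card.mp (D.isPGroup_K p hS)
  rw [hn]
  apply Nat.Coprime.pow_left
  have h1 : D.U.index = (D.ι₁.range).relIndex D.pr₁.range := by
    rw [D.U_eq, Subgroup.index_comap]
  have h2 : D.ι₁.range ≤ D.pr₁.range := by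
    rintro _ ⟨s, rfl⟩
    exact ⟨D.δ s, rfl⟩
  have h3 : D.U.index ∣ D.ι₁.range.index := h1 ▸ Subgroup.relIndex_dvd_index_of_le h2
  exact (Nat.Coprime.coprime_dvd_left h3 hT).symm

section Fusion

variable (h12 : ∀ (g₁ : G₁) (P : Subgroup S), (∀ x ∈ P, g₁ * D.ι₁ x * g₁⁻¹ ∈ D.ι₁.range) →
      ∃ g₂ : G₂, ∀ x ∈ P, ∀ y : S, g₁ * D.ι₁ x * g₁⁻¹ = D.ι₁ y → g₂ * D.ι₂ x * g₂⁻¹ = D.ι₂ y)

include h12 in
theorem pr₁_surjective : Function.Surjective D.pr₁ := by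
  intro g₁
  obtain ⟨g₂, hg₂⟩ := h12 g₁ D.Q (fun x hx => by
    obtain ⟨y, hy, e⟩ := D.conj_mem₁ g₁ hx
    exact ⟨y, e.symm⟩)
  refine ⟨⟨(g₁, g₂), fun x hx => ?_⟩, rfl⟩
  obtain ⟨y, hy, e⟩ := D.conj_mem₁ g₁ hx
  exact ⟨y, hy, e, hg₂ x hx y e⟩

theorem pr₂_surjective (h21 : ∀ g₂ : G₂, ∃ g₁ : G₁, ∀ x ∈ D.Q, ∀ y : S,
    g₂ * D.ι₂ x * g₂⁻¹ = D.ι₂ y → g₁ * D.ι₁ x * g₁⁻¹ = D.ι₁ y) : Function.Surjective D.pr₂ := by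
  intro g₂
  obtain ⟨g₁, hg₁⟩ := h21 g₂
  refine ⟨⟨(g₁, g₂), fun x hx => ?_⟩, rfl⟩
  obtain ⟨y, hy, e⟩ := D.conj_mem₂ g₂ hx
  exact ⟨y, hy, hg₁ x hx y e, e⟩

include h12 in
theorem stable (g : ↥D.Pi) : ∃ z ∈ D.K, ∀ a ∈ D.A, g * a * g⁻¹ ∈ D.U →
    z * (g * a * g⁻¹) * z⁻¹ ∈ D.A := by
  obtain ⟨P, hP⟩ : ∃ P : Subgroup S,
      P = (D.ι₁.range).comap ((MulAut.conj (D.pr₁ g)).toMonoidHom.comp D.ι₁) := ⟨_, rfl⟩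
  have hPmem : ∀ x, x ∈ P ↔ D.pr₁ g * D.ι₁ x * (D.pr₁ g)⁻¹ ∈ D.ι₁.range := by
    intro x
    rw [hP]
    rfl
  obtain ⟨h₂, hh₂⟩ := h12 (D.pr₁ g) P (fun x hx => (hPmem x).mp hx)
  have hQP : D.Q ≤ P := fun x hx => by
    rw [hPmem]
    obtain ⟨y, hy, e⟩ := D.conj_mem₁ (D.pr₁ g) hx
    exact ⟨y, e.symm⟩
  have hc : ∀ x ∈ D.Q, (h₂ * (D.pr₂ g)⁻¹) * D.ι₂ x * (h₂ * (D.pr₂ g)⁻¹)⁻¹ = D.ι₂ x := by
    intro x hx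
    obtain ⟨x', hx', e⟩ := D.conj_mem₁ (D.pr₁ g)⁻¹ hx
    obtain ⟨y, hy, f1, f2⟩ := g.2 x' hx'
    have f1' : D.pr₁ g * D.ι₁ x' * (D.pr₁ g)⁻¹ = D.ι₁ y := f1
    have f2' : D.pr₂ g * D.ι₂ x' * (D.pr₂ g)⁻¹ = D.ι₂ y := f2
    have hyx : y = x := D.inj₁ (by rw [← f1', ← e]; group)
    subst hyx
    have h4 := hh₂ x' (hQP hx') y f1'
    calc (h₂ * (D.pr₂ g)⁻¹) * D.ι₂ y * (h₂ * (D.pr₂ g)⁻¹)⁻¹
        = (h₂ * (D.pr₂ g)⁻¹) * (D.pr₂ g * D.ι₂ x' * (D.pr₂ g)⁻¹) * (h₂ * (D.pr₂ g)⁻¹)⁻¹ := by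
          rw [f2']
      _ = h₂ * D.ι₂ x' * h₂⁻¹ := by group
      _ = D.ι₂ y := h4
  have hzmem : ((1 : G₁), h₂ * (D.pr₂ g)⁻¹) ∈ D.Pi := fun x hx => ⟨x, hx, by simp, hc x hx⟩
  refine ⟨⟨_, hzmem⟩, D.mem_K.mpr rfl, ?_⟩
  rintro _ ⟨s, rfl⟩ hU
  have h3 : D.pr₁ (g * D.δ s * g⁻¹) = D.pr₁ g * D.ι₁ s * (D.pr₁ g)⁻¹ := by
    rw [map_mul, map_mul, map_inv, D.pr₁_δ]
  have h3' : D.pr₂ (g * D.δ s * g⁻¹) = D.pr₂ g * D.ι₂ s * (D.pr₂ g)⁻¹ := by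
    rw [map_mul, map_mul, map_inv, D.pr₂_δ]
  have hsP : s ∈ P := by
    rw [hPmem, ← h3]
    exact D.U_le hU
  obtain ⟨y, hy⟩ := (hPmem s).mp hsP
  have h4 := hh₂ s hsP y hy.symm
  refine ⟨y, ?_⟩
  have hz1 : D.pr₁ (⟨_, hzmem⟩ : ↥D.Pi) = 1 := rfl
  have hz2 : D.pr₂ (⟨_, hzmem⟩ : ↥D.Pi) = h₂ * (D.pr₂ g)⁻¹ := rfl
  apply D.ext_Pi
  · rw [D.pr₁_δ, map_mul, map_mul, map_inv, h3, hz1, hy]
    group
  · rw [D.pr₂_δ, map_mul, map_mul, map_inv, h3', hz2, ← h4]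
    group

end Fusion

theorem pr₁_mem_centralizer {k : ↥D.Pi} (hk : D.pr₂ k = 1) :
    D.pr₁ k ∈ Subgroup.centralizer ((D.Q.map D.ι₁ : Subgroup G₁) : Set G₁) := by
  rw [Subgroup.mem_centralizer_iff]
  rintro _ ⟨x, hx, rfl⟩
  obtain ⟨y, hy, e1, e2⟩ := k.2 x hx
  have h1 : (k : G₁ × G₂).2 = 1 := hk
  rw [h1, one_mul, inv_one, mul_one] at e2
  have hxy : x = y := D.inj₂ e2
  subst hxy
  show D.ι₁ x * (k : G₁ × G₂).1 = (k : G₁ × G₂).1 * D.ι₁ x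
  calc D.ι₁ x * (k : G₁ × G₂).1 = ((k : G₁ × G₂).1 * D.ι₁ x * (k : G₁ × G₂).1⁻¹) * (k : G₁ × G₂).1 := by
        rw [e1]
    _ = (k : G₁ × G₂).1 * D.ι₁ x := by group

/-- **Abstract uniqueness of models.** -/
theorem exists_iso [Finite G₁] [Finite G₂] (p : ℕ) [Fact p.Prime] (hS : IsPGroup p S)
    (hT : (D.ι₁.range.index).Coprime p)
    (h12 : ∀ (g₁ : G₁) (P : Subgroup S), (∀ x ∈ P, g₁ * D.ι₁ x * g₁⁻¹ ∈ D.ι₁.range) →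
      ∃ g₂ : G₂, ∀ x ∈ P, ∀ y : S, g₁ * D.ι₁ x * g₁⁻¹ = D.ι₁ y → g₂ * D.ι₂ x * g₂⁻¹ = D.ι₂ y)
    (h21 : ∀ g₂ : G₂, ∃ g₁ : G₁, ∀ x ∈ D.Q, ∀ y : S,
      g₂ * D.ι₂ x * g₂⁻¹ = D.ι₂ y → g₁ * D.ι₁ x * g₁⁻¹ = D.ι₁ y) :
    ∃ φ : G₁ ≃* G₂, ∀ x : S, φ (D.ι₁ x) = D.ι₂ x := by
  obtain ⟨H, hH, hAH⟩ := exists_isComplement'_ge D.K D.U le_sup_left
    (D.card_K_coprime p hS hT) D.A D.A_inf_K rfl (D.stable h12)
  have hdisj : ∀ g ∈ H, g ∈ D.K → g = 1 := fun g hg hk =>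
    Subgroup.disjoint_def.mp hH.disjoint hk hg
  have hinj₁ : Function.Injective (D.pr₁.comp H.subtype) := by
    rw [injective_iff_map_eq_one]
    intro h hh
    exact Subtype.ext (hdisj h h.2 (D.mem_K.mpr hh))
  have hsurj₁ : Function.Surjective (D.pr₁.comp H.subtype) := by
    intro g₁
    obtain ⟨g, rfl⟩ := D.pr₁_surjective h12 g₁
    obtain ⟨⟨k, h⟩, e, -⟩ := (Subgroup.isComplement'_def.mp hH).existsUnique g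
    refine ⟨h, ?_⟩
    have e' : (k : ↥D.Pi) * (h : ↥D.Pi) = g := e
    show D.pr₁ (h : ↥D.Pi) = D.pr₁ g
    rw [← e', map_mul, D.mem_K.mp k.2, one_mul]
  have hinj₂ : Function.Injective (D.pr₂.comp H.subtype) := by
    rw [injective_iff_map_eq_one]
    intro h hh
    have hh' : D.pr₂ (h : ↥D.Pi) = 1 := hh
    obtain ⟨z, hz, e⟩ := D.cen₁ (D.pr₁_mem_centralizer hh')
    have hδH : D.δ z ∈ H := hAH ⟨z, rfl⟩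
    have hw : (h : ↥D.Pi)⁻¹ * D.δ z = 1 := by
      apply hdisj _ (H.mul_mem (H.inv_mem h.2) hδH)
      rw [D.mem_K, map_mul, map_inv, D.pr₁_δ, e, inv_mul_cancel]
    have hhz : (h : ↥D.Pi) = D.δ z := by
      have := congrArg (fun t => (h : ↥D.Pi) * t) hw
      simpa using this.symm
    have hz1 : z = 1 := D.inj₂ (by rw [map_one, ← D.pr₂_δ, ← hhz, hh'])
    apply Subtype.ext
    rw [hhz, hz1, map_one]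
    rfl
  have hsurj₂ : Function.Surjective (D.pr₂.comp H.subtype) := by
    intro g₂
    obtain ⟨g, rfl⟩ := D.pr₂_surjective h21 g₂
    obtain ⟨⟨k, h⟩, e, -⟩ := (Subgroup.isComplement'_def.mp hH).existsUnique g
    have e' : (k : ↥D.Pi) * (h : ↥D.Pi) = g := e
    obtain ⟨z, hz, ez⟩ := D.exists_of_mem_K k.2
    refine ⟨⟨D.δ z * h, H.mul_mem (hAH ⟨z, rfl⟩) h.2⟩, ?_⟩
    show D.pr₂ (D.δ z * (h : ↥D.Pi)) = D.pr₂ g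
    rw [← e', map_mul, map_mul, D.pr₂_δ, ez]
  obtain ⟨E₁, hE₁⟩ : ∃ E₁ : ↥H ≃* G₁, ∀ h : ↥H, E₁ h = D.pr₁ (h : ↥D.Pi) :=
    ⟨MulEquiv.ofBijective _ ⟨hinj₁, hsurj₁⟩, fun h => rfl⟩
  obtain ⟨E₂, hE₂⟩ : ∃ E₂ : ↥H ≃* G₂, ∀ h : ↥H, E₂ h = D.pr₂ (h : ↥D.Pi) :=
    ⟨MulEquiv.ofBijective _ ⟨hinj₂, hsurj₂⟩, fun h => rfl⟩
  refine ⟨E₁.symm.trans E₂, fun x => ?_⟩
  have h1 : E₁ ⟨D.δ x, hAH ⟨x, rfl⟩⟩ = D.ι₁ x := by rw [hE₁]; rfl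
  show E₂ (E₁.symm (D.ι₁ x)) = D.ι₂ x
  rw [← h1, MulEquiv.symm_apply_apply, hE₂]
  rfl

end Dat

end Cfsg.H5.MU
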