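import Mathlib
import Cfsg.Agent.H5.ModelUniq
import Cfsg.Agent.H26.NormalizerConstrained
import Cfsg.Agent.Lib.Helper17.Coprime

/-!
# helper5 library: uniqueness of models of constrained fusion systems

`Cfsg.H5.MU.model_unique`: two models of a fusion system with a normal centric subgroup are
isomorphic compatibly with the embeddings of `S`.
-/

set_option autoImplicit false

namespace Cfsg.H5.MU

open Cfsg Cfsg.FusionSystem Cfsg.Agent.Lib.Helper27 Cfsg.Agent.Lib.Helper1 Cfsg.Agent.H26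
  Cfsg.Agent.Lib.Helper17

section Cent

variable {G : Type*} [Group G] [Finite G] {p : ℕ} [Fact p.Prime]

/-- a normal `p`-subgroup `N` containing `T ∩ C_G(N)` (`T` Sylow) in a group with
`C_G(O_p(G)) ≤ O_p(G)` is self-centralizing. -/
theorem centralizer_le_of_sylow (Sy : Sylow p G) (N : Subgroup G) [hN : N.Normal]
    (hNS : N ≤ Sy) (hTC : ∀ t ∈ Sy, t ∈ Subgroup.centralizer (N : Set G) → t ∈ N)
    (hcc : Subgroup.centralizer ((pCore p G : Subgroup G) : Set G) ≤ pCore p G) :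
    Subgroup.centralizer (N : Set G) ≤ N := by
  have hRn : (pCore p G).Normal := pCore_normal (G := G) p
  have hRp : IsPGroup p (pCore p G) := pCore_isPGroup p
  have hNp : IsPGroup p N := Sy.2.to_le hNS
  -- `p'`-elements of the centralizer are trivial
  have hp' : ∀ y ∈ Subgroup.centralizer (N : Set G), (orderOf y).Coprime p → y = 1 := by
    intro y hy hcop
    have hab : ∀ b ∈ N, y * b = b * y := fun b hb =>
      ((Subgroup.mem_centralizer_iff.mp hy) b hb).symm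
    have hnorm : Subgroup.normalizer ((pCore p G : Subgroup G) : Set G) = ⊤ :=
      Subgroup.normalizer_eq_top_iff.mpr hRn
    have h1 := thompson_AxB hNp hcop hab (Nat.card (pCore p G)) (pCore p G) rfl hRp
      (by rw [hnorm]; exact Subgroup.mem_top _) (by rw [hnorm]; exact le_top)
      (fun x hx hxb => by
        have hxc : x ∈ Subgroup.centralizer (N : Set G) :=
          Subgroup.mem_centralizer_iff.mpr (fun b hb => hxb b hb)
        exact hab x (hTC x (pCore_le_sylow Sy hx) hxc))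
    have hyR : y ∈ pCore p G :=
      hcc (Subgroup.mem_centralizer_iff.mpr (fun x hx => (h1 x hx).symm))
    obtain ⟨k, hk⟩ := (hRp.to_le le_rfl) ⟨y, hyR⟩
    have hk' : y ^ p ^ k = 1 := by
      have := congrArg Subtype.val hk
      simpa using this
    have hdvd : orderOf y ∣ p ^ k := orderOf_dvd_of_pow_eq_one hk'
    have h2 : orderOf y ∣ 1 := by
      have := Nat.Coprime.dvd_of_dvd_mul_right (Nat.Coprime.pow_right k hcop)
        (by rw [one_mul]; exact hdvd : orderOf y ∣ 1 * p ^ k)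
      exact this
    exact orderOf_eq_one_iff.mp (Nat.dvd_one.mp h2)
  have hCp : IsPGroup p (Subgroup.centralizer (N : Set G)) := by
    intro y
    obtain ⟨k, m, hm, hkm⟩ := Nat.exists_eq_pow_mul_and_not_dvd
      (orderOf_pos (y : G)).ne' p (Fact.out : p.Prime).ne_one
    refine ⟨k, ?_⟩
    apply Subtype.ext
    rw [Subgroup.coe_pow, Subgroup.coe_one]
    apply hp' _ (Subgroup.pow_mem _ y.2 _)
    have hdvd : p ^ k ∣ orderOf (y : G) := ⟨m, hkm⟩
    rw [orderOf_pow_of_dvd (pow_ne_zero k (Fact.out : p.Prime).ne_zero) hdvd, hkm,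
      Nat.mul_div_cancel_left m (pow_pos (Fact.out : p.Prime).pos k)]
    exact ((Fact.out : p.Prime).coprime_iff_not_dvd.mpr hm).symm
  have hCle : Subgroup.centralizer (N : Set G) ≤ Sy :=
    (le_pCore inferInstance hCp).trans (pCore_le_sylow Sy)
  intro c hc
  exact hTC c (hCle hc) hc

end Cent

section Model

variable {Ω : Type*} [Group Ω] {S : Subgroup Ω} {F : FusionSystem S}

/-- transfer of fusion between two groups realizing the same system -/
theorem transfer_fusion {G : Type*} {G' : Type*} [Group G] [Group G'] {ι : S →* G} {ι' : S →* G'}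
    (hr : F.IsRealizedBy ι) (hr' : F.IsRealizedBy ι') (g : G) (P : Subgroup ↥S)
    (hP : ∀ x ∈ P, g * ι x * g⁻¹ ∈ ι.range) :
    ∃ g' : G', ∀ x ∈ P, ∀ y : ↥S, g * ι x * g⁻¹ = ι y → g' * ι' x * g'⁻¹ = ι' y := by
  have hPS : P.map S.subtype ≤ S := by
    rintro _ ⟨x, -, rfl⟩
    exact x.2
  have hh : ∀ x ∈ P.map S.subtype, g * ext1 ι x * g⁻¹ ∈ ι.range := by
    rintro _ ⟨x, hx, rfl⟩
    show g * ext1 ι (x : Ω) * g⁻¹ ∈ ι.range
    rw [ext1_coe]
    exact hP x hx
  have hφ := rconj_mem_hom hr g hPS hh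
  obtain ⟨-, hφS, g', hg'⟩ := (realized_hom_iff hr' _).mp hφ
  refine ⟨g', fun x hx y hy => ?_⟩
  have hxP : (x : Ω) ∈ P.map S.subtype := ⟨x, hx, rfl⟩
  have h1 := hg' ⟨(x : Ω), hxP⟩
  have h2 := ext1_rconj hr.1 g hPS hh ⟨(x : Ω), hxP⟩
  have h3 : rconj hr.1 g hPS hh ⟨(x : Ω), hxP⟩ = (y : Ω) := by
    apply ext1_inj hr.1 (hφS _) y.2
    rw [h2, ext1_coe, ext1_coe]
    exact hy
  rw [h3] at h1
  simp only [ext1_coe] at h1
  exact h1.symm

variable {p : ℕ} [Fact p.Prime]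

/-- the image of a normal centric subgroup in a model is self-centralizing -/
theorem model_centralizer_le {G : Type*} [Group G] {ι : S →* G} (hM : F.IsModel p G ι)
    {Q : Subgroup Ω} (hQn : F.IsNormal Q) (hQc : F.IsCentric Q) :
    Subgroup.centralizer (((Q.subgroupOf S).map ι : Subgroup G) : Set G) ≤ (Q.subgroupOf S).map ι := by
  obtain ⟨hfin, hreal, ⟨Sy, hSy⟩, hcc⟩ := hM
  have := hfin
  have : ((Q.subgroupOf S).map ι).Normal := model_map_normal hreal Sy hSy hcc hQn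
  apply centralizer_le_of_sylow Sy _ _ _ hcc
  · rintro _ ⟨x, -, rfl⟩
    show ι x ∈ (Sy : Subgroup G)
    rw [hSy]
    exact ⟨x, rfl⟩
  · intro t ht htc
    have ht' : t ∈ (Sy : Subgroup G) := ht
    rw [hSy] at ht'
    obtain ⟨s, rfl⟩ := ht'
    refine ⟨s, ?_, rfl⟩
    show s ∈ Q.subgroupOf S
    rw [Subgroup.mem_subgroupOf]
    apply hQc.2 Q (isConj_refl F hQc.1)
    refine ⟨s.2, ?_⟩
    show (s : Ω) ∈ Subgroup.centralizer (Q : Set Ω)
    rw [Subgroup.mem_centralizer_iff]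
    intro q hq
    have h1 := (Subgroup.mem_centralizer_iff.mp htc) (ι ⟨q, hQc.1 hq⟩)
      ⟨⟨q, hQc.1 hq⟩, Subgroup.mem_subgroupOf.mpr hq, rfl⟩
    rw [← map_mul, ← map_mul] at h1
    exact congrArg Subtype.val (hreal.1 h1)

/-- **Uniqueness of models.** -/
theorem model_unique [Finite S] (hS : IsPGroup p S) {Q : Subgroup Ω} (hQn : F.IsNormal Q)
    (hQc : F.IsCentric Q) {G₁ : Type*} {G₂ : Type*} [Group G₁] [Group G₂] (ι₁ : S →* G₁)
    (ι₂ : S →* G₂) (h₁ : F.IsModel p G₁ ι₁) (h₂ : F.IsModel p G₂ ι₂) :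
    ∃ φ : G₁ ≃* G₂, ∀ x : S, φ (ι₁ x) = ι₂ x := by
  have hc₁ := model_centralizer_le h₁ hQn hQc
  have hc₂ := model_centralizer_le h₂ hQn hQc
  obtain ⟨hfin₁, hreal₁, ⟨Sy₁, hSy₁⟩, hcc₁⟩ := h₁
  obtain ⟨hfin₂, hreal₂, ⟨Sy₂, hSy₂⟩, hcc₂⟩ := h₂
  have := hfin₁
  have := hfin₂
  let D : Dat ↥S G₁ G₂ :=
    { ι₁ := ι₁
      ι₂ := ι₂
      Q := Q.subgroupOf S
      inj₁ := hreal₁.1
      inj₂ := hreal₂.1
      nor₁ := model_map_normal hreal₁ Sy₁ hSy₁ hcc₁ hQn
      nor₂ := model_map_normal hreal₂ Sy₂ hSy₂ hcc₂ hQn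
      cen₁ := hc₁
      cen₂ := hc₂ }
  have hT : (ι₁.range.index).Coprime p := by
    rw [← hSy₁]
    exact ((Fact.out : p.Prime).coprime_iff_not_dvd.mpr Sy₁.not_dvd_index).symm
  exact D.exists_iso p hS hT
    (fun g₁ P hP => transfer_fusion hreal₁ hreal₂ g₁ P hP)
    (fun g₂ => by
      obtain ⟨g₁, hg₁⟩ := transfer_fusion hreal₂ hreal₁ g₂ (Q.subgroupOf S) (fun x hx => by
        obtain ⟨y, -, e⟩ := D.conj_mem₂ g₂ hx
        exact ⟨y, e.symm⟩)
      exact ⟨g₁, hg₁⟩)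

end Model

end Cfsg.H5.MU
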