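import Mathlib
import Cfsg.Agent.H5.ModelUniq2
import Cfsg.Agent.H5.PSolvable
import Cfsg.Agent.S5191
import Cfsg.Agent.Lib.Helper25.PSolv
import Cfsg.Agent.Lib.Helper10.PComponent
import Cfsg.Agent.Lib.Helper27.ModelMain

/-!
# helper5 library: fusion systems of `p`-solvable groups

* `exists_autHom` : for a system realized by `ι : S →* G` and `C ≤ S` with `ι(C) ⊴ G`, the
  conjugation action gives a surjection `G →* Aut_F(C)` with kernel `C_G(ι C)`.
* `isModel_quotient_pPrimeCore` : a finite `p`-solvable group realizing `F` on a Sylow subgroup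
  gives the model `G / O_{p'}(G)`.
* `psolvable_iff` : `F` is realized by a `p`-solvable group iff it is constrained with `Aut_F(O_p(F))`
  `p`-solvable.
-/

set_option autoImplicit false
set_option linter.style.haveILetI false

namespace Cfsg.H5.FPS

open Cfsg Cfsg.FusionSystem Cfsg.Agent.Lib.Helper27 Cfsg.Agent.Lib.Helper1 Cfsg.Agent.H26

variable {Ω : Type*} [Group Ω] {S : Subgroup Ω} {F : FusionSystem S}

section AutHom

variable {G : Type*} [Group G] {ι : S →* G}

/-- the conjugation action of `G` on `C` through `ι` -/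
theorem exists_autHom (hreal : F.IsRealizedBy ι) {C : Subgroup Ω} (hCS : C ≤ S)
    (hn : ((C.subgroupOf S).map ι).Normal) :
    ∃ a : G →* F.autGroup C, Function.Surjective a ∧
      a.ker = Subgroup.centralizer (((C.subgroupOf S).map ι : Subgroup G) : Set G) := by
  have hinj := hreal.1
  obtain ⟨e, he⟩ : ∃ e : C ≃* ↥((C.subgroupOf S).map ι),
      ∀ x : C, ((e x : ↥((C.subgroupOf S).map ι)) : G) = ι ⟨x, hCS x.2⟩ :=
    ⟨(Subgroup.subgroupOfEquivOfLe hCS).symm.trans
      (Subgroup.equivMapOfInjective (C.subgroupOf S) ι hinj), fun x => rfl⟩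
  obtain ⟨a₀, ha₀⟩ : ∃ a₀ : G →* MulAut C, ∀ (g : G) (x : C),
      ι ⟨((a₀ g x : C) : Ω), hCS (a₀ g x).2⟩ = g * ι ⟨x, hCS x.2⟩ * g⁻¹ := by
    refine ⟨(MulAut.congr e.symm).toMonoidHom.comp (MulAut.conjNormal (H := (C.subgroupOf S).map ι)),
      fun g x => ?_⟩
    rw [← he, ← he]
    show ((e (e.symm (MulAut.conjNormal g (e x))) : ↥((C.subgroupOf S).map ι)) : G) = _
    rw [MulEquiv.apply_symm_apply, MulAut.conjNormal_apply]
  have hmem : ∀ g : G, a₀ g ∈ F.autGroup C := by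
    intro g
    rw [mem_autGroup_iff F hCS]
    unfold IsIso
    exact (hreal.2 C hCS _ (fun x => hCS (a₀ g x).2)).mpr ⟨g, fun x => ha₀ g x⟩
  refine ⟨a₀.codRestrict (F.autGroup C) hmem, ?_, ?_⟩
  · rintro ⟨α, hα⟩
    have hα' := (mem_autGroup_iff F hCS α).mp hα
    obtain ⟨g, hg⟩ := (hreal.2 C hCS _ (fun x => hCS (α x).2)).mp hα'
    refine ⟨g, Subtype.ext ?_⟩
    show a₀ g = α
    ext x
    have h1 := ha₀ g x
    have h2 : ι ⟨((α x : C) : Ω), hCS (α x).2⟩ = g * ι ⟨x, hCS x.2⟩ * g⁻¹ := hg x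
    rw [← h2] at h1
    exact congrArg (fun s : S => (s : Ω)) (hinj h1)
  · ext g
    rw [MonoidHom.mem_ker, Subgroup.mem_centralizer_iff]
    constructor
    · intro hg
      have hg' : a₀ g = 1 := congrArg Subtype.val hg
      rintro _ ⟨s, hs, rfl⟩
      have h1 := ha₀ g ⟨(s : Ω), Subgroup.mem_subgroupOf.mp hs⟩
      rw [hg'] at h1
      have h2 : (⟨((⟨(s : Ω), Subgroup.mem_subgroupOf.mp hs⟩ : C) : Ω),
          hCS (Subgroup.mem_subgroupOf.mp hs)⟩ : S) = s := Subtype.ext rfl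
      simp only [MulAut.one_apply] at h1
      rw [h2] at h1
      calc ι s * g = (g * ι s * g⁻¹) * g := by rw [← h1]
        _ = g * ι s := by group
    · intro hg
      apply Subtype.ext
      show a₀ g = 1
      ext x
      have h1 := ha₀ g x
      have h2 := hg (ι ⟨x, hCS x.2⟩) ⟨⟨x, hCS x.2⟩, Subgroup.mem_subgroupOf.mpr x.2, rfl⟩
      have h3 : g * ι ⟨x, hCS x.2⟩ * g⁻¹ = ι ⟨x, hCS x.2⟩ := by
        rw [← h2]; group
      rw [h3] at h1
      exact congrArg (fun s : S => (s : Ω)) (hinj h1)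

end AutHom

section Quot

variable {G : Type*} [Group G] [Finite G] {ι : S →* G} {p : ℕ} [Fact p.Prime]

/-- a finite `p`-solvable group realizing `F` on a Sylow subgroup gives the model
`G / O_{p'}(G)` -/
theorem isModel_quotient_pPrimeCore (hsol : IsPSolvable p G) (hreal : F.IsRealizedBy ι)
    (T : Sylow p G) (hT : (T : Subgroup G) = ι.range) :
    F.IsModel p (G ⧸ pPrimeCore p G) ((QuotientGroup.mk' (pPrimeCore p G)).comp ι) := by
  have hinj := hreal.1
  have hdisj : (T : Subgroup G) ⊓ pPrimeCore p G = ⊥ := by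
    apply disjoint_iff.mp
    apply Subgroup.disjoint_of_coprime_natCard
    obtain ⟨n, hn⟩ := IsPGroup.iff_card.mp T.isPGroup'
    rw [hn]
    exact Nat.Coprime.pow_left n (pPrimeCore_coprime p).symm
  -- `mk` is injective on `T`
  have hmkinj : ∀ y ∈ (T : Subgroup G), ∀ y' ∈ (T : Subgroup G),
      (QuotientGroup.mk y : G ⧸ pPrimeCore p G) = QuotientGroup.mk y' → y = y' := by
    intro y hy y' hy' h
    have h1 : y⁻¹ * y' ∈ pPrimeCore p G := QuotientGroup.eq.mp h
    have h2 : y⁻¹ * y' ∈ (T : Subgroup G) ⊓ pPrimeCore p G :=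
      ⟨Subgroup.mul_mem _ (Subgroup.inv_mem _ hy) hy', h1⟩
    rw [hdisj, Subgroup.mem_bot] at h2
    exact (inv_mul_eq_one.mp h2)
  have hιT : ∀ s : S, ι s ∈ (T : Subgroup G) := fun s => by rw [hT]; exact ⟨s, rfl⟩
  refine ⟨inferInstance, ⟨?_, ?_⟩, ?_, ?_⟩
  · intro s s' h
    exact hinj (hmkinj _ (hιT s) _ (hιT s') h)
  · intro P hP φ hφ
    constructor
    · intro h
      obtain ⟨g, hg⟩ := (hreal.2 P hP φ hφ).mp h
      refine ⟨QuotientGroup.mk g, fun x => ?_⟩
      show (QuotientGroup.mk (ι ⟨φ x, hφ x⟩) : G ⧸ pPrimeCore p G) = _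
      rw [hg x]
      rfl
    · rintro ⟨γ, hγ⟩
      apply (hreal.2 P hP φ hφ).mpr
      have hP' : (P.subgroupOf S).map ι ≤ (T : Subgroup G) := by
        rintro _ ⟨s, -, rfl⟩
        exact hιT s
      obtain ⟨g, hg⟩ := Cfsg.Agent.S5191.result T ((P.subgroupOf S).map ι) hP' γ (by
        rintro _ ⟨s, hs, rfl⟩
        have h1 := hγ ⟨(s : Ω), Subgroup.mem_subgroupOf.mp hs⟩
        have h2 : (⟨((⟨(s : Ω), Subgroup.mem_subgroupOf.mp hs⟩ : P) : Ω),
            hP (Subgroup.mem_subgroupOf.mp hs)⟩ : S) = s := Subtype.ext rfl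
        rw [h2] at h1
        have h3 : γ * (QuotientGroup.mk (ι s) : G ⧸ pPrimeCore p G) * γ⁻¹ =
            (QuotientGroup.mk' (pPrimeCore p G))
              (ι ⟨φ ⟨(s : Ω), Subgroup.mem_subgroupOf.mp hs⟩, hφ _⟩) := h1.symm
        rw [h3]
        exact ⟨_, hιT _, rfl⟩)
      refine ⟨g, fun x => ?_⟩
      have hx : ι ⟨x, hP x.2⟩ ∈ (P.subgroupOf S).map ι :=
        ⟨⟨x, hP x.2⟩, Subgroup.mem_subgroupOf.mpr x.2, rfl⟩
      obtain ⟨h1, h2⟩ := hg _ hx
      apply hmkinj _ (hιT _) _ h1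
      rw [h2]
      exact hγ x
  · refine ⟨T.mapSurjective (QuotientGroup.mk'_surjective (pPrimeCore p G)), ?_⟩
    have h1 : ((T.mapSurjective (QuotientGroup.mk'_surjective (pPrimeCore p G)) :
        Sylow p (G ⧸ pPrimeCore p G)) : Subgroup (G ⧸ pPrimeCore p G)) =
        (T : Subgroup G).map (QuotientGroup.mk' (pPrimeCore p G)) := rfl
    rw [h1, hT, MonoidHom.range_comp]
  · exact Cfsg.H5.centralizer_pCore_le_of_isPSolvable (Cfsg.H5.isPSolvable_quotient _ hsol)
      (Cfsg.Agent.Lib.Helper10.pPrimeCore_quotient_eq_bot p)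

end Quot

section Main

variable [Finite S] {p : ℕ} [Fact p.Prime]

omit [Fact (Nat.Prime p)] in
/-- a model gives a normal centric subgroup (the pullback of `O_p`) -/
theorem constrained_of_isModel {G : Type*} [Group G] {ι : S →* G} (hF : F.IsSaturated p)
    (hM : F.IsModel p G ι) : F.IsConstrained p := by
  obtain ⟨hfin, hreal, ⟨T, hT⟩, hcc⟩ := hM
  haveI := hfin
  haveI : (pCore p G).Normal := pCore_normal (G := G) p
  have hle : pCore p G ≤ ι.range := hT ▸ pCore_le_sylow T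
  have hQn : F.IsNormal (pullback ι (pCore p G)) := realized_isNormal hreal (pCore p G) hle
  refine ⟨hF, pullback ι (pCore p G), hQn, pullback_le _ _, fun Q' hconj => ?_⟩
  have hQ' : Q' = pullback ι (pCore p G) :=
    weaklyClosed_eq_of_isConj (normal_weaklyClosed hQn) hconj
  rw [hQ']
  intro x hx
  have hxS : x ∈ S := hx.1
  have hxc : x ∈ Subgroup.centralizer ((pullback ι (pCore p G) : Subgroup Ω) : Set Ω) := hx.2
  rw [mem_pullback_iff]
  refine ⟨hxS, hcc ?_⟩
  rw [Subgroup.mem_centralizer_iff]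
  intro y hy
  obtain ⟨q, hqS, rfl⟩ := exists_ext1_eq (hle hy)
  have hq : q ∈ pullback ι (pCore p G) := mem_pullback_iff.mpr ⟨hqS, hy⟩
  have h1 : q * x = x * q := (Subgroup.mem_centralizer_iff.mp hxc) q hq
  rw [← ext1_mul ι hqS hxS, h1, ext1_mul ι hxS hqS]

/-- `⇒` of `psolvable_iff` -/
theorem constrained_of_psolvable {G : Type*} [Group G] [Finite G] {ι : S →* G}
    (hF : F.IsSaturated p) (hsol : IsPSolvable p G) (hreal : F.IsRealizedBy ι) (T : Sylow p G)
    (hT : (T : Subgroup G) = ι.range) :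
    F.IsConstrained p ∧ IsPSolvable p ↥(F.autGroup F.core) := by
  have hM := isModel_quotient_pPrimeCore hsol hreal T hT
  refine ⟨constrained_of_isModel hF hM, ?_⟩
  obtain ⟨-, hreal', ⟨T', hT'⟩, hcc⟩ := hM
  have hcore := isNormal_core F
  have hn := model_map_normal hreal' T' hT' hcc hcore
  obtain ⟨a, hsurj, -⟩ := exists_autHom hreal' hcore.1 hn
  exact Cfsg.H5.isPSolvable_of_surjective a hsurj (Cfsg.H5.isPSolvable_quotient _ hsol)

/-- `⇐` of `psolvable_iff`: the model of a constrained system with `Aut_F(O_p(F))` `p`-solvable is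
`p`-solvable -/
theorem psolvable_of_isModel (hS : IsPGroup p S) {Q : Subgroup Ω} (hQn : F.IsNormal Q)
    (hQc : F.IsCentric Q) (hsolv : IsPSolvable p ↥(F.autGroup F.core)) {G : Type*} [Group G]
    {ι : S →* G} (hM : F.IsModel p G ι) : IsPSolvable p G := by
  have hcen := Cfsg.H5.MU.model_centralizer_le hM hQn hQc
  obtain ⟨hfin, hreal, ⟨T, hT⟩, hcc⟩ := hM
  haveI := hfin
  have hcore := isNormal_core F
  have hn := model_map_normal hreal T hT hcc hcore
  obtain ⟨a, hsurj, hker⟩ := exists_autHom hreal hcore.1 hn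
  have hQcore : Q ≤ F.core := le_core hQn
  have hkerle : a.ker ≤ (Q.subgroupOf S).map ι := by
    rw [hker]
    refine le_trans ?_ hcen
    apply Subgroup.centralizer_le
    rintro _ ⟨s, hs, rfl⟩
    exact ⟨s, Subgroup.mem_subgroupOf.mpr (hQcore (Subgroup.mem_subgroupOf.mp hs)), rfl⟩
  have hkerp : IsPGroup p a.ker := ((hS.to_subgroup _).map ι).to_le hkerle
  obtain ⟨m, hm⟩ := IsPGroup.iff_card.mp hkerp
  have hquot : IsPSolvable p (G ⧸ a.ker) :=
    Cfsg.H5.isPSolvable_of_surjective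
      (QuotientGroup.quotientKerEquivOfSurjective a hsurj).symm.toMonoidHom
      (QuotientGroup.quotientKerEquivOfSurjective a hsurj).symm.surjective hsolv
  exact Cfsg.Agent.Lib.Helper25.isPSolvable_of_extension a.ker (Or.inl ⟨m, hm⟩) hquot

end Main

end Cfsg.H5.FPS
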