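import Mathlib
import Cfsg.Prelude
import Cfsg.Agent.H5.GTMain
import Cfsg.Agent.H5.ZJBridge

set_option autoImplicit false

/-! The Glauberman–Thompson normal `p`-complement theorem in the vocabulary of the Prelude. -/

namespace Cfsg.H5.GT

open Cfsg.H5.ZJ

universe u

variable {G : Type u} [Group G] [Finite G] {p : ℕ} [Fact p.Prime]

/-- Glauberman–Thompson for `Cfsg.centerThompsonAOf` (abelian subgroups of largest order) -/
theorem glauberman_thompson_A (hp2 : p ≠ 2) (P : Sylow p G)
    (hN : Cfsg.HasNormalPComplement p
      ↥(Subgroup.normalizer (Cfsg.centerThompsonAOf (P : Subgroup G) : Set G))) :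
    Cfsg.HasNormalPComplement p G := by
  rw [centerThompsonAOf_eq] at hN
  exact glauberman_thompson hp2 0 P hN

/-- Glauberman–Thompson for the image of `Cfsg.omegaCenterThompson p ↥P` in `G` -/
theorem glauberman_thompson_omega (hp2 : p ≠ 2) (P : Sylow p G)
    (hN : Cfsg.HasNormalPComplement p
      ↥(Subgroup.normalizer (((Cfsg.omegaCenterThompson p ↥(P : Subgroup G)).map
        (P : Subgroup G).subtype : Subgroup G) : Set G))) :
    Cfsg.HasNormalPComplement p G := by
  rw [omegaCenterThompson_map_eq] at hN
  exact glauberman_thompson hp2 p P hN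

end Cfsg.H5.GT
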