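import Mathlib
import Cfsg.Prelude.Def_Transfer
import Cfsg.Agent.Lib.Helper1.Frattini
import Cfsg.Agent.Lib.Helper1.Extraspecial
import Cfsg.Agent.Lib.Helper1.ClassTwo
import Cfsg.Agent.Lib.Helper1.ExtraspecialRep
import Cfsg.Agent.S0095
import Cfsg.Agent.S0206

set_option autoImplicit false
set_option linter.unusedSectionVars false

/-! Generalized extraspecial `p`-groups (`Φ(P) = P'` of order `p`): pure group theory.

If such a group `P` has an element `z₁` whose centralizer is elementary abelian, then `P` is the direct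
product of the subgroup generated by `z₁` and any `y` not commuting with `z₁`, and of an elementary abelian
central subgroup. -/

namespace Cfsg.H5.GenExtra

open scoped commutatorElement Pointwise

section pure

variable {P : Type*} [Group P]

theorem exists_pow_eq_of_card_prime {p : ℕ} [Fact p.Prime] (K : Subgroup P) (hK : Nat.card K = p)
    {k k' : P} (hk : k ∈ K) (hk1 : k ≠ 1) (hk' : k' ∈ K) : ∃ n : ℕ, k ^ n = k' := by
  have h1 : (⟨k', hk'⟩ : K) ∈ Submonoid.powers (⟨k, hk⟩ : K) :=
    mem_powers_of_prime_card hK (fun h => hk1 (congrArg Subtype.val h))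
  obtain ⟨n, hn⟩ := h1
  exact ⟨n, congrArg Subtype.val hn⟩

theorem pow_eq_one_of_card_prime {p : ℕ} (K : Subgroup P) (hK : Nat.card K = p)
    {k : P} (hk : k ∈ K) : k ^ p = 1 := by
  have h1 : (⟨k, hk⟩ : K) ^ Nat.card K = 1 := pow_card_eq_one'
  rw [hK] at h1
  exact congrArg Subtype.val h1

/-- a generalized extraspecial `p`-group -/
structure GE (p : ℕ) (P : Type*) [Group P] : Prop where
  pg : IsPGroup p P
  fr : frattini P = commutator P
  card : Nat.card (commutator P) = p

variable [Finite P] {p : ℕ} [Fact p.Prime]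

theorem GE.comm_mem (_h : GE p P) (x y : P) : ⁅x, y⁆ ∈ commutator P := by
  rw [commutator_def]
  exact Subgroup.commutator_mem_commutator (Subgroup.mem_top _) (Subgroup.mem_top _)

theorem GE.le_center (h : GE p P) : commutator P ≤ Subgroup.center P :=
  Cfsg.Agent.Lib.Helper1.le_center_of_normal_of_card_prime h.pg (commutator P) h.card

theorem GE.pow_mem (h : GE p P) (x : P) : x ^ p ∈ commutator P := by
  rw [← h.fr]
  exact Cfsg.Agent.Lib.Helper1.IsPGroup.pow_mem_frattini h.pg x

theorem GE.pow_eq_one (h : GE p P) {k : P} (hk : k ∈ commutator P) : k ^ p = 1 :=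
  pow_eq_one_of_card_prime _ h.card hk

theorem GE.central (h : GE p P) {k : P} (hk : k ∈ commutator P) (g : P) : Commute k g :=
  ((Subgroup.mem_center_iff.mp (h.le_center hk)) g).symm

theorem GE.comm_central (h : GE p P) (x y g : P) : Commute ⁅x, y⁆ g :=
  h.central (h.comm_mem x y) g

theorem GE.comm_mul_left (h : GE p P) (a b c : P) : ⁅a * b, c⁆ = ⁅a, c⁆ * ⁅b, c⁆ := by
  have h1 : ⁅a * b, c⁆ = a * ⁅b, c⁆ * a⁻¹ * ⁅a, c⁆ := by
    simp only [commutatorElement_def]; group
  rw [h1, ← (h.comm_central b c a).eq, mul_inv_cancel_right, (h.comm_central b c _).eq]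

theorem GE.comm_mul_right (h : GE p P) (a b c : P) : ⁅a, b * c⁆ = ⁅a, b⁆ * ⁅a, c⁆ := by
  have h1 : ⁅a, b * c⁆ = ⁅a, b⁆ * (b * ⁅a, c⁆ * b⁻¹) := by
    simp only [commutatorElement_def]; group
  rw [h1, ← (h.comm_central a c b).eq, mul_inv_cancel_right]

/-- the commutator with a fixed element, as a homomorphism -/
def GE.commHom (h : GE p P) (c : P) : P →* P where
  toFun g := ⁅g, c⁆
  map_one' := commutatorElement_one_left c
  map_mul' a b := h.comm_mul_left a b c

@[simp] theorem GE.commHom_apply (h : GE p P) (c g : P) : h.commHom c g = ⁅g, c⁆ := rfl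

theorem GE.commHom_mem (h : GE p P) (c g : P) : h.commHom c g ∈ commutator P := h.comm_mem g c

theorem GE.commHom_eq_one_iff (h : GE p P) (c g : P) : h.commHom c g = 1 ↔ Commute g c := by
  rw [GE.commHom_apply, commutatorElement_eq_one_iff_commute]

theorem GE.commHom_swap (h : GE p P) (c g : P) : h.commHom c g = (h.commHom g c)⁻¹ := by
  rw [GE.commHom_apply, GE.commHom_apply, commutatorElement_inv]

/-- for odd `p` the `p`-th power map is a homomorphism -/
theorem GE.mul_pow (h : GE p P) (hp2 : p ≠ 2) (x y : P) : (x * y) ^ p = x ^ p * y ^ p := by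
  have hpp : p.Prime := Fact.out
  rw [Cfsg.Agent.Lib.Helper1.mul_pow_of_commutator_central (h.comm_central y x x).eq
    (h.comm_central y x y).eq]
  have hdvd : p ∣ p.choose 2 := by
    apply hpp.dvd_choose_self (by norm_num)
    have := hpp.two_le
    omega
  obtain ⟨k, hk⟩ := hdvd
  rw [hk, pow_mul, h.pow_eq_one (h.comm_mem y x), one_pow, mul_one]

theorem GE.not_comm (h : GE p P) : ∃ a b : P, ¬ Commute a b := by
  have hpp : p.Prime := Fact.out
  by_contra hcon
  push Not at hcon
  have h1 : commutator P = ⊥ := by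
    rw [commutator_def, Subgroup.commutator_eq_bot_iff_le_centralizer]
    intro a _
    rw [Subgroup.mem_centralizer_iff]
    intro b _
    exact (hcon b a).eq
  have h2 := h.card
  rw [h1, Subgroup.card_bot] at h2
  exact hpp.one_lt.ne h2

end pure

/-! ### complements in elementary abelian groups -/

theorem exists_compl_zmod {M : Type*} [AddCommGroup M] (p : ℕ) [Fact p.Prime]
    [Module (ZMod p) M] (U : AddSubgroup M) : ∃ W : AddSubgroup M, U ⊓ W = ⊥ ∧ U ⊔ W = ⊤ := by
  have : ComplementedLattice (AddSubgroup M) :=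
    (OrderIso.complementedLattice_iff (AddSubgroup.toZModSubmodule p (M := M))).mpr inferInstance
  obtain ⟨W, hW⟩ := exists_isCompl U
  exact ⟨W, hW.inf_eq_bot, hW.sup_eq_top⟩

/-- Every subgroup of an elementary abelian group has a complement. -/
theorem exists_compl_elem' {V : Type*} [CommGroup V] (p : ℕ) [Fact p.Prime]
    (hV : ∀ v : V, v ^ p = 1) (U : Subgroup V) : ∃ W : Subgroup V, U ⊓ W = ⊥ ∧ U ⊔ W = ⊤ := by
  have h : ∀ x : Additive V, p • x = 0 := fun x => congrArg Additive.ofMul (hV (Additive.toMul x))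
  have : ComplementedLattice (AddSubgroup (Additive V)) := by
    constructor
    intro U
    obtain ⟨W, h1, h2⟩ := @exists_compl_zmod (Additive V) _ p _ (AddCommGroup.zmodModule h) U
    exact ⟨W, disjoint_iff.mpr h1, codisjoint_iff.mpr h2⟩
  have : ComplementedLattice (Subgroup V) :=
    (OrderIso.complementedLattice_iff (Subgroup.toAddSubgroup (G := V))).mpr inferInstance
  obtain ⟨W, hW⟩ := exists_isCompl U
  exact ⟨W, hW.inf_eq_bot, hW.sup_eq_top⟩

/-- Every subgroup of an elementary abelian group has a complement; every element of the group is a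
product. -/
theorem exists_compl_elem {V : Type*} [Group V] (hcomm : ∀ a b : V, a * b = b * a) (p : ℕ)
    [Fact p.Prime] (hV : ∀ v : V, v ^ p = 1) (U : Subgroup V) :
    ∃ W : Subgroup V, U ⊓ W = ⊥ ∧ ∀ v : V, ∃ u ∈ U, ∃ w ∈ W, u * w = v := by
  let _ : CommGroup V := { (inferInstance : Group V) with mul_comm := hcomm }
  obtain ⟨W, h1, h2⟩ := exists_compl_elem' p hV U
  refine ⟨W, h1, fun v => ?_⟩
  have h3 : v ∈ U ⊔ W := by rw [h2]; exact Subgroup.mem_top _
  exact Subgroup.mem_sup.mp h3

section decomp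

variable {P : Type*} [Group P] [Finite P] {p : ℕ} [Fact p.Prime]

/-- the centralizer of `x` is elementary abelian -/
structure Cen (p : ℕ) (x : P) : Prop where
  comm : ∀ a b : P, Commute a x → Commute b x → Commute a b
  exp : ∀ a : P, Commute a x → a ^ p = 1

variable {x y : P}

theorem exists_normal_form (_h : GE p P) {e : P} (he : e ∈ Subgroup.closure ({x, y} : Set P)) :
    ∃ i j : ℕ, ∃ k ∈ commutator P, e = y ^ j * (x ^ i * k) := by
  have hN : (Subgroup.zpowers x ⊔ commutator P).Normal := Subgroup.Normal.of_commutator_le P le_sup_right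
  have hle : Subgroup.closure ({x, y} : Set P) ≤
      Subgroup.zpowers y ⊔ (Subgroup.zpowers x ⊔ commutator P) := by
    rw [Subgroup.closure_le]
    rintro g (rfl | hg)
    · exact le_sup_right (α := Subgroup P) (le_sup_left (α := Subgroup P) (Subgroup.mem_zpowers g))
    · rw [Set.mem_singleton_iff] at hg
      rw [hg]
      exact le_sup_left (α := Subgroup P) (Subgroup.mem_zpowers y)
  obtain ⟨a, ha, b, hb, rfl⟩ := Subgroup.mem_sup_of_normal_right.mp (hle he)
  obtain ⟨c, hc, k, hk, rfl⟩ := Subgroup.mem_sup_of_normal_right.mp hb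
  rw [← (isOfFinOrder_of_finite y).mem_powers_iff_mem_zpowers] at ha
  rw [← (isOfFinOrder_of_finite x).mem_powers_iff_mem_zpowers] at hc
  obtain ⟨j, rfl⟩ := (Submonoid.mem_powers_iff _ _).mp ha
  obtain ⟨i, rfl⟩ := (Submonoid.mem_powers_iff _ _).mp hc
  exact ⟨i, j, k, hk, rfl⟩

theorem dvd_of_pow_eq_one (h : GE p P) {k : P} (hk : k ∈ commutator P) (hk1 : k ≠ 1) {n : ℕ}
    (hn : k ^ n = 1) : p ∣ n := by
  have hpp : p.Prime := Fact.out
  have h1 : orderOf k = p := orderOf_eq_prime (h.pow_eq_one hk) hk1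
  rw [← h1]
  exact orderOf_dvd_of_pow_eq_one hn

theorem pow_mem_of_dvd (h : GE p P) (g : P) {n : ℕ} (hn : p ∣ n) : g ^ n ∈ commutator P := by
  obtain ⟨m, rfl⟩ := hn
  rw [pow_mul]
  exact Subgroup.pow_mem _ (h.pow_mem g) m

/-- an element of `⟨x, y⟩` commuting with `x` and `y` lies in the commutator subgroup -/
theorem mem_comm_of_commute (h : GE p P) (hxy : ¬ Commute y x) {e : P}
    (he : e ∈ Subgroup.closure ({x, y} : Set P)) (hex : Commute e x) (hey : Commute e y) :
    e ∈ commutator P := by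
  obtain ⟨i, j, k, hk, rfl⟩ := exists_normal_form h he
  have hyx1 : ⁅y, x⁆ ≠ 1 := fun h1 => hxy (commutatorElement_eq_one_iff_commute.mp h1)
  have hxy1 : ⁅x, y⁆ ≠ 1 := fun h1 => hxy (commutatorElement_eq_one_iff_commute.mp h1).symm
  have h1 : h.commHom x (y ^ j * (x ^ i * k)) = 1 := (h.commHom_eq_one_iff _ _).mpr hex
  have h2 : h.commHom y (y ^ j * (x ^ i * k)) = 1 := (h.commHom_eq_one_iff _ _).mpr hey
  have hkx : h.commHom x k = 1 := (h.commHom_eq_one_iff _ _).mpr (h.central hk x)
  have hky : h.commHom y k = 1 := (h.commHom_eq_one_iff _ _).mpr (h.central hk y)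
  have hxx : h.commHom x x = 1 := (h.commHom_eq_one_iff _ _).mpr (Commute.refl x)
  have hyy : h.commHom y y = 1 := (h.commHom_eq_one_iff _ _).mpr (Commute.refl y)
  rw [map_mul, map_mul, map_pow, map_pow, hkx, hxx, one_pow, mul_one, mul_one] at h1
  rw [map_mul, map_mul, map_pow, map_pow, hky, hyy, one_pow, mul_one, one_mul] at h2
  have hj : p ∣ j := dvd_of_pow_eq_one h (h.comm_mem y x) hyx1 h1
  have hi : p ∣ i := dvd_of_pow_eq_one h (h.comm_mem x y) hxy1 h2
  exact Subgroup.mul_mem _ (pow_mem_of_dvd h y hj) (Subgroup.mul_mem _ (pow_mem_of_dvd h x hi) hk)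

/-- every element is a power of `y` times an element commuting with `x` -/
theorem exists_pow_mul (h : GE p P) (hxy : ¬ Commute y x) (g : P) :
    ∃ j : ℕ, Commute ((y ^ j)⁻¹ * g) x := by
  have hyx1 : ⁅y, x⁆ ≠ 1 := fun h1 => hxy (commutatorElement_eq_one_iff_commute.mp h1)
  obtain ⟨j, hj⟩ := exists_pow_eq_of_card_prime _ h.card (h.comm_mem y x) hyx1 (h.comm_mem g x)
  refine ⟨j, ?_⟩
  rw [← h.commHom_eq_one_iff, map_mul, map_inv, map_pow, GE.commHom_apply, GE.commHom_apply, hj,
    inv_mul_cancel]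

theorem commHom_comm (h : GE p P) {a b : P} (hab : Commute a b) : h.commHom a b = 1 :=
  (h.commHom_eq_one_iff _ _).mpr hab.symm

/-- the direct product decomposition -/
theorem exists_prod_equiv (h : GE p P) (hc : Cen p x) (hxy : ¬ Commute y x) :
    ∃ W : Subgroup (Subgroup.center P), (∀ w : W, w ^ p = 1) ∧
      Nonempty (P ≃* ↥(Subgroup.closure ({x, y} : Set P)) × ↥W) := by
  have hyx1 : ⁅y, x⁆ ≠ 1 := fun h1 => hxy (commutatorElement_eq_one_iff_commute.mp h1)
  have hxy1 : ⁅x, y⁆ ≠ 1 := fun h1 => hxy (commutatorElement_eq_one_iff_commute.mp h1).symm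
  have hZexp : ∀ c : Subgroup.center P, c ^ p = 1 := by
    intro c
    apply Subtype.ext
    rw [Subgroup.coe_pow]
    exact hc.exp _ ((Subgroup.mem_center_iff.mp c.2) x).symm
  have hZcomm : ∀ a b : Subgroup.center P, a * b = b * a := fun a b =>
    Subtype.ext ((Subgroup.mem_center_iff.mp a.2) (b : P)).symm
  obtain ⟨W, hUW1, hUW2⟩ := exists_compl_elem hZcomm p hZexp
    ((commutator P).subgroupOf (Subgroup.center P))
  refine ⟨W, fun w => Subtype.ext (by rw [Subgroup.coe_pow]; exact hZexp w), ?_⟩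
  have hxE : x ∈ Subgroup.closure ({x, y} : Set P) := Subgroup.subset_closure (Set.mem_insert _ _)
  have hyE : y ∈ Subgroup.closure ({x, y} : Set P) :=
    Subgroup.subset_closure (Set.mem_insert_of_mem _ rfl)
  have hKE : commutator P ≤ Subgroup.closure ({x, y} : Set P) := by
    intro k hk
    obtain ⟨n, rfl⟩ := exists_pow_eq_of_card_prime _ h.card (h.comm_mem x y) hxy1 hk
    exact Subgroup.pow_mem _ (Subgroup.commutator_mem_commutator hxE hyE |> fun h3 =>
      (Subgroup.commutator_le_self _) h3) n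
  have hcomm : ∀ (e : ↥(Subgroup.closure ({x, y} : Set P))) (w : ↥W),
      Commute ((Subgroup.closure ({x, y} : Set P)).subtype e)
        (((Subgroup.center P).subtype.comp W.subtype) w) := by
    intro e w
    exact ((Subgroup.mem_center_iff.mp (w : Subgroup.center P).2) (e : P))
  have hinj : Function.Injective (MonoidHom.noncommCoprod _ _ hcomm) := by
    rw [MonoidHom.noncommCoprod_injective]
    refine ⟨Subgroup.subtype_injective _, ?_, ?_⟩
    · intro a b hab
      exact Subtype.ext (Subtype.ext hab)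
    · rw [disjoint_iff_inf_le]
      rintro g ⟨⟨e, rfl⟩, ⟨w, hw⟩⟩
      have hgc : ((Subgroup.closure ({x, y} : Set P)).subtype e) ∈ Subgroup.center P := by
        rw [← hw]; exact (w : Subgroup.center P).2
      have hgK : (e : P) ∈ commutator P :=
        mem_comm_of_commute h hxy e.2 ((Subgroup.mem_center_iff.mp hgc) x).symm
          ((Subgroup.mem_center_iff.mp hgc) y).symm
      have h1 : (w : Subgroup.center P) ∈ (commutator P).subgroupOf (Subgroup.center P) ⊓ W := by
        refine Subgroup.mem_inf.mpr ⟨?_, w.2⟩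
        rw [Subgroup.mem_subgroupOf]
        have : ((w : Subgroup.center P) : P) = (e : P) := hw
        rw [this]; exact hgK
      rw [hUW1, Subgroup.mem_bot] at h1
      rw [Subgroup.mem_bot, ← hw]
      show (((w : Subgroup.center P)) : P) = 1
      rw [h1]; rfl
  have hsurj : Function.Surjective (MonoidHom.noncommCoprod _ _ hcomm) := by
    intro g
    obtain ⟨j, hj⟩ := exists_pow_mul h hxy g
    obtain ⟨i, hi⟩ := exists_pow_eq_of_card_prime _ h.card (h.comm_mem x y) hxy1
      (h.comm_mem ((y ^ j)⁻¹ * g) y)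
    obtain ⟨c, hcdef⟩ : ∃ c : P, c = (x ^ i)⁻¹ * ((y ^ j)⁻¹ * g) := ⟨_, rfl⟩
    have hcx : Commute c x := by
      rw [hcdef]
      exact ((Commute.refl x).pow_left i).inv_left.mul_left hj
    have hcy : Commute c y := by
      rw [← h.commHom_eq_one_iff, hcdef, map_mul, map_inv, map_pow, GE.commHom_apply,
        GE.commHom_apply, hi, inv_mul_cancel]
    have hcZ : c ∈ Subgroup.center P := by
      rw [Subgroup.mem_center_iff]
      intro g'
      obtain ⟨j', hj'⟩ := exists_pow_mul h hxy g'
      have h1 : g' = y ^ j' * ((y ^ j')⁻¹ * g') := by group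
      rw [h1]
      exact ((hcy.pow_right j').mul_right (hc.comm _ _ hcx hj')).symm.eq
    obtain ⟨u, hu, w, hw, huw⟩ := hUW2 ⟨c, hcZ⟩
    rw [Subgroup.mem_subgroupOf] at hu
    have huw' : (u : P) * (w : P) = c := congrArg Subtype.val huw
    refine ⟨(⟨y ^ j * x ^ i * (u : P), Subgroup.mul_mem _ (Subgroup.mul_mem _
      (Subgroup.pow_mem _ hyE j) (Subgroup.pow_mem _ hxE i)) (hKE hu)⟩, ⟨w, hw⟩), ?_⟩
    rw [MonoidHom.noncommCoprod_apply]
    show y ^ j * x ^ i * (u : P) * (w : P) = g
    rw [mul_assoc, huw', hcdef]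
    group
  exact ⟨(MulEquiv.ofBijective _ ⟨hinj, hsurj⟩).symm⟩

end decomp

section cases

variable {P : Type*} [Group P] [Finite P] {p : ℕ} [Fact p.Prime] {x : P}

theorem exists_not_commute (h : GE p P) (hc : Cen p x) : ∃ g : P, ¬ Commute g x := by
  obtain ⟨a, b, hab⟩ := h.not_comm
  by_contra hcon
  push Not at hcon
  exact hab (hc.comm a b (hcon a) (hcon b))

/-- Recognition of extraspecial groups: a nonabelian `p`-group with a subgroup `Z₀` of order `p`
containing the centre, the commutator subgroup and all `p`-th powers. -/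
theorem isExtraspecial_of_card_prime {R : Type*} [Group R] [Finite R]
    (hR : IsPGroup p R) (Z₀ : Subgroup R) (hZ₀ : Nat.card Z₀ = p) (hcomm : commutator R ≤ Z₀)
    (hpow : ∀ r : R, r ^ p ∈ Z₀) (hcen : Subgroup.center R ≤ Z₀)
    (hnab : ∃ a b : R, a * b ≠ b * a) : Cfsg.IsExtraspecial p R := by
  have hpp : p.Prime := Fact.out
  have hcne : commutator R ≠ ⊥ := by
    intro h
    obtain ⟨a, b, hab⟩ := hnab
    apply hab
    have h1 : ⁅a, b⁆ ∈ commutator R := by
      rw [commutator_def]
      exact Subgroup.commutator_mem_commutator (Subgroup.mem_top _) (Subgroup.mem_top _)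
    rw [h, Subgroup.mem_bot] at h1
    exact commutatorElement_eq_one_iff_mul_comm.mp h1
  have hceq : commutator R = Z₀ := by
    have h2 : Nat.card (commutator R) ∣ p := by
      rw [← hZ₀]; exact Subgroup.card_dvd_of_le hcomm
    rcases (Nat.dvd_prime hpp).mp h2 with h3 | h3
    · exact absurd (Subgroup.card_eq_one.mp h3) hcne
    · exact Subgroup.eq_of_le_of_card_ge hcomm (by rw [h3, hZ₀])
  have hZn : Z₀.Normal := by rw [← hceq]; infer_instance
  have hZc : Z₀ ≤ Subgroup.center R :=
    Cfsg.Agent.Lib.Helper1.le_center_of_normal_of_card_prime hR Z₀ hZ₀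
  have hcenter : Subgroup.center R = Z₀ := le_antisymm hcen hZc
  have hfrat : frattini R = Z₀ := by
    apply le_antisymm
    · exact Cfsg.Agent.Lib.Helper1.frattini_le_of_commutator_le_of_pow_mem (p := p) Z₀ hcomm hpow
    · rw [← hceq]
      exact Cfsg.Agent.Lib.Helper1.IsPGroup.commutator_le_frattini hR
  exact ⟨⟨hR, by rw [hfrat, hcenter], by rw [hceq, hcenter]⟩, by rw [hcenter, hZ₀]⟩

theorem card_closure_le (h : GE p P) {y : P} (hx : x ^ p = 1) (hy : y ^ p = 1) :
    Nat.card ↥(Subgroup.closure ({x, y} : Set P)) ≤ p ^ 3 := by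
  have hpp : p.Prime := Fact.out
  have hN : (Subgroup.zpowers x ⊔ commutator P).Normal := Subgroup.Normal.of_commutator_le P le_sup_right
  have hle : Subgroup.closure ({x, y} : Set P) ≤
      Subgroup.zpowers y ⊔ (Subgroup.zpowers x ⊔ commutator P) := by
    rw [Subgroup.closure_le]
    rintro g (rfl | hg)
    · exact le_sup_right (α := Subgroup P) (le_sup_left (α := Subgroup P) (Subgroup.mem_zpowers g))
    · rw [Set.mem_singleton_iff] at hg
      rw [hg]
      exact le_sup_left (α := Subgroup P) (Subgroup.mem_zpowers y)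
  have hzp : ∀ g : P, g ^ p = 1 → Nat.card ↥(Subgroup.zpowers g) ≤ p := by
    intro g hg
    rw [Nat.card_zpowers]
    exact Nat.le_of_dvd hpp.pos (orderOf_dvd_of_pow_eq_one hg)
  have h1 : Nat.card ↥(Subgroup.zpowers x ⊔ commutator P) ≤ p * p := by
    have e1 : Nat.card ↥(Subgroup.zpowers x ⊔ commutator P) =
        Nat.card ↥((Subgroup.zpowers x : Set P) * (commutator P : Set P)) := by
      rw [← Subgroup.mul_normal]; rfl
    rw [e1]
    refine le_trans Set.natCard_mul_le ?_
    have e2 : Nat.card ↥(commutator P : Set P) = p := h.card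
    rw [e2]
    exact Nat.mul_le_mul_right p (hzp x hx)
  have h2 : Nat.card ↥(Subgroup.zpowers y ⊔ (Subgroup.zpowers x ⊔ commutator P)) ≤ p * (p * p) := by
    have e1 : Nat.card ↥(Subgroup.zpowers y ⊔ (Subgroup.zpowers x ⊔ commutator P)) =
        Nat.card ↥((Subgroup.zpowers y : Set P) *
          ((Subgroup.zpowers x ⊔ commutator P : Subgroup P) : Set P)) := by
      rw [← Subgroup.mul_normal]; rfl
    rw [e1]
    refine le_trans Set.natCard_mul_le ?_
    exact Nat.mul_le_mul (hzp y hy) h1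
  calc Nat.card ↥(Subgroup.closure ({x, y} : Set P))
      ≤ Nat.card ↥(Subgroup.zpowers y ⊔ (Subgroup.zpowers x ⊔ commutator P)) :=
        Subgroup.card_le_of_le hle
    _ ≤ p * (p * p) := h2
    _ = p ^ 3 := by ring

/-- the extraspecial case -/
theorem exists_extraspecial_prod (h : GE p P) (hc : Cen p x) (hexp : ∀ g : P, g ^ p = 1) :
    ∃ (E : Type) (_ : Group E) (A : Type) (_ : CommGroup A), Cfsg.IsExtraspecial p E ∧
      Nat.card E = p ^ 3 ∧ Monoid.exponent E = p ∧ (∀ a : A, a ^ p = 1) ∧ Nonempty (P ≃* E × A) := by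
  have hpp : p.Prime := Fact.out
  obtain ⟨y, hxy⟩ := exists_not_commute h hc
  obtain ⟨W, hWexp, ⟨e₀⟩⟩ := exists_prod_equiv h hc hxy
  have hxy1 : ⁅x, y⁆ ≠ 1 := fun h1 => hxy (commutatorElement_eq_one_iff_commute.mp h1).symm
  have hxE : x ∈ Subgroup.closure ({x, y} : Set P) := Subgroup.subset_closure (Set.mem_insert _ _)
  have hyE : y ∈ Subgroup.closure ({x, y} : Set P) :=
    Subgroup.subset_closure (Set.mem_insert_of_mem _ rfl)
  have hKE : commutator P ≤ Subgroup.closure ({x, y} : Set P) := by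
    intro k hk
    obtain ⟨n, rfl⟩ := exists_pow_eq_of_card_prime _ h.card (h.comm_mem x y) hxy1 hk
    exact Subgroup.pow_mem _ ((Subgroup.commutator_le_self _)
      (Subgroup.commutator_mem_commutator hxE hyE)) n
  have hES : Cfsg.IsExtraspecial p ↥(Subgroup.closure ({x, y} : Set P)) := by
    apply isExtraspecial_of_card_prime (h.pg.to_subgroup _)
      ((commutator P).subgroupOf (Subgroup.closure ({x, y} : Set P)))
    · rw [Nat.card_congr (Subgroup.subgroupOfEquivOfLe hKE).toEquiv]
      exact h.card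
    · rw [commutator_def, Subgroup.commutator_le]
      intro a _ b _
      rw [Subgroup.mem_subgroupOf]
      exact h.comm_mem (a : P) (b : P)
    · intro r
      rw [Subgroup.mem_subgroupOf, Subgroup.coe_pow, hexp]
      exact Subgroup.one_mem _
    · intro e he
      rw [Subgroup.mem_subgroupOf]
      apply mem_comm_of_commute h hxy e.2
      · exact congrArg Subtype.val ((Subgroup.mem_center_iff.mp he) ⟨x, hxE⟩).symm
      · exact congrArg Subtype.val ((Subgroup.mem_center_iff.mp he) ⟨y, hyE⟩).symm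
    · refine ⟨⟨y, hyE⟩, ⟨x, hxE⟩, fun h1 => hxy ?_⟩
      exact congrArg Subtype.val h1
  have hcard : Nat.card ↥(Subgroup.closure ({x, y} : Set P)) = p ^ 3 := by
    obtain ⟨n, hn1, hn⟩ := Cfsg.Agent.S0095.result hES
    have hle := card_closure_le h (hexp x) (hexp y)
    rw [hn] at hle
    have h3 : 2 * n + 1 ≤ 3 := (Nat.pow_le_pow_iff_right hpp.one_lt).mp hle
    have h4 : n = 1 := by omega
    rw [hn, h4]
  have hexpE : Monoid.exponent ↥(Subgroup.closure ({x, y} : Set P)) = p := by
    have hnt : Nontrivial ↥(Subgroup.closure ({x, y} : Set P)) := by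
      refine ⟨⟨⟨x, hxE⟩, 1, fun h1 => hxy ?_⟩⟩
      have h2 : x = 1 := congrArg Subtype.val h1
      rw [h2]; exact Commute.one_right y
    rw [Monoid.exponent_eq_prime_iff hpp]
    intro g hg
    exact orderOf_eq_prime (Subtype.ext (by rw [Subgroup.coe_pow, hexp]; rfl)) hg
  let iW : CommGroup ↥W := { (inferInstance : Group ↥W) with
    mul_comm := fun a b => Subtype.ext (Subtype.ext
      ((Subgroup.mem_center_iff.mp (a : Subgroup.center P).2) ((b : Subgroup.center P) : P)).symm) }
  refine ⟨Shrink.{0} ↥(Subgroup.closure ({x, y} : Set P)), inferInstance, Shrink.{0} ↥W, inferInstance,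
    ?_, ?_, ?_, ?_, ?_⟩
  · exact Cfsg.Agent.Lib.Helper1.ESRep.isExtraspecial_of_mulEquiv
      (Shrink.mulEquiv : Shrink.{0} ↥(Subgroup.closure ({x, y} : Set P)) ≃* _).symm hES
  · rw [Nat.card_congr (Shrink.mulEquiv : Shrink.{0} ↥(Subgroup.closure ({x, y} : Set P)) ≃* _).toEquiv,
      hcard]
  · rw [Monoid.exponent_eq_of_mulEquiv
      (Shrink.mulEquiv : Shrink.{0} ↥(Subgroup.closure ({x, y} : Set P)) ≃* _), hexpE]
  · intro a
    apply (Shrink.mulEquiv : Shrink.{0} ↥W ≃* _).injective
    rw [map_pow, map_one]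
    exact hWexp _
  · exact ⟨e₀.trans (MulEquiv.prodCongr Shrink.mulEquiv.symm Shrink.mulEquiv.symm)⟩

/-- two nonidentity elements of a group of order two are equal -/
theorem eq_of_card_two (K : Subgroup P) (hK : Nat.card K = 2) {a b : P} (ha : a ∈ K) (hb : b ∈ K)
    (ha1 : a ≠ 1) (hb1 : b ≠ 1) : a = b := by
  obtain ⟨n, hn⟩ := exists_pow_eq_of_card_prime (p := 2) K hK ha ha1 hb
  have ha2 : a ^ 2 = 1 := pow_eq_one_of_card_prime K hK ha
  rw [pow_eq_pow_mod n ha2] at hn
  rcases Nat.mod_two_eq_zero_or_one n with h0 | h0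
  · rw [h0, pow_zero] at hn
    exact absurd hn.symm hb1
  · rw [h0, pow_one] at hn
    exact hn

/-- the dihedral case -/
theorem exists_dihedral_prod (h : GE 2 P) (hc : Cen 2 x) :
    ∃ (A : Type) (_ : CommGroup A), (∀ a : A, a ^ 2 = 1) ∧
      Nonempty (P ≃* DihedralGroup 4 × A) := by
  obtain ⟨g, hgx⟩ := exists_not_commute h hc
  have hx2 : x ^ 2 = 1 := hc.exp x (Commute.refl x)
  have hx1 : x ≠ 1 := by
    rintro rfl
    exact hgx (Commute.one_right g)
  -- an involution not commuting with `x`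
  obtain ⟨y, hxy, hy2⟩ : ∃ y : P, ¬ Commute y x ∧ y ^ 2 = 1 := by
    by_cases hg2 : g ^ 2 = 1
    · exact ⟨g, hgx, hg2⟩
    · refine ⟨x * g, fun h1 => hgx ?_, ?_⟩
      · have h2 : g = x⁻¹ * (x * g) := by group
        rw [h2]
        exact (Commute.refl x).inv_left.mul_left h1
      · have hgx1 : ⁅g, x⁆ ≠ 1 := fun h1 => hgx (commutatorElement_eq_one_iff_commute.mp h1)
        have h3 : g ^ 2 = ⁅g, x⁆ := eq_of_card_two _ h.card (h.pow_mem g) (h.comm_mem g x) hg2 hgx1
        rw [Cfsg.Agent.Lib.Helper1.mul_pow_of_commutator_central (h.comm_central g x x).eq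
          (h.comm_central g x g).eq, hx2, one_mul, Nat.choose_self, pow_one, h3, ← sq]
        exact h.pow_eq_one (h.comm_mem g x)
  have hy1 : y ≠ 1 := by
    rintro rfl
    exact hxy (Commute.one_left x)
  have hyx1 : ⁅y, x⁆ ≠ 1 := fun h1 => hxy (commutatorElement_eq_one_iff_commute.mp h1)
  have hox : orderOf x = 2 := orderOf_eq_prime hx2 hx1
  have hoy : orderOf y = 2 := orderOf_eq_prime hy2 hy1
  have hne : x ≠ y := by
    rintro rfl
    exact hxy (Commute.refl x)
  have hsq : (x * y) ^ 2 = ⁅y, x⁆ := by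
    rw [Cfsg.Agent.Lib.Helper1.mul_pow_of_commutator_central (h.comm_central y x x).eq
      (h.comm_central y x y).eq, hx2, hy2, one_mul, one_mul, Nat.choose_self, pow_one]
  have hoxy : orderOf (x * y) = 4 := by
    have h1 : orderOf (x * y) = 2 ^ (1 + 1) := by
      apply orderOf_eq_prime_pow
      · rw [pow_one, hsq]; exact hyx1
      · have h2 : (x * y) ^ 2 ^ (1 + 1) = ((x * y) ^ 2) ^ 2 := by rw [← pow_mul]; norm_num
        rw [h2, hsq]
        exact h.pow_eq_one (h.comm_mem y x)
    rw [h1]; norm_num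
  obtain ⟨e₁⟩ := Cfsg.Agent.S0206.result x y hox hoy hne
  rw [hoxy] at e₁
  obtain ⟨W, hWexp, ⟨e₀⟩⟩ := exists_prod_equiv h hc hxy
  let iW : CommGroup ↥W := { (inferInstance : Group ↥W) with
    mul_comm := fun a b => Subtype.ext (Subtype.ext
      ((Subgroup.mem_center_iff.mp (a : Subgroup.center P).2) ((b : Subgroup.center P) : P)).symm) }
  refine ⟨Shrink.{0} ↥W, inferInstance, ?_, ?_⟩
  · intro a
    apply (Shrink.mulEquiv : Shrink.{0} ↥W ≃* _).injective
    rw [map_pow, map_one]
    exact hWexp _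
  · exact ⟨e₀.trans (MulEquiv.prodCongr e₁ Shrink.mulEquiv.symm)⟩

/-- **Structure theorem.** If a generalized extraspecial `p`-group `P`, not of the excluded types, has an
element `x` with elementary abelian centralizer, then `p` is odd and the centralizer of `x` contains all
elements of order `p`. -/
theorem ne_two_and_commute (h : GE p P)
    (h2 : p = 2 → ¬ ∃ (A : Type) (_ : CommGroup A), (∀ a : A, a ^ 2 = 1) ∧
      Nonempty (P ≃* DihedralGroup 4 × A))
    (hodd : p ≠ 2 → ¬ ∃ (E : Type) (_ : Group E) (A : Type) (_ : CommGroup A),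
      Cfsg.IsExtraspecial p E ∧ Nat.card E = p ^ 3 ∧ Monoid.exponent E = p ∧ (∀ a : A, a ^ p = 1) ∧
        Nonempty (P ≃* E × A))
    (hc : Cen p x) : p ≠ 2 ∧ ∀ g : P, g ^ p = 1 → Commute g x := by
  have hp2 : p ≠ 2 := by
    intro hp
    subst hp
    exact h2 rfl (exists_dihedral_prod h hc)
  refine ⟨hp2, fun g hg => ?_⟩
  by_contra hgx
  apply hodd hp2
  apply exists_extraspecial_prod h hc
  intro g'
  obtain ⟨j, hj⟩ := exists_pow_mul h hgx g'
  have h1 : g' = g ^ j * ((g ^ j)⁻¹ * g') := by group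
  rw [h1, h.mul_pow hp2, hc.exp _ hj, mul_one, ← pow_mul, mul_comm, pow_mul, hg, one_pow]

end cases

end Cfsg.H5.GenExtra
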