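import Mathlib
import Cfsg.Agent.H5.ActionPStable
import Cfsg.Agent.Lib.Helper12.OddAut

set_option autoImplicit false

/-! Group-theoretic lemmas for strongly closed metacyclic subgroups (odd `p`):
fixed points of `p`-automorphisms, groups generated by commuting `p`-elements, automorphisms trivial on
the Frattini quotient, two non-commuting `p`-automorphisms of an elementary abelian group of order `p²`
generate an element acting as inversion, involutions inverting the Frattini quotient, and a norm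
computation. -/

namespace Cfsg.H5.MetaSC

/-! ### Fixed points -/

/-- a `p`-power order automorphism of a finite `p`-group has a nontrivial fixed point in every
nontrivial invariant subgroup -/
theorem exists_fixed_ne_one {V : Type*} [Group V] [Finite V] {p : ℕ} [hp : Fact p.Prime]
    (hV : IsPGroup p V) (u : MulAut V) {a : ℕ} (hu : u ^ p ^ a = 1) (W : Subgroup V)
    (hW : ∀ w ∈ W, u w ∈ W) (hne : W ≠ ⊥) : ∃ w ∈ W, w ≠ 1 ∧ u w = w := by
  classical
  have hpow : ∀ k : ℕ, ∀ w ∈ W, (u ^ k) w ∈ W := by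
    intro k
    induction k with
    | zero => intro w hw; simpa using hw
    | succ k ih =>
      intro w hw
      rw [pow_succ', MulAut.mul_apply]
      exact hW _ (ih w hw)
  have hfin : IsOfFinOrder u := isOfFinOrder_iff_pow_eq_one.mpr ⟨p ^ a, pow_pos hp.out.pos a, hu⟩
  have hmemS : ∀ s ∈ Subgroup.zpowers u, ∀ w ∈ W, s w ∈ W := by
    intro s hs w hw
    rw [← hfin.mem_powers_iff_mem_zpowers] at hs
    obtain ⟨k, rfl⟩ := (Submonoid.mem_powers_iff _ _).mp hs
    exact hpow k w hw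
  have hSp : IsPGroup p ↥(Subgroup.zpowers u) := by
    obtain ⟨m, -, hm⟩ := (Nat.dvd_prime_pow hp.out).mp (orderOf_dvd_of_pow_eq_one hu)
    apply IsPGroup.of_card (n := m)
    rw [Nat.card_zpowers, hm]
  let A : SubMulAction ↥(Subgroup.zpowers u) V :=
    { carrier := W
      smul_mem' := by
        intro s y hy
        exact hmemS s s.2 y hy }
  have hcardA : Nat.card ↥A = Nat.card ↥W := rfl
  have hmod := hSp.card_modEq_card_fixedPoints ↥A
  rw [hcardA] at hmod
  have hdvd : p ∣ Nat.card ↥W := by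
    rcases (hV.to_subgroup W).card_eq_or_dvd with h | h
    · exact absurd (Subgroup.card_eq_one.mp h) hne
    · exact h
  by_contra hcon
  push Not at hcon
  have h1 : Nat.card ↥(MulAction.fixedPoints ↥(Subgroup.zpowers u) ↥A) = 1 := by
    rw [Nat.card_eq_one_iff_unique]
    constructor
    · constructor
      intro x y
      have hx : (x : ↥A).1 = 1 := by
        by_contra hx1
        apply hcon (x : ↥A).1 (x : ↥A).2 hx1
        have := x.2 ⟨u, Subgroup.mem_zpowers u⟩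
        exact congrArg Subtype.val this
      have hy : (y : ↥A).1 = 1 := by
        by_contra hy1
        apply hcon (y : ↥A).1 (y : ↥A).2 hy1
        have := y.2 ⟨u, Subgroup.mem_zpowers u⟩
        exact congrArg Subtype.val this
      apply Subtype.ext
      apply Subtype.ext
      rw [hx, hy]
    · refine ⟨⟨⟨1, W.one_mem⟩, ?_⟩⟩
      intro s
      apply Subtype.ext
      show (s : MulAut V) 1 = 1
      exact map_one _
  rw [h1] at hmod
  have h2 : (0 : ℕ) ≡ 1 [MOD p] := ((Nat.modEq_zero_iff_dvd).mpr hdvd).symm.trans hmod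
  have h3 : p ∣ 1 := by
    have := (Nat.modEq_iff_dvd' (by omega : 0 ≤ 1)).mp h2
    simpa using this
  exact hp.out.one_lt.ne' (Nat.dvd_one.mp h3)

/-! ### Groups generated by commuting `p`-elements -/

theorem pow_eq_one_of_mem_closure_of_commute {G : Type*} [Group G] {p : ℕ} (T : Set G)
    (hc : ∀ a ∈ T, ∀ b ∈ T, a * b = b * a) (hpT : ∀ a ∈ T, ∃ k : ℕ, a ^ p ^ k = 1) :
    ∀ x ∈ Subgroup.closure T, ∃ k : ℕ, x ^ p ^ k = 1 := by
  have h1 : Subgroup.closure T ≤ Subgroup.centralizer T :=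
    (Subgroup.closure_le _).mpr (fun a ha => Subgroup.mem_centralizer_iff.mpr (fun b hb => hc b hb a ha))
  have h2 : Subgroup.closure T ≤ Subgroup.centralizer (Subgroup.closure T : Set G) :=
    (Subgroup.closure_le _).mpr (fun a ha => Subgroup.mem_centralizer_iff.mpr
      (fun x hx => (Subgroup.mem_centralizer_iff.mp (h1 hx) a ha).symm))
  intro x hx
  induction hx using Subgroup.closure_induction with
  | mem a ha => exact hpT a ha
  | one => exact ⟨0, one_pow _⟩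
  | mul a b ha hb iha ihb =>
    obtain ⟨k, hk⟩ := iha
    obtain ⟨l, hl⟩ := ihb
    refine ⟨k + l, ?_⟩
    have hcomm : Commute a b := (Subgroup.mem_centralizer_iff.mp (h2 hb) a ha)
    rw [hcomm.mul_pow, pow_add, pow_mul, hk, one_pow, one_mul, mul_comm (p ^ k), pow_mul, hl, one_pow]
  | inv a _ iha =>
    obtain ⟨k, hk⟩ := iha
    exact ⟨k, by rw [inv_pow, hk, inv_one]⟩

/-! ### Automorphisms trivial on the Frattini quotient -/

/-- **Burnside**: an automorphism of a finite `p`-group acting trivially on the Frattini quotient has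
`p`-power order. -/
theorem exists_pow_eq_one_of_forall_mem_frattini {E : Type*} [Group E] [Finite E] {p : ℕ}
    [hp : Fact p.Prime] (hE : IsPGroup p E) (α : MulAut E) (hα : ∀ x : E, x⁻¹ * α x ∈ frattini E) :
    ∃ k : ℕ, α ^ p ^ k = 1 := by
  have hn0 : orderOf α ≠ 0 := (orderOf_pos α).ne'
  have huniq : ∀ q : ℕ, q.Prime → q ∣ orderOf α → q = p := by
    intro q hq hdvd
    by_contra hne
    have : Fact q.Prime := ⟨hq⟩
    have hβ : orderOf (α ^ (orderOf α / q)) = q := orderOf_pow_orderOf_div hn0 hdvd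
    have hmem : α ^ (orderOf α / q) ∈ Subgroup.zpowers α := Subgroup.pow_mem _ (Subgroup.mem_zpowers α) _
    exact Cfsg.Agent.Lib.Helper12.not_forall_mem_frattini hE hne hβ
      (Cfsg.Agent.Lib.Helper12.inv_mul_apply_mem_of_mem_zpowers hα hmem)
  refine ⟨(orderOf α).primeFactorsList.length, ?_⟩
  rw [← Nat.eq_prime_pow_of_unique_prime_dvd hn0 (fun {q} hq hdvd => huniq q hq hdvd)]
  exact pow_orderOf_eq_one α

/-! ### Two non-commuting `p`-automorphisms of an elementary abelian group of order `p²` -/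

section SL2

variable {V : Type*} [Group V]

/-- the map `v ↦ v⁻¹ u(v)` on a commutative group -/
def commMap (hcomm : ∀ x y : V, x * y = y * x) (u : MulAut V) : V →* V where
  toFun v := v⁻¹ * u v
  map_one' := by simp
  map_mul' x y := by
    calc (x * y)⁻¹ * u (x * y) = y⁻¹ * (x⁻¹ * u x) * u y := by rw [map_mul, mul_inv_rev]; group
      _ = (x⁻¹ * u x) * y⁻¹ * u y := by rw [hcomm y⁻¹ (x⁻¹ * u x)]
      _ = x⁻¹ * u x * (y⁻¹ * u y) := by group

theorem commMap_apply (hcomm : ∀ x y : V, x * y = y * x) (u : MulAut V) (v : V) :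
    commMap hcomm u v = v⁻¹ * u v := rfl

theorem apply_eq_of_mem_zpowers (u : MulAut V) {e x : V} (he : u e = e)
    (hx : x ∈ Subgroup.zpowers e) : u x = x := by
  obtain ⟨k, rfl⟩ := Subgroup.mem_zpowers_iff.mp hx
  rw [map_zpow, he]

theorem pow_apply_eq (u : MulAut V) {e : V} (he : u e = e) (m : ℕ) : (u ^ m) e = e := by
  induction m with
  | zero => simp
  | succ m ih => rw [pow_succ, MulAut.mul_apply, he, ih]

theorem pow_apply_of_fixed (u : MulAut V) {x : V} (hx : u (x⁻¹ * u x) = x⁻¹ * u x) (m : ℕ) :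
    (u ^ m) x = x * (x⁻¹ * u x) ^ m := by
  induction m with
  | zero => simp
  | succ m ih =>
    rw [pow_succ', MulAut.mul_apply, ih, map_mul, map_pow, hx, pow_succ', ← mul_assoc,
      mul_inv_cancel_left]

variable [Finite V] {p : ℕ} [hp : Fact p.Prime]

/-- structure of a nontrivial `p`-automorphism of an elementary abelian group of order at most `p²`:
its fixed points and its commutators all lie in the group generated by any nontrivial fixed point -/
theorem fix_struct (hcomm : ∀ x y : V, x * y = y * x) (hexp : ∀ v : V, v ^ p = 1)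
    (hcard : Nat.card V ≤ p * p) (u : MulAut V) {a : ℕ} (hu : u ^ p ^ a = 1) (hu1 : u ≠ 1)
    {e : V} (he1 : e ≠ 1) (he : u e = e) :
    (∀ v, u v = v → v ∈ Subgroup.zpowers e) ∧ (∀ v, v⁻¹ * u v ∈ Subgroup.zpowers e) := by
  have hV : IsPGroup p V := fun g => ⟨1, by rw [pow_one]; exact hexp g⟩
  obtain ⟨f, hf⟩ : ∃ f : V →* V, f = commMap hcomm u := ⟨_, rfl⟩
  have hfv : ∀ v, f v = v⁻¹ * u v := fun v => by rw [hf]; rfl
  have hKI : Nat.card f.ker * Nat.card f.range = Nat.card V := by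
    rw [← Subgroup.index_ker]; exact Subgroup.card_mul_index _
  have hcardz : ∀ x : V, x ≠ 1 → Nat.card (Subgroup.zpowers x) = p := by
    intro x hx
    rw [Nat.card_zpowers, orderOf_eq_prime (hexp x) hx]
  have heK : Subgroup.zpowers e ≤ f.ker := by
    rw [Subgroup.zpowers_le, MonoidHom.mem_ker, hfv, he, inv_mul_cancel]
  -- the range is nontrivial and invariant
  have hIne : f.range ≠ ⊥ := by
    intro h
    apply hu1
    ext v
    have h1 : f v ∈ f.range := ⟨v, rfl⟩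
    rw [h, Subgroup.mem_bot, hfv] at h1
    rw [MulAut.one_apply]
    exact (inv_mul_eq_one.mp h1).symm
  have hIinv : ∀ w ∈ f.range, u w ∈ f.range := by
    rintro _ ⟨v, rfl⟩
    refine ⟨u v, ?_⟩
    rw [hfv, hfv, map_mul, map_inv]
  obtain ⟨w, hwI, hw1, hw⟩ := exists_fixed_ne_one hV u hu f.range hIinv hIne
  have hwI' : Subgroup.zpowers w ≤ f.range := by rw [Subgroup.zpowers_le]; exact hwI
  have h1 : p ≤ Nat.card f.ker := by
    rw [← hcardz e he1]; exact Subgroup.card_le_of_le heK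
  have h2 : p ≤ Nat.card f.range := by
    rw [← hcardz w hw1]; exact Subgroup.card_le_of_le hwI'
  have hppos : 0 < p := hp.out.pos
  have h3 : Nat.card f.ker ≤ p := by
    by_contra hcon
    push Not at hcon
    have : p * p < Nat.card f.ker * Nat.card f.range := by nlinarith
    omega
  have h4 : Nat.card f.range ≤ p := by
    by_contra hcon
    push Not at hcon
    have : p * p < Nat.card f.ker * Nat.card f.range := by nlinarith
    omega
  have hK : Subgroup.zpowers e = f.ker :=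
    Subgroup.eq_of_le_of_card_ge heK (by rw [hcardz e he1]; exact h3)
  have hI : Subgroup.zpowers w = f.range :=
    Subgroup.eq_of_le_of_card_ge hwI' (by rw [hcardz w hw1]; exact h4)
  have hwK : w ∈ Subgroup.zpowers e := by
    rw [hK, MonoidHom.mem_ker, hfv, hw, inv_mul_cancel]
  have hIK : f.range ≤ Subgroup.zpowers e := by
    rw [← hI, Subgroup.zpowers_le]; exact hwK
  refine ⟨fun v hv => ?_, fun v => ?_⟩
  · rw [hK, MonoidHom.mem_ker, hfv, hv, inv_mul_cancel]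
  · rw [← hfv]; exact hIK ⟨v, rfl⟩

/-- two `p`-automorphisms with a common nontrivial fixed point commute -/
theorem commute_of_common_fixed (hcomm : ∀ x y : V, x * y = y * x) (hexp : ∀ v : V, v ^ p = 1)
    (hcard : Nat.card V ≤ p * p) (u₁ u₂ : MulAut V) {a b : ℕ} (h₁ : u₁ ^ p ^ a = 1)
    (h₂ : u₂ ^ p ^ b = 1) {e : V} (he1 : e ≠ 1) (he₁ : u₁ e = e) (he₂ : u₂ e = e) :
    u₁ * u₂ = u₂ * u₁ := by
  by_cases hu1 : u₁ = 1
  · rw [hu1, one_mul, mul_one]
  by_cases hu2 : u₂ = 1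
  · rw [hu2, one_mul, mul_one]
  obtain ⟨-, hf1⟩ := fix_struct hcomm hexp hcard u₁ h₁ hu1 he1 he₁
  obtain ⟨-, hf2⟩ := fix_struct hcomm hexp hcard u₂ h₂ hu2 he1 he₂
  ext v
  rw [MulAut.mul_apply, MulAut.mul_apply]
  have e1 : ∀ (u : MulAut V) (x : V), u x = x * (x⁻¹ * u x) := fun u x => by group
  calc u₁ (u₂ v) = u₁ (v * (v⁻¹ * u₂ v)) := by rw [← e1]
    _ = u₁ v * (v⁻¹ * u₂ v) := by rw [map_mul, apply_eq_of_mem_zpowers u₁ he₁ (hf2 v)]
    _ = v * (v⁻¹ * u₁ v) * (v⁻¹ * u₂ v) := by rw [← e1]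
    _ = v * (v⁻¹ * u₂ v) * (v⁻¹ * u₁ v) := by
        rw [mul_assoc, hcomm (v⁻¹ * u₁ v), ← mul_assoc]
    _ = u₂ v * (v⁻¹ * u₁ v) := by rw [← e1]
    _ = u₂ (v * (v⁻¹ * u₁ v)) := by rw [map_mul, apply_eq_of_mem_zpowers u₂ he₂ (hf1 v)]
    _ = u₂ (u₁ v) := by rw [← e1]

/-- **Key lemma.** Two non-commuting automorphisms of `p`-power order of an elementary abelian group of
order at most `p²` generate a group containing the inversion. -/
theorem exists_inversion (hcomm : ∀ x y : V, x * y = y * x) (hexp : ∀ v : V, v ^ p = 1)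
    (hcard : Nat.card V ≤ p * p) (u₁ u₂ : MulAut V) {a b : ℕ} (h₁ : u₁ ^ p ^ a = 1)
    (h₂ : u₂ ^ p ^ b = 1) (hne : u₁ * u₂ ≠ u₂ * u₁) :
    ∃ τ ∈ Subgroup.closure ({u₁, u₂} : Set (MulAut V)), ∀ v : V, τ v = v⁻¹ := by
  have hV : IsPGroup p V := fun g => ⟨1, by rw [pow_one]; exact hexp g⟩
  have hu1 : u₁ ≠ 1 := by
    rintro rfl; exact hne (by rw [one_mul, mul_one])
  have hu2 : u₂ ≠ 1 := by
    rintro rfl; exact hne (by rw [one_mul, mul_one])
  have htop : (⊤ : Subgroup V) ≠ ⊥ := by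
    intro h
    apply hu1
    ext v
    have : v ∈ (⊤ : Subgroup V) := Subgroup.mem_top v
    rw [h, Subgroup.mem_bot] at this
    rw [this, map_one, map_one]
  obtain ⟨e₂, -, he₂1, he₂⟩ := exists_fixed_ne_one hV u₂ h₂ ⊤ (fun _ _ => Subgroup.mem_top _) htop
  obtain ⟨e₁', -, he₁'1, he₁'⟩ := exists_fixed_ne_one hV u₁ h₁ ⊤ (fun _ _ => Subgroup.mem_top _) htop
  obtain ⟨-, hS1'⟩ := fix_struct hcomm hexp hcard u₁ h₁ hu1 he₁'1 he₁'
  obtain ⟨-, hS2⟩ := fix_struct hcomm hexp hcard u₂ h₂ hu2 he₂1 he₂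
  -- `e₂` is not fixed by `u₁`
  have hne12 : u₁ e₂ ≠ e₂ := fun h =>
    hne (commute_of_common_fixed hcomm hexp hcard u₁ u₂ h₁ h₂ he₂1 h he₂)
  obtain ⟨e₁, he₁def⟩ : ∃ e₁ : V, e₁ = e₂⁻¹ * u₁ e₂ := ⟨_, rfl⟩
  have he₁1 : e₁ ≠ 1 := by
    rw [he₁def]
    intro h
    exact hne12 (inv_mul_eq_one.mp h).symm
  have he₁ : u₁ e₁ = e₁ := by
    rw [he₁def]; exact apply_eq_of_mem_zpowers u₁ he₁'  (hS1' e₂)
  obtain ⟨hF1, hS1⟩ := fix_struct hcomm hexp hcard u₁ h₁ hu1 he₁1 he₁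
  have hne21 : u₂ e₁ ≠ e₁ := fun h =>
    hne (commute_of_common_fixed hcomm hexp hcard u₁ u₂ h₁ h₂ he₁1 he₁ h)
  obtain ⟨g, hgdef⟩ : ∃ g : V, g = e₁⁻¹ * u₂ e₁ := ⟨_, rfl⟩
  have hg1 : g ≠ 1 := by
    rw [hgdef]
    intro h
    exact hne21 (inv_mul_eq_one.mp h).symm
  have hg : u₂ g = g := by
    rw [hgdef]; exact apply_eq_of_mem_zpowers u₂ he₂ (hS2 e₁)
  obtain ⟨hF2, -⟩ := fix_struct hcomm hexp hcard u₂ h₂ hu2 hg1 hg
  have he₂g : e₂⁻¹ ∈ Subgroup.zpowers g := Subgroup.inv_mem _ (hF2 e₂ he₂)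
  rw [← (isOfFinOrder_of_finite g).mem_powers_iff_mem_zpowers] at he₂g
  obtain ⟨m, hm⟩ := (Submonoid.mem_powers_iff _ _).mp he₂g
  -- the Weyl element
  have ha₂ : u₁ e₂ = e₂ * e₁ := by rw [he₁def]; group
  have hb₁ : (u₂ ^ m) e₁ = e₁ * e₂⁻¹ := by
    rw [pow_apply_of_fixed u₂ (by rw [← hgdef]; exact hg) m, ← hgdef, hm]
  have hb₂ : (u₂ ^ m) e₂ = e₂ := pow_apply_eq u₂ he₂ m
  obtain ⟨w, hwdef⟩ : ∃ w : MulAut V, w = u₁ * u₂ ^ m * u₁ := ⟨_, rfl⟩
  have hw₁ : w e₁ = e₂⁻¹ := by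
    rw [hwdef, MulAut.mul_apply, MulAut.mul_apply, he₁, hb₁, map_mul, map_inv, he₁, ha₂]
    group
  have hw₂ : w e₂ = e₁ := by
    rw [hwdef, MulAut.mul_apply, MulAut.mul_apply, ha₂, map_mul, hb₁, hb₂, map_mul, map_mul, map_inv,
      he₁, ha₂]
    calc e₂ * e₁ * (e₁ * (e₂ * e₁)⁻¹) = e₂ * e₁ * e₂⁻¹ := by group
      _ = e₁ := by rw [hcomm e₂ e₁]; group
  have hmem1 : u₁ ∈ Subgroup.closure ({u₁, u₂} : Set (MulAut V)) :=
    Subgroup.subset_closure (Set.mem_insert _ _)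
  have hmem2 : u₂ ∈ Subgroup.closure ({u₁, u₂} : Set (MulAut V)) :=
    Subgroup.subset_closure (Set.mem_insert_of_mem _ rfl)
  have hwmem : w ∈ Subgroup.closure ({u₁, u₂} : Set (MulAut V)) := by
    rw [hwdef]
    exact Subgroup.mul_mem _ (Subgroup.mul_mem _ hmem1 (Subgroup.pow_mem _ hmem2 m)) hmem1
  refine ⟨w * w, Subgroup.mul_mem _ hwmem hwmem, ?_⟩
  have hτ₁ : (w * w) e₁ = e₁⁻¹ := by rw [MulAut.mul_apply, hw₁, map_inv, hw₂]
  have hτ₂ : (w * w) e₂ = e₂⁻¹ := by rw [MulAut.mul_apply, hw₂, hw₁]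
  intro v
  -- `v = e₁^i e₂^j`
  obtain ⟨j, hj⟩ := Subgroup.mem_zpowers_iff.mp (hS1 v)
  have h5 : u₁ (v * (e₂ ^ j)⁻¹) = v * (e₂ ^ j)⁻¹ := by
    have h6 : (v * (e₂ ^ j)⁻¹)⁻¹ * u₁ (v * (e₂ ^ j)⁻¹) = 1 := by
      have h7 := map_mul (commMap hcomm u₁) v (e₂ ^ j)⁻¹
      rw [map_inv, map_zpow] at h7
      simp only [commMap_apply] at h7
      rw [h7, ← he₁def, ← hj, mul_inv_cancel]
    exact (inv_mul_eq_one.mp h6).symm
  obtain ⟨i, hi⟩ := Subgroup.mem_zpowers_iff.mp (hF1 _ h5)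
  have hv : v = e₁ ^ i * e₂ ^ j := by rw [hi]; group
  rw [hv, map_mul, map_zpow, map_zpow, hτ₁, hτ₂, mul_inv_rev, hcomm, inv_zpow, inv_zpow]

end SL2

/-! ### Involutions inverting the Frattini quotient -/

theorem mem_of_sq_mem {D : Type*} [Group D] {n : ℕ} (hn : Odd n) {x : D} (hx : x ^ n = 1)
    (H : Subgroup D) (h : x * x ∈ H) : x ∈ H := by
  obtain ⟨k, hk⟩ := hn
  have h1 : (x * x) ^ (k + 1) = x := by
    rw [← sq, ← pow_mul]
    have : 2 * (k + 1) = n + 1 := by omega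
    rw [this, pow_succ, hx, one_mul]
  rw [← h1]
  exact H.pow_mem h _

/-- An involutory automorphism of a group of odd order that inverts the Frattini quotient inverts
every abelian quotient. -/
theorem mul_apply_mem_of_inverts_frattini {D : Type*} [Group D] [Finite D]
    (hodd : Odd (Nat.card D)) (τ : MulAut D) (hτ2 : ∀ x, τ (τ x) = x) (Z : Subgroup D)
    [hZ : Z.Normal] (hZc : commutator D ≤ Z) (hΦ : ∀ x, x * τ x ∈ frattini D) :
    ∀ x, x * τ x ∈ Z := by
  have hq : ∀ a b : D ⧸ Z, a * b = b * a := by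
    have h1 : IsMulCommutative (D ⧸ Z) :=
      Subgroup.Normal.quotient_commutative_iff_commutator_le.mpr hZc
    exact fun a b => h1.is_comm.comm a b
  obtain ⟨π, hπ⟩ : ∃ π : D →* D ⧸ Z, π = QuotientGroup.mk' Z := ⟨_, rfl⟩
  have key : ∀ x, x * τ x ∈ Z ↔ π x * π (τ x) = 1 := by
    intro x
    rw [← map_mul, hπ]
    exact (QuotientGroup.eq_one_iff _).symm
  obtain ⟨M, hM⟩ : ∃ M : Subgroup D, ∀ x, x ∈ M ↔ x * τ x ∈ Z := by
    refine ⟨{ carrier := {x | x * τ x ∈ Z}, one_mem' := ?_, mul_mem' := ?_, inv_mem' := ?_ },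
      fun x => Iff.rfl⟩
    · intro x y hx hy
      have hx' := (key x).mp hx
      have hy' := (key y).mp hy
      show x * y * τ (x * y) ∈ Z
      rw [key, map_mul, map_mul, map_mul, mul_assoc, ← mul_assoc (π y), hq (π y) (π (τ x)), mul_assoc,
        ← mul_assoc, hx', hy', one_mul]
    · show (1 : D) * τ 1 ∈ Z
      rw [map_one, one_mul]; exact Z.one_mem
    · intro x hx
      have hx' := (key x).mp hx
      show x⁻¹ * τ x⁻¹ ∈ Z
      rw [key, map_inv, map_inv, map_inv, ← mul_inv_rev, hq, hx', inv_one]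
  have hall : ∀ x : D, x ∈ M ⊔ frattini D := by
    intro x
    apply mem_of_sq_mem hodd (pow_card_eq_one')
    have h1 : x * x = (x * τ x) * ((τ x)⁻¹ * x) := by group
    have h2 : (τ x)⁻¹ * x ∈ M := by
      rw [hM, map_mul, map_inv, hτ2]
      have : (τ x)⁻¹ * x * (x⁻¹ * τ x) = 1 := by group
      rw [this]; exact Z.one_mem
    rw [h1, sup_comm]
    exact Subgroup.mul_mem_sup (hΦ x) h2
  have htop : M ⊔ frattini D = ⊤ := by
    rw [eq_top_iff]; intro x _; exact hall x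
  have hMtop := frattini_nongenerating htop
  intro x
  rw [← hM, hMtop]
  exact Subgroup.mem_top x

/-! ### A norm computation -/

section Norm

variable {G : Type*} [Group G]

/-- the partial norm `x · x^d · … · x^{d^{k-1}}` -/
def nrm (d : G) : ℕ → G → G
  | 0, _ => 1
  | (k + 1), x => nrm d k x * (d ^ k * x * (d ^ k)⁻¹)

theorem mul_pow_eq_nrm (d x : G) (k : ℕ) : (x * d) ^ k = nrm d k x * d ^ k := by
  induction k with
  | zero => simp [nrm]
  | succ k ih =>
    rw [pow_succ, ih, pow_succ]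
    show _ = nrm d k x * (d ^ k * x * (d ^ k)⁻¹) * (d ^ k * d)
    group

variable (D : Subgroup G) {d : G}

theorem conj_pow_mem (hd : ∀ x ∈ D, d * x * d⁻¹ ∈ D) (k : ℕ) :
    ∀ x ∈ D, d ^ k * x * (d ^ k)⁻¹ ∈ D := by
  induction k with
  | zero => intro x hx; simpa using hx
  | succ k ih =>
    intro x hx
    have h1 : d ^ (k + 1) * x * (d ^ (k + 1))⁻¹ = d * (d ^ k * x * (d ^ k)⁻¹) * d⁻¹ := by
      rw [pow_succ']; group
    rw [h1]
    exact hd _ (ih x hx)

theorem nrm_mem (hd : ∀ x ∈ D, d * x * d⁻¹ ∈ D) (k : ℕ) : ∀ x ∈ D, nrm d k x ∈ D := by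
  induction k with
  | zero => intro x _; exact D.one_mem
  | succ k ih =>
    intro x hx
    exact D.mul_mem (ih x hx) (conj_pow_mem D hd k x hx)

theorem nrm_mul (hD : ∀ x ∈ D, ∀ y ∈ D, x * y = y * x) (hd : ∀ x ∈ D, d * x * d⁻¹ ∈ D) (k : ℕ) :
    ∀ x ∈ D, ∀ y ∈ D, nrm d k (x * y) = nrm d k x * nrm d k y := by
  induction k with
  | zero => intro x _ y _; simp [nrm]
  | succ k ih =>
    intro x hx y hy
    show nrm d k (x * y) * (d ^ k * (x * y) * (d ^ k)⁻¹) =
      nrm d k x * (d ^ k * x * (d ^ k)⁻¹) * (nrm d k y * (d ^ k * y * (d ^ k)⁻¹))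
    have h1 : d ^ k * (x * y) * (d ^ k)⁻¹ = (d ^ k * x * (d ^ k)⁻¹) * (d ^ k * y * (d ^ k)⁻¹) := by
      group
    have h2 := hD _ (nrm_mem D hd k y hy) _ (conj_pow_mem D hd k x hx)
    rw [ih x hx y hy, h1, mul_assoc, ← mul_assoc (nrm d k y), h2, mul_assoc, ← mul_assoc]

theorem nrm_one (hD : ∀ x ∈ D, ∀ y ∈ D, x * y = y * x) (hd : ∀ x ∈ D, d * x * d⁻¹ ∈ D) (k : ℕ) :
    nrm d k 1 = 1 := by
  have := nrm_mul D hD hd k 1 D.one_mem 1 D.one_mem
  rw [one_mul] at this
  exact mul_left_cancel (a := nrm d k 1) (by rw [mul_one]; exact this.symm)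

theorem nrm_pow (hD : ∀ x ∈ D, ∀ y ∈ D, x * y = y * x) (hd : ∀ x ∈ D, d * x * d⁻¹ ∈ D) (k : ℕ)
    {x : G} (hx : x ∈ D) (m : ℕ) : nrm d k (x ^ m) = (nrm d k x) ^ m := by
  induction m with
  | zero => rw [pow_zero, pow_zero]; exact nrm_one D hD hd k
  | succ m ih => rw [pow_succ, nrm_mul D hD hd k _ (D.pow_mem hx m) _ hx, ih, pow_succ]

/-- if `(r d)^p = d^{-p}` with `r` in the abelian group `D` of odd order normalised by `d`, then
some element of the coset `D d` has `p`-th power `1` -/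
theorem exists_pow_eq_one_of_norm (hD : ∀ x ∈ D, ∀ y ∈ D, x * y = y * x)
    (hd : ∀ x ∈ D, d * x * d⁻¹ ∈ D) {p n : ℕ} (hdp : d ^ p ∈ D) (hn : Odd n)
    (hexp : ∀ x ∈ D, x ^ n = 1) {r : G} (hr : r ∈ D) (h : (r * d) ^ p = (d ^ p)⁻¹) :
    ∃ r₀ ∈ D, (r₀ * d) ^ p = 1 := by
  obtain ⟨t, ht⟩ := hn
  refine ⟨r ^ (t + 1), D.pow_mem hr _, ?_⟩
  rw [mul_pow_eq_nrm, nrm_pow D hD hd p hr]
  rw [mul_pow_eq_nrm] at h
  have h1 : nrm d p r = (d ^ p)⁻¹ * (d ^ p)⁻¹ := eq_mul_inv_of_mul_eq h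
  have h2 : ((d ^ p)⁻¹ * (d ^ p)⁻¹) ^ (t + 1) = (d ^ p)⁻¹ := by
    rw [← sq, ← pow_mul]
    have : 2 * (t + 1) = n + 1 := by omega
    rw [this, pow_succ, inv_pow, hexp _ hdp, inv_one, one_mul]
  rw [h1, h2, inv_mul_cancel]

end Norm

/-! ### Restriction of automorphisms to an invariant subgroup -/

section Restrict

variable {G : Type*} [Group G]

/-- the automorphisms stabilising the subgroup `N` -/
def stabSub (N : Subgroup G) : Subgroup (MulAut G) where
  carrier := {α | ∀ x, α x ∈ N ↔ x ∈ N}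
  one_mem' := fun _ => Iff.rfl
  mul_mem' := by
    intro α β hα hβ x
    rw [MulAut.mul_apply, hα, hβ]
  inv_mem' := by
    intro α hα x
    rw [← hα (α⁻¹ x), MulAut.apply_inv_self]

theorem mem_stabSub {N : Subgroup G} {α : MulAut G} : α ∈ stabSub N ↔ ∀ x, α x ∈ N ↔ x ∈ N :=
  Iff.rfl

/-- restriction to the invariant subgroup -/
def restrictAut (N : Subgroup G) : stabSub N →* MulAut N where
  toFun α :=
    { toFun := fun x => ⟨(α : MulAut G) x, (α.2 x).mpr x.2⟩
      invFun := fun x => ⟨(α : MulAut G)⁻¹ x, ((stabSub N).inv_mem α.2 x).mpr x.2⟩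
      left_inv := fun x => Subtype.ext (by simp)
      right_inv := fun x => Subtype.ext (by simp)
      map_mul' := fun x y => Subtype.ext (by simp) }
  map_one' := by
    ext x
    rfl
  map_mul' α β := by
    ext x
    rfl

theorem restrictAut_apply (N : Subgroup G) (α : stabSub N) (x : N) :
    ((restrictAut N α x : N) : G) = (α : MulAut G) x := rfl

end Restrict

end Cfsg.H5.MetaSC
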