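import Mathlib
import Cfsg.Prelude.Def_FusionSystem
import Cfsg.Agent.Lib.Helper27.FusionNormalCrit
import Cfsg.Agent.Lib.Helper27.FusionSat
import Cfsg.Agent.H5.MetaSC1
import Cfsg.Agent.H5.GenExtra1

set_option autoImplicit false
set_option linter.unusedSectionVars false

/-! Strongly closed generalized extraspecial subgroups of saturated fusion systems: tools.

* `exists_inversion_sub`: two non-commuting `p`-elements acting on an elementary abelian subgroup of order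
  at most `p²` generate an element inverting it;
* `derived P`: the commutator subgroup of `P` as a subgroup of the ambient group;
* `cen_of_hom`: if a map of the system moves `P'` (of order `p`) off itself, then the centralizer in `P` of
  the image is elementary abelian. -/

namespace Cfsg.H5.GenExtra

open Cfsg Cfsg.FusionSystem Cfsg.Agent.Lib.Helper27 Cfsg.H5.MetaSC
open scoped commutatorElement Pointwise

section inversion

theorem mem_stabSub_of_forall_mem {G : Type*} [Group G] [Finite G] (N : Subgroup G) (α : MulAut G)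
    (h : ∀ x ∈ N, α x ∈ N) : α ∈ stabSub N := by
  rw [mem_stabSub]
  intro x
  refine ⟨fun hx => ?_, h x⟩
  have hle : N.map α.toMonoidHom ≤ N := by
    rintro _ ⟨y, hy, rfl⟩
    exact h y hy
  have heq : N.map α.toMonoidHom = N :=
    Subgroup.eq_of_le_of_card_ge hle (by rw [Subgroup.card_map_of_injective α.injective])
  rw [← heq] at hx
  obtain ⟨y, hy, hyx⟩ := hx
  have : y = x := α.injective hyx
  rwa [← this]

/-- two `p`-elements of a group `A` acting on `G` and stabilizing an elementary abelian subgroup `N` of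
order at most `p²`, on which they do not commute, generate an element inverting `N` -/
theorem exists_inversion_sub {G A : Type*} [Group G] [Finite G] [Group A] {p : ℕ} [Fact p.Prime]
    (ρ : A →* MulAut G) (N : Subgroup G) (hcomm : ∀ x ∈ N, ∀ y ∈ N, x * y = y * x)
    (hexp : ∀ x ∈ N, x ^ p = 1) (hcard : Nat.card N ≤ p * p) (u₁ u₂ : A)
    (h₁ : ∀ x ∈ N, ρ u₁ x ∈ N) (h₂ : ∀ x ∈ N, ρ u₂ x ∈ N) {a b : ℕ} (hp₁ : u₁ ^ p ^ a = 1)
    (hp₂ : u₂ ^ p ^ b = 1) (hne : ∃ x ∈ N, ρ u₁ (ρ u₂ x) ≠ ρ u₂ (ρ u₁ x)) :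
    ∃ τ ∈ Subgroup.closure ({u₁, u₂} : Set A), ∀ x ∈ N, ρ τ x = x⁻¹ := by
  obtain ⟨B, hB⟩ : ∃ B : Subgroup A, B = (stabSub N).comap ρ := ⟨_, rfl⟩
  have hmemB : ∀ u : A, u ∈ B ↔ ρ u ∈ stabSub N := by
    intro u; rw [hB, Subgroup.mem_comap]
  have hu₁B : u₁ ∈ B := (hmemB u₁).mpr (mem_stabSub_of_forall_mem N _ h₁)
  have hu₂B : u₂ ∈ B := (hmemB u₂).mpr (mem_stabSub_of_forall_mem N _ h₂)
  obtain ⟨r, hr⟩ : ∃ r : B →* MulAut N, ∀ (u : B) (x : N), ((r u x : N) : G) = ρ (u : A) x := by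
    refine ⟨(restrictAut N).comp
      ((ρ.comp B.subtype).codRestrict (stabSub N) (fun u => (hmemB u).mp u.2)), fun u x => rfl⟩
  have hcommV : ∀ x y : N, x * y = y * x := fun x y => Subtype.ext (hcomm x x.2 y y.2)
  have hexpV : ∀ x : N, x ^ p = 1 := fun x => Subtype.ext (by rw [Subgroup.coe_pow]; exact hexp x x.2)
  have hneV : r ⟨u₁, hu₁B⟩ * r ⟨u₂, hu₂B⟩ ≠ r ⟨u₂, hu₂B⟩ * r ⟨u₁, hu₁B⟩ := by
    obtain ⟨x, hx, hxne⟩ := hne
    intro heq
    apply hxne
    have h3 := congrArg (fun f : MulAut N => ((f ⟨x, hx⟩ : N) : G)) heq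
    simp only [MulAut.mul_apply, hr] at h3
    exact h3
  obtain ⟨τb, hτbmem, hτb⟩ := exists_inversion hcommV hexpV hcard (r ⟨u₁, hu₁B⟩) (r ⟨u₂, hu₂B⟩)
    (a := a) (b := b)
    (by rw [← map_pow]; convert map_one r; exact Subtype.ext (by rw [Subgroup.coe_pow]; exact hp₁))
    (by rw [← map_pow]; convert map_one r; exact Subtype.ext (by rw [Subgroup.coe_pow]; exact hp₂))
    hneV
  rw [← Set.image_pair, ← MonoidHom.map_closure] at hτbmem
  obtain ⟨τ', hτ'mem, hτ'⟩ := hτbmem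
  refine ⟨(τ' : A), ?_, fun x hx => ?_⟩
  · have h4 : (τ' : A) ∈ (Subgroup.closure ({⟨u₁, hu₁B⟩, ⟨u₂, hu₂B⟩} : Set B)).map B.subtype :=
      ⟨τ', hτ'mem, rfl⟩
    rw [MonoidHom.map_closure, Set.image_pair] at h4
    exact h4
  · have h5 := hr τ' ⟨x, hx⟩
    rw [hτ', hτb] at h5
    exact h5.symm

/-- **Two transvections.** Let `u₁, u₂` be `p`-elements acting on the elementary abelian group `V`, with
`[V, u₁] ≤ ⟨e₁⟩ ≤ C_V(u₁)`, `[V, u₂] ≤ ⟨e₂⟩ ≤ C_V(u₂)`, and `u₁` moving `e₂`, `u₂` moving `e₁`. Then the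
group generated by `u₁, u₂` contains an element inverting `e₁` and commuting with `u₁` on `V`. -/
theorem exists_inverting_commuting {V A : Type*} [Group V] [Finite V] [Group A] {p : ℕ}
    [Fact p.Prime] (ρ : A →* MulAut V) (hcomm : ∀ x y : V, x * y = y * x) (hexp : ∀ x : V, x ^ p = 1)
    (u₁ u₂ : A) {a b : ℕ} (hp₁ : u₁ ^ p ^ a = 1) (hp₂ : u₂ ^ p ^ b = 1) (e₁ e₂ : V)
    (hf₁ : ρ u₁ e₁ = e₁) (hf₂ : ρ u₂ e₂ = e₂) (hk₁ : ρ u₁ e₂ ≠ e₂) (hk₂ : ρ u₂ e₁ ≠ e₁)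
    (hc₁ : ∀ v : V, v⁻¹ * ρ u₁ v ∈ Subgroup.zpowers e₁)
    (hc₂ : ∀ v : V, v⁻¹ * ρ u₂ v ∈ Subgroup.zpowers e₂) :
    ∃ τ ∈ Subgroup.closure ({u₁, u₂} : Set A), ρ τ e₁ = e₁⁻¹ ∧ ρ τ * ρ u₁ = ρ u₁ * ρ τ := by
  have hpp : p.Prime := Fact.out
  have hnorm : ∀ H : Subgroup V, H.Normal := fun H =>
    ⟨fun n hn g => by rw [hcomm g n, mul_inv_cancel_right]; exact hn⟩
  have he₁1 : e₁ ≠ 1 := by
    rintro rfl
    exact hk₂ (map_one _)
  have he₂1 : e₂ ≠ 1 := by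
    rintro rfl
    exact hk₁ (map_one _)
  have hcardz : ∀ x : V, x ≠ 1 → Nat.card (Subgroup.zpowers x) = p := by
    intro x hx
    rw [Nat.card_zpowers, orderOf_eq_prime (hexp x) hx]
  obtain ⟨W, hWdef⟩ : ∃ W : Subgroup V, W = Subgroup.zpowers e₁ ⊔ Subgroup.zpowers e₂ := ⟨_, rfl⟩
  have h1W : Subgroup.zpowers e₁ ≤ W := by rw [hWdef]; exact le_sup_left
  have h2W : Subgroup.zpowers e₂ ≤ W := by rw [hWdef]; exact le_sup_right
  have hWcard : Nat.card W ≤ p * p := by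
    have hN := hnorm (Subgroup.zpowers e₂)
    have e1 : Nat.card ↥W =
        Nat.card ↥((Subgroup.zpowers e₁ : Set V) * (Subgroup.zpowers e₂ : Set V)) := by
      rw [hWdef, ← Subgroup.mul_normal]; rfl
    rw [e1]
    refine le_trans Set.natCard_mul_le ?_
    have e2 : Nat.card ↥(Subgroup.zpowers e₁ : Set V) = p := hcardz e₁ he₁1
    have e3 : Nat.card ↥(Subgroup.zpowers e₂ : Set V) = p := hcardz e₂ he₂1
    rw [e2, e3]
  have hst₁ : ∀ x ∈ W, ρ u₁ x ∈ W := by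
    intro x hx
    have h3 : ρ u₁ x = x * (x⁻¹ * ρ u₁ x) := by group
    rw [h3]
    exact W.mul_mem hx (h1W (hc₁ x))
  have hst₂ : ∀ x ∈ W, ρ u₂ x ∈ W := by
    intro x hx
    have h3 : ρ u₂ x = x * (x⁻¹ * ρ u₂ x) := by group
    rw [h3]
    exact W.mul_mem hx (h2W (hc₂ x))
  -- the commutator homomorphisms
  obtain ⟨f₁, hf₁def⟩ : ∃ f : V →* V, ∀ v, f v = v⁻¹ * ρ u₁ v := ⟨commMap hcomm (ρ u₁), fun _ => rfl⟩
  obtain ⟨f₂, hf₂def⟩ : ∃ f : V →* V, ∀ v, f v = v⁻¹ * ρ u₂ v := ⟨commMap hcomm (ρ u₂), fun _ => rfl⟩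
  have hf₁e₁ : f₁ e₁ = 1 := by rw [hf₁def, hf₁, inv_mul_cancel]
  have hf₂e₂ : f₂ e₂ = 1 := by rw [hf₂def, hf₂, inv_mul_cancel]
  have hf₁e₂ : f₁ e₂ ≠ 1 := by
    rw [hf₁def]
    intro h3
    exact hk₁ (inv_mul_eq_one.mp h3).symm
  have hf₂e₁ : f₂ e₁ ≠ 1 := by
    rw [hf₂def]
    intro h3
    exact hk₂ (inv_mul_eq_one.mp h3).symm
  have hfix₁ : ∀ v, f₁ v = 1 → ρ u₁ v = v := by
    intro v hv
    rw [hf₁def] at hv
    exact (inv_mul_eq_one.mp hv).symm
  have hfix₂ : ∀ v, f₂ v = 1 → ρ u₂ v = v := by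
    intro v hv
    rw [hf₂def] at hv
    exact (inv_mul_eq_one.mp hv).symm
  -- non-commuting on `W`
  have hne : ∃ x ∈ W, ρ u₁ (ρ u₂ x) ≠ ρ u₂ (ρ u₁ x) := by
    refine ⟨e₁, h1W (Subgroup.mem_zpowers e₁), fun h3 => ?_⟩
    rw [hf₁] at h3
    have h4 : ρ u₂ e₁ = e₁ * f₂ e₁ := by rw [hf₂def]; group
    rw [h4, map_mul, hf₁] at h3
    have h5 : ρ u₁ (f₂ e₁) = f₂ e₁ := mul_left_cancel h3
    have h6 : f₂ e₁ ∈ Subgroup.zpowers e₂ := by rw [hf₂def]; exact hc₂ e₁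
    obtain ⟨n, hn⟩ := exists_pow_eq_of_card_prime _ (hcardz e₂ he₂1) h6 hf₂e₁
      (Subgroup.mem_zpowers e₂)
    apply hk₁
    rw [← hn, map_pow, h5]
  obtain ⟨τ, hτmem, hτinv⟩ := exists_inversion_sub ρ W (fun x _ y _ => hcomm x y)
    (fun x _ => hexp x) hWcard u₁ u₂ hst₁ hst₂ hp₁ hp₂ hne
  refine ⟨τ, hτmem, hτinv e₁ (h1W (Subgroup.mem_zpowers e₁)), ?_⟩
  ext v
  rw [MulAut.mul_apply, MulAut.mul_apply]
  -- decompose `v`
  have h7 : f₁ v ∈ Subgroup.zpowers e₁ := by rw [hf₁def]; exact hc₁ v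
  have h8 : f₂ v ∈ Subgroup.zpowers e₂ := by rw [hf₂def]; exact hc₂ v
  have h9 : f₁ e₂ ∈ Subgroup.zpowers e₁ := by rw [hf₁def]; exact hc₁ e₂
  have h10 : f₂ e₁ ∈ Subgroup.zpowers e₂ := by rw [hf₂def]; exact hc₂ e₁
  obtain ⟨i, hi⟩ := exists_pow_eq_of_card_prime _ (hcardz e₁ he₁1) h9 hf₁e₂ h7
  obtain ⟨j, hj⟩ := exists_pow_eq_of_card_prime _ (hcardz e₂ he₂1) h10 hf₂e₁ h8
  obtain ⟨w, hwdef⟩ : ∃ w : V, w = e₂ ^ i * e₁ ^ j := ⟨_, rfl⟩
  have hwW : w ∈ W := by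
    rw [hwdef]
    exact W.mul_mem (W.pow_mem (h2W (Subgroup.mem_zpowers e₂)) i)
      (W.pow_mem (h1W (Subgroup.mem_zpowers e₁)) j)
  obtain ⟨c, hcdef⟩ : ∃ c : V, c = v * w⁻¹ := ⟨_, rfl⟩
  have hc1 : ρ u₁ c = c := by
    apply hfix₁
    rw [hcdef, hwdef, map_mul, map_inv, map_mul, map_pow, map_pow, hf₁e₁, one_pow, mul_one, hi,
      mul_inv_cancel]
  have hc2 : ρ u₂ c = c := by
    apply hfix₂
    rw [hcdef, hwdef, map_mul, map_inv, map_mul, map_pow, map_pow, hf₂e₂, one_pow, one_mul, hj,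
      mul_inv_cancel]
  have hcτ : ρ τ c = c := by
    have hle : Subgroup.closure ({u₁, u₂} : Set A) ≤ (MulAction.stabilizer (MulAut V) c).comap ρ := by
      rw [Subgroup.closure_le]
      rintro u (rfl | hu)
      · exact hc1
      · rw [Set.mem_singleton_iff] at hu
        rw [hu]
        exact hc2
    exact hle hτmem
  have hv : v = c * w := by rw [hcdef]; group
  rw [hv, map_mul, hc1, map_mul, hcτ, hτinv _ (hst₁ w hwW), map_mul, hcτ, hτinv w hwW, map_mul, hc1,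
    map_inv]

end inversion

section derived

variable {Ω : Type*} [Group Ω] {S : Subgroup Ω}

/-- the commutator subgroup of `P`, as a subgroup of the ambient group -/
def derived (P : Subgroup Ω) : Subgroup Ω := (commutator ↥P).map P.subtype

theorem derived_le (P : Subgroup Ω) : derived P ≤ P := by
  rintro _ ⟨k, -, rfl⟩
  exact k.2

theorem card_derived (P : Subgroup Ω) : Nat.card (derived P) = Nat.card (commutator ↥P) :=
  Subgroup.card_map_of_injective (Subgroup.subtype_injective P)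

theorem comm_mem_derived {P : Subgroup Ω} {x y : Ω} (hx : x ∈ P) (hy : y ∈ P) :
    ⁅x, y⁆ ∈ derived P := by
  refine ⟨⁅(⟨x, hx⟩ : P), ⟨y, hy⟩⁆, ?_, rfl⟩
  rw [commutator_def]
  exact Subgroup.commutator_mem_commutator (Subgroup.mem_top _) (Subgroup.mem_top _)

theorem map_mem_derived {P : Subgroup Ω} (c : ↥P →* ↥P) {k : ↥P} (hk : k ∈ commutator ↥P) :
    ((c k : ↥P) : Ω) ∈ derived P := by
  refine ⟨c k, ?_, rfl⟩
  have h1 : (commutator ↥P).map c ≤ commutator ↥P := by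
    rw [commutator_def, Subgroup.map_commutator]
    exact Subgroup.commutator_mono le_top le_top
  exact h1 ⟨k, hk, rfl⟩

variable [Finite S] {p : ℕ} [Fact p.Prime] {F : FusionSystem S} {P : Subgroup Ω}

theorem finite_of_le {Q : Subgroup Ω} (hQ : Q ≤ S) : Finite ↥Q :=
  Finite.of_injective (Subgroup.inclusion hQ) (Subgroup.inclusion_injective hQ)

theorem pow_mem_derived (hPS : P ≤ S) (h : GE p ↥P) {x : Ω} (hx : x ∈ P) : x ^ p ∈ derived P := by
  have : Finite ↥P := finite_of_le hPS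
  exact ⟨⟨x, hx⟩ ^ p, h.pow_mem _, rfl⟩

theorem card_derived_eq (h : GE p ↥P) : Nat.card (derived P) = p := by
  rw [card_derived]; exact h.card

/-- `P'` is central in `S` -/
theorem derived_central (hS : IsPGroup p S) (hP : F.StronglyClosed P) (h : GE p ↥P) {z : Ω}
    (hz : z ∈ derived P) {s : Ω} (hs : s ∈ S) : s * z * s⁻¹ = z := by
  have hZS : derived P ≤ S := (derived_le P).trans hP.1
  have hconj : ∀ t ∈ S, ∀ w ∈ derived P, t * w * t⁻¹ ∈ derived P := by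
    rintro t ht _ ⟨k, hk, rfl⟩
    obtain ⟨c, hc⟩ : ∃ c : ↥P →* ↥P, ∀ x : ↥P, ((c x : ↥P) : Ω) = t * x * t⁻¹ := by
      refine ⟨((MulAut.conj t).toMonoidHom.comp P.subtype).codRestrict P
        (fun x => stronglyClosed_conj_mem hP ht x.2), fun x => rfl⟩
    have h1 := map_mem_derived c hk
    rw [hc] at h1
    exact h1
  have hN : ((derived P).subgroupOf S).Normal := by
    constructor
    intro n hn g
    rw [Subgroup.mem_subgroupOf] at hn ⊢
    exact hconj g g.2 n hn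
  have hcard : Nat.card ((derived P).subgroupOf S) = p := by
    rw [Nat.card_congr (Subgroup.subgroupOfEquivOfLe hZS).toEquiv]
    exact card_derived_eq h
  have h2 := Cfsg.Agent.Lib.Helper1.le_center_of_normal_of_card_prime hS _ hcard
  have h3 : (⟨z, hZS hz⟩ : S) ∈ Subgroup.center S := h2 (Subgroup.mem_subgroupOf.mpr hz)
  have h4 := (Subgroup.mem_center_iff.mp h3) ⟨s, hs⟩
  have h5 : s * z = z * s := congrArg Subtype.val h4
  rw [h5, mul_inv_cancel_right]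

/-- `P'` is generated by any of its nonidentity elements -/
theorem zpowers_eq_derived (hPS : P ≤ S) (h : GE p ↥P) {z : Ω} (hz : z ∈ derived P) (hz1 : z ≠ 1) :
    Subgroup.zpowers z = derived P := by
  have : Finite ↥(derived P) := finite_of_le ((derived_le P).trans hPS)
  apply Subgroup.eq_of_le_of_card_ge (Subgroup.zpowers_le.mpr hz)
  rw [card_derived_eq h, Nat.card_zpowers,
    orderOf_eq_prime (pow_eq_one_of_card_prime _ (card_derived_eq h) hz) hz1]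

theorem derived_isFullyNormalized (hS : IsPGroup p S) (hP : F.StronglyClosed P) (h : GE p ↥P) :
    F.IsFullyNormalized (derived P) := by
  have hZS : derived P ≤ S := (derived_le P).trans hP.1
  have : Finite ↥(derived P) := finite_of_le hZS
  refine ⟨hZS, fun Q' _ => ?_⟩
  have : Finite ↥(normalizerIn S (derived P)) := finite_of_le (normalizerIn_le_S S _)
  apply Subgroup.card_le_of_le
  intro g hg
  refine ⟨hg.1, mem_normalizer_of_conj_mem (fun y hy => ?_)⟩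
  rw [derived_central hS hP h hy hg.1]
  exact hy

/-- **Key fusion lemma.** If a map `ψ` of the system sends a generator `z` of `P'` outside `P'`, then the
centralizer in `P` of `ψ z` is elementary abelian. -/
theorem cen_of_hom (hS : IsPGroup p S) (hF : F.IsSaturated p) (hP : F.StronglyClosed P) (h : GE p ↥P)
    {Q : Subgroup Ω} {ψ : Q →* Ω} (hψ : ψ ∈ F.Hom Q) {z : Ω} (hzQ : z ∈ Q) (hz : z ∈ derived P)
    (hψz : ψ ⟨z, hzQ⟩ ∉ derived P) :
    (∀ x ∈ P, ∀ y ∈ P, x * ψ ⟨z, hzQ⟩ = ψ ⟨z, hzQ⟩ * x → y * ψ ⟨z, hzQ⟩ = ψ ⟨z, hzQ⟩ * y →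
      x * y = y * x) ∧
    (∀ x ∈ P, x * ψ ⟨z, hzQ⟩ = ψ ⟨z, hzQ⟩ * x → x ^ p = 1) := by
  have hpp : p.Prime := Fact.out
  have hZS : derived P ≤ S := (derived_le P).trans hP.1
  have hZcard := card_derived_eq h
  have hz1 : z ≠ 1 := by
    rintro rfl
    apply hψz
    have : (⟨1, hzQ⟩ : Q) = 1 := rfl
    rw [this, map_one]
    exact Subgroup.one_mem _
  have hZz := zpowers_eq_derived hP.1 h hz hz1
  obtain ⟨z₁, hz₁def⟩ : ∃ z₁ : Ω, z₁ = ψ ⟨z, hzQ⟩ := ⟨_, rfl⟩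
  rw [← hz₁def] at hψz ⊢
  have hrec : F.IsReceptive (Subgroup.zpowers z) := by
    rw [hZz]
    exact (fa_receptive_of_fullyNormalized hS hF (derived_isFullyNormalized hS hP h)).2.1
  -- the isomorphism `⟨z⟩ → ⟨z₁⟩`
  have hle : Subgroup.zpowers z ≤ Q := Subgroup.zpowers_le.mpr hzQ
  have hφ₀ : ψ.comp (Subgroup.inclusion hle) ∈ F.Hom (Subgroup.zpowers z) := hom_restrict F hle hψ
  have hr : (ψ.comp (Subgroup.inclusion hle)).range = Subgroup.zpowers z₁ := by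
    ext w
    constructor
    · rintro ⟨⟨v, hv⟩, rfl⟩
      obtain ⟨n, rfl⟩ := Subgroup.mem_zpowers_iff.mp hv
      have h1 : (Subgroup.inclusion hle ⟨z ^ n, hv⟩ : Q) = (⟨z, hzQ⟩ : Q) ^ n := Subtype.ext rfl
      rw [MonoidHom.comp_apply, h1, map_zpow, ← hz₁def]
      exact Subgroup.zpow_mem_zpowers _ _
    · intro hw
      obtain ⟨n, rfl⟩ := Subgroup.mem_zpowers_iff.mp hw
      refine ⟨⟨z ^ n, Subgroup.zpow_mem_zpowers _ _⟩, ?_⟩
      have h1 : (Subgroup.inclusion hle ⟨z ^ n, Subgroup.zpow_mem_zpowers _ _⟩ : Q) =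
          (⟨z, hzQ⟩ : Q) ^ n := Subtype.ext rfl
      rw [MonoidHom.comp_apply, h1, map_zpow, ← hz₁def]
  obtain ⟨e, he, hev⟩ := exists_isIso_of_hom F hφ₀ hr
  have he' : IsIso F e.symm := IsIso.symm he
  obtain ⟨ψ', hψ', hext⟩ := receptive_exists_extension hrec he'
  have hinj := F.injective_of_mem hψ'
  have hCN := centralizerIn_le_extender (S := S)
    ((Subgroup.zpowers z).subtype.comp (e.symm : ↥(Subgroup.zpowers z₁) ≃* _).toMonoidHom)
  have hZ₁N := le_extender_of_isIso he'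
  have hz₁N := hZ₁N (Subgroup.mem_zpowers z₁)
  have hz₁S : z₁ ∈ S := by rw [hz₁def]; exact (F.le_of_mem hψ).2 _
  -- `ψ' z₁ = z`
  have hψ'z₁ : ψ' ⟨z₁, hz₁N⟩ = z := by
    rw [hext z₁ (Subgroup.mem_zpowers z₁) hz₁N]
    have h1 : e.symm ⟨z₁, Subgroup.mem_zpowers z₁⟩ = ⟨z, Subgroup.mem_zpowers z⟩ := by
      rw [MulEquiv.symm_apply_eq]
      apply Subtype.ext
      rw [hev, MonoidHom.comp_apply, hz₁def]
      rfl
    rw [h1]
  -- elements of `C_S(z₁)` lie in the extender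
  have hmemN : ∀ x ∈ S, x * z₁ = z₁ * x → x ∈ extender S (Subgroup.zpowers z₁)
      ((Subgroup.zpowers z).subtype.comp (e.symm : ↥(Subgroup.zpowers z₁) ≃* _).toMonoidHom) := by
    intro x hxS hx
    apply hCN
    rw [mem_centralizerIn_iff]
    refine ⟨hxS, fun y hy => ?_⟩
    obtain ⟨n, rfl⟩ := Subgroup.mem_zpowers_iff.mp hy
    have hc : Commute x z₁ := hx
    exact (hc.zpow_right n).eq.symm
  have hzN := hmemN z (hZS hz) (by
    have h1 := derived_central hS hP h hz hz₁S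
    calc z * z₁ = (z₁ * z * z₁⁻¹) * z₁ := by rw [h1]
      _ = z₁ * z := by group)
  -- `ψ' z` cannot lie in `P'`
  have hkey : ψ' ⟨z, hzN⟩ ∈ derived P → False := by
    intro hw
    have hw1 : ψ' ⟨z, hzN⟩ ≠ 1 := by
      intro h1
      rw [← map_one ψ'] at h1
      exact hz1 (congrArg Subtype.val (hinj h1))
    obtain ⟨n, hn⟩ := exists_pow_eq_of_card_prime _ hZcard hw hw1 hz
    rw [← map_pow] at hn
    have h2 := congrArg Subtype.val (hinj (hn.trans hψ'z₁.symm))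
    apply hψz
    have h3 : z₁ = z ^ n := by
      rw [Subgroup.coe_pow] at h2
      exact h2.symm
    rw [h3]
    exact Subgroup.pow_mem _ hz n
  have hmemP : ∀ (x : Ω) (hxN : x ∈ extender S (Subgroup.zpowers z₁)
      ((Subgroup.zpowers z).subtype.comp (e.symm : ↥(Subgroup.zpowers z₁) ≃* _).toMonoidHom)),
      x ∈ P → ψ' ⟨x, hxN⟩ ∈ P := by
    intro x hxN hxP
    exact stronglyClosed_map_eq hP hψ' ⟨⟨x, hxN⟩, Subgroup.mem_subgroupOf.mpr hxP, rfl⟩
  constructor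
  · intro x hxP y hyP hx hy
    by_contra hne
    have hxN := hmemN x (hP.1 hxP) hx
    have hyN := hmemN y (hP.1 hyP) hy
    have hc1 : ⁅x, y⁆ ≠ 1 := fun h1 => hne (commutatorElement_eq_one_iff_mul_comm.mp h1)
    obtain ⟨n, hn⟩ := exists_pow_eq_of_card_prime _ hZcard (comm_mem_derived hxP hyP) hc1 hz
    apply hkey
    have h1 : (⟨z, hzN⟩ : ↥(extender S (Subgroup.zpowers z₁)
      ((Subgroup.zpowers z).subtype.comp (e.symm : ↥(Subgroup.zpowers z₁) ≃* _).toMonoidHom))) =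
        ⁅(⟨x, hxN⟩ : ↥(extender S (Subgroup.zpowers z₁)
      ((Subgroup.zpowers z).subtype.comp (e.symm : ↥(Subgroup.zpowers z₁) ≃* _).toMonoidHom))),
          ⟨y, hyN⟩⁆ ^ n := Subtype.ext hn.symm
    rw [h1, map_pow, map_commutatorElement]
    exact Subgroup.pow_mem _ (comm_mem_derived (hmemP x hxN hxP) (hmemP y hyN hyP)) n
  · intro x hxP hx
    by_contra hne
    have hxN := hmemN x (hP.1 hxP) hx
    obtain ⟨n, hn⟩ := exists_pow_eq_of_card_prime _ hZcard (pow_mem_derived hP.1 h hxP) hne hz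
    apply hkey
    have h1 : (⟨z, hzN⟩ : ↥(extender S (Subgroup.zpowers z₁)
      ((Subgroup.zpowers z).subtype.comp (e.symm : ↥(Subgroup.zpowers z₁) ≃* _).toMonoidHom))) =
        ((⟨x, hxN⟩ : ↥(extender S (Subgroup.zpowers z₁)
      ((Subgroup.zpowers z).subtype.comp (e.symm : ↥(Subgroup.zpowers z₁) ≃* _).toMonoidHom))) ^ p) ^ n :=
      Subtype.ext hn.symm
    rw [h1, map_pow, map_pow]
    exact Subgroup.pow_mem _ (pow_mem_derived hP.1 h (hmemP x hxN hxP)) n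

end derived

end Cfsg.H5.GenExtra
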