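import Mathlib
import Cfsg.Agent.H5.Card
import Cfsg.Agent.H5.PSolvable
import Cfsg.Agent.Lib.Helper10.PGroup

set_option autoImplicit false

namespace Cfsg.H5

open Subgroup

variable {R : Type*} [Group R] [Finite R] {p : ℕ} [Fact p.Prime]

/-- in a finite `p`-group, between two normal subgroups `T < S` there is a normal subgroup of
order `p |T|` -/
theorem exists_normal_card_mul_prime (hR : IsPGroup p R) {T S : Subgroup R} (hT : T.Normal)
    (hS : S.Normal) (hTS : T < S) :
    ∃ T' : Subgroup R, T'.Normal ∧ T ≤ T' ∧ T' ≤ S ∧ Nat.card T' = p * Nat.card T := by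
  have hp : p.Prime := Fact.out
  have hQ : IsPGroup p (R ⧸ T) := hR.to_quotient T
  have hsurj : Function.Surjective (QuotientGroup.mk' T) := QuotientGroup.mk'_surjective T
  have hSbn : (S.map (QuotientGroup.mk' T)).Normal := hS.map _ hsurj
  have hSb1 : S.map (QuotientGroup.mk' T) ≠ ⊥ := by
    intro h
    rw [Subgroup.map_eq_bot_iff, QuotientGroup.ker_mk'] at h
    exact hTS.not_ge h
  have hD := Cfsg.Agent.Lib.Helper10.normal_inf_center_ne_bot hQ (S.map (QuotientGroup.mk' T)) hSb1
  set D := S.map (QuotientGroup.mk' T) ⊓ Subgroup.center (R ⧸ T) with hDdef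
  have hDp : IsPGroup p D := hQ.to_subgroup D
  have hdvd : p ∣ Nat.card D := by
    rcases hDp.card_eq_or_dvd with h | h
    · exact absurd (Subgroup.card_eq_one.mp h) hD
    · exact h
  obtain ⟨⟨y, hyD⟩, hy⟩ := exists_prime_orderOf_dvd_card' (G := D) p hdvd
  have hyo : orderOf y = p := by rw [← hy, Subgroup.orderOf_mk]
  have hyc : y ∈ Subgroup.center (R ⧸ T) := hyD.2
  have hPn : (Subgroup.zpowers y).Normal := by
    constructor
    intro n hn g
    have hnc : n ∈ Subgroup.center (R ⧸ T) :=
      (Subgroup.zpowers_le.mpr hyc) hn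
    have : g * n * g⁻¹ = n := by
      rw [Subgroup.mem_center_iff] at hnc
      rw [hnc g]
      group
    rw [this]
    exact hn
  refine ⟨(Subgroup.zpowers y).comap (QuotientGroup.mk' T), hPn.comap _, ?_, ?_, ?_⟩
  · have := Subgroup.ker_le_comap (QuotientGroup.mk' T) (Subgroup.zpowers y)
    rwa [QuotientGroup.ker_mk'] at this
  · have h1 : Subgroup.zpowers y ≤ S.map (QuotientGroup.mk' T) :=
      Subgroup.zpowers_le.mpr hyD.1
    have h2 := Subgroup.comap_mono (f := QuotientGroup.mk' T) h1
    rw [Subgroup.comap_map_eq, QuotientGroup.ker_mk', sup_eq_left.mpr hTS.le] at h2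
    exact h2
  · have hle : T ≤ (Subgroup.zpowers y).comap (QuotientGroup.mk' T) := by
      have := Subgroup.ker_le_comap (QuotientGroup.mk' T) (Subgroup.zpowers y)
      rwa [QuotientGroup.ker_mk'] at this
    have h1 := card_map_mk' T ((Subgroup.zpowers y).comap (QuotientGroup.mk' T))
    rw [Subgroup.map_comap_eq_self_of_surjective hsurj, Nat.card_zpowers, hyo] at h1
    have h2 := card_mul_relIndex_of_le hle
    rw [← h1] at h2
    rw [← h2, mul_comm]

/-- a nontrivial normal subgroup of a finite `p`-group has a maximal subgroup that is normal in the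
whole group -/
theorem exists_normal_maximal (hR : IsPGroup p R) {S : Subgroup R} (hS : S.Normal) (hS1 : S ≠ ⊥) :
    ∃ U : Subgroup R, U.Normal ∧ U ≤ S ∧ Nat.card S = p * Nat.card U := by
  classical
  obtain ⟨U, hU, hmax⟩ := Set.exists_max_image {U : Subgroup R | U.Normal ∧ U < S}
    (fun U => Nat.card U) (Set.toFinite _) ⟨⊥, inferInstance, bot_lt_iff_ne_bot.mpr hS1⟩
  obtain ⟨T', hT'n, hUT', hT'S, hcard⟩ := exists_normal_card_mul_prime hR hU.1 hS hU.2
  refine ⟨U, hU.1, hU.2.le, ?_⟩
  have hp : p.Prime := Fact.out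
  have : T' = S := by
    by_contra hne
    have hlt : T' < S := lt_of_le_of_ne hT'S hne
    have := hmax T' ⟨hT'n, hlt⟩
    rw [hcard] at this
    have hpos : 0 < Nat.card U := Nat.card_pos
    have := hp.one_lt
    nlinarith
  rw [← this, hcard]

end Cfsg.H5
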