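import Mathlib
import Cfsg.Prelude.Def_Transfer
import Cfsg.Prelude.Def_Solvable
import Cfsg.Agent.H5.Basic

set_option autoImplicit false

namespace Cfsg.H5

open Subgroup

variable {G : Type*} [Group G] {H : Type*} [Group H]

theorem isElementaryAbelian_map {p : ℕ} (f : G →* H) {A : Subgroup G}
    (hA : Cfsg.IsElementaryAbelian p A) : Cfsg.IsElementaryAbelian p (A.map f) := by
  have := hA.1
  refine ⟨inferInstance, ?_⟩
  rintro _ ⟨a, ha, rfl⟩
  rw [← map_pow, hA.2 a ha, map_one]

theorem isElementaryAbelian_of_map {p : ℕ} (f : G →* H) (hf : Function.Injective f) {A : Subgroup G}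
    (hA : Cfsg.IsElementaryAbelian p (A.map f)) : Cfsg.IsElementaryAbelian p A := by
  have := hA.1
  refine ⟨?_, ?_⟩
  · apply IsMulCommutative.of_setLike_mul_comm
    intro a ha b hb
    apply hf
    rw [map_mul, map_mul]
    exact setLike_mul_comm (s := A.map f) (Subgroup.mem_map_of_mem f ha) (Subgroup.mem_map_of_mem f hb)
  · intro a ha
    apply hf
    rw [map_pow, map_one]
    exact hA.2 _ (Subgroup.mem_map_of_mem f ha)

theorem isElementaryAbelian_map_iff {p : ℕ} (f : G →* H) (hf : Function.Injective f) {A : Subgroup G} :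
    Cfsg.IsElementaryAbelian p (A.map f) ↔ Cfsg.IsElementaryAbelian p A :=
  ⟨isElementaryAbelian_of_map f hf, isElementaryAbelian_map f⟩

/-- Transport of maximal-order elementary abelian subgroups along an isomorphism. -/
theorem map_equiv_mem_maxElementaryAbelianSubgroups {p : ℕ} (φ : G ≃* H) {A : Subgroup G}
    (hA : A ∈ Cfsg.maxElementaryAbelianSubgroups p G) :
    A.map φ.toMonoidHom ∈ Cfsg.maxElementaryAbelianSubgroups p H := by
  refine ⟨isElementaryAbelian_map _ hA.1, ?_⟩
  intro B hB
  have h1 : Nat.card (A.map φ.toMonoidHom) = Nat.card A :=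
    Subgroup.card_map_of_injective φ.injective
  have h2 : Nat.card (B.map φ.symm.toMonoidHom) = Nat.card B :=
    Subgroup.card_map_of_injective φ.symm.injective
  rw [h1, ← h2]
  exact hA.2 _ (isElementaryAbelian_map _ hB)

theorem thompsonSubgroup_map_equiv {p : ℕ} (φ : G ≃* H) :
    (Cfsg.thompsonSubgroup p G).map φ.toMonoidHom = Cfsg.thompsonSubgroup p H := by
  unfold Cfsg.thompsonSubgroup
  apply le_antisymm
  · rw [Subgroup.map_le_iff_le_comap]
    apply sSup_le
    intro A hA
    rw [← Subgroup.map_le_iff_le_comap]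
    exact le_sSup (map_equiv_mem_maxElementaryAbelianSubgroups φ hA)
  · apply sSup_le
    intro B hB
    have h := map_equiv_mem_maxElementaryAbelianSubgroups φ.symm hB
    have h2 : B = (B.map φ.symm.toMonoidHom).map φ.toMonoidHom := by
      rw [Subgroup.map_map]
      have : φ.toMonoidHom.comp φ.symm.toMonoidHom = MonoidHom.id H := by
        ext x; simp
      rw [this, Subgroup.map_id]
    rw [h2]
    exact Subgroup.map_mono (le_sSup h)

theorem thompsonSubgroup_characteristic (p : ℕ) : (Cfsg.thompsonSubgroup p G).Characteristic := by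
  rw [Subgroup.characteristic_iff_map_eq]
  intro φ
  exact thompsonSubgroup_map_equiv φ

/-- If `U` contains some elementary abelian subgroup of `G` of largest order, then the elementary
abelian subgroups of `U` of largest order are exactly those of `G` lying in `U`. -/
theorem mem_maxElementaryAbelianSubgroups_subgroup_iff {p : ℕ} {U A₀ : Subgroup G}
    (hA₀ : A₀ ∈ Cfsg.maxElementaryAbelianSubgroups p G) (hA₀U : A₀ ≤ U) (A' : Subgroup U) :
    A' ∈ Cfsg.maxElementaryAbelianSubgroups p U ↔
      A'.map U.subtype ∈ Cfsg.maxElementaryAbelianSubgroups p G := by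
  have hinj : Function.Injective U.subtype := Subgroup.subtype_injective U
  constructor
  · intro hA'
    refine ⟨isElementaryAbelian_map _ hA'.1, ?_⟩
    intro B hB
    refine le_trans (hA₀.2 B hB) ?_
    have h0 : Cfsg.IsElementaryAbelian p (A₀.subgroupOf U) := by
      apply isElementaryAbelian_of_map U.subtype hinj
      rw [Subgroup.map_subgroupOf_eq_of_le hA₀U]
      exact hA₀.1
    have h1 := hA'.2 _ h0
    have h2 : Nat.card (A₀.subgroupOf U) = Nat.card A₀ := by
      rw [← Subgroup.card_map_of_injective hinj, Subgroup.map_subgroupOf_eq_of_le hA₀U]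
    rw [Subgroup.card_map_of_injective hinj, ← h2]
    exact h1
  · intro hA'
    refine ⟨isElementaryAbelian_of_map _ hinj hA'.1, ?_⟩
    intro B hB
    have := hA'.2 _ (isElementaryAbelian_map U.subtype hB)
    rwa [Subgroup.card_map_of_injective hinj, Subgroup.card_map_of_injective hinj] at this

/-- If `U` contains some elementary abelian subgroup of `G` of largest order, then the Thompson
subgroup of `U` is generated by the largest elementary abelian subgroups of `G` lying in `U`. -/
theorem thompsonSubgroupOf_eq_sSup {p : ℕ} {U A₀ : Subgroup G}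
    (hA₀ : A₀ ∈ Cfsg.maxElementaryAbelianSubgroups p G) (hA₀U : A₀ ≤ U) :
    Cfsg.thompsonSubgroupOf p U =
      sSup {A | A ∈ Cfsg.maxElementaryAbelianSubgroups p G ∧ A ≤ U} := by
  unfold Cfsg.thompsonSubgroupOf Cfsg.thompsonSubgroup
  apply le_antisymm
  · rw [Subgroup.map_le_iff_le_comap]
    apply sSup_le
    intro A' hA'
    rw [← Subgroup.map_le_iff_le_comap]
    apply le_sSup
    exact ⟨(mem_maxElementaryAbelianSubgroups_subgroup_iff hA₀ hA₀U A').mp hA', Subgroup.map_subtype_le A'⟩
  · apply sSup_le
    rintro A ⟨hA, hAU⟩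
    have h1 : (A.subgroupOf U).map U.subtype = A := Subgroup.map_subgroupOf_eq_of_le hAU
    have h2 : A.subgroupOf U ∈ Cfsg.maxElementaryAbelianSubgroups p U := by
      rw [mem_maxElementaryAbelianSubgroups_subgroup_iff hA₀ hA₀U, h1]
      exact hA
    rw [← h1]
    exact Subgroup.map_mono (le_sSup h2)

theorem isPGroup_of_isElementaryAbelian {p : ℕ} {A : Subgroup G}
    (hA : Cfsg.IsElementaryAbelian p A) : IsPGroup p A := by
  intro ⟨a, ha⟩
  refine ⟨1, ?_⟩
  ext
  simpa using hA.2 a ha

open scoped Pointwise in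
theorem exists_max_le_sylow [Finite G] {p : ℕ} [Fact p.Prime] (S : Sylow p G) :
    ∃ A ∈ Cfsg.maxElementaryAbelianSubgroups p G, A ≤ (S : Subgroup G) := by
  obtain ⟨A, hA⟩ := maxElementaryAbelianSubgroups_nonempty (G := G) p
  obtain ⟨S', hS'⟩ := (isPGroup_of_isElementaryAbelian hA.1).exists_le_sylow
  obtain ⟨g, hg⟩ := MulAction.exists_smul_eq G S' S
  refine ⟨A.map (MulAut.conj g).toMonoidHom, map_equiv_mem_maxElementaryAbelianSubgroups _ hA, ?_⟩
  rw [← hg, Sylow.smul_def, Sylow.pointwise_smul_def, Subgroup.pointwise_smul_def]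
  exact Subgroup.map_mono hS'

/-- An element with `x ^ p = 1` centralizing the Thompson subgroup lies in every elementary
abelian subgroup of largest order. -/
theorem mem_max_of_mem_centralizer_thompson [Finite G] {p : ℕ} {x : G}
    (hx : x ∈ Subgroup.centralizer (Cfsg.thompsonSubgroup p G : Set G)) (hxp : x ^ p = 1)
    {A : Subgroup G} (hA : A ∈ Cfsg.maxElementaryAbelianSubgroups p G) : x ∈ A := by
  have hAJ : A ≤ Cfsg.thompsonSubgroup p G := le_sSup hA
  have hZ : Cfsg.IsElementaryAbelian p (Subgroup.zpowers x) := isElementaryAbelian_zpowers hxp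
  have hcent : A ≤ Subgroup.centralizer ((Subgroup.zpowers x : Subgroup G) : Set G) := by
    rw [Subgroup.le_centralizer_iff, Subgroup.zpowers_le]
    exact Subgroup.centralizer_le (by exact_mod_cast hAJ) hx
  have hB := isElementaryAbelian_sup hA.1 hZ hcent
  have := eq_of_mem_maxElementaryAbelianSubgroups_of_le hA hB le_sup_left
  rw [← this]
  exact (le_sup_right : Subgroup.zpowers x ≤ A ⊔ Subgroup.zpowers x) (Subgroup.mem_zpowers x)

theorem mem_thompson_of_mem_centralizer_thompson [Finite G] {p : ℕ} {x : G}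
    (hx : x ∈ Subgroup.centralizer (Cfsg.thompsonSubgroup p G : Set G)) (hxp : x ^ p = 1) :
    x ∈ Cfsg.thompsonSubgroup p G := by
  obtain ⟨A, hA⟩ := maxElementaryAbelianSubgroups_nonempty (G := G) p
  exact le_sSup hA (mem_max_of_mem_centralizer_thompson hx hxp hA)

end Cfsg.H5
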