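import Mathlib
import Cfsg.Prelude.Def_FusionSystem
import Cfsg.Prelude.Def_OddOrderLocal
import Cfsg.Agent.Lib.Helper27.FusionNormalCrit
import Cfsg.Agent.Lib.Helper27.FusionSat
import Cfsg.Agent.Lib.Helper1.Cores
import Cfsg.Agent.Lib.Helper10.MetaAut
import Cfsg.Agent.S1896
import Cfsg.Agent.S1447
import Cfsg.Agent.H5.MetaSC1

set_option autoImplicit false

/-! Strongly closed metacyclic subgroups of saturated fusion systems at odd primes are normal. -/

namespace Cfsg.H5.MetaSC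

open Cfsg Cfsg.FusionSystem Cfsg.Agent.Lib.Helper27
open scoped commutatorElement

variable {Ω : Type*} [Group Ω] {S : Subgroup Ω}

theorem autGroup_le_stabSub [Finite S] {F : FusionSystem S} {P : Subgroup Ω}
    (hP : F.StronglyClosed P) {R : Subgroup Ω} (hRS : R ≤ S) :
    F.autGroup R ≤ stabSub (P.subgroupOf R) := by
  have fwd : ∀ β ∈ F.autGroup R, ∀ x : R, (x : Ω) ∈ P → ((β x : R) : Ω) ∈ P := by
    intro β hβ x hx
    have hiso := (mem_autGroup_iff F hRS β).mp hβ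
    have h1 := stronglyClosed_map_eq hP hiso
    exact h1 ⟨x, Subgroup.mem_subgroupOf.mpr hx, rfl⟩
  intro α hα
  rw [mem_stabSub]
  intro x
  rw [Subgroup.mem_subgroupOf, Subgroup.mem_subgroupOf]
  constructor
  · intro h
    have h2 := fwd α⁻¹ (inv_mem hα) (α x) h
    simpa using h2
  · exact fwd α hα x

/-- the action of `Aut_F(R)` on the Frattini quotient of `P ∩ R` -/
noncomputable def piHom [Finite S] (F : FusionSystem S) {P : Subgroup Ω} (hP : F.StronglyClosed P)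
    {R : Subgroup Ω} (hRS : R ≤ S) :
    F.autGroup R →* MulAut ((P.subgroupOf R) ⧸ frattini (P.subgroupOf R)) :=
  (Cfsg.H5.APS.frattiniAut _).comp
    ((restrictAut _).comp (Subgroup.inclusion (autGroup_le_stabSub hP hRS)))

/-- the restriction of `Aut_F(R)` to `P ∩ R` -/
noncomputable def resHom [Finite S] (F : FusionSystem S) {P : Subgroup Ω} (hP : F.StronglyClosed P)
    {R : Subgroup Ω} (hRS : R ≤ S) : F.autGroup R →* MulAut (P.subgroupOf R) :=
  (restrictAut _).comp (Subgroup.inclusion (autGroup_le_stabSub hP hRS))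

theorem resHom_apply [Finite S] (F : FusionSystem S) {P : Subgroup Ω} (hP : F.StronglyClosed P)
    {R : Subgroup Ω} (hRS : R ≤ S) (α : F.autGroup R) (x : P.subgroupOf R) :
    ((resHom F hP hRS α x : P.subgroupOf R) : R) = (α : MulAut R) x := rfl

theorem piHom_mk [Finite S] (F : FusionSystem S) {P : Subgroup Ω} (hP : F.StronglyClosed P)
    {R : Subgroup Ω} (hRS : R ≤ S) (α : F.autGroup R) (x : P.subgroupOf R) :
    piHom F hP hRS α (QuotientGroup.mk x) = QuotientGroup.mk (resHom F hP hRS α x) := rfl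

/-- chain `P ≤ ⊤` -/
def chain0 (P : Subgroup Ω) : ℕ → Subgroup Ω := fun j => if j = 0 then P else ⊤

/-- chain `⊥ ≤ P ≤ ⊤` -/
def chain2 (P : Subgroup Ω) : ℕ → Subgroup Ω := fun j => if j = 0 then ⊥ else if j = 1 then P else ⊤

section main

variable [Finite S] {p : ℕ} [Fact p.Prime] {F : FusionSystem S} {P : Subgroup Ω} {R : Subgroup Ω}

theorem aut_mem_P (hP : F.StronglyClosed P) (hRS : R ≤ S) (α : F.autGroup R) (x : R)
    (hx : (x : Ω) ∈ P) : ((((α : MulAut R) x : R)) : Ω) ∈ P :=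
  ((mem_stabSub.mp (autGroup_le_stabSub hP hRS α.2)) x).mpr hx

theorem hinv0 (hP : F.StronglyClosed P) (hRS : R ≤ S) :
    ∀ j, ∀ α : F.autGroup R, ∀ x : R, (x : Ω) ∈ chain0 P j →
      ((((α : MulAut R) x : R)) : Ω) ∈ chain0 P j := by
  intro j α x hx
  unfold chain0 at hx ⊢
  by_cases hj : j = 0
  · simp only [hj, if_true] at hx ⊢
    exact aut_mem_P hP hRS α x hx
  · simp only [hj, if_false]
    exact Subgroup.mem_top _

theorem hinv2 (hP : F.StronglyClosed P) (hRS : R ≤ S) :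
    ∀ j, ∀ α : F.autGroup R, ∀ x : R, (x : Ω) ∈ chain2 P j →
      ((((α : MulAut R) x : R)) : Ω) ∈ chain2 P j := by
  intro j α x hx
  unfold chain2 at hx ⊢
  by_cases hj : j = 0
  · simp only [hj, if_true] at hx ⊢
    rw [Subgroup.mem_bot] at hx ⊢
    have : x = 1 := Subtype.ext hx
    rw [this, map_one]; rfl
  · by_cases hj1 : j = 1
    · simp only [hj1, one_ne_zero, if_false, if_true] at hx ⊢
      exact aut_mem_P hP hRS α x hx
    · simp only [hj, hj1, if_false]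
      exact Subgroup.mem_top _

theorem mem_A0 (hP : F.StronglyClosed P) (hRS : R ≤ S) (γ : F.autGroup R) :
    γ ∈ chainStabilizer F R (chain0 P) 1 (hinv0 hP hRS) ↔
      ∀ x : R, ((x⁻¹ * (γ : MulAut R) x : R) : Ω) ∈ P := by
  constructor
  · intro h x
    have := h 0 (by omega) x (by simp [chain0])
    simpa [chain0] using this
  · intro h j hj x _
    have hj0 : j = 0 := by omega
    subst hj0
    simpa [chain0] using h x

theorem mem_A2 (hP : F.StronglyClosed P) (hRS : R ≤ S) (γ : F.autGroup R) :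
    γ ∈ chainStabilizer F R (chain2 P) 2 (hinv2 hP hRS) ↔
      (∀ x : R, ((x⁻¹ * (γ : MulAut R) x : R) : Ω) ∈ P) ∧
        ∀ x : R, (x : Ω) ∈ P → (γ : MulAut R) x = x := by
  constructor
  · intro h
    refine ⟨fun x => ?_, fun x hx => ?_⟩
    · have := h 1 (by omega) x (by simp [chain2])
      simpa [chain2] using this
    · have := h 0 (by omega) x (by simpa [chain2] using hx)
      simp only [chain2, if_true, Subgroup.mem_bot] at this
      have h2 : x⁻¹ * (γ : MulAut R) x = 1 := Subtype.ext this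
      exact (inv_mul_eq_one.mp h2).symm
  · rintro ⟨h1, h2⟩ j hj x hx
    have hj' : j = 0 ∨ j = 1 := by omega
    rcases hj' with rfl | rfl
    · have hx' : (x : Ω) ∈ P := by simpa [chain2] using hx
      rw [h2 x hx', inv_mul_cancel]
      simp [chain2]
    · simpa [chain2] using h1 x

theorem finite_sub (hRS : R ≤ S) : Finite ↥(P.subgroupOf R) := by
  have : Finite R := Finite.of_injective (Subgroup.inclusion hRS) (Subgroup.inclusion_injective hRS)
  infer_instance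

omit [Finite ↥S] [Fact (Nat.Prime p)] in
theorem isPGroup_sub (hS : IsPGroup p S) (hRS : R ≤ S) : IsPGroup p ↥(P.subgroupOf R) := by
  have hR : IsPGroup p R := hS.of_injective (Subgroup.inclusion hRS) (Subgroup.inclusion_injective hRS)
  exact hR.to_subgroup _

/-- elements of `A₀` acting trivially on the Frattini quotient of `P ∩ R` have `p`-power order -/
theorem pow_eq_one_of_ker (hS : IsPGroup p S) (hP : F.StronglyClosed P) (hRS : R ≤ S)
    (α : F.autGroup R) (h0 : α ∈ chainStabilizer F R (chain0 P) 1 (hinv0 hP hRS))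
    (hπ : piHom F hP hRS α = 1) : ∃ k : ℕ, α ^ p ^ k = 1 := by
  have hfin : Finite ↥(P.subgroupOf R) := finite_sub hRS
  have hNp : IsPGroup p ↥(P.subgroupOf R) := isPGroup_sub hS hRS
  have h1 : ∀ x : P.subgroupOf R, x⁻¹ * resHom F hP hRS α x ∈ frattini ↥(P.subgroupOf R) := by
    intro x
    have h2 := congrArg (fun f => f (QuotientGroup.mk x)) hπ
    simp only [piHom_mk, MulAut.one_apply] at h2
    exact QuotientGroup.eq.mp h2.symm
  obtain ⟨k, hk⟩ := exists_pow_eq_one_of_forall_mem_frattini hNp _ h1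
  rw [← map_pow] at hk
  have hβ0 : α ^ p ^ k ∈ chainStabilizer F R (chain0 P) 1 (hinv0 hP hRS) := Subgroup.pow_mem _ h0 _
  have hβ2 : α ^ p ^ k ∈ chainStabilizer F R (chain2 P) 2 (hinv2 hP hRS) := by
    rw [mem_A2 hP hRS]
    refine ⟨(mem_A0 hP hRS _).mp hβ0, fun x hx => ?_⟩
    have h3 := congrArg (fun f => ((f ⟨x, Subgroup.mem_subgroupOf.mpr hx⟩ : P.subgroupOf R) : R)) hk
    simp only [resHom_apply, MulAut.one_apply] at h3
    exact h3
  have hpg := chainStabilizer_isPGroup hS F hRS (chain2 P) 2 (hinv2 hP hRS) (by simp [chain2])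
    (by simp [chain2])
  obtain ⟨l, hl⟩ := hpg ⟨_, hβ2⟩
  refine ⟨k + l, ?_⟩
  have h4 := congrArg Subtype.val hl
  rw [Subgroup.coe_pow] at h4
  rw [pow_add, pow_mul]
  exact h4

/-- either `c` lies in `O_p(Aut_F(R))` or two conjugates of `c` act non-commutingly on the Frattini
quotient of `P ∩ R` -/
theorem mem_pCore_or_exists (hS : IsPGroup p S) (hP : F.StronglyClosed P) (hRS : R ≤ S)
    (c : F.autGroup R) (hc0 : c ∈ chainStabilizer F R (chain0 P) 1 (hinv0 hP hRS)) {k : ℕ}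
    (hck : c ^ p ^ k = 1) :
    c ∈ pCore p (F.autGroup R) ∨
      ∃ u₁ u₂ : F.autGroup R, u₁ ∈ chainStabilizer F R (chain0 P) 1 (hinv0 hP hRS) ∧
        u₂ ∈ chainStabilizer F R (chain0 P) 1 (hinv0 hP hRS) ∧ u₁ ^ p ^ k = 1 ∧ u₂ ^ p ^ k = 1 ∧
        piHom F hP hRS u₁ * piHom F hP hRS u₂ ≠ piHom F hP hRS u₂ * piHom F hP hRS u₁ := by
  have hA0n := chainStabilizer_normal F R (chain0 P) 1 (hinv0 hP hRS)
  have hconj : ∀ u ∈ Group.conjugatesOfSet {c},
      u ∈ chainStabilizer F R (chain0 P) 1 (hinv0 hP hRS) ∧ u ^ p ^ k = 1 := by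
    intro u hu
    rw [Group.mem_conjugatesOfSet_iff] at hu
    obtain ⟨b, hb, hbu⟩ := hu
    rw [Set.mem_singleton_iff] at hb
    subst hb
    obtain ⟨g, rfl⟩ := isConj_iff.mp hbu
    exact ⟨hA0n.conj_mem _ hc0 g, by rw [conj_pow, hck, mul_one, mul_inv_cancel]⟩
  by_cases hall : ∀ u₁ ∈ Group.conjugatesOfSet {c}, ∀ u₂ ∈ Group.conjugatesOfSet {c},
      piHom F hP hRS u₁ * piHom F hP hRS u₂ = piHom F hP hRS u₂ * piHom F hP hRS u₁
  · left
    have hBp : IsPGroup p (Subgroup.normalClosure {c}) := by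
      intro b
      have h1 : piHom F hP hRS (b : F.autGroup R) ∈
          Subgroup.closure (piHom F hP hRS '' Group.conjugatesOfSet {c}) := by
        rw [← MonoidHom.map_closure]
        exact ⟨b, b.2, rfl⟩
      obtain ⟨m, hm⟩ := pow_eq_one_of_mem_closure_of_commute (p := p) _
        (by
          rintro _ ⟨u₁, hu₁, rfl⟩ _ ⟨u₂, hu₂, rfl⟩
          exact hall u₁ hu₁ u₂ hu₂)
        (by
          rintro _ ⟨u, hu, rfl⟩
          exact ⟨k, by rw [← map_pow, (hconj u hu).2, map_one]⟩) _ h1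
      have hb0 : (b : F.autGroup R) ∈ chainStabilizer F R (chain0 P) 1 (hinv0 hP hRS) := by
        have hle : Subgroup.normalClosure {c} ≤ chainStabilizer F R (chain0 P) 1 (hinv0 hP hRS) :=
          Subgroup.normalClosure_le_normal (Set.singleton_subset_iff.mpr hc0)
        exact hle b.2
      obtain ⟨l, hl⟩ := pow_eq_one_of_ker hS hP hRS ((b : F.autGroup R) ^ p ^ m)
        (Subgroup.pow_mem _ hb0 _) (by rw [map_pow, hm])
      refine ⟨m + l, Subtype.ext ?_⟩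
      rw [Subgroup.coe_pow, pow_add, pow_mul]
      exact hl
    exact Cfsg.Agent.Lib.Helper1.le_pCore Subgroup.normalClosure_normal hBp
      (Subgroup.subset_normalClosure (Set.mem_singleton c))
  · right
    push Not at hall
    obtain ⟨u₁, hu₁, u₂, hu₂, hne⟩ := hall
    exact ⟨u₁, u₂, (hconj u₁ hu₁).1, (hconj u₂ hu₂).1, (hconj u₁ hu₁).2, (hconj u₂ hu₂).2, hne⟩

/-- the inclusion of `P ∩ R` (as a subgroup of `R`) into `P` -/
def subToP (P R : Subgroup Ω) : ↥(P.subgroupOf R) →* ↥P :=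
  (R.subtype.comp (P.subgroupOf R).subtype).codRestrict P (fun x => Subgroup.mem_subgroupOf.mp x.2)

omit [Finite ↥S] in
theorem subToP_injective (P R : Subgroup Ω) : Function.Injective (subToP P R) := by
  intro x y h
  have h1 := congrArg (fun z : ↥P => (z : Ω)) h
  exact Subtype.ext (Subtype.ext h1)

omit [Finite ↥S] in
theorem isMetacyclic_sub (hm : Cfsg.IsMetacyclic ↥P) : Cfsg.IsMetacyclic ↥(P.subgroupOf R) :=
  Cfsg.Agent.Lib.Helper10.isMetacyclic_of_injective (subToP P R) (subToP_injective P R) hm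

theorem quot_comm (hS : IsPGroup p S) (hRS : R ≤ S) :
    ∀ x y : ↥(P.subgroupOf R) ⧸ frattini ↥(P.subgroupOf R), x * y = y * x := by
  have hfin : Finite ↥(P.subgroupOf R) := finite_sub hRS
  have hNp : IsPGroup p ↥(P.subgroupOf R) := isPGroup_sub hS hRS
  intro x y
  obtain ⟨x, rfl⟩ := QuotientGroup.mk_surjective x
  obtain ⟨y, rfl⟩ := QuotientGroup.mk_surjective y
  rw [← QuotientGroup.mk_mul, ← QuotientGroup.mk_mul, QuotientGroup.eq]
  apply Cfsg.Agent.Lib.Helper1.IsPGroup.commutator_le_frattini hNp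
  have : (x * y)⁻¹ * (y * x) = ⁅y⁻¹, x⁻¹⁆ := by
    rw [commutatorElement_def]; group
  rw [this]
  exact Subgroup.commutator_mem_commutator (Subgroup.mem_top _) (Subgroup.mem_top _)

theorem quot_exp (hS : IsPGroup p S) (hRS : R ≤ S) :
    ∀ x : ↥(P.subgroupOf R) ⧸ frattini ↥(P.subgroupOf R), x ^ p = 1 := by
  have hfin : Finite ↥(P.subgroupOf R) := finite_sub hRS
  have hNp : IsPGroup p ↥(P.subgroupOf R) := isPGroup_sub hS hRS
  intro x
  obtain ⟨x, rfl⟩ := QuotientGroup.mk_surjective x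
  rw [← QuotientGroup.mk_pow, QuotientGroup.eq_one_iff]
  exact Cfsg.Agent.Lib.Helper1.IsPGroup.pow_mem_frattini hNp x

/-- two non-commuting `p`-elements of `A₀` produce an involution of `A₀` inverting the Frattini quotient
of `P ∩ R`, which is moreover not cyclic -/
theorem exists_invol (hp2 : p ≠ 2) (hS : IsPGroup p S) (hP : F.StronglyClosed P)
    (hm : Cfsg.IsMetacyclic ↥P) (hRS : R ≤ S) (u₁ u₂ : F.autGroup R)
    (h₁ : u₁ ∈ chainStabilizer F R (chain0 P) 1 (hinv0 hP hRS))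
    (h₂ : u₂ ∈ chainStabilizer F R (chain0 P) 1 (hinv0 hP hRS)) {k : ℕ}
    (hk₁ : u₁ ^ p ^ k = 1) (hk₂ : u₂ ^ p ^ k = 1)
    (hne : piHom F hP hRS u₁ * piHom F hP hRS u₂ ≠ piHom F hP hRS u₂ * piHom F hP hRS u₁) :
    ¬ IsCyclic ↥(P.subgroupOf R) ∧
      ∃ τ : F.autGroup R, τ ∈ chainStabilizer F R (chain0 P) 1 (hinv0 hP hRS) ∧ τ * τ = 1 ∧
        ∀ x : P.subgroupOf R, x * resHom F hP hRS τ x ∈ frattini ↥(P.subgroupOf R) := by
  have hpp : p.Prime := Fact.out
  have hfin : Finite ↥(P.subgroupOf R) := finite_sub hRS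
  have hNp : IsPGroup p ↥(P.subgroupOf R) := isPGroup_sub hS hRS
  have hNm : Cfsg.IsMetacyclic ↥(P.subgroupOf R) := isMetacyclic_sub hm
  have hcommV := quot_comm (P := P) hS hRS
  have hexpV := quot_exp (P := P) hS hRS
  have hcardV : Nat.card (↥(P.subgroupOf R) ⧸ frattini ↥(P.subgroupOf R)) ≤ p * p :=
    Cfsg.Agent.S1896.card_le_of_isMetacyclic
      (Cfsg.Agent.S1896.isMetacyclic_quotient hNm (frattini ↥(P.subgroupOf R))) hpp.pos hexpV
  constructor
  · intro hcyc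
    have hVc : IsCyclic (↥(P.subgroupOf R) ⧸ frattini ↥(P.subgroupOf R)) :=
      isCyclic_of_surjective (QuotientGroup.mk' _) (QuotientGroup.mk'_surjective _)
    apply hne
    apply (IsCyclic.mulAutMulEquiv _).injective
    rw [map_mul, map_mul, mul_comm]
  obtain ⟨τb, hτbmem, hτb⟩ := exists_inversion hcommV hexpV hcardV (piHom F hP hRS u₁)
    (piHom F hP hRS u₂) (a := k) (b := k) (by rw [← map_pow, hk₁, map_one])
    (by rw [← map_pow, hk₂, map_one]) hne
  rw [← Set.image_pair, ← MonoidHom.map_closure] at hτbmem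
  obtain ⟨τ₀, hτ₀mem, hτ₀⟩ := hτbmem
  have hτ₀0 : τ₀ ∈ chainStabilizer F R (chain0 P) 1 (hinv0 hP hRS) := by
    have hle : Subgroup.closure ({u₁, u₂} : Set (F.autGroup R)) ≤
        chainStabilizer F R (chain0 P) 1 (hinv0 hP hRS) := by
      rw [Subgroup.closure_le]
      intro u hu
      rcases hu with rfl | hu
      · exact h₁
      · rw [Set.mem_singleton_iff] at hu; rw [hu]; exact h₂
    exact hle hτ₀mem
  have hτb2 : τb * τb = 1 := by
    ext v
    rw [MulAut.mul_apply, hτb, hτb, inv_inv, MulAut.one_apply]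
  obtain ⟨l, hl⟩ := pow_eq_one_of_ker hS hP hRS (τ₀ * τ₀) (Subgroup.mul_mem _ hτ₀0 hτ₀0)
    (by rw [map_mul, hτ₀, hτb2])
  have hodd : Odd (p ^ l) := (hpp.odd_of_ne_two hp2).pow
  obtain ⟨t, ht⟩ := hodd
  have hτbpow : τb ^ p ^ l = τb := by
    rw [ht, pow_succ, pow_mul, sq, hτb2, one_pow, one_mul]
  refine ⟨τ₀ ^ p ^ l, Subgroup.pow_mem _ hτ₀0 _, ?_, fun x => ?_⟩
  · rw [← (Commute.refl τ₀).mul_pow, hl]
  · have h3 : piHom F hP hRS (τ₀ ^ p ^ l) (QuotientGroup.mk x) = (QuotientGroup.mk x)⁻¹ := by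
      rw [map_pow, hτ₀, hτbpow, hτb]
    rw [piHom_mk] at h3
    rw [← QuotientGroup.eq_one_iff, QuotientGroup.mk_mul, h3, mul_inv_cancel]

/-- an involution of `Aut_F(R)` inverting the Frattini quotient of the metacyclic group `P ∩ R`
(`p` odd) inverts `P ∩ R`, which is abelian -/
theorem inverts_of_invol (hp2 : p ≠ 2) (hS : IsPGroup p S) (hP : F.StronglyClosed P)
    (hm : Cfsg.IsMetacyclic ↥P) (hRS : R ≤ S) (τ : F.autGroup R) (hτ2 : τ * τ = 1)
    (hΦ : ∀ x : P.subgroupOf R, x * resHom F hP hRS τ x ∈ frattini ↥(P.subgroupOf R)) :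
    (∀ x y : P.subgroupOf R, x * y = y * x) ∧
      ∀ x : P.subgroupOf R, resHom F hP hRS τ x = x⁻¹ := by
  have hpp : p.Prime := Fact.out
  have hfin : Finite ↥(P.subgroupOf R) := finite_sub hRS
  have hNp : IsPGroup p ↥(P.subgroupOf R) := isPGroup_sub hS hRS
  have hNm : Cfsg.IsMetacyclic ↥(P.subgroupOf R) := isMetacyclic_sub hm
  have hodd : Odd (Nat.card ↥(P.subgroupOf R)) := by
    obtain ⟨n, hn⟩ := IsPGroup.iff_card.mp hNp
    rw [hn]
    exact (hpp.odd_of_ne_two hp2).pow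
  have hτN2 : ∀ x, resHom F hP hRS τ (resHom F hP hRS τ x) = x := by
    intro x
    have h1 := congrArg (fun f => f x) (map_mul (resHom F hP hRS) τ τ)
    rw [hτ2, map_one] at h1
    exact h1.symm
  have hcomm : ∀ x y : P.subgroupOf R, x * y = y * x := by
    by_contra hna
    push Not at hna
    obtain ⟨Z, L, hZc, hLc, hlt, hcommZ, hact⟩ :=
      Cfsg.Agent.Lib.Helper10.exists_char_central_factor hp2 hNp hNm hna
    have hZn : Z.Normal := Subgroup.normal_of_characteristic Z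
    have hZ := mul_apply_mem_of_inverts_frattini hodd (resHom F hP hRS τ) hτN2 Z hcommZ hΦ
    apply hlt.not_ge
    intro l hl
    have h1 := hact (resHom F hP hRS τ) l hl
    have h2 := hZ l
    apply mem_of_sq_mem hodd (pow_card_eq_one')
    have h3 : l * l = (l * (resHom F hP hRS τ l * l⁻¹)⁻¹ * l⁻¹) * (l * resHom F hP hRS τ l) := by
      group
    rw [h3]
    exact Z.mul_mem (hZn.conj_mem _ (Z.inv_mem h1) l) h2
  refine ⟨hcomm, fun x => ?_⟩
  have hbot : commutator ↥(P.subgroupOf R) ≤ ⊥ := by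
    rw [commutator_def, Subgroup.commutator_le]
    intro a _ b _
    rw [Subgroup.mem_bot, commutatorElement_eq_one_iff_mul_comm]
    exact hcomm a b
  have h4 := mul_apply_mem_of_inverts_frattini hodd (resHom F hP hRS τ) hτN2 ⊥ hbot hΦ x
  rw [Subgroup.mem_bot] at h4
  exact eq_inv_of_mul_eq_one_right h4

/-- **Main step.** An element of `N_P(R)` whose `p`-th power lies in the fully normalized, centric,
radical subgroup `R` lies in `R`. -/
theorem mem_of_pow_mem (hp2 : p ≠ 2) (hS : IsPGroup p S) (hF : F.IsSaturated p)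
    (hP : F.StronglyClosed P) (hm : Cfsg.IsMetacyclic ↥P) (hfn : F.IsFullyNormalized R)
    (hc : F.IsCentric R) (hr : F.IsRadical p R) {d : Ω} (hdP : d ∈ P)
    (hdN : d ∈ Subgroup.normalizer (R : Set Ω)) (hdp : d ^ p ∈ R) : d ∈ R := by
  have hpp : p.Prime := Fact.out
  have hRS : R ≤ S := hc.1
  by_contra hdR
  have hdS : d ∈ S := hP.1 hdP
  have hdNS : d ∈ normalizerIn S R := ⟨hdS, hdN⟩
  have hcA : conjAutHom S R ⟨d, hdNS⟩ ∈ F.autGroup R :=
    autInducedBy_le_autGroup F hRS (by rw [← conjAutHom_range]; exact ⟨_, rfl⟩)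
  obtain ⟨c, hcdef⟩ : ∃ c : F.autGroup R, c = ⟨conjAutHom S R ⟨d, hdNS⟩, hcA⟩ := ⟨_, rfl⟩
  have hcval : ∀ x : R, (((c : MulAut R) x : R) : Ω) = d * x * d⁻¹ := by
    intro x; rw [hcdef]; rfl
  have hc0 : c ∈ chainStabilizer F R (chain0 P) 1 (hinv0 hP hRS) := by
    rw [mem_A0 hP hRS]
    intro x
    have h1 : ((x⁻¹ * (c : MulAut R) x : R) : Ω) = ((x : Ω)⁻¹ * d * (x : Ω)⁻¹⁻¹) * d⁻¹ := by
      rw [Subgroup.coe_mul, Subgroup.coe_inv, hcval]; group
    rw [h1]
    exact P.mul_mem (stronglyClosed_conj_mem hP (S.inv_mem (hRS x.2)) hdP) (P.inv_mem hdP)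
  obtain ⟨k, hk⟩ : ∃ k : ℕ, c ^ p ^ k = 1 := by
    have hNS : IsPGroup p (normalizerIn S R) :=
      hS.of_injective (Subgroup.inclusion (normalizerIn_le_S S R)) (Subgroup.inclusion_injective _)
    obtain ⟨k, hk⟩ := hNS ⟨d, hdNS⟩
    refine ⟨k, Subtype.ext ?_⟩
    rw [Subgroup.coe_pow, hcdef]
    show (conjAutHom S R ⟨d, hdNS⟩) ^ p ^ k = 1
    rw [← map_pow, hk, map_one]
  have hcore : ∀ γ : F.autGroup R, γ ∈ pCore p (F.autGroup R) → (γ : MulAut R) ∈ Inn R := by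
    intro γ hγ
    rw [← hr.2]
    exact ⟨γ, hγ, rfl⟩
  rcases mem_pCore_or_exists hS hP hRS c hc0 hk with h | ⟨u₁, u₂, h₁, h₂, hk₁, hk₂, hne⟩
  · apply hdR
    apply mem_of_conjAutHom_mem_inn hc hdNS
    have h1 := hcore c h
    rw [hcdef] at h1
    exact h1
  obtain ⟨hncyc, τ, hτ0, hτ2, hΦ⟩ := exists_invol hp2 hS hP hm hRS u₁ u₂ h₁ h₂ hk₁ hk₂ hne
  obtain ⟨hcomm, hinvt⟩ := inverts_of_invol hp2 hS hP hm hRS τ hτ2 hΦ
  have hτinv : ∀ x : R, (x : Ω) ∈ P → (τ : MulAut R) x = x⁻¹ := by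
    intro x hx
    have h1 := congrArg (fun z : P.subgroupOf R => (z : R))
      (hinvt ⟨x, Subgroup.mem_subgroupOf.mpr hx⟩)
    exact h1
  have hτinv' : τ⁻¹ = τ := by
    rw [inv_eq_iff_mul_eq_one]; exact hτ2
  obtain ⟨κ, hκdef⟩ : ∃ κ : F.autGroup R, κ = τ * c * τ⁻¹ * c⁻¹ := ⟨_, rfl⟩
  have hκ2 : κ ∈ chainStabilizer F R (chain2 P) 2 (hinv2 hP hRS) := by
    rw [mem_A2 hP hRS]
    constructor
    · have hκ0 : κ ∈ chainStabilizer F R (chain0 P) 1 (hinv0 hP hRS) := by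
        rw [hκdef]
        exact mul_mem (mul_mem (mul_mem hτ0 hc0) (inv_mem hτ0)) (inv_mem hc0)
      exact (mem_A0 hP hRS κ).mp hκ0
    · intro x hx
      have hy : ((((c⁻¹ : F.autGroup R) : MulAut R) x : R) : Ω) ∈ P := aut_mem_P hP hRS c⁻¹ x hx
      rw [hκdef, hτinv']
      simp only [Subgroup.coe_mul, MulAut.mul_apply]
      rw [hτinv _ hy, map_inv]
      have h1 : (c : MulAut R) (((c⁻¹ : F.autGroup R) : MulAut R) x) = x := by
        rw [Subgroup.coe_inv, MulAut.apply_inv_self]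
      rw [h1, map_inv, hτinv x hx, inv_inv]
  have hX : chainStabilizer F R (chain2 P) 2 (hinv2 hP hRS) ≤ pCore p (F.autGroup R) :=
    Cfsg.Agent.Lib.Helper1.le_pCore (chainStabilizer_normal F R (chain2 P) 2 (hinv2 hP hRS))
      (chainStabilizer_isPGroup hS F hRS (chain2 P) 2 (hinv2 hP hRS) (by simp [chain2])
        (by simp [chain2]))
  obtain ⟨r₁, hr₁⟩ := (mem_inn_iff _).mp (hcore κ (hX hκ2))
  have hrel : τ * c = κ * c * τ := by rw [hκdef]; group
  have hτc : ∀ x : R, (((τ : MulAut R) ((c : MulAut R) x) : R) : Ω) =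
      ((r₁ : Ω) * d) * (((τ : MulAut R) x : R) : Ω) * ((r₁ : Ω) * d)⁻¹ := by
    intro x
    have e2 : (τ : MulAut R) ((c : MulAut R) x) =
        (κ : MulAut R) ((c : MulAut R) ((τ : MulAut R) x)) := by
      have h1 := congrArg (fun f : F.autGroup R => (f : MulAut R) x) hrel
      simpa only [Subgroup.coe_mul, MulAut.mul_apply] using h1
    rw [e2, hr₁, Subgroup.coe_mul, Subgroup.coe_mul, Subgroup.coe_inv, hcval]
    group
  -- `d` lies in the extender of `τ`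
  have hdE : d ∈ extender S R (R.subtype.comp ((τ : MulAut R) : R ≃* R).toMonoidHom) := by
    rw [mem_extender_iff]
    refine ⟨hdS, hdN, (r₁ : Ω) * d, S.mul_mem (hRS r₁.2) hdS, fun x hx => ?_⟩
    have e1 : (⟨d * x * d⁻¹, hx⟩ : R) = (c : MulAut R) x := Subtype.ext (hcval x).symm
    rw [e1]
    exact hτc x
  obtain ⟨-, hrec, -⟩ := fa_receptive_of_fullyNormalized hS hF hfn
  have hτiso : IsIso F ((τ : MulAut R) : R ≃* R) := (mem_autGroup_iff F hRS _).mp τ.2
  obtain ⟨ψ, hψ, hψτ⟩ := receptive_exists_extension hrec hτiso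
  have hRE : R ≤ extender S R (R.subtype.comp ((τ : MulAut R) : R ≃* R).toMonoidHom) :=
    le_extender_of_isIso hτiso
  obtain ⟨e, hedef⟩ : ∃ e : Ω, e = ψ ⟨d, hdE⟩ := ⟨_, rfl⟩
  have heS : e ∈ S := by rw [hedef]; exact (F.le_of_mem hψ).2 _
  have heP : e ∈ P := by
    rw [hedef]
    exact stronglyClosed_map_eq hP hψ ⟨⟨d, hdE⟩, Subgroup.mem_subgroupOf.mpr hdP, rfl⟩
  have hact : ∀ y : R, e * y * e⁻¹ = ((r₁ : Ω) * d) * y * ((r₁ : Ω) * d)⁻¹ := by
    intro y
    obtain ⟨x, rfl⟩ : ∃ x : R, (τ : MulAut R) x = y := ⟨(τ : MulAut R)⁻¹ y, by simp⟩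
    have h1 : ψ (⟨d, hdE⟩ * ⟨x, hRE x.2⟩ * ⟨d, hdE⟩⁻¹) = e * ψ ⟨x, hRE x.2⟩ * e⁻¹ := by
      rw [map_mul, map_mul, map_inv, hedef]
    have h2 : ψ ⟨x, hRE x.2⟩ = (((τ : MulAut R) x : R) : Ω) := hψτ x x.2 (hRE x.2)
    have h3 : (⟨d, hdE⟩ * ⟨x, hRE x.2⟩ * ⟨d, hdE⟩⁻¹ :
        ↥(extender S R (R.subtype.comp ((τ : MulAut R) : R ≃* R).toMonoidHom))) =
        ⟨(((c : MulAut R) x : R) : Ω), hRE ((c : MulAut R) x).2⟩ := Subtype.ext (hcval x).symm
    have h4 : ψ ⟨(((c : MulAut R) x : R) : Ω), hRE ((c : MulAut R) x).2⟩ =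
        (((τ : MulAut R) ((c : MulAut R) x) : R) : Ω) := hψτ _ ((c : MulAut R) x).2 _
    rw [h3, h4, h2, hτc] at h1
    exact h1.symm
  -- `e ∈ r₁ d R`
  have hz : ((r₁ : Ω) * d)⁻¹ * e ∈ R := by
    apply hc.2 R (isConj_refl F hRS)
    rw [mem_centralizerIn_iff]
    refine ⟨S.mul_mem (S.inv_mem (S.mul_mem (hRS r₁.2) hdS)) heS, fun y hy => ?_⟩
    have h1 := hact ⟨y, hy⟩
    have h2 : e * y = ((r₁ : Ω) * d) * y * ((r₁ : Ω) * d)⁻¹ * e := by
      rw [← h1]; group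
    calc y * (((r₁ : Ω) * d)⁻¹ * e) = ((r₁ : Ω) * d)⁻¹ * (((r₁ : Ω) * d) * y * ((r₁ : Ω) * d)⁻¹ * e) := by
          group
      _ = ((r₁ : Ω) * d)⁻¹ * (e * y) := by rw [h2]
      _ = ((r₁ : Ω) * d)⁻¹ * e * y := by group
  have hr'R : e * d⁻¹ ∈ R := by
    have h1 : e * d⁻¹ = (r₁ : Ω) * (d * (((r₁ : Ω) * d)⁻¹ * e) * d⁻¹) := by group
    rw [h1]
    exact R.mul_mem r₁.2 (conj_mem_of_mem_normalizerIn hdNS hz)
  have hr'P : e * d⁻¹ ∈ P := P.mul_mem heP (P.inv_mem hdP)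
  -- the `p`-th power
  have hpow : (e * d⁻¹ * d) ^ p = (d ^ p)⁻¹ := by
    rw [inv_mul_cancel_right, hedef, ← map_pow]
    have h1 : (⟨d, hdE⟩ : ↥(extender S R (R.subtype.comp ((τ : MulAut R) : R ≃* R).toMonoidHom))) ^ p =
        ⟨d ^ p, hRE hdp⟩ := Subtype.ext rfl
    rw [h1, hψτ (d ^ p) hdp (hRE hdp), hτinv ⟨d ^ p, hdp⟩ (P.pow_mem hdP p)]
    rfl
  -- norm computation
  have hfin : Finite ↥(P.subgroupOf R) := finite_sub hRS
  have hNp : IsPGroup p ↥(P.subgroupOf R) := isPGroup_sub hS hRS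
  have hodd : Odd (Nat.card ↥(P.subgroupOf R)) := by
    obtain ⟨n, hn⟩ := IsPGroup.iff_card.mp hNp
    rw [hn]
    exact (hpp.odd_of_ne_two hp2).pow
  have hDcomm : ∀ x ∈ P ⊓ R, ∀ y ∈ P ⊓ R, x * y = y * x := by
    intro x hx y hy
    have h1 := hcomm ⟨⟨x, hx.2⟩, Subgroup.mem_subgroupOf.mpr hx.1⟩
      ⟨⟨y, hy.2⟩, Subgroup.mem_subgroupOf.mpr hy.1⟩
    exact congrArg (fun z : P.subgroupOf R => ((z : R) : Ω)) h1
  have hDd : ∀ x ∈ P ⊓ R, d * x * d⁻¹ ∈ P ⊓ R := fun x hx =>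
    ⟨stronglyClosed_conj_mem hP hdS hx.1, conj_mem_of_mem_normalizerIn hdNS hx.2⟩
  have hDexp : ∀ x ∈ P ⊓ R, x ^ Nat.card ↥(P.subgroupOf R) = 1 := by
    intro x hx
    have h1 : (⟨⟨x, hx.2⟩, Subgroup.mem_subgroupOf.mpr hx.1⟩ : P.subgroupOf R) ^
        Nat.card ↥(P.subgroupOf R) = 1 := pow_card_eq_one'
    have h2 := congrArg (fun z : P.subgroupOf R => ((z : R) : Ω)) h1
    exact h2
  obtain ⟨r₀, hr₀, hr₀p⟩ := exists_pow_eq_one_of_norm (P ⊓ R) hDcomm hDd
    (⟨P.pow_mem hdP p, hdp⟩ : d ^ p ∈ P ⊓ R) hodd hDexp (⟨hr'P, hr'R⟩ : e * d⁻¹ ∈ P ⊓ R) hpow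
  -- elements of order `p` of the metacyclic group `P` lie in every noncyclic subgroup
  have hfinP : Finite ↥P := Finite.of_injective (Subgroup.inclusion hP.1) (Subgroup.inclusion_injective _)
  have hPp : IsPGroup p ↥P := hS.of_injective (Subgroup.inclusion hP.1) (Subgroup.inclusion_injective _)
  have hTm : Cfsg.IsMetacyclic ↥(⊤ : Subgroup ↥P) :=
    Cfsg.Agent.Lib.Helper10.isMetacyclic_of_injective (Subgroup.subtype ⊤)
      (Subgroup.subtype_injective _) hm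
  have hUnc : ¬ IsCyclic ↥((P ⊓ R).subgroupOf P) := by
    intro hcyc
    apply hncyc
    have hmem : ∀ x : P.subgroupOf R, subToP P R x ∈ (P ⊓ R).subgroupOf P := fun x =>
      Subgroup.mem_subgroupOf.mpr ⟨(subToP P R x).2, (x : R).2⟩
    exact isCyclic_of_injective ((subToP P R).codRestrict _ hmem)
      (fun x y h => subToP_injective P R (congrArg Subtype.val h))
  have hd₀P : r₀ * d ∈ P := P.mul_mem hr₀.1 hdP
  have h5 := Cfsg.Agent.S1447.pow_eq_one_mem_of_not_isCyclic hp2 (⊤ : Subgroup ↥P)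
    ((P ⊓ R).subgroupOf P) (hPp.to_subgroup _) hTm le_top hUnc
    (x := ⟨r₀ * d, hd₀P⟩) (Subgroup.mem_top _) (Subtype.ext (by simpa using hr₀p))
  have h6 : r₀ * d ∈ R := (Subgroup.mem_subgroupOf.mp h5).2
  apply hdR
  have h7 : d = r₀⁻¹ * (r₀ * d) := by group
  rw [h7]
  exact R.mul_mem (R.inv_mem hr₀.2) h6

/-- **Theorem.** For an odd prime `p`, a strongly closed metacyclic subgroup of a saturated fusion
system is normal in the system. -/
theorem isNormal_of_metacyclic (hp2 : p ≠ 2) (hS : IsPGroup p S) (hF : F.IsSaturated p)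
    (hP : F.StronglyClosed P) (hm : Cfsg.IsMetacyclic ↥P) : F.IsNormal P := by
  apply isNormal_of_le_frc hS hF hP
  intro R _ hfn hc hr
  have hRS : R ≤ S := hc.1
  apply le_of_inf_normalizer_le hS hRS hP.1 (fun s hs d hd => stronglyClosed_conj_mem hP hs hd)
  intro d hdP hdN
  obtain ⟨k, hk⟩ : ∃ k : ℕ, d ^ p ^ k = 1 := by
    obtain ⟨k, hk⟩ := hS ⟨d, hP.1 hdP⟩
    exact ⟨k, congrArg Subtype.val hk⟩
  have key : ∀ j ≤ k, d ^ p ^ (k - j) ∈ R := by
    intro j
    induction j with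
    | zero =>
      intro _
      rw [Nat.sub_zero, hk]
      exact R.one_mem
    | succ j ih =>
      intro hj
      apply mem_of_pow_mem hp2 hS hF hP hm hfn hc hr (P.pow_mem hdP _) (Subgroup.pow_mem _ hdN _)
      rw [← pow_mul, ← pow_succ]
      have h1 : k - (j + 1) + 1 = k - j := by omega
      rw [h1]
      exact ih (by omega)
  have h2 := key k le_rfl
  simpa using h2

end main

end Cfsg.H5.MetaSC
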