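import Mathlib
import Cfsg.Prelude.Def_FusionSystem
import Cfsg.Agent.Lib.Helper27.FusionNormalCrit
import Cfsg.Agent.Lib.Helper27.FusionSat
import Cfsg.Agent.Lib.Helper1.Cores
import Cfsg.Agent.H5.MetaSC2
import Cfsg.Agent.H5.GenExtra2

set_option autoImplicit false
set_option linter.unusedSectionVars false

/-! Strongly closed generalized extraspecial subgroups of saturated fusion systems are normal (apart from
the exceptional types). -/

namespace Cfsg.H5.GenExtra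

open Cfsg Cfsg.FusionSystem Cfsg.Agent.Lib.Helper27 Cfsg.H5.MetaSC
open scoped commutatorElement

variable {Ω : Type*} [Group Ω] {S : Subgroup Ω} [Finite S] {p : ℕ} [Fact p.Prime]
  {F : FusionSystem S} {P R : Subgroup Ω}

/-- chain `⊥ ≤ Z ≤ P ≤ ⊤` -/
def chain3 (Z P : Subgroup Ω) : ℕ → Subgroup Ω := fun j =>
  if j = 0 then ⊥ else if j = 1 then Z else if j = 2 then P else ⊤

theorem iso_mem_P (hP : F.StronglyClosed P) {α : R ≃* R} (hα : IsIso F α) (x : R)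
    (hx : (x : Ω) ∈ P) : ((α x : R) : Ω) ∈ P :=
  stronglyClosed_map_eq hP hα ⟨x, Subgroup.mem_subgroupOf.mpr hx, rfl⟩

/-- if `P'` is `Aut_F(R)`-invariant then `N_P(R) ≤ R` -/
theorem mem_of_derived_invariant (hS : IsPGroup p S) (hP : F.StronglyClosed P) (h : GE p ↥P)
    (hc : F.IsCentric R) (hr : F.IsRadical p R)
    (hinv : ∀ α : R ≃* R, IsIso F α → ∀ x : R, (x : Ω) ∈ derived P → ((α x : R) : Ω) ∈ derived P)
    {d : Ω} (hdP : d ∈ P) (hdN : d ∈ Subgroup.normalizer (R : Set Ω)) : d ∈ R := by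
  have hRS : R ≤ S := hc.1
  have hdS : d ∈ S := hP.1 hdP
  have hdNS : d ∈ normalizerIn S R := ⟨hdS, hdN⟩
  apply mem_of_stabilizes_chain hS hc hr (chain3 (derived P) P) 3 ?_ (by simp [chain3])
    (by simp [chain3]) hdNS ?_
  · intro j α hα x hx
    unfold chain3 at hx ⊢
    by_cases hj0 : j = 0
    · simp only [hj0, if_true] at hx ⊢
      rw [Subgroup.mem_bot] at hx ⊢
      have : x = 1 := Subtype.ext hx
      rw [this, map_one]; rfl
    · by_cases hj1 : j = 1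
      · simp only [hj1, one_ne_zero, if_false, if_true] at hx ⊢
        exact hinv α hα x hx
      · by_cases hj2 : j = 2
        · simp only [hj2, OfNat.ofNat_ne_zero, OfNat.ofNat_ne_one, if_false, if_true] at hx ⊢
          exact iso_mem_P hP hα x hx
        · simp only [hj0, hj1, hj2, if_false]
          exact Subgroup.mem_top _
  · intro j hj x hxR hx
    have hj' : j = 0 ∨ j = 1 ∨ j = 2 := by omega
    rcases hj' with rfl | rfl | rfl
    · have hx' : x ∈ derived P := by simpa [chain3] using hx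
      rw [derived_central hS hP h hx' hdS, inv_mul_cancel]
      simp [chain3]
    · have hx' : x ∈ P := by simpa [chain3] using hx
      have h1 : x⁻¹ * (d * x * d⁻¹) = ⁅x⁻¹, d⁆ := by rw [commutatorElement_def]; group
      rw [h1]
      simpa [chain3] using comm_mem_derived (P.inv_mem hx') hdP
    · have h1 : x⁻¹ * (d * x * d⁻¹) = (x⁻¹ * d * x⁻¹⁻¹) * d⁻¹ := by group
      rw [h1]
      have h2 := P.mul_mem (stronglyClosed_conj_mem hP (S.inv_mem (hRS hxR)) hdP) (P.inv_mem hdP)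
      simpa [chain3] using h2

/-- if `d ∈ N_P(R)` centralizes `P ∩ R` then `d ∈ R` -/
theorem mem_of_centralizes (hS : IsPGroup p S) (hP : F.StronglyClosed P)
    (hc : F.IsCentric R) (hr : F.IsRadical p R) {d : Ω} (hdP : d ∈ P)
    (hdN : d ∈ Subgroup.normalizer (R : Set Ω)) (hcen : ∀ x ∈ R, x ∈ P → d * x = x * d) : d ∈ R := by
  have hRS : R ≤ S := hc.1
  have hdS : d ∈ S := hP.1 hdP
  have hdNS : d ∈ normalizerIn S R := ⟨hdS, hdN⟩
  apply mem_of_stabilizes_chain hS hc hr (chain2 P) 2 ?_ (by simp [chain2])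
    (by simp [chain2]) hdNS ?_
  · intro j α hα x hx
    unfold chain2 at hx ⊢
    by_cases hj0 : j = 0
    · simp only [hj0, if_true] at hx ⊢
      rw [Subgroup.mem_bot] at hx ⊢
      have : x = 1 := Subtype.ext hx
      rw [this, map_one]; rfl
    · by_cases hj1 : j = 1
      · simp only [hj1, one_ne_zero, if_false, if_true] at hx ⊢
        exact iso_mem_P hP hα x hx
      · simp only [hj0, hj1, if_false]
        exact Subgroup.mem_top _
  · intro j hj x hxR hx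
    have hj' : j = 0 ∨ j = 1 := by omega
    rcases hj' with rfl | rfl
    · have hx' : x ∈ P := by simpa [chain2] using hx
      rw [hcen x hxR hx', mul_inv_cancel_right, inv_mul_cancel]
      simp [chain2]
    · have h1 : x⁻¹ * (d * x * d⁻¹) = (x⁻¹ * d * x⁻¹⁻¹) * d⁻¹ := by group
      rw [h1]
      have h2 := P.mul_mem (stronglyClosed_conj_mem hP (S.inv_mem (hRS hxR)) hdP) (P.inv_mem hdP)
      simpa [chain2] using h2

/-- consequences of the key fusion lemma and the structure theorem for an automorphism `β ∈ Aut_F(R)`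
moving a generator `z` of `P'` off `P'`: `p` is odd and `C_P(β z) = Ω₁(P)` is elementary abelian -/
theorem cen_iff_of_iso (hS : IsPGroup p S) (hF : F.IsSaturated p) (hP : F.StronglyClosed P)
    (h : GE p ↥P)
    (h2 : p = 2 → ¬ ∃ (A : Type) (_ : CommGroup A), (∀ a : A, a ^ 2 = 1) ∧
      Nonempty (↥P ≃* DihedralGroup 4 × A))
    (hodd : p ≠ 2 → ¬ ∃ (E : Type) (_ : Group E) (A : Type) (_ : CommGroup A),
      Cfsg.IsExtraspecial p E ∧ Nat.card E = p ^ 3 ∧ Monoid.exponent E = p ∧ (∀ a : A, a ^ p = 1) ∧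
        Nonempty (↥P ≃* E × A))
    {β : R ≃* R} (hβ : IsIso F β) {z : R} (hzZ : (z : Ω) ∈ derived P)
    (hβz : ((β z : R) : Ω) ∉ derived P) :
    p ≠ 2 ∧
      (∀ x ∈ P, ∀ y ∈ P, x * ((β z : R) : Ω) = ((β z : R) : Ω) * x →
        y * ((β z : R) : Ω) = ((β z : R) : Ω) * y → x * y = y * x) ∧
      (∀ x ∈ P, x * ((β z : R) : Ω) = ((β z : R) : Ω) * x ↔ x ^ p = 1) := by
  have hfinP : Finite ↥P := finite_of_le hP.1
  obtain ⟨hB1, hB2⟩ := cen_of_hom hS hF hP h (ψ := R.subtype.comp β.toMonoidHom) hβ z.2 hzZ hβz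
  have hz₁P : ((β z : R) : Ω) ∈ P := iso_mem_P hP hβ z (derived_le P hzZ)
  have hcen : Cen p (⟨((β z : R) : Ω), hz₁P⟩ : ↥P) := by
    refine ⟨fun a b ha hb => ?_, fun a ha => ?_⟩
    · exact Subtype.ext (hB1 a a.2 b b.2 (congrArg Subtype.val ha.eq) (congrArg Subtype.val hb.eq))
    · exact Subtype.ext (by rw [Subgroup.coe_pow]; exact hB2 a a.2 (congrArg Subtype.val ha.eq))
  obtain ⟨hp2, hM⟩ := ne_two_and_commute h h2 hodd hcen
  refine ⟨hp2, hB1, fun x hx => ⟨hB2 x hx, fun hxp => ?_⟩⟩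
  have h3 := hM ⟨x, hx⟩ (Subtype.ext (by rw [Subgroup.coe_pow]; exact hxp))
  exact congrArg Subtype.val h3.eq

/-- **Main step.** -/
theorem mem_of_normalizer (hS : IsPGroup p S) (hF : F.IsSaturated p) (hP : F.StronglyClosed P)
    (h : GE p ↥P)
    (h2 : p = 2 → ¬ ∃ (A : Type) (_ : CommGroup A), (∀ a : A, a ^ 2 = 1) ∧
      Nonempty (↥P ≃* DihedralGroup 4 × A))
    (hodd : p ≠ 2 → ¬ ∃ (E : Type) (_ : Group E) (A : Type) (_ : CommGroup A),
      Cfsg.IsExtraspecial p E ∧ Nat.card E = p ^ 3 ∧ Monoid.exponent E = p ∧ (∀ a : A, a ^ p = 1) ∧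
        Nonempty (↥P ≃* E × A))
    (hfn : F.IsFullyNormalized R) (hc : F.IsCentric R) (hr : F.IsRadical p R) {d : Ω} (hdP : d ∈ P)
    (hdN : d ∈ Subgroup.normalizer (R : Set Ω)) : d ∈ R := by
  have hpp : p.Prime := Fact.out
  have hRS : R ≤ S := hc.1
  have hfinP : Finite ↥P := finite_of_le hP.1
  have hfinD : Finite ↥(P.subgroupOf R) := finite_sub hRS
  by_contra hdR
  have hdS : d ∈ S := hP.1 hdP
  have hdNS : d ∈ normalizerIn S R := ⟨hdS, hdN⟩
  have hZcard := card_derived_eq h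
  -- Step 1: `P'` is not invariant
  have hninv : ¬ ∀ α : R ≃* R, IsIso F α → ∀ x : R, (x : Ω) ∈ derived P →
      ((α x : R) : Ω) ∈ derived P :=
    fun hinv => hdR (mem_of_derived_invariant hS hP h hc hr hinv hdP hdN)
  push Not at hninv
  obtain ⟨α, hα, z, hzZ, hαz⟩ := hninv
  have hz1 : (z : Ω) ≠ 1 := by
    intro h1
    apply hαz
    have : z = 1 := Subtype.ext h1
    rw [this, map_one]; exact Subgroup.one_mem _
  have hzP : (z : Ω) ∈ P := derived_le P hzZ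
  -- elements of `R` lying in `P'` are powers of `z`
  have hZR : ∀ y : R, (y : Ω) ∈ derived P → ∃ n : ℕ, z ^ n = y := by
    intro y hy
    obtain ⟨n, hn⟩ := exists_pow_eq_of_card_prime _ hZcard hzZ hz1 hy
    exact ⟨n, Subtype.ext (by rw [Subgroup.coe_pow]; exact hn)⟩
  obtain ⟨hp2, hB1, hB2⟩ := cen_iff_of_iso hS hF hP h h2 hodd hα hzZ hαz
  have hαsz : ((α.symm z : R) : Ω) ∉ derived P := by
    intro hw
    have hw1 : ((α.symm z : R) : Ω) ≠ 1 := by
      intro h1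
      have h3 : α.symm z = 1 := Subtype.ext h1
      rw [MulEquiv.symm_apply_eq, map_one] at h3
      exact hz1 (congrArg Subtype.val h3)
    obtain ⟨n, hn⟩ := exists_pow_eq_of_card_prime _ hZcard hw hw1 hzZ
    apply hαz
    have h3 : z = (α.symm z) ^ n := Subtype.ext (by rw [Subgroup.coe_pow]; exact hn.symm)
    rw [h3, map_pow, MulEquiv.apply_symm_apply, Subgroup.coe_pow]
    exact Subgroup.pow_mem _ hzZ n
  obtain ⟨-, -, hB2'⟩ := cen_iff_of_iso hS hF hP h h2 hodd (IsIso.symm hα) hzZ hαsz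
  obtain ⟨z₁, hz₁def⟩ : ∃ z₁ : R, z₁ = α z := ⟨_, rfl⟩
  obtain ⟨zm, hzmdef⟩ : ∃ zm : R, zm = α.symm z := ⟨_, rfl⟩
  rw [← hz₁def] at hαz hB1 hB2
  rw [← hzmdef] at hαsz hB2'
  have hz₁P : (z₁ : Ω) ∈ P := by rw [hz₁def]; exact iso_mem_P hP hα z hzP
  -- `P ∩ R` is elementary abelian
  have hDcomm : ∀ x y : R, (x : Ω) ∈ P → (y : Ω) ∈ P → x * y = y * x := by
    intro x y hx hy
    by_contra hne
    have hc1 : ⁅(x : Ω), (y : Ω)⁆ ≠ 1 := fun h1 =>
      hne (Subtype.ext (commutatorElement_eq_one_iff_mul_comm.mp h1))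
    obtain ⟨n, hn⟩ := exists_pow_eq_of_card_prime _ hZcard (comm_mem_derived hx hy) hc1 hzZ
    apply hαz
    have h3 : z = ⁅x, y⁆ ^ n := Subtype.ext hn.symm
    rw [hz₁def, h3, map_pow, map_commutatorElement]
    exact Subgroup.pow_mem _ (comm_mem_derived (iso_mem_P hP hα x hx) (iso_mem_P hP hα y hy)) n
  have hDexp : ∀ x : R, (x : Ω) ∈ P → (x : Ω) ^ p = 1 := fun x hx =>
    (hB2 x hx).mp (congrArg Subtype.val (hDcomm x z₁ hx hz₁P))
  -- `d` does not commute with `z₁`, nor with `zm`, and `d ^ p ≠ 1`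
  have hdz₁ : d * (z₁ : Ω) ≠ (z₁ : Ω) * d := by
    intro hcomm
    apply hdR
    apply mem_of_centralizes hS hP hc hr hdP hdN
    intro x hxR hxP
    have hxz : x * (z₁ : Ω) = (z₁ : Ω) * x := congrArg Subtype.val (hDcomm ⟨x, hxR⟩ z₁ hxP hz₁P)
    exact hB1 d hdP x hxP hcomm hxz
  have hdp : d ^ p ≠ 1 := fun h1 => hdz₁ ((hB2 d hdP).mpr h1)
  have hdzm : d * (zm : Ω) ≠ (zm : Ω) * d := fun h1 => hdp ((hB2' d hdP).mp h1)
  -- the automorphisms `t = c_d` and `t' = α t α⁻¹`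
  have hcA : conjAutHom S R ⟨d, hdNS⟩ ∈ F.autGroup R :=
    autInducedBy_le_autGroup F hRS (by rw [← conjAutHom_range]; exact ⟨_, rfl⟩)
  obtain ⟨t, htdef⟩ : ∃ t : F.autGroup R, t = ⟨conjAutHom S R ⟨d, hdNS⟩, hcA⟩ := ⟨_, rfl⟩
  have htval : ∀ x : R, (((t : MulAut R) x : R) : Ω) = d * x * d⁻¹ := by
    intro x; rw [htdef]; rfl
  have hαA : (α : MulAut R) ∈ F.autGroup R := (mem_autGroup_iff F hRS α).mpr hα
  obtain ⟨a, hadef⟩ : ∃ a : F.autGroup R, a = ⟨α, hαA⟩ := ⟨_, rfl⟩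
  obtain ⟨t', ht'def⟩ : ∃ t' : F.autGroup R, t' = a * t * a⁻¹ := ⟨_, rfl⟩
  have ht'val : ∀ x : R, (t' : MulAut R) x = α ((t : MulAut R) (α.symm x)) := by
    intro x; rw [ht'def, hadef]; rfl
  obtain ⟨k, hk⟩ : ∃ k : ℕ, t ^ p ^ k = 1 := by
    have hNS : IsPGroup p (normalizerIn S R) :=
      hS.of_injective (Subgroup.inclusion (normalizerIn_le_S S R)) (Subgroup.inclusion_injective _)
    obtain ⟨k, hk⟩ := hNS ⟨d, hdNS⟩
    refine ⟨k, Subtype.ext ?_⟩
    rw [Subgroup.coe_pow, htdef]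
    show (conjAutHom S R ⟨d, hdNS⟩) ^ p ^ k = 1
    rw [← map_pow, hk, map_one]
  have hk' : t' ^ p ^ k = 1 := by
    rw [ht'def, conj_pow, hk, mul_one, mul_inv_cancel]
  have htz : (t : MulAut R) z = z := by
    apply Subtype.ext
    rw [htval]
    exact derived_central hS hP h hzZ hdS
  -- commutators with `t`
  have htcomm : ∀ x : R, (x : Ω) ∈ P → ∃ n : ℕ, (t : MulAut R) x = x * z ^ n := by
    intro x hx
    have h1 : ((x⁻¹ * (t : MulAut R) x : R) : Ω) ∈ derived P := by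
      have h3 : ((x⁻¹ * (t : MulAut R) x : R) : Ω) = ⁅(x : Ω)⁻¹, d⁆ := by
        rw [Subgroup.coe_mul, Subgroup.coe_inv, htval, commutatorElement_def]; group
      rw [h3]
      exact comm_mem_derived (P.inv_mem hx) hdP
    obtain ⟨n, hn⟩ := hZR _ h1
    exact ⟨n, by rw [hn]; group⟩
  have ht'comm : ∀ x : R, (x : Ω) ∈ P → ∃ n : ℕ, (t' : MulAut R) x = x * z₁ ^ n := by
    intro x hx
    obtain ⟨n, hn⟩ := htcomm (α.symm x) (iso_mem_P hP (IsIso.symm hα) x hx)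
    refine ⟨n, ?_⟩
    rw [ht'val, hn, map_mul, map_pow, MulEquiv.apply_symm_apply, hz₁def]
  -- the action on `P ∩ R`
  have hcommD : ∀ x y : P.subgroupOf R, x * y = y * x := fun x y =>
    Subtype.ext (hDcomm x y (Subgroup.mem_subgroupOf.mp x.2) (Subgroup.mem_subgroupOf.mp y.2))
  have hexpD : ∀ x : P.subgroupOf R, x ^ p = 1 := fun x =>
    Subtype.ext (Subtype.ext (by
      rw [Subgroup.coe_pow, Subgroup.coe_pow]
      exact hDexp x (Subgroup.mem_subgroupOf.mp x.2)))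
  obtain ⟨zD, hzD⟩ : ∃ zD : P.subgroupOf R, (zD : R) = z := ⟨⟨z, Subgroup.mem_subgroupOf.mpr hzP⟩, rfl⟩
  obtain ⟨z₁D, hz₁D⟩ : ∃ z₁D : P.subgroupOf R, (z₁D : R) = z₁ :=
    ⟨⟨z₁, Subgroup.mem_subgroupOf.mpr hz₁P⟩, rfl⟩
  have hρ : ∀ (u : F.autGroup R) (x : P.subgroupOf R),
      ((resHom F hP hRS u x : P.subgroupOf R) : R) = (u : MulAut R) x := fun u x => rfl
  have hf₁ : resHom F hP hRS t zD = zD := by
    apply Subtype.ext
    rw [hρ, hzD, htz]
  have hf₂ : resHom F hP hRS t' z₁D = z₁D := by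
    apply Subtype.ext
    rw [hρ, hz₁D, ht'val, hz₁def, MulEquiv.symm_apply_apply, htz]
  have hk₁ : resHom F hP hRS t z₁D ≠ z₁D := by
    intro h1
    have h3 := congrArg (fun x : P.subgroupOf R => ((x : R) : Ω)) h1
    simp only [hρ, hz₁D, htval] at h3
    apply hdz₁
    calc d * (z₁ : Ω) = (d * (z₁ : Ω) * d⁻¹) * d := by group
      _ = (z₁ : Ω) * d := by rw [h3]
  have hk₂ : resHom F hP hRS t' zD ≠ zD := by
    intro h1
    have h3 := congrArg (fun x : P.subgroupOf R => (x : R)) h1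
    simp only [hρ, hzD, ht'val] at h3
    rw [← MulEquiv.eq_symm_apply, ← hzmdef] at h3
    have h4 := congrArg (fun x : R => (x : Ω)) h3
    simp only [htval] at h4
    apply hdzm
    calc d * (zm : Ω) = (d * (zm : Ω) * d⁻¹) * d := by group
      _ = (zm : Ω) * d := by rw [h4]
  have hc₁ : ∀ v : P.subgroupOf R, v⁻¹ * resHom F hP hRS t v ∈ Subgroup.zpowers zD := by
    intro v
    obtain ⟨n, hn⟩ := htcomm v (Subgroup.mem_subgroupOf.mp v.2)
    have h3 : v⁻¹ * resHom F hP hRS t v = zD ^ n := by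
      apply Subtype.ext
      rw [Subgroup.coe_mul, Subgroup.coe_inv, hρ, hn, Subgroup.coe_pow, hzD]
      group
    rw [h3]
    exact Subgroup.npow_mem_zpowers _ _
  have hc₂ : ∀ v : P.subgroupOf R, v⁻¹ * resHom F hP hRS t' v ∈ Subgroup.zpowers z₁D := by
    intro v
    obtain ⟨n, hn⟩ := ht'comm v (Subgroup.mem_subgroupOf.mp v.2)
    have h3 : v⁻¹ * resHom F hP hRS t' v = z₁D ^ n := by
      apply Subtype.ext
      rw [Subgroup.coe_mul, Subgroup.coe_inv, hρ, hn, Subgroup.coe_pow, hz₁D]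
      group
    rw [h3]
    exact Subgroup.npow_mem_zpowers _ _
  obtain ⟨τ, hτmem, hτz, hτcomm⟩ := exists_inverting_commuting (resHom F hP hRS) hcommD hexpD t t'
    hk hk' zD z₁D hf₁ hf₂ hk₁ hk₂ hc₁ hc₂
  have hτzR : (τ : MulAut R) z = z⁻¹ := by
    have h3 := congrArg (fun x : P.subgroupOf R => (x : R)) hτz
    simp only [hρ, hzD, Subgroup.coe_inv] at h3
    exact h3
  -- membership in the stabilizer of `R / (P ∩ R)`
  have ht0 : t ∈ chainStabilizer F R (chain0 P) 1 (hinv0 hP hRS) := by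
    rw [mem_A0 hP hRS]
    intro x
    have h1 : ((x⁻¹ * (t : MulAut R) x : R) : Ω) = ((x : Ω)⁻¹ * d * (x : Ω)⁻¹⁻¹) * d⁻¹ := by
      rw [Subgroup.coe_mul, Subgroup.coe_inv, htval]; group
    rw [h1]
    exact P.mul_mem (stronglyClosed_conj_mem hP (S.inv_mem (hRS x.2)) hdP) (P.inv_mem hdP)
  have hA0n := chainStabilizer_normal F R (chain0 P) 1 (hinv0 hP hRS)
  have ht'0 : t' ∈ chainStabilizer F R (chain0 P) 1 (hinv0 hP hRS) := by
    rw [ht'def]; exact hA0n.conj_mem _ ht0 a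
  have hτ0 : τ ∈ chainStabilizer F R (chain0 P) 1 (hinv0 hP hRS) := by
    have hle : Subgroup.closure ({t, t'} : Set (F.autGroup R)) ≤
        chainStabilizer F R (chain0 P) 1 (hinv0 hP hRS) := by
      rw [Subgroup.closure_le]
      intro u hu
      rcases hu with rfl | hu
      · exact ht0
      · rw [Set.mem_singleton_iff] at hu; rw [hu]; exact ht'0
    exact hle hτmem
  have hcore : ∀ γ : F.autGroup R, γ ∈ pCore p (F.autGroup R) → (γ : MulAut R) ∈ Inn R := by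
    intro γ hγ
    rw [← hr.2]
    exact ⟨γ, hγ, rfl⟩
  obtain ⟨κ, hκdef⟩ : ∃ κ : F.autGroup R, κ = τ * t * τ⁻¹ * t⁻¹ := ⟨_, rfl⟩
  have hκ2 : κ ∈ chainStabilizer F R (chain2 P) 2 (hinv2 hP hRS) := by
    rw [mem_A2 hP hRS]
    constructor
    · have hκ0 : κ ∈ chainStabilizer F R (chain0 P) 1 (hinv0 hP hRS) := by
        rw [hκdef]
        exact mul_mem (mul_mem (mul_mem hτ0 ht0) (inv_mem hτ0)) (inv_mem ht0)
      exact (mem_A0 hP hRS κ).mp hκ0
    · intro x hx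
      have h1 : resHom F hP hRS κ = 1 := by
        rw [hκdef, map_mul, map_mul, map_mul, map_inv, map_inv, hτcomm]
        group
      have h3 := congrArg (fun f : MulAut (P.subgroupOf R) =>
        ((f ⟨x, Subgroup.mem_subgroupOf.mpr hx⟩ : P.subgroupOf R) : R)) h1
      simp only [hρ, MulAut.one_apply] at h3
      exact h3
  have hX : chainStabilizer F R (chain2 P) 2 (hinv2 hP hRS) ≤ pCore p (F.autGroup R) :=
    Cfsg.Agent.Lib.Helper1.le_pCore (chainStabilizer_normal F R (chain2 P) 2 (hinv2 hP hRS))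
      (chainStabilizer_isPGroup hS F hRS (chain2 P) 2 (hinv2 hP hRS) (by simp [chain2])
        (by simp [chain2]))
  obtain ⟨r₁, hr₁⟩ := (mem_inn_iff _).mp (hcore κ (hX hκ2))
  have hrel : τ * t = κ * t * τ := by rw [hκdef]; group
  have hτc : ∀ x : R, (((τ : MulAut R) ((t : MulAut R) x) : R) : Ω) =
      ((r₁ : Ω) * d) * (((τ : MulAut R) x : R) : Ω) * ((r₁ : Ω) * d)⁻¹ := by
    intro x
    have e2 : (τ : MulAut R) ((t : MulAut R) x) =
        (κ : MulAut R) ((t : MulAut R) ((τ : MulAut R) x)) := by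
      have h1 := congrArg (fun f : F.autGroup R => (f : MulAut R) x) hrel
      simpa only [Subgroup.coe_mul, MulAut.mul_apply] using h1
    rw [e2, hr₁, Subgroup.coe_mul, Subgroup.coe_mul, Subgroup.coe_inv, htval]
    group
  -- `d` lies in the extender of `τ`
  have hdE : d ∈ extender S R (R.subtype.comp ((τ : MulAut R) : R ≃* R).toMonoidHom) := by
    rw [mem_extender_iff]
    refine ⟨hdS, hdN, (r₁ : Ω) * d, S.mul_mem (hRS r₁.2) hdS, fun x hx => ?_⟩
    have e1 : (⟨d * x * d⁻¹, hx⟩ : R) = (t : MulAut R) x := Subtype.ext (htval x).symm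
    rw [e1]
    exact hτc x
  obtain ⟨-, hrec, -⟩ := fa_receptive_of_fullyNormalized hS hF hfn
  have hτiso : IsIso F ((τ : MulAut R) : R ≃* R) := (mem_autGroup_iff F hRS _).mp τ.2
  obtain ⟨ψ, hψ, hψτ⟩ := receptive_exists_extension hrec hτiso
  have hRE : R ≤ extender S R (R.subtype.comp ((τ : MulAut R) : R ≃* R).toMonoidHom) :=
    le_extender_of_isIso hτiso
  obtain ⟨e, hedef⟩ : ∃ e : Ω, e = ψ ⟨d, hdE⟩ := ⟨_, rfl⟩
  have heS : e ∈ S := by rw [hedef]; exact (F.le_of_mem hψ).2 _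
  have heP : e ∈ P := by
    rw [hedef]
    exact stronglyClosed_map_eq hP hψ ⟨⟨d, hdE⟩, Subgroup.mem_subgroupOf.mpr hdP, rfl⟩
  have hact : ∀ y : R, e * y * e⁻¹ = ((r₁ : Ω) * d) * y * ((r₁ : Ω) * d)⁻¹ := by
    intro y
    obtain ⟨x, rfl⟩ : ∃ x : R, (τ : MulAut R) x = y := ⟨(τ : MulAut R)⁻¹ y, by simp⟩
    have h1 : ψ (⟨d, hdE⟩ * ⟨x, hRE x.2⟩ * ⟨d, hdE⟩⁻¹) = e * ψ ⟨x, hRE x.2⟩ * e⁻¹ := by
      rw [map_mul, map_mul, map_inv, hedef]
    have h2' : ψ ⟨x, hRE x.2⟩ = (((τ : MulAut R) x : R) : Ω) := hψτ x x.2 (hRE x.2)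
    have h3 : (⟨d, hdE⟩ * ⟨x, hRE x.2⟩ * ⟨d, hdE⟩⁻¹ :
        ↥(extender S R (R.subtype.comp ((τ : MulAut R) : R ≃* R).toMonoidHom))) =
        ⟨(((t : MulAut R) x : R) : Ω), hRE ((t : MulAut R) x).2⟩ := Subtype.ext (htval x).symm
    have h4 : ψ ⟨(((t : MulAut R) x : R) : Ω), hRE ((t : MulAut R) x).2⟩ =
        (((τ : MulAut R) ((t : MulAut R) x) : R) : Ω) := hψτ _ ((t : MulAut R) x).2 _
    rw [h3, h4, h2', hτc] at h1
    exact h1.symm
  -- `e ∈ r₁ d R`
  have hz : ((r₁ : Ω) * d)⁻¹ * e ∈ R := by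
    apply hc.2 R (isConj_refl F hRS)
    rw [mem_centralizerIn_iff]
    refine ⟨S.mul_mem (S.inv_mem (S.mul_mem (hRS r₁.2) hdS)) heS, fun y hy => ?_⟩
    have h1 := hact ⟨y, hy⟩
    have h2' : e * y = ((r₁ : Ω) * d) * y * ((r₁ : Ω) * d)⁻¹ * e := by
      rw [← h1]; group
    calc y * (((r₁ : Ω) * d)⁻¹ * e) = ((r₁ : Ω) * d)⁻¹ * (((r₁ : Ω) * d) * y * ((r₁ : Ω) * d)⁻¹ * e) := by
          group
      _ = ((r₁ : Ω) * d)⁻¹ * (e * y) := by rw [h2']
      _ = ((r₁ : Ω) * d)⁻¹ * e * y := by group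
  have hr'R : e * d⁻¹ ∈ R := by
    have h1 : e * d⁻¹ = (r₁ : Ω) * (d * (((r₁ : Ω) * d)⁻¹ * e) * d⁻¹) := by group
    rw [h1]
    exact R.mul_mem r₁.2 (conj_mem_of_mem_normalizerIn hdNS hz)
  have hr'P : e * d⁻¹ ∈ P := P.mul_mem heP (P.inv_mem hdP)
  -- the `p`-th power
  have hdpZ : d ^ p ∈ derived P := pow_mem_derived hP.1 h hdP
  have hZRle : derived P ≤ R := by
    intro w hw
    apply hc.2 R (isConj_refl F hRS)
    rw [mem_centralizerIn_iff]
    refine ⟨hP.1 (derived_le P hw), fun y hy => ?_⟩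
    have h1 := derived_central hS hP h hw (hRS hy)
    calc y * w = (y * w * y⁻¹) * y := by group
      _ = w * y := by rw [h1]
  have hdpR : d ^ p ∈ R := hZRle hdpZ
  have hpow : e ^ p = (d ^ p)⁻¹ := by
    rw [hedef, ← map_pow]
    have h1 : (⟨d, hdE⟩ : ↥(extender S R (R.subtype.comp ((τ : MulAut R) : R ≃* R).toMonoidHom))) ^ p =
        ⟨d ^ p, hRE hdpR⟩ := Subtype.ext rfl
    rw [h1, hψτ (d ^ p) hdpR (hRE hdpR)]
    obtain ⟨n, hn⟩ := hZR ⟨d ^ p, hdpR⟩ hdpZ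
    rw [← hn, map_pow, hτzR, inv_pow, Subgroup.coe_inv, hn]
  -- `e = r' d` with `r' ∈ P ∩ R` of order dividing `p`
  have hr'p : (e * d⁻¹) ^ p = 1 := hDexp ⟨e * d⁻¹, hr'R⟩ hr'P
  have hmul : e ^ p = (e * d⁻¹) ^ p * d ^ p := by
    have h1 := h.mul_pow hp2 (⟨e * d⁻¹, hr'P⟩ : ↥P) ⟨d, hdP⟩
    have h3 := congrArg (fun x : ↥P => (x : Ω)) h1
    simp only [Subgroup.coe_mul, Subgroup.coe_pow, inv_mul_cancel_right] at h3
    exact h3
  rw [hr'p, one_mul, hpow] at hmul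
  -- `(d ^ p)² = 1`
  have hsq : (d ^ p) ^ 2 = 1 := by
    rw [sq]
    nth_rewrite 1 [← hmul]
    exact inv_mul_cancel _
  have hpp' : (d ^ p) ^ p = 1 := pow_eq_one_of_card_prime _ hZcard hdpZ
  apply hdp
  have h1 : orderOf (d ^ p) ∣ Nat.gcd 2 p :=
    Nat.dvd_gcd (orderOf_dvd_of_pow_eq_one hsq) (orderOf_dvd_of_pow_eq_one hpp')
  have h3 : Nat.gcd 2 p = 1 := by
    rw [Nat.gcd_comm]
    exact (Nat.coprime_primes hpp Nat.prime_two).mpr hp2
  rw [h3, Nat.dvd_one] at h1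
  exact orderOf_eq_one_iff.mp h1

/-- **Theorem.** A strongly closed generalized extraspecial subgroup `P` (with `Φ(P) = P'` of order `p`)
of a saturated fusion system, not of the form `D₈ × A` (`p = 2`) or `p^{1+2}_+ × A` (`p` odd) with `A`
elementary abelian, is normal in the system. -/
theorem isNormal_of_genExtraspecial (hS : IsPGroup p S) (hF : F.IsSaturated p)
    (hP : F.StronglyClosed P)
    (hge : frattini ↥P = commutator ↥P ∧ Nat.card ↥(commutator ↥P) = p)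
    (h2 : p = 2 → ¬ ∃ (A : Type) (_ : CommGroup A), (∀ a : A, a ^ 2 = 1) ∧
      Nonempty (↥P ≃* DihedralGroup 4 × A))
    (hodd : p ≠ 2 → ¬ ∃ (E : Type) (_ : Group E) (A : Type) (_ : CommGroup A),
      Cfsg.IsExtraspecial p E ∧ Nat.card E = p ^ 3 ∧ Monoid.exponent E = p ∧ (∀ a : A, a ^ p = 1) ∧
        Nonempty (↥P ≃* E × A)) : F.IsNormal P := by
  have h : GE p ↥P :=
    ⟨hS.of_injective (Subgroup.inclusion hP.1) (Subgroup.inclusion_injective _), hge.1, hge.2⟩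
  apply isNormal_of_le_frc hS hF hP
  intro R _ hfn hc hr
  have hRS : R ≤ S := hc.1
  apply le_of_inf_normalizer_le hS hRS hP.1 (fun s hs d hd => stronglyClosed_conj_mem hP hs hd)
  intro d hdP hdN
  exact mem_of_normalizer hS hF hP h h2 hodd hfn hc hr hdP hdN

end Cfsg.H5.GenExtra
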