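import Mathlib
import Cfsg.Prelude.Def_GeometricClasses
import Cfsg.Agent.Lib.Helper15.MonoA

/-!
# Hub corollaries of S5630, properness (P3): `SL_n` is not inside a tensor product subgroup  (helper5)

`not_sl_le_tensorProductSubgroup` (shape (G-b4) of notes/HubCorSkel_helper9.lean.txt).
The transvection `1 + E_{(0,0),(1,1)}` is not a Kronecker product `A ⊗ B` (look at the entries `((0,0),(0,0))`, `((0,0),(1,1))`,
`((0,0),(0,1))`), and its transport to `GL (Fin n) F`, conjugated by `P`, has determinant one.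
-/

set_option autoImplicit false
set_option linter.unusedSectionVars false
set_option linter.unusedVariables false

namespace Cfsg.H5.HubCor

open Cfsg Cfsg.Geo Matrix Module
open Cfsg.Agent.Lib.Helper15.MonoMax (tv tvGL tv_mulVec tvGL_mem_SL tv_mul_tv_neg tvGL_val mem_SL_iff tv_det)
open scoped MatrixGroups Kronecker

variable {F : Type*} [Field F]

/-- the determinant of a reindexed and conjugated element -/
theorem det_conj_reindex {κ ι : Type} [Fintype κ] [DecidableEq κ] [Fintype ι] [DecidableEq ι] (e : κ ≃ ι)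
    (P : GL ι F) (g : GL κ F) :
    (((MulAut.conj P).toMonoidHom ((glReindex e).toMonoidHom g) : GL ι F) : Matrix ι ι F).det =
      (g : Matrix κ κ F).det := by
  have h1 : (((MulAut.conj P).toMonoidHom ((glReindex e).toMonoidHom g) : GL ι F) : Matrix ι ι F) =
      (P : Matrix ι ι F) * Matrix.reindex e e (g : Matrix κ κ F) * ((P⁻¹ : GL ι F) : Matrix ι ι F) := by
    rfl
  have h2 : (P : Matrix ι ι F).det * ((P⁻¹ : GL ι F) : Matrix ι ι F).det = 1 := by
    rw [← Matrix.det_mul, ← Units.val_mul, mul_inv_cancel, Units.val_one, Matrix.det_one]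
  rw [h1, Matrix.det_mul, Matrix.det_mul, Matrix.det_reindex_self]
  linear_combination (g : Matrix κ κ F).det * h2

/-- membership in a conjugated reindexed subgroup -/
theorem mem_map_conj_reindex {κ ι : Type} [Fintype κ] [DecidableEq κ] [Fintype ι] [DecidableEq ι] (e : κ ≃ ι)
    (P : GL ι F) (S : Subgroup (GL κ F)) (g : GL κ F)
    (h : (MulAut.conj P).toMonoidHom ((glReindex e).toMonoidHom g) ∈
      (S.map (glReindex e).toMonoidHom).map (MulAut.conj P).toMonoidHom) : g ∈ S := by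
  obtain ⟨y, ⟨k, hk, rfl⟩, hy⟩ := h
  have h1 : (glReindex e).toMonoidHom k = (glReindex e).toMonoidHom g :=
    (MulAut.conj P).injective hy
  have h2 : k = g := (glReindex e).injective h1
  rwa [← h2]

/-- a transvection which is not a Kronecker product -/
theorem tv_not_mem_kron {n₁ n₂ : ℕ} (h1 : 2 ≤ n₁) (h2 : 2 ≤ n₂) :
    ∃ t : GL (Fin n₁ × Fin n₂) F, (t : Matrix (Fin n₁ × Fin n₂) (Fin n₁ × Fin n₂) F).det = 1 ∧
      t ∉ kroneckerSubgroup n₁ n₂ F := by
  set i0 : Fin n₁ := ⟨0, by omega⟩ with hi0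
  set i1 : Fin n₁ := ⟨1, by omega⟩ with hi1
  set j0 : Fin n₂ := ⟨0, by omega⟩ with hj0
  set j1 : Fin n₂ := ⟨1, by omega⟩ with hj1
  have hi : i0 ≠ i1 := by rw [hi0, hi1]; intro h; simpa using congrArg Fin.val h
  have hj : j0 ≠ j1 := by rw [hj0, hj1]; intro h; simpa using congrArg Fin.val h
  set a : Fin n₁ × Fin n₂ → F := Pi.single (i0, j0) 1 with ha
  set φ : Fin n₁ × Fin n₂ → F := Pi.single (i1, j1) 1 with hφ
  have hφa : φ ⬝ᵥ a = 0 := by
    rw [hφ, ha, single_dotProduct, one_mul, Pi.single_eq_of_ne]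
    intro h
    exact hi (congrArg Prod.fst h).symm
  refine ⟨tvGL a φ hφa, by rw [tvGL_val, tv_det a φ hφa], ?_⟩
  rintro ⟨A, B, hAB⟩
  rw [tvGL_val] at hAB
  have hent : ∀ p q : Fin n₁ × Fin n₂, tv a φ p q = (if p = q then 1 else 0) + a p * φ q := by
    intro p q
    simp [tv, Matrix.add_apply, Matrix.one_apply, vecMulVec_apply]
  have e1 := congrFun (congrFun hAB (i0, j0)) (i0, j0)
  have e2 := congrFun (congrFun hAB (i0, j0)) (i1, j1)
  have e3 := congrFun (congrFun hAB (i0, j0)) (i0, j1)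
  rw [hent, Matrix.kroneckerMap_apply] at e1 e2 e3
  have hne1 : ((i0, j0) : Fin n₁ × Fin n₂) ≠ (i1, j1) := fun h => hi (congrArg Prod.fst h)
  have hne2 : ((i0, j0) : Fin n₁ × Fin n₂) ≠ (i0, j1) := fun h => hj (congrArg Prod.snd h)
  have hne3 : ((i0, j1) : Fin n₁ × Fin n₂) ≠ (i1, j1) := fun h => hi (congrArg Prod.fst h)
  rw [if_pos rfl, ha, hφ, Pi.single_eq_same, Pi.single_eq_of_ne hne1, mul_zero, add_zero] at e1
  rw [if_neg hne1, ha, hφ, Pi.single_eq_same, Pi.single_eq_same, mul_one, zero_add] at e2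
  rw [if_neg hne2, ha, hφ, Pi.single_eq_same, Pi.single_eq_of_ne hne3, mul_zero, add_zero] at e3
  have hA : (A : Matrix (Fin n₁) (Fin n₁) F) i0 i0 ≠ 0 := by
    intro h0; rw [h0, zero_mul] at e1; exact one_ne_zero e1
  have hB : (B : Matrix (Fin n₂) (Fin n₂) F) j0 j1 ≠ 0 := by
    intro h0; rw [h0, mul_zero] at e2; exact one_ne_zero e2
  exact mul_ne_zero hA hB e3.symm

/-- (P3) = (G-b4): `SL_n` is not contained in a tensor product subgroup -/
theorem not_sl_le_tensorProductSubgroup {n n₁ n₂ : ℕ} (h1 : 2 ≤ n₁) (h2 : 2 ≤ n₂)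
    (e : Fin n ≃ Fin n₁ × Fin n₂) (P : GL (Fin n) F) :
    ¬ specialLinear (Fin n) F ≤ tensorProductSubgroup n₁ n₂ e P := by
  intro hle
  obtain ⟨t, hdet, ht⟩ := tv_not_mem_kron (F := F) h1 h2
  apply ht
  apply mem_map_conj_reindex e.symm P
  apply hle
  rw [mem_SL_iff, det_conj_reindex, hdet]

end Cfsg.H5.HubCor
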