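import Mathlib
import Cfsg.Prelude.Def_GeometricClasses
import Cfsg.Agent.Lib.Helper15.MonoA
import Cfsg.Agent.H5.HubCorP3

/-!
# Hub corollaries of S5630, properness (P4): `SL_n` is not inside a tensor wreath subgroup  (helper5)

Every element of the standard tensor wreath subgroup has entries `∏ i, gs i (x i) (y (σ i))` for a permutation `σ`
of the factors and matrices `gs i`; a transvection `1 + E_{x₀,y₀}` with `x₀ = (0,…,0)`, `y₀ = (1,…,1)` does not
(`m ≥ 2`, `t ≥ 2`).
-/

set_option autoImplicit false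
set_option linter.unusedSectionVars false
set_option linter.unusedVariables false

namespace Cfsg.H5.HubCor

open Cfsg Cfsg.Geo Matrix Module
open Cfsg.Agent.Lib.Helper15.MonoMax (tv tvGL tv_mulVec tvGL_mem_SL tv_mul_tv_neg tvGL_val mem_SL_iff tv_det)
open scoped MatrixGroups Kronecker

variable {F : Type*} [Field F]

/-- the matrix "pure tensor of the `gs i`, followed by the permutation `σ` of the factors" -/
def wm (m t : ℕ) (σ : Equiv.Perm (Fin t)) (gs : Fin t → Matrix (Fin m) (Fin m) F) :
    Matrix (Fin t → Fin m) (Fin t → Fin m) F :=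
  fun x y => ∏ i, gs i (x i) (y (σ i))

theorem wm_apply {m t : ℕ} (σ : Equiv.Perm (Fin t)) (gs : Fin t → Matrix (Fin m) (Fin m) F)
    (x y : Fin t → Fin m) : wm m t σ gs x y = ∏ i, gs i (x i) (y (σ i)) := rfl

theorem wm_one_eq {m t : ℕ} (σ : Equiv.Perm (Fin t)) (x y : Fin t → Fin m) :
    wm (F := F) m t σ (fun _ => 1) x y = if x = y ∘ σ then 1 else 0 := by
  rw [wm_apply]
  have h1 : ∀ i : Fin t, (1 : Matrix (Fin m) (Fin m) F) (x i) (y (σ i)) =
      if x i = y (σ i) then (1 : F) else 0 := fun i => Matrix.one_apply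
  simp_rw [h1]
  rw [Finset.prod_ite_zero]
  simp only [Finset.mem_univ, forall_true_left, Finset.prod_const_one]
  congr 1
  apply propext
  constructor
  · intro h; funext i; exact h i
  · intro h i; rw [h]; rfl

theorem wm_one {m t : ℕ} : wm (F := F) m t 1 (fun _ => 1) = 1 := by
  funext x y
  rw [wm_one_eq, Matrix.one_apply]
  rfl

theorem wm_mul {m t : ℕ} (σ τ : Equiv.Perm (Fin t)) (gs hs : Fin t → Matrix (Fin m) (Fin m) F) :
    wm m t σ gs * wm m t τ hs = wm m t (τ * σ) (fun i => gs i * hs (σ i)) := by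
  funext x y
  rw [Matrix.mul_apply, wm_apply]
  simp only [wm_apply, Matrix.mul_apply, Equiv.Perm.mul_apply]
  rw [Fintype.prod_sum]
  apply Fintype.sum_equiv (Equiv.arrowCongr σ.symm (Equiv.refl (Fin m)))
  intro z
  have hz : ∀ i, (Equiv.arrowCongr σ.symm (Equiv.refl (Fin m)) z) i = z (σ i) := fun i => by
    simp [Equiv.arrowCongr]
  simp only [hz]
  rw [Finset.prod_mul_distrib, Equiv.prod_comp σ (fun j => hs j (z j) (y (τ j)))]

/-- every element of the standard tensor wreath subgroup is a `wm` -/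
theorem exists_wm_of_mem {m t : ℕ} (g : GL (Fin t → Fin m) F) (hg : g ∈ tensorWreathStandard m t F) :
    ∃ (σ : Equiv.Perm (Fin t)) (gs : Fin t → Matrix (Fin m) (Fin m) F),
      (g : Matrix (Fin t → Fin m) (Fin t → Fin m) F) = wm m t σ gs := by
  unfold tensorWreathStandard at hg
  induction hg using Subgroup.closure_induction'' with
  | mem x hx =>
    rcases hx with ⟨gs, hgs⟩ | ⟨σ, hσ⟩
    · refine ⟨1, fun i => (gs i : Matrix (Fin m) (Fin m) F), ?_⟩
      funext a b
      rw [hgs, wm_apply]
      rfl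
    · refine ⟨σ⁻¹, fun _ => 1, ?_⟩
      funext a b
      rw [hσ, wm_one_eq]
      congr 1
      apply propext
      constructor
      · intro h; rw [h]; funext i; simp
      · intro h; rw [h]; funext i; simp
  | inv_mem x hx =>
    rcases hx with ⟨gs, hgs⟩ | ⟨σ, hσ⟩
    · refine ⟨1, fun i => ((gs i)⁻¹ : GL (Fin m) F).val, ?_⟩
      apply Units.inv_eq_of_mul_eq_one_right
      have hx : (x : Matrix (Fin t → Fin m) (Fin t → Fin m) F) =
          wm m t 1 (fun i => (gs i : Matrix (Fin m) (Fin m) F)) := by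
        funext a b
        rw [hgs, wm_apply]
        rfl
      rw [hx, wm_mul, mul_one]
      have h1 : (fun i : Fin t => (gs i : Matrix (Fin m) (Fin m) F) *
          (((gs ((1 : Equiv.Perm (Fin t)) i))⁻¹ : GL (Fin m) F).val)) = fun _ => 1 := by
        funext i
        rw [Equiv.Perm.one_apply, ← Units.val_mul, mul_inv_cancel, Units.val_one]
      rw [h1, wm_one]
    · refine ⟨σ, fun _ => 1, ?_⟩
      apply Units.inv_eq_of_mul_eq_one_right
      have hx : (x : Matrix (Fin t → Fin m) (Fin t → Fin m) F) = wm m t σ⁻¹ (fun _ => 1) := by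
        funext a b
        rw [hσ, wm_one_eq]
        congr 1
        apply propext
        constructor
        · intro h; rw [h]; funext i; simp
        · intro h; rw [h]; funext i; simp
      rw [hx, wm_mul, mul_inv_cancel]
      simp only [mul_one]
      exact wm_one
  | one => exact ⟨1, fun _ => 1, by rw [Units.val_one, wm_one]⟩
  | mul x y hx hy ihx ihy =>
    obtain ⟨σ, gs, h1⟩ := ihx
    obtain ⟨τ, hs, h2⟩ := ihy
    exact ⟨τ * σ, fun i => gs i * hs (σ i), by rw [Units.val_mul, h1, h2, wm_mul]⟩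

/-- a transvection which is not in the standard tensor wreath subgroup -/
theorem tv_not_mem_wreath {m t : ℕ} (hm : 2 ≤ m) (ht : 2 ≤ t) :
    ∃ g : GL (Fin t → Fin m) F, (g : Matrix (Fin t → Fin m) (Fin t → Fin m) F).det = 1 ∧
      g ∉ tensorWreathStandard m t F := by
  set c0 : Fin m := ⟨0, by omega⟩ with hc0
  set c1 : Fin m := ⟨1, by omega⟩ with hc1
  have hc : c0 ≠ c1 := by rw [hc0, hc1]; intro h; simpa using congrArg Fin.val h
  set j0 : Fin t := ⟨0, by omega⟩ with hj0
  set j1 : Fin t := ⟨1, by omega⟩ with hj1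
  have hj : j0 ≠ j1 := by rw [hj0, hj1]; intro h; simpa using congrArg Fin.val h
  set x0 : Fin t → Fin m := fun _ => c0 with hx0
  set y0 : Fin t → Fin m := fun _ => c1 with hy0
  have hxy : x0 ≠ y0 := fun h => hc (congrFun h j0)
  set a : (Fin t → Fin m) → F := Pi.single x0 1 with ha
  set φ : (Fin t → Fin m) → F := Pi.single y0 1 with hφ
  have hφa : φ ⬝ᵥ a = 0 := by
    rw [hφ, ha, single_dotProduct, one_mul, Pi.single_eq_of_ne hxy.symm]
  refine ⟨tvGL a φ hφa, by rw [tvGL_val, tv_det a φ hφa], ?_⟩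
  intro hmem
  obtain ⟨σ, gs, hg⟩ := exists_wm_of_mem _ hmem
  rw [tvGL_val] at hg
  have hent : ∀ p q : Fin t → Fin m, tv a φ p q = (if p = q then 1 else 0) + a p * φ q := by
    intro p q
    simp [tv, Matrix.add_apply, Matrix.one_apply, vecMulVec_apply]
  -- entries `(x0, x0)` and `(x0, y0)`
  have e1 := congrFun (congrFun hg x0) x0
  have e2 := congrFun (congrFun hg x0) y0
  rw [hent, wm_apply] at e1 e2
  rw [if_pos rfl, ha, hφ, Pi.single_eq_same, Pi.single_eq_of_ne hxy, mul_zero, add_zero] at e1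
  rw [if_neg hxy, ha, hφ, Pi.single_eq_same, Pi.single_eq_same, mul_one, zero_add] at e2
  have h00 : ∀ i, gs i c0 c0 ≠ 0 := by
    intro i
    have := (Finset.prod_ne_zero_iff.mp (by rw [← e1]; exact one_ne_zero)) i (Finset.mem_univ i)
    exact this
  have h01 : ∀ i, gs i c0 c1 ≠ 0 := by
    intro i
    have := (Finset.prod_ne_zero_iff.mp (by rw [← e2]; exact one_ne_zero)) i (Finset.mem_univ i)
    exact this
  -- the entry `(x0, y)` with `y = (1,0,…,0)`
  set y : Fin t → Fin m := Function.update x0 j0 c1 with hy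
  have hyx : x0 ≠ y := by
    intro h
    have := congrFun h j0
    rw [hy, Function.update_self] at this
    exact hc this
  have hyy : y ≠ y0 := by
    intro h
    have := congrFun h j1
    rw [hy, Function.update_of_ne hj.symm] at this
    exact hc this
  have e3 := congrFun (congrFun hg x0) y
  rw [hent, wm_apply] at e3
  rw [if_neg hyx, ha, hφ, Pi.single_eq_same, Pi.single_eq_of_ne hyy, mul_zero, add_zero] at e3
  have h3 : ∏ i, gs i (x0 i) (y (σ i)) ≠ 0 := by
    rw [Finset.prod_ne_zero_iff]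
    intro i _
    by_cases hi : σ i = j0
    · rw [hi, hy, Function.update_self]; exact h01 i
    · rw [hy, Function.update_of_ne hi]; exact h00 i
  exact h3 e3.symm

/-- (P4): `SL_n` is not contained in a tensor wreath subgroup -/
theorem not_sl_le_tensorWreathSubgroup {n m t : ℕ} (hm : 2 ≤ m) (ht : 2 ≤ t)
    (e : Fin n ≃ (Fin t → Fin m)) (P : GL (Fin n) F) :
    ¬ specialLinear (Fin n) F ≤ tensorWreathSubgroup m t e P := by
  intro hle
  obtain ⟨g, hdet, hg⟩ := tv_not_mem_wreath (F := F) hm ht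
  apply hg
  apply mem_map_conj_reindex e.symm P
  apply hle
  rw [mem_SL_iff, det_conj_reindex, hdet]

end Cfsg.H5.HubCor
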