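import Mathlib
import Cfsg.Prelude.Def_GeometricClasses
import Cfsg.Agent.Lib.Helper29.AschCorA
import Cfsg.Agent.Lib.Helper29.AschCorB
import Cfsg.Agent.Lib.Helper29.AschCorC
import Cfsg.Agent.Lib.Helper17.S5775PRSIM
import Cfsg.Agent.Lib.Helper17.HubCorArith89
import Cfsg.Agent.Lib.Helper24.HubCorS123
import Cfsg.Agent.Lib.Helper24.HubCorA2
import Cfsg.Agent.Lib.Helper9.HubCorA1
import Cfsg.Agent.Lib.Helper9.HubCorS4
import Cfsg.Agent.Lib.Helper9.HubCorS5
import Cfsg.Agent.H5.HubCorP2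
import Cfsg.Agent.H5.HubCorP3
import Cfsg.Agent.H5.HubCorP4

/-!
# Hub corollaries of S5630: the generic reduction, all eight classes kept  (helper5)

`reduceAll`: from the hub (the statement of S5630 at `n`, as a hypothesis) a maximal subgroup `H` of `SL_n(F)`, `n ≥ 3`,
is `M ∩ SL_n` for a member `M` of one of the eight classes, with the side conditions on `q` for the classes 2 (`m = 1, 2`)
and 4 (`n₁ = 2`), or `H` is in the residual class.  (Variant of helper9's `reduce`, which discards the classes 6 and 7.)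
-/

set_option autoImplicit false
set_option linter.unusedSectionVars false
set_option linter.unusedVariables false

namespace Cfsg.H5.HubCor

open Cfsg Cfsg.Geo
open Cfsg.Agent.Lib.Helper29.AschCor (hproper_of_max eq_of_le_member not_sl_le_subspaceStabilizer
  not_sl_le_decompositionStabilizer not_sl_le_subfieldSubgroup' not_sl_le_sympNormalizer)
open Cfsg.Agent.Lib.Helper17.S5775PRSIM (not_sl_le_similarityGroup_symplectic not_sl_le_similarityGroup_unitary
  not_sl_le_quadSimilarityGroup)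
open Cfsg.Agent.Lib.Helper24.HubCor (S1 S2 S3 dvd_of_isFieldSubalgebra)
open Cfsg.Agent.Lib.Helper9.HubCor (mul_eq_of_isMDecomposition S4 S5)
open scoped MatrixGroups Matrix Kronecker

variable {F : Type*} [Field F] [Fintype F]

/-- Generic reduction of a hub corollary: every class is kept. -/
theorem reduceAll {n : ℕ} (hn : 3 ≤ n)
    (hub : ∀ H : Subgroup (GL (Fin n) F), H ≤ specialLinear (Fin n) F →
      H ⊔ (scalars (Fin n) F ⊓ specialLinear (Fin n) F) ≠ specialLinear (Fin n) F →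
      (∃ M : Subgroup (GL (Fin n) F), InLinearClass n F M ∧ H ≤ M) ∨ InLinearResidualClass H)
    (H : Subgroup (GL (Fin n) F))
    (hH : IsMaximalIn (specialLinear (Fin n) F) H) :
    (∃ W : Submodule F (Fin n → F), W ≠ ⊥ ∧ W ≠ ⊤ ∧
        H = subspaceStabilizer W ⊓ specialLinear (Fin n) F) ∨
    (∃ (t m : ℕ) (D : Fin t → Submodule F (Fin n → F)), IsMDecomposition m D ∧
        (m = 1 → 5 ≤ Fintype.card F) ∧ (m = 2 → 3 ≤ Fintype.card F) ∧
        H = decompositionStabilizer D ⊓ specialLinear (Fin n) F) ∨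
    (∃ (r : ℕ) (K : Subalgebra F (Matrix (Fin n) (Fin n) F)), r.Prime ∧ IsFieldSubalgebra r K ∧
        H = subalgebraNormalizer K ⊓ specialLinear (Fin n) F) ∨
    (∃ (n₁ n₂ : ℕ) (e : Fin n ≃ Fin n₁ × Fin n₂) (P : GL (Fin n) F), 2 ≤ n₁ ∧ n₁ < n₂ ∧
        (n₁ = 2 → 3 ≤ Fintype.card F) ∧
        H = tensorProductSubgroup n₁ n₂ e P ⊓ specialLinear (Fin n) F) ∨
    (∃ (F₀ : Subfield F) (r : ℕ) (P : GL (Fin n) F), r.Prime ∧ Fintype.card F = Nat.card F₀ ^ r ∧
        H = subfieldSubgroup F₀ P ⊓ specialLinear (Fin n) F) ∨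
    (∃ (r : ℕ) (R : Subgroup (GL (Fin n) F)), IsLinearSymplecticTypeData r R ∧
        H = subgroupNormalizer R ⊓ specialLinear (Fin n) F) ∨
    (∃ (m t : ℕ) (e : Fin n ≃ (Fin t → Fin m)) (P : GL (Fin n) F), 3 ≤ m ∧ 2 ≤ t ∧
        H = tensorWreathSubgroup m t e P ⊓ specialLinear (Fin n) F) ∨
    (Odd (Fintype.card F) ∧ ∃ Q : (Fin n → F) → F, IsNondegenerateQuadraticForm Q ∧
        H = quadSimilarityGroup Q ⊓ specialLinear (Fin n) F) ∨
    (Even n ∧ ∃ f : (Fin n → F) → (Fin n → F) → F, IsSymplecticForm f ∧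
        H = similarityGroup f ⊓ specialLinear (Fin n) F) ∨
    (∃ (σ : F ≃+* F) (f : (Fin n → F) → (Fin n → F) → F), IsUnitaryForm σ f ∧
        H = similarityGroup f ⊓ specialLinear (Fin n) F) ∨
    InLinearResidualClass H := by
  classical
  have hn2 : 2 ≤ n := by omega
  have hn0 : 0 < n := by omega
  have hp := hproper_of_max hn H hH
  have hcard : 2 ≤ Fintype.card F := Fintype.one_lt_card
  -- conclusions by class member
  have cSub : ∀ W : Submodule F (Fin n → F), W ≠ ⊥ → W ≠ ⊤ → H ≤ subspaceStabilizer W →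
      ∃ W : Submodule F (Fin n → F), W ≠ ⊥ ∧ W ≠ ⊤ ∧
        H = subspaceStabilizer W ⊓ specialLinear (Fin n) F := fun W h0 h1 hle =>
    ⟨W, h0, h1, eq_of_le_member H _ hH hle (not_sl_le_subspaceStabilizer hn2 W h0 h1)⟩
  have cQuad : Odd (Fintype.card F) → ∀ Q : (Fin n → F) → F, IsNondegenerateQuadraticForm Q →
      H ≤ quadSimilarityGroup Q →
      (Odd (Fintype.card F) ∧ ∃ Q : (Fin n → F) → F, IsNondegenerateQuadraticForm Q ∧
        H = quadSimilarityGroup Q ⊓ specialLinear (Fin n) F) := fun hodd Q hQ hle =>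
    ⟨hodd, Q, hQ, eq_of_le_member H _ hH hle (not_sl_le_quadSimilarityGroup hn Q hQ)⟩
  have cSymp : Even n → ∀ f : (Fin n → F) → (Fin n → F) → F, IsSymplecticForm f →
      H ≤ similarityGroup f →
      (Even n ∧ ∃ f : (Fin n → F) → (Fin n → F) → F, IsSymplecticForm f ∧
        H = similarityGroup f ⊓ specialLinear (Fin n) F) := fun hev f hf hle =>
    ⟨hev, f, hf, eq_of_le_member H _ hH hle (not_sl_le_similarityGroup_symplectic hn f hf)⟩
  have cUnit : ∀ (σ : F ≃+* F) (f : (Fin n → F) → (Fin n → F) → F), IsUnitaryForm σ f →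
      H ≤ similarityGroup f →
      ∃ (σ : F ≃+* F) (f : (Fin n → F) → (Fin n → F) → F), IsUnitaryForm σ f ∧
        H = similarityGroup f ⊓ specialLinear (Fin n) F := fun σ f hf hle =>
    ⟨σ, f, hf, eq_of_le_member H _ hH hle (not_sl_le_similarityGroup_unitary hn σ f hf)⟩
  have cField : ∀ (r : ℕ) (K : Subalgebra F (Matrix (Fin n) (Fin n) F)), r.Prime →
      IsFieldSubalgebra r K → H ≤ subalgebraNormalizer K →
      ∃ (r : ℕ) (K : Subalgebra F (Matrix (Fin n) (Fin n) F)), r.Prime ∧ IsFieldSubalgebra r K ∧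
        H = subalgebraNormalizer K ⊓ specialLinear (Fin n) F := fun r K hr hK hle =>
    ⟨r, K, hr, hK, eq_of_le_member H _ hH hle (not_sl_le_subalgebraNormalizer hn hr K hK)⟩
  rcases hub H hH.1.le hp with ⟨M, hM, hHM⟩ | hres
  swap
  · exact Or.inr (Or.inr (Or.inr (Or.inr (Or.inr (Or.inr (Or.inr (Or.inr (Or.inr (Or.inr hres)))))))))
  rcases hM with ⟨W, h0, h1, rfl⟩ | ⟨W, U, h0, hWU, -, rfl⟩ | ⟨W, U, h0, hinf, hsup, hlt, rfl⟩ |
    ⟨t, m, D, hD, rfl⟩ | ⟨r, K, hr, hK, rfl⟩ | ⟨n₁, n₂, e, P, h1, h12, rfl⟩ |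
    ⟨F₀, r, P, hr, hc, rfl⟩ | ⟨r, R, hR, rfl⟩ | ⟨m, t, e, P, hm, ht, rfl⟩ |
    ⟨f, hf, hev, -, rfl⟩ | ⟨σ, f, hf, -, rfl⟩ | ⟨Q, hQ, hodd, -, rfl⟩
  · exact Or.inl (cSub W h0 h1 hHM)
  · refine Or.inl (cSub W h0 ?_ (hHM.trans inf_le_left))
    rintro rfl
    exact absurd hWU (not_lt_of_ge le_top)
  · refine Or.inl (cSub W h0 ?_ (hHM.trans inf_le_left))
    rintro rfl
    have hU : U = ⊥ := by rw [← hinf]; simp
    rw [hU] at hlt
    simp at hlt
  · -- decompositions
    have htm := mul_eq_of_isMDecomposition D hD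
    by_cases hm1 : m = 1
    · subst hm1
      obtain rfl : t = n := by omega
      by_cases h5 : 5 ≤ Fintype.card F
      · exact Or.inr (Or.inl ⟨t, 1, D, hD, fun _ => h5, fun h => absurd h (by norm_num),
          eq_of_le_member H _ hH hHM (not_sl_le_decompositionStabilizer D hD)⟩)
      · have hc : Fintype.card F = 2 ∨ Fintype.card F = 3 ∨ Fintype.card F = 4 := by omega
        rcases hc with hc | hc | hc
        · obtain ⟨W, h0, h1, hle⟩ := S1 hn2 hc D hD
          exact Or.inl (cSub W h0 h1 (hHM.trans hle))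
        · obtain ⟨Q, hQ, hle⟩ := S2 hc D hD
          exact Or.inr (Or.inr (Or.inr (Or.inr (Or.inr (Or.inr (Or.inr (Or.inl
            (cQuad (by rw [hc]; decide) Q hQ (hHM.trans hle)))))))))
        · obtain ⟨σ, f, hf, hle⟩ := S3 hc D hD
          exact Or.inr (Or.inr (Or.inr (Or.inr (Or.inr (Or.inr (Or.inr (Or.inr (Or.inr (Or.inl
            (cUnit σ f hf (hHM.trans hle)))))))))))
    · by_cases hm2 : m = 2
      · subst hm2
        by_cases h3 : 3 ≤ Fintype.card F
        · exact Or.inr (Or.inl ⟨t, 2, D, hD, fun h => absurd h (by norm_num), fun _ => h3,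
            eq_of_le_member H _ hH hHM (not_sl_le_decompositionStabilizer D hD)⟩)
        · have hc : Fintype.card F = 2 := by omega
          obtain ⟨f, hf, hle⟩ := S4 hc D hD
          exact Or.inr (Or.inr (Or.inr (Or.inr (Or.inr (Or.inr (Or.inr (Or.inr (Or.inl
            (cSymp ⟨t, by omega⟩ f hf (hHM.trans hle))))))))))
      · exact Or.inr (Or.inl ⟨t, m, D, hD, fun h => absurd h hm1, fun h => absurd h hm2,
          eq_of_le_member H _ hH hHM (not_sl_le_decompositionStabilizer D hD)⟩)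
  · exact Or.inr (Or.inr (Or.inl (cField r K hr hK hHM)))
  · -- tensor products
    by_cases h2 : n₁ = 2
    · subst h2
      by_cases h3 : 3 ≤ Fintype.card F
      · exact Or.inr (Or.inr (Or.inr (Or.inl ⟨2, n₂, e, P, h1, h12, fun _ => h3,
          eq_of_le_member H _ hH hHM
            (not_sl_le_tensorProductSubgroup h1 (by omega) e P)⟩)))
      · have hc : Fintype.card F = 2 := by omega
        obtain ⟨K, hK, hle⟩ := S5 hc (by omega) e P
        exact Or.inr (Or.inr (Or.inl (cField 2 K Nat.prime_two hK (hHM.trans hle))))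
    · exact Or.inr (Or.inr (Or.inr (Or.inl ⟨n₁, n₂, e, P, h1, h12, fun h => absurd h h2,
        eq_of_le_member H _ hH hHM
          (not_sl_le_tensorProductSubgroup h1 (by omega) e P)⟩)))
  · -- subfield
    exact Or.inr (Or.inr (Or.inr (Or.inr (Or.inl ⟨F₀, r, P, hr, hc,
      eq_of_le_member H _ hH hHM (not_sl_le_subfieldSubgroup' hn2 F₀ r hr hc P)⟩))))
  · -- class 6
    exact Or.inr (Or.inr (Or.inr (Or.inr (Or.inr (Or.inl ⟨r, R, hR,
      eq_of_le_member H _ hH hHM (not_sl_le_sympNormalizer hn r R hR)⟩)))))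
  · -- class 7
    exact Or.inr (Or.inr (Or.inr (Or.inr (Or.inr (Or.inr (Or.inl ⟨m, t, e, P, hm, ht,
      eq_of_le_member H _ hH hHM (not_sl_le_tensorWreathSubgroup (by omega) ht e P)⟩))))))
  · exact Or.inr (Or.inr (Or.inr (Or.inr (Or.inr (Or.inr (Or.inr (Or.inr (Or.inl
      (cSymp hev f hf hHM)))))))))
  · exact Or.inr (Or.inr (Or.inr (Or.inr (Or.inr (Or.inr (Or.inr (Or.inr (Or.inr (Or.inl
      (cUnit σ f hf hHM))))))))))
  · exact Or.inr (Or.inr (Or.inr (Or.inr (Or.inr (Or.inr (Or.inr (Or.inl (cQuad hodd Q hQ hHM))))))))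

end Cfsg.H5.HubCor
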