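import Mathlib
import Cfsg.Prelude.Def_GeometricClasses
import Cfsg.Agent.H5.HubCorRed

/-!
# Hub corollaries of S5630: the rows `n = 9` (S5829) and `n = 8` (S5817) in hypothesis form  (helper5)

`final9`, `final8`: the exact conclusions of the frozen statements S5829 and S5817, from the hub `hub` (the statement of S5630 at
`n = 9`, `8`) and `hC6` (an `IsLinearSymplecticTypeData r R` in degree `n` forces `n = r ^ k`; helper24's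
`exists_pow_of_symplecticTypeData`), both as hypotheses.
-/

set_option autoImplicit false
set_option linter.unusedSectionVars false
set_option linter.unusedVariables false

namespace Cfsg.H5.HubCor

open Cfsg Cfsg.Geo
open Cfsg.Agent.Lib.Helper24.HubCor (dvd_of_isFieldSubalgebra)
open Cfsg.Agent.Lib.Helper9.HubCor (mul_eq_of_isMDecomposition)
open Cfsg.Agent.Lib.Helper17.HubCorArith89
open scoped MatrixGroups Matrix Kronecker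

variable {F : Type*} [Field F] [Fintype F]

theorem final9
    (hC6 : ∀ (r : ℕ) (R : Subgroup (GL (Fin 9) F)), IsLinearSymplecticTypeData r R → ∃ k : ℕ, 9 = r ^ k)
    (hub : ∀ H : Subgroup (GL (Fin 9) F), H ≤ specialLinear (Fin 9) F →
      H ⊔ (scalars (Fin 9) F ⊓ specialLinear (Fin 9) F) ≠ specialLinear (Fin 9) F →
      (∃ M : Subgroup (GL (Fin 9) F), InLinearClass 9 F M ∧ H ≤ M) ∨ InLinearResidualClass H)
    (H : Subgroup (Matrix.GeneralLinearGroup (Fin 9) F)) (hH : Cfsg.Geo.IsMaximalIn (Cfsg.Geo.specialLinear (Fin 9) F) H) :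
    (∃ W : Submodule F (Fin 9 → F), W ≠ ⊥ ∧ W ≠ ⊤ ∧ H = Cfsg.Geo.subspaceStabilizer W ⊓ Cfsg.Geo.specialLinear (Fin 9) F) ∨
    (5 ≤ Fintype.card F ∧ ∃ D : Fin 9 → Submodule F (Fin 9 → F), Cfsg.Geo.IsMDecomposition 1 D ∧ H = Cfsg.Geo.decompositionStabilizer D ⊓ Cfsg.Geo.specialLinear (Fin 9) F) ∨
    (∃ D : Fin 3 → Submodule F (Fin 9 → F), Cfsg.Geo.IsMDecomposition 3 D ∧ H = Cfsg.Geo.decompositionStabilizer D ⊓ Cfsg.Geo.specialLinear (Fin 9) F) ∨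
    (∃ K : Subalgebra F (Matrix (Fin 9) (Fin 9) F), Cfsg.Geo.IsFieldSubalgebra 3 K ∧ H = Cfsg.Geo.subalgebraNormalizer K ⊓ Cfsg.Geo.specialLinear (Fin 9) F) ∨
    (∃ (F₀ : Subfield F) (r : ℕ) (P : Matrix.GeneralLinearGroup (Fin 9) F), r.Prime ∧ Fintype.card F = Nat.card F₀ ^ r ∧ H = Cfsg.Geo.subfieldSubgroup F₀ P ⊓ Cfsg.Geo.specialLinear (Fin 9) F) ∨
    ((∃ p : ℕ, p.Prime ∧ Fintype.card F = p ∧ (p % 3 = 1)) ∧ ∃ R : Subgroup (Matrix.GeneralLinearGroup (Fin 9) F), Cfsg.Geo.IsLinearSymplecticTypeData 3 R ∧ H = Cfsg.Geo.subgroupNormalizer R ⊓ Cfsg.Geo.specialLinear (Fin 9) F) ∨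
    (∃ (e : Fin 9 ≃ (Fin 2 → Fin 3)) (P : Matrix.GeneralLinearGroup (Fin 9) F), H = Cfsg.Geo.tensorWreathSubgroup 3 2 e P ⊓ Cfsg.Geo.specialLinear (Fin 9) F) ∨
    (Odd (Fintype.card F) ∧ ∃ Q : (Fin 9 → F) → F, Cfsg.Geo.IsNondegenerateQuadraticForm Q ∧ H = Cfsg.Geo.quadSimilarityGroup Q ⊓ Cfsg.Geo.specialLinear (Fin 9) F) ∨
    (∃ (σ : F ≃+* F) (f : (Fin 9 → F) → (Fin 9 → F) → F), Cfsg.Geo.IsUnitaryForm σ f ∧ H = Cfsg.Geo.similarityGroup f ⊓ Cfsg.Geo.specialLinear (Fin 9) F) ∨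
    Cfsg.Geo.InLinearResidualClass H := by
  rcases reduceAll (by norm_num) hub H hH with h | ⟨t, m, D, hD, hm1, hm2, hE⟩ |
      ⟨r, K, hr, hK, hE⟩ | ⟨n₁, n₂, e, P, h1, h12, h2, hE⟩ | h | ⟨r, R, hR, hE⟩ |
      ⟨m, t, e, P, hm, ht, hE⟩ | h | ⟨hev, -⟩ | h | h
  · exact Or.inl h
  · -- class 2
    have htm := mul_eq_of_isMDecomposition D hD
    rcases tm_eq_nine htm hD.two_le hD.pos with ⟨rfl, rfl⟩ | ⟨rfl, rfl⟩
    · exact Or.inr (Or.inl ⟨hm1 rfl, D, hD, hE⟩)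
    · exact Or.inr (Or.inr (Or.inl ⟨D, hD, hE⟩))
  · -- class 3
    have hd := dvd_of_isFieldSubalgebra K hK (by norm_num)
    obtain rfl := prime_dvd_nine hr hd
    exact Or.inr (Or.inr (Or.inr (Or.inl ⟨K, hK, hE⟩)))
  · -- class 4: impossible
    exact (mul_ne_nine h1 h12 (n_eq_mul e).symm).elim
  · exact Or.inr (Or.inr (Or.inr (Or.inr (Or.inl h))))
  · -- class 6
    obtain ⟨k, hk⟩ := hC6 r R hR
    obtain rfl := nine_eq_pow_prime hR.symplecticType.prime hk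
    exact Or.inr (Or.inr (Or.inr (Or.inr (Or.inr (Or.inl ⟨symp_nine R hR, R, hR, hE⟩)))))
  · -- class 7
    obtain ⟨rfl, rfl⟩ := pow_eq_nine hm ht (n_eq_pow e).symm
    exact Or.inr (Or.inr (Or.inr (Or.inr (Or.inr (Or.inr (Or.inl ⟨e, P, hE⟩))))))
  · exact Or.inr (Or.inr (Or.inr (Or.inr (Or.inr (Or.inr (Or.inr (Or.inl h)))))))
  · exact absurd hev (by decide)
  · exact Or.inr (Or.inr (Or.inr (Or.inr (Or.inr (Or.inr (Or.inr (Or.inr (Or.inl h))))))))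
  · exact Or.inr (Or.inr (Or.inr (Or.inr (Or.inr (Or.inr (Or.inr (Or.inr (Or.inr h))))))))

theorem final8
    (hC6 : ∀ (r : ℕ) (R : Subgroup (GL (Fin 8) F)), IsLinearSymplecticTypeData r R → ∃ k : ℕ, 8 = r ^ k)
    (hub : ∀ H : Subgroup (GL (Fin 8) F), H ≤ specialLinear (Fin 8) F →
      H ⊔ (scalars (Fin 8) F ⊓ specialLinear (Fin 8) F) ≠ specialLinear (Fin 8) F →
      (∃ M : Subgroup (GL (Fin 8) F), InLinearClass 8 F M ∧ H ≤ M) ∨ InLinearResidualClass H)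
    (H : Subgroup (Matrix.GeneralLinearGroup (Fin 8) F)) (hH : Cfsg.Geo.IsMaximalIn (Cfsg.Geo.specialLinear (Fin 8) F) H) :
    (∃ W : Submodule F (Fin 8 → F), W ≠ ⊥ ∧ W ≠ ⊤ ∧ H = Cfsg.Geo.subspaceStabilizer W ⊓ Cfsg.Geo.specialLinear (Fin 8) F) ∨
    (5 ≤ Fintype.card F ∧ ∃ D : Fin 8 → Submodule F (Fin 8 → F), Cfsg.Geo.IsMDecomposition 1 D ∧ H = Cfsg.Geo.decompositionStabilizer D ⊓ Cfsg.Geo.specialLinear (Fin 8) F) ∨
    (3 ≤ Fintype.card F ∧ ∃ D : Fin 4 → Submodule F (Fin 8 → F), Cfsg.Geo.IsMDecomposition 2 D ∧ H = Cfsg.Geo.decompositionStabilizer D ⊓ Cfsg.Geo.specialLinear (Fin 8) F) ∨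
    (∃ D : Fin 2 → Submodule F (Fin 8 → F), Cfsg.Geo.IsMDecomposition 4 D ∧ H = Cfsg.Geo.decompositionStabilizer D ⊓ Cfsg.Geo.specialLinear (Fin 8) F) ∨
    (∃ K : Subalgebra F (Matrix (Fin 8) (Fin 8) F), Cfsg.Geo.IsFieldSubalgebra 2 K ∧ H = Cfsg.Geo.subalgebraNormalizer K ⊓ Cfsg.Geo.specialLinear (Fin 8) F) ∨
    (3 ≤ Fintype.card F ∧ ∃ (e : Fin 8 ≃ Fin 2 × Fin 4) (P : Matrix.GeneralLinearGroup (Fin 8) F), H = Cfsg.Geo.tensorProductSubgroup 2 4 e P ⊓ Cfsg.Geo.specialLinear (Fin 8) F) ∨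
    (∃ (F₀ : Subfield F) (r : ℕ) (P : Matrix.GeneralLinearGroup (Fin 8) F), r.Prime ∧ Fintype.card F = Nat.card F₀ ^ r ∧ H = Cfsg.Geo.subfieldSubgroup F₀ P ⊓ Cfsg.Geo.specialLinear (Fin 8) F) ∨
    ((∃ p : ℕ, p.Prime ∧ Fintype.card F = p ∧ (p % 4 = 1)) ∧ ∃ R : Subgroup (Matrix.GeneralLinearGroup (Fin 8) F), Cfsg.Geo.IsLinearSymplecticTypeData 2 R ∧ H = Cfsg.Geo.subgroupNormalizer R ⊓ Cfsg.Geo.specialLinear (Fin 8) F) ∨
    (Odd (Fintype.card F) ∧ ∃ Q : (Fin 8 → F) → F, Cfsg.Geo.IsNondegenerateQuadraticForm Q ∧ H = Cfsg.Geo.quadSimilarityGroup Q ⊓ Cfsg.Geo.specialLinear (Fin 8) F) ∨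
    (∃ f : (Fin 8 → F) → (Fin 8 → F) → F, Cfsg.Geo.IsSymplecticForm f ∧ H = Cfsg.Geo.similarityGroup f ⊓ Cfsg.Geo.specialLinear (Fin 8) F) ∨
    (∃ (σ : F ≃+* F) (f : (Fin 8 → F) → (Fin 8 → F) → F), Cfsg.Geo.IsUnitaryForm σ f ∧ H = Cfsg.Geo.similarityGroup f ⊓ Cfsg.Geo.specialLinear (Fin 8) F) ∨
    Cfsg.Geo.InLinearResidualClass H := by
  rcases reduceAll (by norm_num) hub H hH with h | ⟨t, m, D, hD, hm1, hm2, hE⟩ |
      ⟨r, K, hr, hK, hE⟩ | ⟨n₁, n₂, e, P, h1, h12, h2, hE⟩ | h | ⟨r, R, hR, hE⟩ |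
      ⟨m, t, e, P, hm, ht, hE⟩ | h | ⟨-, h⟩ | h | h
  · exact Or.inl h
  · -- class 2
    have htm := mul_eq_of_isMDecomposition D hD
    rcases tm_eq_eight htm hD.two_le hD.pos with ⟨rfl, rfl⟩ | ⟨rfl, rfl⟩ | ⟨rfl, rfl⟩
    · exact Or.inr (Or.inl ⟨hm1 rfl, D, hD, hE⟩)
    · exact Or.inr (Or.inr (Or.inl ⟨hm2 rfl, D, hD, hE⟩))
    · exact Or.inr (Or.inr (Or.inr (Or.inl ⟨D, hD, hE⟩)))
  · -- class 3
    have hd := dvd_of_isFieldSubalgebra K hK (by norm_num)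
    obtain rfl := prime_dvd_eight hr hd
    exact Or.inr (Or.inr (Or.inr (Or.inr (Or.inl ⟨K, hK, hE⟩))))
  · -- class 4
    obtain ⟨rfl, rfl⟩ := mul_eq_eight h1 h12 (n_eq_mul e).symm
    exact Or.inr (Or.inr (Or.inr (Or.inr (Or.inr (Or.inl ⟨h2 rfl, e, P, hE⟩)))))
  · exact Or.inr (Or.inr (Or.inr (Or.inr (Or.inr (Or.inr (Or.inl h))))))
  · -- class 6
    obtain ⟨k, hk⟩ := hC6 r R hR
    obtain rfl := eight_eq_pow_prime hR.symplecticType.prime hk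
    exact Or.inr (Or.inr (Or.inr (Or.inr (Or.inr (Or.inr (Or.inr (Or.inl
      ⟨symp_eight R hR, R, hR, hE⟩)))))))
  · -- class 7: impossible
    exact (pow_ne_eight hm ht (n_eq_pow e).symm).elim
  · exact Or.inr (Or.inr (Or.inr (Or.inr (Or.inr (Or.inr (Or.inr (Or.inr (Or.inl h))))))))
  · exact Or.inr (Or.inr (Or.inr (Or.inr (Or.inr (Or.inr (Or.inr (Or.inr (Or.inr (Or.inl h)))))))))
  · exact Or.inr (Or.inr (Or.inr (Or.inr (Or.inr (Or.inr (Or.inr (Or.inr (Or.inr (Or.inr (Or.inl h))))))))))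
  · exact Or.inr (Or.inr (Or.inr (Or.inr (Or.inr (Or.inr (Or.inr (Or.inr (Or.inr (Or.inr (Or.inr h))))))))))

end Cfsg.H5.HubCor
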