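import Mathlib
import Cfsg.Prelude.Def_GeometricClasses
import Cfsg.Agent.Lib.Helper15.MonoA

/-!
# Hub corollaries of S5630, properness (P2): `SL_n` does not normalise a field subalgebra  (helper5)

`not_sl_le_subalgebraNormalizer` (shape (G-b3) of notes/HubCorSkel_helper9.lean.txt): for `n ≥ 3` and a field subalgebra `K`
of `M_n(F)` of prime degree `r`, `SL_n(F)` is not contained in the normaliser of `K`.

Proof: for a transvection `t` and `x ∈ K` the element `t x t⁻¹ - x ∈ K` kills a non-zero vector (two linear conditions in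
dimension `≥ 3`), so it is not invertible, so it is `0`; hence every `x ∈ K` commutes with all transvections and is scalar.
-/

set_option autoImplicit false
set_option linter.unusedSectionVars false
set_option linter.unusedVariables false

namespace Cfsg.H5.HubCor

open Cfsg Cfsg.Geo Matrix Module
open Cfsg.Agent.Lib.Helper15.MonoMax (tv tvGL tv_mulVec tvGL_mem_SL tv_mul_tv_neg tvGL_val)
open scoped MatrixGroups

variable {F : Type*} [Field F]

/-- a non-zero vector killed by two linear functionals, in dimension at least three -/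
theorem exists_ne_zero_two_dot {n : ℕ} (hn : 3 ≤ n) (φ ψ : Fin n → F) :
    ∃ v : Fin n → F, v ≠ 0 ∧ φ ⬝ᵥ v = 0 ∧ ψ ⬝ᵥ v = 0 := by
  set L : (Fin n → F) →ₗ[F] (Fin 2 → F) := Matrix.mulVecLin (Matrix.of ![φ, ψ]) with hL
  have hlt : finrank F (Fin 2 → F) < finrank F (Fin n → F) := by
    rw [Module.finrank_fin_fun, Module.finrank_fin_fun]; omega
  have hker := LinearMap.ker_ne_bot_of_finrank_lt (f := L) hlt
  obtain ⟨v, hv, hv0⟩ := (Submodule.ne_bot_iff _).mp hker
  refine ⟨v, hv0, ?_, ?_⟩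
  · have := congrFun (LinearMap.mem_ker.mp hv) 0
    simpa [hL, Matrix.mulVec] using this
  · have := congrFun (LinearMap.mem_ker.mp hv) 1
    simpa [hL, Matrix.mulVec] using this

theorem tv_neg_mul_tv {n : ℕ} (a φ : Fin n → F) (h : φ ⬝ᵥ a = 0) : tv a (-φ) * tv a φ = 1 := by
  have := tv_mul_tv_neg a (-φ) (by rw [neg_dotProduct, h, neg_zero])
  rwa [neg_neg] at this

/-- every element of a field subalgebra normalised by `SL_n`, `n ≥ 3`, commutes with the transvections -/
theorem commute_tv_of_normalizes {n r : ℕ} (hn : 3 ≤ n)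
    (K : Subalgebra F (Matrix (Fin n) (Fin n) F)) (hK : IsFieldSubalgebra r K)
    (hle : specialLinear (Fin n) F ≤ subalgebraNormalizer K) (x : Matrix (Fin n) (Fin n) F) (hx : x ∈ K)
    (a φ : Fin n → F) (h : φ ⬝ᵥ a = 0) : tv a φ * x = x * tv a φ := by
  have ht := hle (tvGL_mem_SL a φ h)
  have h1 : tv a φ * x * tv a (-φ) ∈ K := (ht x).mp hx
  set y : Matrix (Fin n) (Fin n) F := tv a φ * x * tv a (-φ) - x with hy
  have hyK : y ∈ K := K.sub_mem h1 hx
  obtain ⟨v, hv0, hv1, hv2⟩ := exists_ne_zero_two_dot hn φ (φ ᵥ* x)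
  have hv2' : φ ⬝ᵥ (x *ᵥ v) = 0 := by rw [Matrix.dotProduct_mulVec]; exact hv2
  have e1 : tv a (-φ) *ᵥ v = v := by
    rw [tv_mulVec, neg_dotProduct, hv1, neg_zero, zero_smul, add_zero]
  have e2 : tv a φ *ᵥ (x *ᵥ v) = x *ᵥ v := by
    rw [tv_mulVec, hv2', zero_smul, add_zero]
  have hyv : y *ᵥ v = 0 := by
    rw [hy, Matrix.sub_mulVec, ← Matrix.mulVec_mulVec, ← Matrix.mulVec_mulVec, e1, e2, sub_self]
  have hy0 : y = 0 := by
    by_contra hne
    obtain ⟨y', _, hyy'⟩ := hK.inv y hyK hne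
    have h2 : y' * y = 1 := mul_eq_one_comm.mp hyy'
    apply hv0
    calc v = (y' * y) *ᵥ v := by rw [h2, Matrix.one_mulVec]
      _ = y' *ᵥ (y *ᵥ v) := by rw [Matrix.mulVec_mulVec]
      _ = 0 := by rw [hyv, Matrix.mulVec_zero]
  have h3 : tv a φ * x * tv a (-φ) = x := sub_eq_zero.mp hy0
  calc tv a φ * x = tv a φ * x * (tv a (-φ) * tv a φ) := by rw [tv_neg_mul_tv a φ h, mul_one]
    _ = (tv a φ * x * tv a (-φ)) * tv a φ := by simp only [mul_assoc]
    _ = x * tv a φ := by rw [h3]

/-- (P2) = (G-b3): `SL_n`, `n ≥ 3`, does not normalise a field subalgebra of prime degree -/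
theorem not_sl_le_subalgebraNormalizer {n r : ℕ} (hn : 3 ≤ n) (hr : r.Prime)
    (K : Subalgebra F (Matrix (Fin n) (Fin n) F)) (hK : IsFieldSubalgebra r K) :
    ¬ specialLinear (Fin n) F ≤ subalgebraNormalizer K := by
  intro hle
  have : Nonempty (Fin n) := ⟨⟨0, by omega⟩⟩
  have hscal : ∀ x ∈ K, x ∈ Set.range (Matrix.scalar (Fin n) : F →+* Matrix (Fin n) (Fin n) F) := by
    intro x hx
    rw [Matrix.mem_range_scalar_iff_commute_single]
    intro i j hij
    have h0 : (Pi.single j (1 : F) : Fin n → F) ⬝ᵥ Pi.single i 1 = 0 := by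
      rw [single_dotProduct, one_mul, Pi.single_eq_of_ne (Ne.symm hij)]
    have h1 := commute_tv_of_normalizes hn K hK hle x hx (Pi.single i 1) (Pi.single j 1) h0
    have h2 : tv (Pi.single i (1 : F)) (Pi.single j (1 : F)) = 1 + Matrix.single i j (1 : F) := by
      unfold tv
      rw [Matrix.single_eq_single_vecMulVec_single]
    rw [h2, add_mul, mul_add, one_mul, mul_one] at h1
    exact add_left_cancel h1
  have hbot : K = ⊥ := by
    rw [eq_bot_iff]
    intro x hx
    obtain ⟨c, rfl⟩ := hscal x hx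
    exact Subalgebra.algebraMap_mem ⊥ c
  have hfin := hK.finrank_eq
  rw [hbot, Subalgebra.finrank_bot] at hfin
  exact hr.one_lt.ne hfin

end Cfsg.H5.HubCor
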