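import Mathlib
import Cfsg.Agent.Lib.Helper12.NF2

/-!
# Huppert's theorem (S3360): basic framework

`H ≤ GL(V)`, `V` finite over `𝔽_p`, `H` transitive on the nonzero vectors.
Lemma C: for an abelian normal subgroup `A` every nonzero element of `𝔽_p[A]` is injective.
-/

set_option autoImplicit false

namespace Cfsg.H5.Hup

open Cfsg.Agent.Lib.Helper12.NearIrr Cfsg.Agent.Lib.Helper12.NF

variable {p : ℕ} [Fact p.Prime] {V : Type*} [AddCommGroup V] [Module (ZMod p) V]
variable (H : Subgroup (V ≃ₗ[ZMod p] V))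

/-- transitivity on nonzero vectors -/
def Trans : Prop := ∀ v w : V, v ≠ 0 → w ≠ 0 → ∃ h : H, (h : V ≃ₗ[ZMod p] V) v = w

/-- irreducibility of a subgroup -/
def Irr (A : Subgroup H) : Prop :=
  ∀ W : Submodule (ZMod p) V,
    (∀ n ∈ A, ∀ v ∈ W, ((n : H) : V ≃ₗ[ZMod p] V) v ∈ W) → W = ⊥ ∨ W = ⊤

/-- Case I: there is an irreducible abelian normal subgroup -/
def CaseI : Prop :=
  ∃ A : Subgroup H, A.Normal ∧ (∀ a ∈ A, ∀ b ∈ A, a * b = b * a) ∧ Irr H A

variable {H}

theorem adj_comm {A : Subgroup H} (hAc : ∀ a ∈ A, ∀ b ∈ A, a * b = b * a)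
    {r s : Module.End (ZMod p) V} (hr : r ∈ adj H A) (hs : s ∈ adj H A) : r * s = s * r := by
  have h1 : adj H A ≤ Subalgebra.centralizer (ZMod p) {r} := by
    unfold adj
    apply Algebra.adjoin_le
    rintro _ ⟨n, hn, rfl⟩
    rw [SetLike.mem_coe, Subalgebra.mem_centralizer_iff]
    intro x hx
    rw [Set.mem_singleton_iff] at hx
    subst hx
    exact (adj_commute H A hAc hr n hn).symm
  have h2 := h1 hs
  rw [Subalgebra.mem_centralizer_iff] at h2
  exact h2 r rfl

/-- **Lemma C** -/
theorem adj_injective [Finite V] (htr : Trans H) {A : Subgroup H} (hAn : A.Normal)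
    (hAc : ∀ a ∈ A, ∀ b ∈ A, a * b = b * a)
    {r : Module.End (ZMod p) V} (hr : r ∈ adj H A) (hr0 : r ≠ 0) : Function.Injective r := by
  have := hAn
  rw [injective_iff_map_eq_zero]
  intro v hv
  by_contra hv0
  obtain ⟨u, hu⟩ : ∃ u : V, r u ≠ 0 := by
    by_contra hall
    push Not at hall
    exact hr0 (LinearMap.ext hall)
  have hu0 : u ≠ 0 := by
    intro h
    rw [h, map_zero] at hu
    exact hu rfl
  have hw : v + u ≠ 0 := by
    intro h
    have h1 : r (v + u) = 0 := by rw [h, map_zero]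
    rw [map_add, hv, zero_add] at h1
    exact hu h1
  have hrw : r (v + u) = r u := by rw [map_add, hv, zero_add]
  have h2 : r u ∈ cyc H A u := apply_mem_cyc H A hr (self_mem_cyc H A u)
  have h3 : r u ∈ cyc H A (v + u) := by
    rw [← hrw]; exact apply_mem_cyc H A hr (self_mem_cyc H A (v + u))
  have e1 : cyc H A (r u) = cyc H A u := cyc_eq_of_mem H A htr hu0 hu h2
  have e2 : cyc H A (r u) = cyc H A (v + u) := cyc_eq_of_mem H A htr hw hu h3
  have h4 : v + u ∈ cyc H A u := by
    rw [← e1, e2]; exact self_mem_cyc H A (v + u)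
  have h5 : v ∈ cyc H A u := by
    have := (cyc H A u).sub_mem h4 (self_mem_cyc H A u)
    simpa using this
  have e3 : cyc H A v = cyc H A u := cyc_eq_of_mem H A htr hu0 hv0 h5
  have h6 : u ∈ cyc H A v := by rw [e3]; exact self_mem_cyc H A u
  obtain ⟨t, ht, rfl⟩ := h6
  apply hu
  have h7 : r (t v) = (r * t) v := rfl
  rw [h7, adj_comm hAc hr ht, Module.End.mul_apply, hv, map_zero]

/-- abelian normal subgroups are semiregular on nonzero vectors -/
theorem fpf_of_mem [Finite V] (htr : Trans H) {A : Subgroup H} (hAn : A.Normal)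
    (hAc : ∀ a ∈ A, ∀ b ∈ A, a * b = b * a) {a : H} (ha : a ∈ A) (ha1 : a ≠ 1)
    {v : V} (hv : v ≠ 0) : (a : V ≃ₗ[ZMod p] V) v ≠ v := by
  intro h
  have hmem : toE H a - 1 ∈ adj H A := sub_mem (toE_mem_adj H A ha) (one_mem _)
  have hne : toE H a - 1 ≠ 0 := by
    intro h0
    apply ha1
    apply toE_injective H
    rw [toE_one]
    exact sub_eq_zero.1 h0
  have hinj := adj_injective htr hAn hAc hmem hne
  apply hv
  apply hinj
  rw [map_zero, LinearMap.sub_apply, Module.End.one_apply, toE_apply, h, sub_self]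

theorem noZeroDivisors_adj [Finite V] (htr : Trans H) {A : Subgroup H} (hAn : A.Normal)
    (hAc : ∀ a ∈ A, ∀ b ∈ A, a * b = b * a) : NoZeroDivisors (adj H A) := by
  constructor
  intro a b hab
  by_contra hne
  push Not at hne
  obtain ⟨ha, hb⟩ := hne
  have hb' : (b : Module.End (ZMod p) V) ≠ 0 := fun h => hb (Subtype.ext h)
  have ha' : (a : Module.End (ZMod p) V) ≠ 0 := fun h => ha (Subtype.ext h)
  obtain ⟨x, hx⟩ : ∃ x : V, (b : Module.End (ZMod p) V) x ≠ 0 := by
    by_contra hall
    push Not at hall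
    exact hb' (LinearMap.ext hall)
  have h1 : (a : Module.End (ZMod p) V) ((b : Module.End (ZMod p) V) x) = 0 := by
    have := congrArg (fun f : adj H A => (f : Module.End (ZMod p) V) x) hab
    exact this
  rw [← map_zero (a : Module.End (ZMod p) V)] at h1
  exact hx (adj_injective htr hAn hAc a.2 ha' h1)

theorem isField_adj [Finite V] [Nontrivial V] (htr : Trans H) {A : Subgroup H} (hAn : A.Normal)
    (hAc : ∀ a ∈ A, ∀ b ∈ A, a * b = b * a) : IsField (adj H A) := by
  have := finite_end (p := p) (V := V)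
  obtain ⟨v₀, hv₀⟩ := exists_ne (0 : V)
  have hnzd := noZeroDivisors_adj htr hAn hAc
  have hnt : Nontrivial (adj H A) := by
    refine ⟨⟨0, 1, ?_⟩⟩
    intro h
    have := congrArg (fun f : adj H A => (f : Module.End (ZMod p) V) v₀) h
    exact hv₀ this.symm
  have hdom : IsDomain (adj H A) := NoZeroDivisors.to_isDomain _
  exact Finite.isDomain_to_isField (adj H A)

/-- evaluation at a vector, as a linear map on `𝔽_p[A]` -/
def evAt (A : Subgroup H) (v : V) : adj H A →ₗ[ZMod p] V where
  toFun r := (r : Module.End (ZMod p) V) v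
  map_add' _ _ := rfl
  map_smul' _ _ := rfl

theorem evAt_apply (A : Subgroup H) (v : V) (r : adj H A) :
    evAt A v r = (r : Module.End (ZMod p) V) v := rfl

theorem evAt_injective [Finite V] (htr : Trans H) {A : Subgroup H} (hAn : A.Normal)
    (hAc : ∀ a ∈ A, ∀ b ∈ A, a * b = b * a) {v : V} (hv : v ≠ 0) :
    Function.Injective (evAt A v) := by
  rw [injective_iff_map_eq_zero]
  intro r hr
  by_contra hr0
  rw [evAt_apply] at hr
  rw [← map_zero (r : Module.End (ZMod p) V)] at hr
  exact hv (adj_injective htr hAn hAc r.2 (fun h => hr0 (Subtype.ext h)) hr)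

theorem finrank_adj_le [Finite V] [Nontrivial V] (htr : Trans H) {A : Subgroup H} (hAn : A.Normal)
    (hAc : ∀ a ∈ A, ∀ b ∈ A, a * b = b * a) :
    Module.finrank (ZMod p) (adj H A) ≤ Module.finrank (ZMod p) V := by
  obtain ⟨v₀, hv₀⟩ := exists_ne (0 : V)
  exact LinearMap.finrank_le_finrank_of_injective (evAt_injective htr hAn hAc hv₀)

/-- if `𝔽_p[A]` is as large as `V` then `A` is irreducible -/
theorem irr_of_finrank_adj_eq [Finite V] [Nontrivial V] (htr : Trans H) {A : Subgroup H}
    (hAn : A.Normal) (hAc : ∀ a ∈ A, ∀ b ∈ A, a * b = b * a)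
    (hfr : Module.finrank (ZMod p) V ≤ Module.finrank (ZMod p) (adj H A)) : Irr H A := by
  intro W hW
  by_cases hW0 : W = ⊥
  · exact Or.inl hW0
  right
  obtain ⟨w, hwW, hw⟩ := (Submodule.ne_bot_iff W).1 hW0
  have hinj := evAt_injective htr hAn hAc hw
  have hle : LinearMap.range (evAt A w) ≤ W := by
    rintro _ ⟨r, rfl⟩
    rw [evAt_apply]
    have : (r : Module.End (ZMod p) V) w ∈ cyc H A w := ⟨r, r.2, rfl⟩
    exact cyc_le_of_invariant H A hW hwW this
  have h1 : Module.finrank (ZMod p) (LinearMap.range (evAt A w)) =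
      Module.finrank (ZMod p) (adj H A) := LinearMap.finrank_range_of_inj hinj
  have h2 : LinearMap.range (evAt A w) = ⊤ := by
    apply Submodule.eq_top_of_finrank_eq
    rw [h1]
    exact le_antisymm (finrank_adj_le htr hAn hAc) hfr
  rw [h2] at hle
  exact top_le_iff.1 hle

end Cfsg.H5.Hup
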