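import Mathlib
import Cfsg.Agent.H5.HupBasic

/-!
# Huppert's theorem (S3360): consequences of Lemma C
-/

set_option autoImplicit false

namespace Cfsg.H5.Hup

open Cfsg.Agent.Lib.Helper12.NearIrr Cfsg.Agent.Lib.Helper12.NF

variable {p : ℕ} [Fact p.Prime] {V : Type*} [AddCommGroup V] [Module (ZMod p) V]
variable {H : Subgroup (V ≃ₗ[ZMod p] V)}

/-- a free action of a finite group on a finite set: the order divides the size -/
theorem card_dvd_of_free_action {B α : Type*} [Group B] [MulAction B α] [Finite B] [Finite α]
    (h : ∀ (b : B) (a : α), b • a = a → b = 1) : Nat.card B ∣ Nat.card α := by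
  classical
  have e := MulAction.selfEquivSigmaOrbitsQuotientStabilizer B α
  have : Fintype (Quotient (MulAction.orbitRel B α)) := Fintype.ofFinite _
  rw [Nat.card_congr e, Nat.card_sigma]
  apply Finset.dvd_sum
  intro ω _
  have hst : MulAction.stabilizer B (Quotient.out ω) = ⊥ := by
    rw [Subgroup.eq_bot_iff_forall]
    intro b hb
    exact h b _ (MulAction.mem_stabilizer_iff.mp hb)
  rw [hst]
  exact (Nat.card_congr (QuotientGroup.quotientBot (G := B)).toEquiv).symm ▸ dvd_rfl

theorem finite_H [Finite V] : Finite H := by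
  apply Finite.of_injective (fun h : H => ((h : V ≃ₗ[ZMod p] V) : V → V))
  intro h h' hh
  apply Subtype.ext
  apply DFunLike.coe_injective
  exact hh

/-- the order of an abelian normal subgroup divides `|V| - 1` -/
theorem card_dvd_of_abelian_normal [Finite V] (htr : Trans H) {A : Subgroup H} (hAn : A.Normal)
    (hAc : ∀ a ∈ A, ∀ b ∈ A, a * b = b * a) : Nat.card A ∣ Nat.card V - 1 := by
  classical
  have := finite_H (H := H)
  let X := {v : V // v ≠ 0}
  let act : MulAction A X :=
    { smul := fun a x => ⟨((a : H) : V ≃ₗ[ZMod p] V) x.1, by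
        intro h
        apply x.2
        have := congrArg (((a : H) : V ≃ₗ[ZMod p] V)).symm h
        simpa using this⟩
      one_smul := fun x => Subtype.ext rfl
      mul_smul := fun a b x => Subtype.ext rfl }
  have hfree : ∀ (a : A) (x : X), a • x = x → a = 1 := by
    intro a x hax
    by_contra ha
    have h1 : ((a : H) : V ≃ₗ[ZMod p] V) x.1 = x.1 := congrArg Subtype.val hax
    have ha1 : (a : H) ≠ 1 := fun h => ha (Subtype.ext h)
    exact fpf_of_mem htr hAn hAc a.2 ha1 x.2 h1
  have h2 := card_dvd_of_free_action hfree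
  have h3 : Nat.card X = Nat.card V - 1 := by
    have : Fintype V := Fintype.ofFinite V
    rw [Nat.card_eq_fintype_card, Nat.card_eq_fintype_card]
    show Fintype.card {v : V // v ≠ 0} = _
    rw [Fintype.card_subtype_compl, Fintype.card_subtype_eq]
  rwa [h3] at h2

theorem card_V [Finite V] : Nat.card V = p ^ Module.finrank (ZMod p) V := by
  have : Fintype V := Fintype.ofFinite V
  rw [Nat.card_eq_fintype_card, Module.card_eq_pow_finrank (K := ZMod p) (V := V), ZMod.card]

theorem finrank_pos' [Finite V] [Nontrivial V] : 0 < Module.finrank (ZMod p) V :=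
  Module.finrank_pos

/-- abelian normal subgroups are cyclic -/
theorem isCyclic_of_abelian_normal [Finite V] [Nontrivial V] (htr : Trans H) {A : Subgroup H}
    (hAn : A.Normal) (hAc : ∀ a ∈ A, ∀ b ∈ A, a * b = b * a) : IsCyclic A := by
  have := finite_H (H := H)
  have := finite_end (p := p) (V := V)
  obtain ⟨F, instF, instFin, ⟨ψ⟩⟩ := exists_type_zero_field (isField_adj htr hAn hAc)
  let f : A →* F :=
    { toFun := fun a => ψ ⟨toE H (a : H), toE_mem_adj H A a.2⟩
      map_one' := by
        rw [← map_one ψ]
        rfl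
      map_mul' := fun a b => by
        rw [← map_mul ψ]
        congr 1 }
  apply isCyclic_of_injective_ringHom f
  intro a b hab
  have h1 := ψ.injective hab
  have h2 : toE H (a : H) = toE H (b : H) := congrArg Subtype.val h1
  exact Subtype.ext (toE_injective H h2)

/-- a normal `p`-subgroup is trivial -/
theorem eq_bot_of_normal_pgroup [Finite V] [Nontrivial V] (htr : Trans H) {P : Subgroup H}
    (hPn : P.Normal) (hP : IsPGroup p P) : P = ⊥ := by
  have := finite_H (H := H)
  by_contra hne
  have := hPn
  have hnt : Nontrivial P := (Subgroup.nontrivial_iff_ne_bot P).2 hne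
  have hZn : ((Subgroup.center P).map P.subtype).Normal := inferInstance
  have hZc : ∀ a ∈ (Subgroup.center P).map P.subtype, ∀ b ∈ (Subgroup.center P).map P.subtype,
      a * b = b * a := by
    rintro _ ⟨a, ha, rfl⟩ _ ⟨b, hb, rfl⟩
    rw [← map_mul, ← map_mul]
    congr 1
    exact (Subgroup.mem_center_iff.1 ha b).symm
  have hdvd := card_dvd_of_abelian_normal htr hZn hZc
  have hcard : Nat.card ((Subgroup.center P).map P.subtype) = Nat.card (Subgroup.center P) :=
    Subgroup.card_map_of_injective P.subtype_injective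
  rw [hcard] at hdvd
  have hZnt : Nontrivial (Subgroup.center P) := hP.center_nontrivial
  obtain ⟨k, hk⟩ := (hP.to_subgroup (Subgroup.center P)).exists_card_eq
  have hk0 : k ≠ 0 := by
    rintro rfl
    rw [pow_zero] at hk
    have := (Nat.card_eq_one_iff_unique.1 hk).1
    exact not_subsingleton _ this
  have hp : p.Prime := Fact.out
  have h1 : p ∣ Nat.card V - 1 := (dvd_pow_self p hk0).trans (hk ▸ hdvd)
  have h2 : p ∣ Nat.card V := by
    rw [card_V (p := p)]
    exact dvd_pow_self p (finrank_pos' (p := p)).ne'
  have h3 : 0 < Nat.card V := Nat.card_pos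
  have h4 : p ∣ 1 := by
    have := (Nat.dvd_sub h2 h1)
    rwa [Nat.sub_sub_self h3] at this
  exact hp.one_lt.ne' (Nat.dvd_one.1 h4)

end Cfsg.H5.Hup
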