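import Mathlib
import Cfsg.Agent.Lib.Helper2.S3360FO7

/-!
# Huppert's theorem (S3360): FO-7b with two more exported facts
(the proof is helper2's `Cfsg.Agent.Lib.Helper2.S3360FO7.FO7b`, restated with the two internal
facts `[C_N(g), M] = 1` and `N = C_N(g) M` exported).
-/

set_option autoImplicit false

namespace Cfsg.H5.Hup

open Cfsg.Agent.Lib.Helper2.S3360FO7

theorem FO7bx {G : Type*} [Group G] [Finite G] (r : ℕ) (hr : r.Prime)
    (N : Subgroup G) (hN : IsPGroup r N) (g : G) (hgN : ∀ x ∈ N, g * x * g⁻¹ ∈ N)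
    (hz : (orderOf g).Prime) (hzr : orderOf g ≠ r)
    (hcl : ∀ x ∈ N, ∀ y ∈ N, ∀ w ∈ N, (x * y * x⁻¹ * y⁻¹) * w = w * (x * y * x⁻¹ * y⁻¹))
    (hgZ : ∀ c ∈ N, (∀ w ∈ N, c * w = w * c) → g * c = c * g)
    (hg : ∃ x ∈ N, g * x ≠ x * g) :
    ∃ M : Subgroup G, M ≤ N ∧ (∀ x ∈ M, g * x * g⁻¹ ∈ M) ∧
      (∀ c ∈ M, (∀ w ∈ M, c * w = w * c) → ∀ w ∈ N, c * w = w * c) ∧
      (∃ x ∈ M, ∃ y ∈ M, x * y ≠ y * x) ∧
      orderOf g ∣ (Subgroup.center M).index - 1 ∧
      (∀ h ∈ N, g * h = h * g → ∀ m ∈ M, h * m = m * h) ∧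
      (∀ x ∈ N, ∃ y ∈ N, g * y = y * g ∧ x⁻¹ * y ∈ M) := by
  classical
  set z := orderOf g with hzdef
  haveI : Fact z.Prime := ⟨hz⟩
  haveI : Fact r.Prime := ⟨hr⟩
  have hgz : g ^ z = 1 := pow_orderOf_eq_one g
  -- r-elements killed by z are trivial
  have hrz : ∀ c ∈ N, c ^ z = 1 → c = 1 := by
    intro c hc hcz
    obtain ⟨k, hk⟩ := hN ⟨c, hc⟩
    have hk' : c ^ (r ^ k) = 1 := by simpa using congrArg Subtype.val hk
    have hcop : Nat.Coprime (r ^ k) z := by
      apply Nat.Coprime.pow_left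
      rw [Nat.coprime_primes hr hz]; exact fun h => hzr h.symm
    have := pow_gcd_eq_one.mpr ⟨hk', hcz⟩
    rwa [hcop, pow_one] at this
  set M : Subgroup G := Subgroup.closure {m | ∃ x ∈ N, m = g * x * g⁻¹ * x⁻¹} with hM
  have hgen : ∀ x ∈ N, g * x * g⁻¹ * x⁻¹ ∈ M := fun x hx => Subgroup.subset_closure ⟨x, hx, rfl⟩
  have hMN : M ≤ N := by
    rw [hM, Subgroup.closure_le]
    rintro m ⟨x, hx, rfl⟩
    exact N.mul_mem (hgN x hx) (N.inv_mem hx)
  have hMg : ∀ m ∈ M, g * m * g⁻¹ ∈ M := by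
    intro m hm
    induction hm using Subgroup.closure_induction with
    | mem m hm =>
      obtain ⟨x, hx, rfl⟩ := hm
      have := hgen _ (hgN x hx)
      convert this using 1; group
    | one => simp
    | mul a b _ _ ha hb => have := M.mul_mem ha hb; convert this using 1; group
    | inv a _ ha => have := M.inv_mem ha; convert this using 1; group
  have hcomm : ∀ h ∈ N, g * h = h * g → ∀ m ∈ M, h * m = m * h := by
    intro h hh hgh m hm
    induction hm using Subgroup.closure_induction with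
    | mem m hm =>
      obtain ⟨x, hx, rfl⟩ := hm
      set k := h * x * h⁻¹ * x⁻¹ with hk
      have hkN : k ∈ N := N.mul_mem (N.mul_mem (N.mul_mem hh hx) (N.inv_mem hh)) (N.inv_mem hx)
      have hkc : ∀ w ∈ N, k * w = w * k := fun w hw => hcl h hh x hx w hw
      have hgk : g * k = k * g := hgZ k hkN hkc
      have hkm : k * (g * x * g⁻¹ * x⁻¹) = (g * x * g⁻¹ * x⁻¹) * k :=
        hkc _ (N.mul_mem (hgN x hx) (N.inv_mem hx))
      have h1 : h * g = g * h := hgh.symm
      have h2 : h * g⁻¹ = g⁻¹ * h := by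
        calc h * g⁻¹ = g⁻¹ * (g * h) * g⁻¹ := by group
          _ = g⁻¹ * (h * g) * g⁻¹ := by rw [hgh]
          _ = g⁻¹ * h := by group
      have e : h * (g * x * g⁻¹ * x⁻¹) * h⁻¹ = k * (g * x * g⁻¹ * x⁻¹) * k⁻¹ := by
        calc h * (g * x * g⁻¹ * x⁻¹) * h⁻¹ = (h * g) * x * g⁻¹ * x⁻¹ * h⁻¹ := by group
          _ = g * h * x * g⁻¹ * x⁻¹ * h⁻¹ := by rw [h1]
          _ = g * (h * x * h⁻¹) * (h * g⁻¹) * x⁻¹ * h⁻¹ := by group
          _ = g * (h * x * h⁻¹) * (g⁻¹ * h) * x⁻¹ * h⁻¹ := by rw [h2]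
          _ = g * (k * x) * g⁻¹ * (k * x)⁻¹ := by rw [hk]; group
          _ = (g * k) * x * g⁻¹ * x⁻¹ * k⁻¹ := by group
          _ = (k * g) * x * g⁻¹ * x⁻¹ * k⁻¹ := by rw [hgk]
          _ = k * (g * x * g⁻¹ * x⁻¹) * k⁻¹ := by group
      rw [hkm, mul_inv_cancel_right] at e
      calc h * (g * x * g⁻¹ * x⁻¹) = (h * (g * x * g⁻¹ * x⁻¹) * h⁻¹) * h := by group
        _ = (g * x * g⁻¹ * x⁻¹) * h := by rw [e]
    | one => simp
    | mul a b _ _ ha hb => rw [← mul_assoc, ha, mul_assoc, hb, mul_assoc]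
    | inv a _ ha =>
      calc h * a⁻¹ = a⁻¹ * (a * h) * a⁻¹ := by group
        _ = a⁻¹ * (h * a) * a⁻¹ := by rw [ha]
        _ = a⁻¹ * h := by group
  have hMr : ∃ k, Nat.card M = r ^ k := by
    have : IsPGroup r M := hN.to_le hMN
    exact IsPGroup.iff_card.mp this
  have hzM : ¬ z ∣ Nat.card M := by
    obtain ⟨k, hk⟩ := hMr
    rw [hk]
    intro h
    have := (Nat.prime_dvd_prime_iff_eq hz hr).mp (hz.dvd_of_dvd_pow h)
    exact hzr this
  -- (A) coprime action: N = C_N(g) M
  have hA : ∀ x ∈ N, ∃ y ∈ N, g * y = y * g ∧ x⁻¹ * y ∈ M := by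
    intro x hx
    have hxg : x⁻¹ * (g * x * g⁻¹) ∈ M := by
      have := M.inv_mem (hgen x⁻¹ (N.inv_mem hx))
      convert this using 1; group
    let f : {y : G // x⁻¹ * y ∈ M} → {y : G // x⁻¹ * y ∈ M} := fun y => ⟨g * y.1 * g⁻¹, by
      have := M.mul_mem hxg (hMg _ y.2)
      convert this using 1; group⟩
    have hf : f^[z] = id := by
      funext y; apply Subtype.ext
      have : ∀ k : ℕ, ((f^[k] y : {y : G // x⁻¹ * y ∈ M}) : G) = g ^ k * y.1 * (g ^ k)⁻¹ := by
        intro k; induction k with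
        | zero => simp
        | succ k ih =>
          rw [Function.iterate_succ_apply']
          show g * (f^[k] y).1 * g⁻¹ = _
          rw [ih, pow_succ']; group
      rw [this, hgz]; simp
    have hcard : Nat.card {y : G // x⁻¹ * y ∈ M} = Nat.card M := by
      apply Nat.card_congr
      exact { toFun := fun y => ⟨x⁻¹ * y.1, y.2⟩
              invFun := fun m => ⟨x * m.1, by simp⟩
              left_inv := fun y => by apply Subtype.ext; simp
              right_inv := fun m => by apply Subtype.ext; simp }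
    have hmod := card_modEq_card_fixed f z hf
    have hne : Nat.card {a : {y : G // x⁻¹ * y ∈ M} // f a = a} ≠ 0 := by
      intro h0
      rw [h0, hcard] at hmod
      exact hzM (Nat.modEq_zero_iff_dvd.mp hmod)
    obtain ⟨⟨⟨y, hy⟩⟩, _⟩ := Nat.card_ne_zero.mp hne
    refine ⟨y.1, ?_, ?_, y.2⟩
    · have := N.mul_mem hx (hMN y.2); simpa using this
    · have h1 : g * y.1 * g⁻¹ = y.1 := congrArg Subtype.val hy
      calc g * y.1 = (g * y.1 * g⁻¹) * g := by group
        _ = y.1 * g := by rw [h1]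
  -- (5)
  have hcenter : ∀ c ∈ M, (∀ w ∈ M, c * w = w * c) → ∀ w ∈ N, c * w = w * c := by
    intro c hc hcM w hw
    obtain ⟨y, hyN, hgy, hy⟩ := hA w hw
    have h1 : y * c = c * y := hcomm y hyN hgy c hc
    have h2 := hcM _ hy
    have hw' : w = y * (w⁻¹ * y)⁻¹ := by group
    rw [hw']
    have h3 : c * (w⁻¹ * y)⁻¹ = (w⁻¹ * y)⁻¹ * c := by
      calc c * (w⁻¹ * y)⁻¹ = (w⁻¹ * y)⁻¹ * ((w⁻¹ * y) * c) * (w⁻¹ * y)⁻¹ := by group
        _ = (w⁻¹ * y)⁻¹ * (c * (w⁻¹ * y)) * (w⁻¹ * y)⁻¹ := by rw [h2]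
        _ = (w⁻¹ * y)⁻¹ * c := by group
    calc c * (y * (w⁻¹ * y)⁻¹) = (c * y) * (w⁻¹ * y)⁻¹ := by group
      _ = (y * c) * (w⁻¹ * y)⁻¹ := by rw [h1]
      _ = y * (c * (w⁻¹ * y)⁻¹) := by group
      _ = y * ((w⁻¹ * y)⁻¹ * c) := by rw [h3]
      _ = y * (w⁻¹ * y)⁻¹ * c := by group
  refine ⟨M, hMN, hMg, hcenter, ?_, ?_, hcomm, hA⟩
  · -- nonabelian
    by_contra hab
    push Not at hab
    obtain ⟨x, hx, hgx⟩ := hg
    apply hgx
    set c := g * x * g⁻¹ * x⁻¹ with hc
    have hcM : c ∈ M := hgen x hx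
    have hcN : c ∈ N := hMN hcM
    have hgc : g * c = c * g := hgZ c hcN (hcenter c hcM (fun w hw => hab c hcM w hw))
    have hiter : ∀ k : ℕ, g ^ k * x * (g ^ k)⁻¹ = c ^ k * x := by
      intro k
      induction k with
      | zero => simp
      | succ k ih =>
        have hgck : g * c ^ k = c ^ k * g := by
          have : Commute g c := hgc
          exact (this.pow_right k).eq
        calc g ^ (k + 1) * x * (g ^ (k + 1))⁻¹ = g * (g ^ k * x * (g ^ k)⁻¹) * g⁻¹ := by
              rw [pow_succ']; group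
          _ = g * (c ^ k * x) * g⁻¹ := by rw [ih]
          _ = (g * c ^ k) * x * g⁻¹ := by group
          _ = (c ^ k * g) * x * g⁻¹ := by rw [hgck]
          _ = c ^ k * (g * x * g⁻¹ * x⁻¹) * x := by group
          _ = c ^ (k + 1) * x := by rw [← hc, pow_succ]
    have hcz : c ^ z = 1 := by
      have := hiter z
      rw [hgz] at this
      simp only [one_mul, inv_one, mul_one] at this
      calc c ^ z = (c ^ z * x) * x⁻¹ := by group
        _ = x * x⁻¹ := by rw [← this]
        _ = 1 := by group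
    have hc1 : c = 1 := hrz c hcN hcz
    calc g * x = (g * x * g⁻¹ * x⁻¹) * (x * g) := by group
      _ = x * g := by rw [← hc, hc1, one_mul]
  · -- index
    let f : M → M := fun m => ⟨g * m.1 * g⁻¹, hMg _ m.2⟩
    have hf : f^[z] = id := by
      funext y; apply Subtype.ext
      have : ∀ k : ℕ, ((f^[k] y : M) : G) = g ^ k * y.1 * (g ^ k)⁻¹ := by
        intro k; induction k with
        | zero => simp
        | succ k ih =>
          rw [Function.iterate_succ_apply']
          show g * (f^[k] y).1 * g⁻¹ = _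
          rw [ih, pow_succ']; group
      rw [this, hgz]; simp
    have hmod := card_modEq_card_fixed f z hf
    have hfix : Nat.card {a : M // f a = a} = Nat.card (Subgroup.center M) := by
      apply Nat.card_congr
      refine Equiv.subtypeEquivRight (fun a => ?_)
      constructor
      · intro ha
        have h1 : g * a.1 * g⁻¹ = a.1 := congrArg Subtype.val ha
        have hga : g * a.1 = a.1 * g := by
          calc g * a.1 = (g * a.1 * g⁻¹) * g := by group
            _ = a.1 * g := by rw [h1]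
        rw [Subgroup.mem_center_iff]
        intro m
        apply Subtype.ext
        exact (hcomm a.1 (hMN a.2) hga m.1 m.2).symm
      · intro ha
        rw [Subgroup.mem_center_iff] at ha
        have hac : ∀ w ∈ M, a.1 * w = w * a.1 := by
          intro w hw
          have := congrArg Subtype.val (ha ⟨w, hw⟩)
          exact this.symm
        have hga := hgZ a.1 (hMN a.2) (hcenter a.1 a.2 hac)
        apply Subtype.ext
        show g * a.1 * g⁻¹ = a.1
        rw [hga]; group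
    rw [hfix] at hmod
    have hmul : Nat.card (Subgroup.center M) * (Subgroup.center M).index = Nat.card M :=
      Subgroup.card_mul_index _
    have hpos : 1 ≤ (Subgroup.center M).index := Nat.one_le_iff_ne_zero.mpr Subgroup.index_ne_zero_of_finite
    have hle : Nat.card (Subgroup.center M) ≤ Nat.card M := by
      rw [← hmul]; exact Nat.le_mul_of_pos_right _ hpos
    have hdvd : z ∣ Nat.card M - Nat.card (Subgroup.center M) :=
      (Nat.modEq_iff_dvd' hle).mp hmod.symm
    rw [← hmul, ← Nat.mul_sub_one] at hdvd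
    have hcop : Nat.Coprime z (Nat.card (Subgroup.center M)) := by
      rw [Nat.Prime.coprime_iff_not_dvd hz]
      intro h
      apply hzM
      rw [← hmul]
      exact Dvd.dvd.mul_right h _
    exact hcop.dvd_of_dvd_mul_left hdvd


end Cfsg.H5.Hup
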