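import Mathlib
import Cfsg.Agent.H5.HupBasic2

/-!
# Huppert's theorem (S3360): elements of large prime order centralize abelian normal subgroups
-/

set_option autoImplicit false

namespace Cfsg.H5.Hup

open Cfsg.Agent.Lib.Helper12.NearIrr Cfsg.Agent.Lib.Helper12.NF

variable {p : ℕ} [Fact p.Prime] {V : Type*} [AddCommGroup V] [Module (ZMod p) V]
variable {H : Subgroup (V ≃ₗ[ZMod p] V)}

theorem toE_inv_mul (h : H) : toE H h⁻¹ * toE H h = 1 := by
  rw [← toE_mul, inv_mul_cancel, toE_one]

theorem toE_mul_inv (h : H) : toE H h * toE H h⁻¹ = 1 := by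
  rw [← toE_mul, mul_inv_cancel, toE_one]

/-- conjugation by `h` on `𝔽_p[A]` -/
def conjK (A : Subgroup H) [A.Normal] (h : H) : adj H A →+* adj H A where
  toFun r := ⟨toE H h * r * toE H h⁻¹, conj_mem_adj H A h r.2⟩
  map_one' := by
    apply Subtype.ext
    show toE H h * ((1 : adj H A) : Module.End (ZMod p) V) * toE H h⁻¹ = 1
    rw [OneMemClass.coe_one, mul_one, toE_mul_inv]
  map_mul' r s := by
    apply Subtype.ext
    show toE H h * ((r * s : adj H A) : Module.End (ZMod p) V) * toE H h⁻¹ =
      (toE H h * r * toE H h⁻¹) * (toE H h * s * toE H h⁻¹)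
    rw [MulMemClass.coe_mul]
    have h1 : (toE H h * r * toE H h⁻¹) * (toE H h * s * toE H h⁻¹) =
        toE H h * r * (toE H h⁻¹ * toE H h) * s * toE H h⁻¹ := by
      simp only [mul_assoc]
    rw [h1, toE_inv_mul, mul_one]
    simp only [mul_assoc]
  map_zero' := by
    apply Subtype.ext
    show toE H h * ((0 : adj H A) : Module.End (ZMod p) V) * toE H h⁻¹ = 0
    rw [ZeroMemClass.coe_zero, mul_zero, zero_mul]
  map_add' r s := by
    apply Subtype.ext
    show toE H h * ((r + s : adj H A) : Module.End (ZMod p) V) * toE H h⁻¹ =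
      (toE H h * r * toE H h⁻¹) + (toE H h * s * toE H h⁻¹)
    rw [AddMemClass.coe_add, mul_add, add_mul]

theorem conjK_apply (A : Subgroup H) [A.Normal] (h : H) (r : adj H A) :
    ((conjK A h r : adj H A) : Module.End (ZMod p) V) = toE H h * r * toE H h⁻¹ := rfl

theorem conjK_one (A : Subgroup H) [A.Normal] (r : adj H A) : conjK A 1 r = r := by
  apply Subtype.ext
  rw [conjK_apply, inv_one, toE_one, one_mul, mul_one]

theorem conjK_mul (A : Subgroup H) [A.Normal] (h k : H) (r : adj H A) :
    conjK A (h * k) r = conjK A h (conjK A k r) := by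
  apply Subtype.ext
  rw [conjK_apply, conjK_apply, conjK_apply, mul_inv_rev, toE_mul, toE_mul]
  simp only [mul_assoc]

/-- **FO-4**: an element of prime order `z > dim V` centralizes every abelian normal subgroup -/
theorem commute_of_prime_order_gt [Finite V] [Nontrivial V] (htr : Trans H) {A : Subgroup H}
    (hAn : A.Normal) (hAc : ∀ a ∈ A, ∀ b ∈ A, a * b = b * a) {g : H} {z : ℕ} (hzp : z.Prime)
    (hg : orderOf g = z) (hlt : Module.finrank (ZMod p) V < z) :
    ∀ a ∈ A, g * a = a * g := by
  have := hAn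
  have := finite_H (H := H)
  have := finite_end (p := p) (V := V)
  have hp : p.Prime := Fact.out
  obtain ⟨F, instF, instFin, ⟨ψ⟩⟩ := exists_type_zero_field (isField_adj htr hAn hAc)
  -- characteristic
  have hchar : CharP F p := by
    have h1 : ((p : ℕ) : adj H A) = 0 := by
      apply Subtype.ext
      rw [SubringClass.coe_natCast, ZeroMemClass.coe_zero]
      have : ((p : ℕ) : Module.End (ZMod p) V) = algebraMap (ZMod p) _ ((p : ℕ) : ZMod p) := by
        rw [map_natCast]
      rw [this, ZMod.natCast_self, map_zero]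
    have h2 : ((p : ℕ) : F) = 0 := by rw [← map_natCast ψ, h1, map_zero]
    exact (CharP.charP_iff_prime_eq_zero hp).2 h2
  letI : Algebra (ZMod p) F := ZMod.algebra F p
  -- the action of `H` on `F`
  let Φ₀ : H → (F →ₐ[ZMod p] F) := fun h =>
    { toRingHom := (ψ : adj H A →+* F).comp ((conjK A h).comp (ψ.symm : F →+* adj H A))
      commutes' := fun x => by
        have := Subsingleton.elim
          (((ψ : adj H A →+* F).comp ((conjK A h).comp (ψ.symm : F →+* adj H A))).comp
            (algebraMap (ZMod p) F)) (algebraMap (ZMod p) F)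
        exact DFunLike.congr_fun this x }
  have hΦ₀ : ∀ h x, Φ₀ h x = ψ (conjK A h (ψ.symm x)) := fun h x => rfl
  let Φ : H →* (F →ₐ[ZMod p] F) :=
    { toFun := Φ₀
      map_one' := by
        apply AlgHom.ext
        intro x
        rw [hΦ₀, conjK_one, RingEquiv.apply_symm_apply]
        rfl
      map_mul' := fun h k => by
        apply AlgHom.ext
        intro x
        rw [hΦ₀, conjK_mul, AlgHom.mul_apply, hΦ₀, hΦ₀, RingEquiv.symm_apply_apply] }
  let Φ' : H →* (F ≃ₐ[ZMod p] F) := (algEquivEquivAlgHom (ZMod p) F).symm.toMonoidHom.comp Φ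
  have h1 : orderOf (Φ' g) ∣ z := hg ▸ orderOf_map_dvd Φ' g
  have h2 : orderOf (Φ' g) ∣ Module.finrank (ZMod p) F := by
    rw [← IsGalois.card_aut_eq_finrank (ZMod p) F]
    exact orderOf_dvd_natCard _
  -- the degree
  have hd : Module.finrank (ZMod p) F ≤ Module.finrank (ZMod p) V := by
    have c1 : Nat.card F = p ^ Module.finrank (ZMod p) F := by
      rw [Nat.card_eq_fintype_card, Module.card_eq_pow_finrank (K := ZMod p) (V := F), ZMod.card]
    have c2 : Nat.card (adj H A) = p ^ Module.finrank (ZMod p) (adj H A) := by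
      have : Fintype (adj H A) := Fintype.ofFinite _
      rw [Nat.card_eq_fintype_card,
        Module.card_eq_pow_finrank (K := ZMod p) (V := adj H A), ZMod.card]
    have c3 : Nat.card (adj H A) = Nat.card F := Nat.card_congr ψ.toEquiv
    rw [c1, c2] at c3
    have := Nat.pow_right_injective hp.two_le c3
    rw [← this]
    exact finrank_adj_le htr hAn hAc
  have hd0 : 0 < Module.finrank (ZMod p) F := Module.finrank_pos
  have h3 : orderOf (Φ' g) = 1 := by
    rcases (Nat.dvd_prime hzp).1 h1 with h | h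
    · exact h
    · exfalso
      rw [h] at h2
      have := Nat.le_of_dvd hd0 h2
      omega
  have h4 : Φ' g = 1 := orderOf_eq_one_iff.1 h3
  have h5 : Φ g = 1 := by
    have : (algEquivEquivAlgHom (ZMod p) F).symm (Φ g) = 1 := h4
    have h6 := congrArg (algEquivEquivAlgHom (ZMod p) F) this
    rwa [MulEquiv.apply_symm_apply, map_one] at h6
  intro a ha
  have h6 : Φ g (ψ ⟨toE H a, toE_mem_adj H A ha⟩) = ψ ⟨toE H a, toE_mem_adj H A ha⟩ := by
    rw [h5]; rfl
  have h7 : Φ g (ψ ⟨toE H a, toE_mem_adj H A ha⟩) =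
      ψ (conjK A g (ψ.symm (ψ ⟨toE H a, toE_mem_adj H A ha⟩))) := rfl
  rw [h7, RingEquiv.symm_apply_apply] at h6
  have h8 := congrArg Subtype.val (ψ.injective h6)
  rw [conjK_apply] at h8
  have h9 : toE H g * toE H a = toE H a * toE H g := by
    have : toE H g * toE H a * toE H g⁻¹ * toE H g = toE H a * toE H g := by
      show toE H g * ((⟨toE H a, toE_mem_adj H A ha⟩ : adj H A) : Module.End (ZMod p) V) *
        toE H g⁻¹ * toE H g = _
      rw [h8]
    rwa [mul_assoc, toE_inv_mul, mul_one] at this
  apply toE_injective H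
  rw [toE_mul, toE_mul, h9]

end Cfsg.H5.Hup
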