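import Mathlib
import Cfsg.Agent.H5.HupGalois

/-!
# Huppert's theorem (S3360): linear independence of coset representatives of a class-2 subgroup
-/

set_option autoImplicit false

namespace Cfsg.H5.Hup

open Cfsg.Agent.Lib.Helper12.NearIrr Cfsg.Agent.Lib.Helper12.NF

variable {p : ℕ} [Fact p.Prime] {V : Type*} [AddCommGroup V] [Module (ZMod p) V]
variable {H : Subgroup (V ≃ₗ[ZMod p] V)}

/-- an element commuting with `Z` commutes with `𝔽_p[Z]` -/
theorem toE_commute_adj {Z : Subgroup H} {x : H} (hx : ∀ c ∈ Z, x * c = c * x)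
    {r : Module.End (ZMod p) V} (hr : r ∈ adj H Z) : toE H x * r = r * toE H x := by
  unfold adj at hr
  induction hr using Algebra.adjoin_induction with
  | mem y hy =>
    obtain ⟨n, hn, rfl⟩ := hy
    rw [← toE_mul, ← toE_mul, hx n hn]
  | algebraMap c => exact (Algebra.commutes c (toE H x)).symm
  | add y y' _ _ hy hy' => rw [mul_add, add_mul, hy, hy']
  | mul y y' _ _ hy hy' => rw [← mul_assoc, hy, mul_assoc, hy', mul_assoc]

/-- the key independence statement -/
theorem indep_aux [Finite V] (htr : Trans H) {Z : Subgroup H} (hZn : Z.Normal)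
    (hZc : ∀ a ∈ Z, ∀ b ∈ Z, a * b = b * a) {M : Subgroup H}
    (hMZ : ∀ x ∈ M, ∀ c ∈ Z, x * c = c * x)
    (hcomm : ∀ x ∈ M, ∀ y ∈ M, x * y * x⁻¹ * y⁻¹ ∈ Z) (S : Finset H) :
    (∀ x ∈ S, x ∈ M) →
    (∀ x ∈ S, ∀ y ∈ S, x ≠ y → ∃ w ∈ M, w * (y⁻¹ * x) ≠ (y⁻¹ * x) * w) →
    ∀ c : H → Module.End (ZMod p) V, (∀ x ∈ S, c x ∈ adj H Z) →
      ∑ x ∈ S, c x * toE H x = 0 → ∀ x ∈ S, c x = 0 := by
  classical
  have hnzd := noZeroDivisors_adj htr hZn hZc
  induction S using Finset.induction_on with
  | empty => intro _ _ c _ _ x hx; simp at hx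
  | insert j S' hj ih =>
    intro hSM hpair c hc hsum
    have hjM : j ∈ M := hSM j (Finset.mem_insert_self j S')
    have hS'M : ∀ x ∈ S', x ∈ M := fun x hx => hSM x (Finset.mem_insert_of_mem hx)
    have hpair' : ∀ x ∈ S', ∀ y ∈ S', x ≠ y → ∃ w ∈ M, w * (y⁻¹ * x) ≠ (y⁻¹ * x) * w :=
      fun x hx y hy hxy => hpair x (Finset.mem_insert_of_mem hx) y (Finset.mem_insert_of_mem hy) hxy
    -- the commutator scalars
    have hlam : ∀ w ∈ M, ∀ x ∈ M, toE H (w * x * w⁻¹ * x⁻¹) ∈ adj H Z :=
      fun w hw x hx => toE_mem_adj H Z (hcomm w hw x hx)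
    -- the derived relation
    have hrel : ∀ w ∈ M, ∑ x ∈ S',
        (c x * (toE H (w * x * w⁻¹ * x⁻¹) - toE H (w * j * w⁻¹ * j⁻¹))) * toE H x = 0 := by
      intro w hw
      have hwc : ∀ x ∈ insert j S', toE H w * c x = c x * toE H w :=
        fun x hx => toE_commute_adj (hMZ w hw) (hc x hx)
      -- conjugate
      have e1 : ∑ x ∈ insert j S', c x * toE H (w * x * w⁻¹ * x⁻¹) * toE H x = 0 := by
        have h0 : toE H w * (∑ x ∈ insert j S', c x * toE H x) * toE H w⁻¹ = 0 := by
          rw [hsum, mul_zero, zero_mul]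
        rw [Finset.mul_sum, Finset.sum_mul] at h0
        rw [← h0]
        apply Finset.sum_congr rfl
        intro x hx
        rw [mul_assoc (c x), ← toE_mul, ← mul_assoc (toE H w), hwc x hx, mul_assoc (c x),
          mul_assoc (c x), ← toE_mul, ← toE_mul]
        congr 2
        group
      have e2 : ∑ x ∈ insert j S', c x * toE H (w * j * w⁻¹ * j⁻¹) * toE H x = 0 := by
        have h0 : toE H (w * j * w⁻¹ * j⁻¹) * (∑ x ∈ insert j S', c x * toE H x) = 0 := by
          rw [hsum, mul_zero]
        rw [Finset.mul_sum] at h0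
        rw [← h0]
        apply Finset.sum_congr rfl
        intro x hx
        rw [← mul_assoc, adj_comm hZc (hlam w hw j hjM) (hc x hx)]
      have e3 : ∑ x ∈ insert j S',
          (c x * (toE H (w * x * w⁻¹ * x⁻¹) - toE H (w * j * w⁻¹ * j⁻¹))) * toE H x = 0 := by
        have : ∀ x, (c x * (toE H (w * x * w⁻¹ * x⁻¹) - toE H (w * j * w⁻¹ * j⁻¹))) * toE H x =
            c x * toE H (w * x * w⁻¹ * x⁻¹) * toE H x -
              c x * toE H (w * j * w⁻¹ * j⁻¹) * toE H x := by
          intro x
          rw [mul_sub, sub_mul]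
        simp only [this]
        rw [Finset.sum_sub_distrib, e1, e2, sub_zero]
      rw [Finset.sum_insert hj, sub_self, mul_zero, zero_mul, zero_add] at e3
      exact e3
    have hzero : ∀ x ∈ S', c x = 0 := by
      intro x hx
      have hxM := hS'M x hx
      have hxj : x ≠ j := fun h => hj (h ▸ hx)
      obtain ⟨w, hw, hne⟩ := hpair x (Finset.mem_insert_of_mem hx) j (Finset.mem_insert_self j S') hxj
      have h1 := ih hS'M hpair'
        (fun x => c x * (toE H (w * x * w⁻¹ * x⁻¹) - toE H (w * j * w⁻¹ * j⁻¹)))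
        (fun x hx' => mul_mem (hc x (Finset.mem_insert_of_mem hx'))
          (sub_mem (hlam w hw x (hS'M x hx')) (hlam w hw j hjM)))
        (hrel w hw) x hx
      have hμ : toE H (w * x * w⁻¹ * x⁻¹) - toE H (w * j * w⁻¹ * j⁻¹) ≠ 0 := by
        intro h0
        have h2 := toE_injective H (sub_eq_zero.1 h0)
        apply hne
        have h3 : x * w⁻¹ * x⁻¹ = j * w⁻¹ * j⁻¹ := by
          have := congrArg (fun t => w⁻¹ * t) h2
          simpa [mul_assoc] using this
        have h4 : w⁻¹ * (j⁻¹ * x) = (j⁻¹ * x) * w⁻¹ := by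
          have := congrArg (fun t => j⁻¹ * t * x) h3
          simp only [mul_assoc, inv_mul_cancel, mul_one, inv_mul_cancel_left] at this
          rw [mul_assoc, this]
        have h5 := congrArg (fun t => w * t * w) h4
        simp only [mul_assoc, mul_inv_cancel_left, inv_mul_cancel, mul_one] at h5
        rw [mul_assoc]
        exact h5.symm
      have h6 : (⟨c x, hc x (Finset.mem_insert_of_mem hx)⟩ : adj H Z) *
          ⟨_, sub_mem (hlam w hw x hxM) (hlam w hw j hjM)⟩ = 0 := Subtype.ext h1
      rcases hnzd.eq_zero_or_eq_zero_of_mul_eq_zero h6 with h | h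
      · exact congrArg Subtype.val h
      · exact absurd (congrArg Subtype.val h) hμ
    intro x hx
    rcases Finset.mem_insert.1 hx with rfl | hx'
    · rw [Finset.sum_insert hj] at hsum
      have h1 : ∑ y ∈ S', c y * toE H y = 0 := by
        apply Finset.sum_eq_zero
        intro y hy
        rw [hzero y hy, zero_mul]
      rw [h1, add_zero] at hsum
      have h2 := congrArg (fun t => t * toE H x⁻¹) hsum
      simp only [mul_assoc, zero_mul] at h2
      rwa [toE_mul_inv, mul_one] at h2
    · exact hzero x hx'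

/-- the family of coset representatives -/
noncomputable def repFam (M : Subgroup H) (q : M ⧸ Subgroup.center M) : Module.End (ZMod p) V :=
  toE H ((Quotient.out q : M) : H)

theorem linearIndependent_repFam [Finite V] [Nontrivial V] (htr : Trans H) {Z : Subgroup H}
    (hZn : Z.Normal) (hZc : ∀ a ∈ Z, ∀ b ∈ Z, a * b = b * a) {M : Subgroup H}
    (hMZ : ∀ x ∈ M, ∀ c ∈ Z, x * c = c * x)
    (hcomm : ∀ x ∈ M, ∀ y ∈ M, x * y * x⁻¹ * y⁻¹ ∈ Z) :
    LinearIndependent (ZMod p) (repFam M) := by
  classical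
  have := finite_H (H := H)
  have : Fintype (M ⧸ Subgroup.center M) := Fintype.ofFinite _
  rw [Fintype.linearIndependent_iff]
  intro a ha q
  let rep : (M ⧸ Subgroup.center M) → H := fun q => ((Quotient.out q : M) : H)
  have hrep_inj : Function.Injective rep := by
    intro q q' h
    have h1 : (Quotient.out q : M) = Quotient.out q' := Subtype.ext h
    have h2 := congrArg (fun t : M => (QuotientGroup.mk t : M ⧸ Subgroup.center M)) h1
    simpa using h2
  have hmk : ∀ q : M ⧸ Subgroup.center M, (QuotientGroup.mk (Quotient.out q) : M ⧸ _) = q :=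
    fun q => Quotient.out_eq q
  let c : H → Module.End (ZMod p) V := fun x =>
    if hx : x ∈ M then (a (QuotientGroup.mk ⟨x, hx⟩)) • (1 : Module.End (ZMod p) V) else 0
  have hc_rep : ∀ q, c (rep q) = a q • (1 : Module.End (ZMod p) V) := by
    intro q
    have hx : rep q ∈ M := (Quotient.out q : M).2
    show (if hx : rep q ∈ M then (a (QuotientGroup.mk ⟨rep q, hx⟩)) • (1 : Module.End (ZMod p) V)
      else 0) = _
    rw [dif_pos hx]
    congr 2
    exact hmk q
  have hsum : ∑ x ∈ Finset.univ.image rep, c x * toE H x = 0 := by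
    rw [Finset.sum_image (fun q _ q' _ h => hrep_inj h), ← ha]
    apply Finset.sum_congr rfl
    intro q _
    rw [hc_rep, smul_mul_assoc, one_mul]
    rfl
  have h1 := indep_aux htr hZn hZc hMZ hcomm (Finset.univ.image rep)
    (by
      intro x hx
      obtain ⟨q, -, rfl⟩ := Finset.mem_image.1 hx
      exact (Quotient.out q : M).2)
    (by
      intro x hx y hy hxy
      obtain ⟨q, -, rfl⟩ := Finset.mem_image.1 hx
      obtain ⟨q', -, rfl⟩ := Finset.mem_image.1 hy
      have hqq : q' ≠ q := fun h => hxy (by rw [h])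
      have h2 : (Quotient.out q' : M)⁻¹ * Quotient.out q ∉ Subgroup.center M := by
        intro hmem
        apply hqq
        rw [← hmk q', ← hmk q]
        exact QuotientGroup.eq.2 hmem
      rw [Subgroup.mem_center_iff] at h2
      push Not at h2
      obtain ⟨w, hw⟩ := h2
      refine ⟨(w : H), w.2, ?_⟩
      intro h3
      apply hw
      apply Subtype.ext
      exact h3)
    c
    (by
      intro x _
      show (if hx : x ∈ M then (a (QuotientGroup.mk ⟨x, hx⟩)) • (1 : Module.End (ZMod p) V)
        else 0) ∈ adj H Z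
      split_ifs
      · exact Subalgebra.smul_mem _ (one_mem _) _
      · exact zero_mem _)
    hsum (rep q) (Finset.mem_image_of_mem rep (Finset.mem_univ q))
  rw [hc_rep] at h1
  obtain ⟨v₀, hv₀⟩ := exists_ne (0 : V)
  have h2 := congrArg (fun f : Module.End (ZMod p) V => f v₀) h1
  simp only [LinearMap.smul_apply, Module.End.one_apply, LinearMap.zero_apply] at h2
  exact (smul_eq_zero.1 h2).resolve_right hv₀

/-- **FO-6**: `|M : Z(M)| ≤ n²` -/
theorem index_center_le [Finite V] [Nontrivial V] (htr : Trans H) {Z : Subgroup H}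
    (hZn : Z.Normal) (hZc : ∀ a ∈ Z, ∀ b ∈ Z, a * b = b * a) {M : Subgroup H}
    (hMZ : ∀ x ∈ M, ∀ c ∈ Z, x * c = c * x)
    (hcomm : ∀ x ∈ M, ∀ y ∈ M, x * y * x⁻¹ * y⁻¹ ∈ Z) :
    (Subgroup.center M).index ≤ Module.finrank (ZMod p) V ^ 2 := by
  have := finite_H (H := H)
  have : Fintype (M ⧸ Subgroup.center M) := Fintype.ofFinite _
  have hfd : FiniteDimensional (ZMod p) V := Module.Finite.of_finite
  have h1 := (linearIndependent_repFam htr hZn hZc hMZ hcomm).fintype_card_le_finrank
  rw [Module.finrank_linearMap] at h1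
  rw [Subgroup.index, Nat.card_eq_fintype_card, sq]
  exact h1

/-- **FO-6, equality case**: if `|M : Z(M)| = n²` then the centralizer of `M` consists of
scalars -/
theorem scalar_of_commute [Finite V] [Nontrivial V] (htr : Trans H) {Z : Subgroup H}
    (hZn : Z.Normal) (hZc : ∀ a ∈ Z, ∀ b ∈ Z, a * b = b * a) {M : Subgroup H}
    (hMZ : ∀ x ∈ M, ∀ c ∈ Z, x * c = c * x)
    (hcomm : ∀ x ∈ M, ∀ y ∈ M, x * y * x⁻¹ * y⁻¹ ∈ Z)
    (heq : (Subgroup.center M).index = Module.finrank (ZMod p) V ^ 2)
    {T : Module.End (ZMod p) V} (hT : ∀ x ∈ M, toE H x * T = T * toE H x) :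
    ∃ α : ZMod p, T = α • (1 : Module.End (ZMod p) V) := by
  have := finite_H (H := H)
  have : Fintype (M ⧸ Subgroup.center M) := Fintype.ofFinite _
  have hfd : FiniteDimensional (ZMod p) V := Module.Finite.of_finite
  have hli := linearIndependent_repFam htr hZn hZc hMZ hcomm
  have hcard : Fintype.card (M ⧸ Subgroup.center M) =
      Module.finrank (ZMod p) (Module.End (ZMod p) V) := by
    rw [Module.finrank_linearMap, ← sq, ← heq, Subgroup.index, Nat.card_eq_fintype_card]
  have hspan := hli.span_eq_top_of_card_eq_finrank' hcard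
  have hall : ∀ S : Module.End (ZMod p) V, S * T = T * S := by
    intro S
    have hS : S ∈ Submodule.span (ZMod p) (Set.range (repFam (p := p) (V := V) M)) := by
      rw [hspan]; trivial
    induction hS using Submodule.span_induction with
    | mem y hy =>
      obtain ⟨q, rfl⟩ := hy
      exact hT _ (Quotient.out q : M).2
    | zero => rw [zero_mul, mul_zero]
    | add y y' _ _ hy hy' => rw [add_mul, mul_add, hy, hy']
    | smul a y _ hy => rw [smul_mul_assoc, mul_smul_comm, hy]
  have hcen : T ∈ Set.center (Module.End (ZMod p) V) := by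
    rw [Semigroup.mem_center_iff]
    intro S
    exact hall S
  obtain ⟨α, hα1, hα⟩ := Module.End.mem_center_iff.1 hcen
  refine ⟨α, ?_⟩
  rw [hα]
  apply LinearMap.ext
  intro v
  rfl

end Cfsg.H5.Hup
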