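import Mathlib
import Cfsg.Agent.H5.HupBasic2
import Cfsg.Agent.Lib.Helper15.OddSp1

/-!
# Huppert's theorem (S3360): elements of primitive prime order
-/

set_option autoImplicit false

namespace Cfsg.H5.Hup

open Cfsg.Agent.Lib.Helper12.NearIrr Cfsg.Agent.Lib.Helper12.NF Cfsg.Agent.Lib.Helper15.OddSp

/-- `z` is a primitive prime divisor of `p ^ n - 1` -/
def IsPpd (p n z : ℕ) : Prop :=
  z.Prime ∧ z ∣ p ^ n - 1 ∧ ∀ i, 0 < i → i < n → ¬ z ∣ p ^ i - 1

theorem IsPpd.ne_base {p n z : ℕ} (hp : 1 < p) (h : IsPpd p n z) (hn : 0 < n) : z ≠ p := by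
  rintro rfl
  have h1 : z ∣ z ^ n := dvd_pow_self z hn.ne'
  have h2 : 0 < z ^ n := Nat.pow_pos (by omega)
  have h3 : z ∣ 1 := by
    have := Nat.dvd_sub h1 h.2.1
    rwa [Nat.sub_sub_self h2] at this
  have := Nat.dvd_one.1 h3
  omega

theorem IsPpd.lt {p n z : ℕ} (hp : p.Prime) (h : IsPpd p n z) (hn : 0 < n) : n < z := by
  have hz := h.1
  have : Fact z.Prime := ⟨hz⟩
  have hne : z ≠ p := h.ne_base hp.one_lt hn
  have hp0 : (p : ZMod z) ≠ 0 := by
    intro h0
    rw [ZMod.natCast_eq_zero_iff] at h0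
    exact hne ((Nat.prime_dvd_prime_iff_eq hz hp).1 h0)
  have h1 := ZMod.pow_card_sub_one_eq_one hp0
  have h2 : z ∣ p ^ (z - 1) - 1 := by
    rw [← ZMod.natCast_eq_zero_iff, Nat.cast_sub (Nat.one_le_pow _ _ hp.pos), Nat.cast_pow, h1]
    simp
  have h3 : n ∣ z - 1 := ppd_dvd hn h.2.1 h.2.2 h2
  have h4 : 0 < z - 1 := by have := hz.two_le; omega
  have := Nat.le_of_dvd h4 h3
  omega

variable {p : ℕ} [Fact p.Prime] {V : Type*} [AddCommGroup V] [Module (ZMod p) V]
variable {H : Subgroup (V ≃ₗ[ZMod p] V)}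

theorem toE_pow (g : H) (k : ℕ) : toE H (g ^ k) = toE H g ^ k := by
  induction k with
  | zero => rw [pow_zero, pow_zero, toE_one]
  | succ k ih => rw [pow_succ, pow_succ, toE_mul, ih]

/-- for an element of primitive prime order, `g - 1` is onto -/
theorem ppd_range_eq_top [Finite V] [Nontrivial V] {g : H} {z : ℕ}
    (hz : IsPpd p (Module.finrank (ZMod p) V) z) (hg : orderOf g = z) :
    LinearMap.range (toE H g - 1) = ⊤ := by
  have hp : p.Prime := Fact.out
  have hn := finrank_pos' (p := p) (V := V)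
  have hfd : FiniteDimensional (ZMod p) V := Module.Finite.of_finite
  have hh : toE H g ^ z = 1 := by rw [← toE_pow, ← hg, pow_orderOf_eq_one, toE_one]
  have hrF : ((z : ℕ) : ZMod p) ≠ 0 := by
    intro h0
    rw [ZMod.natCast_eq_zero_iff] at h0
    exact hz.ne_base hp.one_lt hn ((Nat.prime_dvd_prime_iff_eq hp hz.1).1 h0).symm
  have hne : toE H g ≠ 1 := by
    intro h1
    have : g = 1 := toE_injective H (h1.trans (toE_one H).symm)
    rw [this, orderOf_one] at hg
    exact hz.1.one_lt.ne' hg.symm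
  have h1 := finrank_range_eq (toE H g) z hz.1 hh hrF (Module.finrank (ZMod p) V) hn
    (by rw [ZMod.card]; exact hz.2.1) (by rw [ZMod.card]; exact hz.2.2) (by omega) hne
  exact Submodule.eq_top_of_finrank_eq h1

/-- an element of primitive prime order fixes no nonzero vector -/
theorem ppd_fpf [Finite V] [Nontrivial V] {g : H} {z : ℕ}
    (hz : IsPpd p (Module.finrank (ZMod p) V) z) (hg : orderOf g = z) {v : V}
    (hv : (g : V ≃ₗ[ZMod p] V) v = v) : v = 0 := by
  have hp : p.Prime := Fact.out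
  have hn := finrank_pos' (p := p) (V := V)
  have hh : toE H g ^ z = 1 := by rw [← toE_pow, ← hg, pow_orderOf_eq_one, toE_one]
  have hrF : ((z : ℕ) : ZMod p) ≠ 0 := by
    intro h0
    rw [ZMod.natCast_eq_zero_iff] at h0
    exact hz.ne_base hp.one_lt hn ((Nat.prime_dvd_prime_iff_eq hp hz.1).1 h0).symm
  apply free_range (toE H g) z hh hrF v _ hv
  rw [ppd_range_eq_top hz hg]
  trivial

/-- an element of primitive prime order is irreducible -/
theorem ppd_irr [Finite V] [Nontrivial V] {g : H} {z : ℕ}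
    (hz : IsPpd p (Module.finrank (ZMod p) V) z) (hg : orderOf g = z)
    (W : Submodule (ZMod p) V) (hW : ∀ v ∈ W, (g : V ≃ₗ[ZMod p] V) v ∈ W) : W = ⊥ ∨ W = ⊤ := by
  have hp : p.Prime := Fact.out
  have hn := finrank_pos' (p := p) (V := V)
  have hfd : FiniteDimensional (ZMod p) V := Module.Finite.of_finite
  have hh : toE H g ^ z = 1 := by rw [← toE_pow, ← hg, pow_orderOf_eq_one, toE_one]
  have hrF : ((z : ℕ) : ZMod p) ≠ 0 := by
    intro h0
    rw [ZMod.natCast_eq_zero_iff] at h0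
    exact hz.ne_base hp.one_lt hn ((Nat.prime_dvd_prime_iff_eq hp hz.1).1 h0).symm
  have htop := ppd_range_eq_top hz hg
  have h1 := irreducible_range (toE H g) z hz.1 hh hrF (Module.finrank (ZMod p) V) hn
    (by rw [ZMod.card]; exact hz.2.1) (by rw [ZMod.card]; exact hz.2.2)
    (by rw [htop, finrank_top]) W (by rw [htop]; exact le_top) hW
  rw [htop] at h1
  exact h1

/-- an abelian normal subgroup containing an element of primitive prime order gives Case I -/
theorem caseI_of_mem [Finite V] [Nontrivial V] {A : Subgroup H} (hAn : A.Normal)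
    (hAc : ∀ a ∈ A, ∀ b ∈ A, a * b = b * a) {g : H} (hgA : g ∈ A) {z : ℕ}
    (hz : IsPpd p (Module.finrank (ZMod p) V) z) (hg : orderOf g = z) : CaseI H :=
  ⟨A, hAn, hAc, fun W hW => ppd_irr hz hg W (fun v hv => hW g hgA v hv)⟩

/-- a nontrivial normal `z`-subgroup gives Case I -/
theorem caseI_of_normal_zgroup [Finite V] [Nontrivial V] {P : Subgroup H} (hPn : P.Normal)
    {z : ℕ} (hz : IsPpd p (Module.finrank (ZMod p) V) z) (hP : IsPGroup z P) (hne : P ≠ ⊥) :
    CaseI H := by
  have := finite_H (H := H)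
  have := hPn
  have : Fact z.Prime := ⟨hz.1⟩
  have hnt : Nontrivial P := (Subgroup.nontrivial_iff_ne_bot P).2 hne
  have hZn : ((Subgroup.center P).map P.subtype).Normal := inferInstance
  have hZc : ∀ a ∈ (Subgroup.center P).map P.subtype, ∀ b ∈ (Subgroup.center P).map P.subtype,
      a * b = b * a := by
    rintro _ ⟨a, ha, rfl⟩ _ ⟨b, hb, rfl⟩
    rw [← map_mul, ← map_mul]
    congr 1
    exact (Subgroup.mem_center_iff.1 ha b).symm
  have hZnt : Nontrivial (Subgroup.center P) := hP.center_nontrivial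
  obtain ⟨k, hk⟩ := (hP.to_subgroup (Subgroup.center P)).exists_card_eq
  have hk0 : k ≠ 0 := by
    rintro rfl
    rw [pow_zero] at hk
    have := (Nat.card_eq_one_iff_unique.1 hk).1
    exact not_subsingleton _ this
  have hdvd : z ∣ Nat.card (Subgroup.center P) := hk ▸ dvd_pow_self z hk0
  obtain ⟨y, hy⟩ := exists_prime_orderOf_dvd_card' z hdvd
  have hy' : orderOf ((y : P) : H) = z := by
    rw [Subgroup.orderOf_coe, Subgroup.orderOf_coe]
    exact hy
  exact caseI_of_mem hZn hZc (g := ((y : P) : H)) ⟨(y : P), y.2, rfl⟩ hz hy'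

end Cfsg.H5.Hup
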