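import Mathlib
import Cfsg.Agent.H5.HupIndep
import Cfsg.Agent.H5.HupPpd
import Cfsg.Agent.H5.HupFO7x

/-!
# Huppert's theorem (S3360): the chain of inequalities for an element of primitive prime order
-/

set_option autoImplicit false

namespace Cfsg.H5.Hup

open Cfsg.Agent.Lib.Helper12.NearIrr Cfsg.Agent.Lib.Helper12.NF Cfsg.Agent.Lib.Helper2.S3360FO7

variable {p : ℕ} [Fact p.Prime] {V : Type*} [AddCommGroup V] [Module (ZMod p) V]
variable {H : Subgroup (V ≃ₗ[ZMod p] V)}

/-- the centre of `N` as a subgroup of `H` -/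
def cen (N : Subgroup H) : Subgroup H := (Subgroup.center N).map N.subtype

theorem mem_cen {N : Subgroup H} {c : H} : c ∈ cen N ↔ c ∈ N ∧ ∀ w ∈ N, c * w = w * c := by
  constructor
  · rintro ⟨c', hc', rfl⟩
    refine ⟨c'.2, fun w hw => ?_⟩
    have := Subgroup.mem_center_iff.1 hc' ⟨w, hw⟩
    exact (congrArg Subtype.val this).symm
  · rintro ⟨hcN, hc⟩
    refine ⟨⟨c, hcN⟩, ?_, rfl⟩
    rw [SetLike.mem_coe, Subgroup.mem_center_iff]
    intro w
    apply Subtype.ext
    exact (hc w.1 w.2).symm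

theorem cen_normal {N : Subgroup H} (hNn : N.Normal) : (cen N).Normal := by
  have := hNn
  unfold cen
  infer_instance

theorem cen_comm {N : Subgroup H} : ∀ a ∈ cen N, ∀ b ∈ cen N, a * b = b * a := by
  intro a ha b hb
  exact (mem_cen.1 ha).2 b (mem_cen.1 hb).1

/-- the chain for one element of primitive prime order acting nontrivially on a class-2 normal
`r`-subgroup -/
theorem chain_elt [Finite V] [Nontrivial V] (htr : Trans H)
    (hn2 : 2 ≤ Module.finrank (ZMod p) V) {z : ℕ}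
    (hz : IsPpd p (Module.finrank (ZMod p) V) z) {r : ℕ} (hr : r.Prime) (hrz : r ≠ z)
    {N : Subgroup H} (hNn : N.Normal) (hNr : IsPGroup r N)
    (hcl : ∀ x ∈ N, ∀ y ∈ N, ∀ w ∈ N, (x * y * x⁻¹ * y⁻¹) * w = w * (x * y * x⁻¹ * y⁻¹))
    (hexp : ∀ x ∈ N, ∀ w ∈ N, x ^ r * w = w * x ^ r)
    {g : H} (hg : orderOf g = z) (hgN : ∃ x ∈ N, g * x ≠ x * g) :
    z = Module.finrank (ZMod p) V + 1 ∧ r = 2 ∧ (∃ k, Module.finrank (ZMod p) V = 2 ^ k) ∧
      ∃ M : Subgroup H, M ≤ N ∧
        (Subgroup.center M).index = Module.finrank (ZMod p) V ^ 2 ∧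
        (∀ h ∈ N, g * h = h * g → ∀ m ∈ M, h * m = m * h) := by
  have := finite_H (H := H)
  have hp : p.Prime := Fact.out
  set n := Module.finrank (ZMod p) V with hn
  have hnz : n < z := hz.lt hp (by omega)
  have hZn := cen_normal hNn
  have hZc := cen_comm (N := N)
  have hgZ : ∀ c ∈ N, (∀ w ∈ N, c * w = w * c) → g * c = c * g := fun c hcN hc =>
    commute_of_prime_order_gt htr hZn hZc hz.1 hg hnz c (mem_cen.2 ⟨hcN, hc⟩)
  obtain ⟨M, hMN, hMg, hcenter, hnonab, hdvd, hcomm, hA⟩ :=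
    FO7bx r hr N hNr g (fun x hx => hNn.conj_mem x hx g) (hg ▸ hz.1) (hg ▸ hrz.symm) hcl hgZ hgN
  -- FO-7a
  have hcyc : IsCyclic (Subgroup.center M) := by
    have hcycZ : IsCyclic (cen N) := isCyclic_of_abelian_normal htr hZn hZc
    let f : Subgroup.center M →* cen N :=
      { toFun := fun c => ⟨((c : M) : H), mem_cen.2 ⟨hMN (c : M).2, by
          apply hcenter _ (c : M).2
          intro w hw
          have := Subgroup.mem_center_iff.1 c.2 ⟨w, hw⟩
          exact (congrArg Subtype.val this).symm⟩⟩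
        map_one' := rfl
        map_mul' := fun a b => rfl }
    apply isCyclic_of_injective f
    intro a b hab
    have : ((a : M) : H) = ((b : M) : H) := congrArg (fun t : cen N => (t : H)) hab
    exact Subtype.ext (Subtype.ext this)
  obtain ⟨k, hk⟩ := FO7a (M := M) r hr
    (fun x y w => Subtype.ext (hcl x.1 (hMN x.2) y.1 (hMN y.2) w.1 (hMN w.2)))
    (fun x w => Subtype.ext (by
      have := hexp x.1 (hMN x.2) w.1 (hMN w.2)
      simpa using this))
    hcyc
  -- FO-6
  have hMZ : ∀ x ∈ M, ∀ c ∈ cen N, x * c = c * x := fun x hx c hc =>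
    ((mem_cen.1 hc).2 x (hMN hx)).symm
  have hcommZ : ∀ x ∈ M, ∀ y ∈ M, x * y * x⁻¹ * y⁻¹ ∈ cen N := fun x hx y hy =>
    mem_cen.2 ⟨N.mul_mem (N.mul_mem (N.mul_mem (hMN hx) (hMN hy)) (N.inv_mem (hMN hx)))
      (N.inv_mem (hMN hy)), fun w hw => hcl x (hMN hx) y (hMN hy) w hw⟩
  have hle := index_center_le htr hZn hZc hMZ hcommZ
  rw [hk, ← hn] at hle
  set s := r ^ k with hs
  have hsn : s ≤ n := by
    by_contra hcon
    push Not at hcon
    have : n ^ 2 < s ^ 2 := Nat.pow_lt_pow_left hcon (by norm_num)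
    omega
  -- `s ≥ 2`
  have hs2 : 2 ≤ s := by
    by_contra hcon
    have hs1 : s ≤ 1 := by omega
    have hidx : (Subgroup.center M).index ≤ 1 := by
      rw [hk]
      calc s ^ 2 ≤ 1 ^ 2 := Nat.pow_le_pow_left hs1 2
        _ = 1 := one_pow 2
    have hidx1 : (Subgroup.center M).index = 1 := by
      have := Subgroup.index_ne_zero_of_finite (H := Subgroup.center M)
      omega
    rw [Subgroup.index_eq_one] at hidx1
    obtain ⟨x, hx, y, hy, hxy⟩ := hnonab
    apply hxy
    have h1 : (⟨x, hx⟩ : M) ∈ Subgroup.center M := by rw [hidx1]; trivial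
    have := Subgroup.mem_center_iff.1 h1 ⟨y, hy⟩
    exact (congrArg Subtype.val this).symm
  -- `z ∣ s² - 1`
  rw [hk, hg] at hdvd
  have hfac : s ^ 2 - 1 = (s - 1) * (s + 1) := by
    obtain ⟨t, ht⟩ : ∃ t, s = t + 1 := ⟨s - 1, by omega⟩
    rw [ht]
    have : (t + 1) ^ 2 = (t + 1 - 1) * (t + 1 + 1) + 1 := by
      simp only [Nat.add_sub_cancel]; ring
    omega
  rw [hfac] at hdvd
  have hzs : z ≤ s + 1 := by
    rcases (Nat.Prime.dvd_mul hz.1).1 hdvd with h | h
    · have := Nat.le_of_dvd (by omega) h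
      omega
    · exact Nat.le_of_dvd (by omega) h
  have hsn' : s = n := by omega
  have hzn : z = n + 1 := by omega
  have hr2 : r = 2 := by
    by_contra hr2
    have hodd : Odd r := hr.odd_of_ne_two hr2
    have hsodd : Odd s := hodd.pow
    have hzeven : Even z := by
      rw [hzn, ← hsn']
      exact hsodd.add_one
    have := (Nat.Prime.even_iff hz.1).1 hzeven
    omega
  refine ⟨hzn, hr2, ⟨k, ?_⟩, M, hMN, ?_, hcomm⟩
  · rw [← hsn', hs, hr2]
  · rw [hk, hsn']

end Cfsg.H5.Hup
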