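import Mathlib
import Cfsg.Agent.H5.HupPpd
import Cfsg.Agent.Lib.Helper1.Fitting

/-!
# Huppert's theorem (S3360): the Fitting subgroup step
-/

set_option autoImplicit false

namespace Cfsg.H5.Hup

open Cfsg Cfsg.Agent.Lib.Helper1 Cfsg.Agent.Lib.Helper12.NearIrr Cfsg.Agent.Lib.Helper12.NF

variable {p : ℕ} [Fact p.Prime] {V : Type*} [AddCommGroup V] [Module (ZMod p) V]
variable {H : Subgroup (V ≃ₗ[ZMod p] V)}

/-- transitivity: `|V| - 1` divides `|H|` -/
theorem card_sub_one_dvd_card [Finite V] [Nontrivial V] (htr : Trans H) :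
    Nat.card V - 1 ∣ Nat.card H := by
  classical
  have := finite_H (H := H)
  let X := {v : V // v ≠ 0}
  let act : MulAction H X :=
    { smul := fun a x => ⟨(a : V ≃ₗ[ZMod p] V) x.1, by
        intro h
        apply x.2
        have := congrArg ((a : V ≃ₗ[ZMod p] V)).symm h
        simpa using this⟩
      one_smul := fun x => Subtype.ext rfl
      mul_smul := fun a b x => Subtype.ext rfl }
  obtain ⟨v₀, hv₀⟩ := exists_ne (0 : V)
  have horb : MulAction.orbit H (⟨v₀, hv₀⟩ : X) = Set.univ := by
    apply Set.eq_univ_of_forall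
    intro x
    obtain ⟨h, hh⟩ := htr v₀ x.1 hv₀ x.2
    exact ⟨h, Subtype.ext hh⟩
  have : Fintype H := Fintype.ofFinite H
  have : Fintype (MulAction.orbit H (⟨v₀, hv₀⟩ : X)) := Fintype.ofFinite _
  have : Fintype (MulAction.stabilizer H (⟨v₀, hv₀⟩ : X)) := Fintype.ofFinite _
  have h1 := MulAction.card_orbit_mul_card_stabilizer_eq_card_group H (⟨v₀, hv₀⟩ : X)
  have h2 : Nat.card (MulAction.orbit H (⟨v₀, hv₀⟩ : X)) = Nat.card X := by
    rw [horb]
    exact Nat.card_congr (Equiv.Set.univ X)
  have h3 : Nat.card X = Nat.card V - 1 := by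
    have : Fintype V := Fintype.ofFinite V
    rw [Nat.card_eq_fintype_card, Nat.card_eq_fintype_card]
    show Fintype.card {v : V // v ≠ 0} = _
    rw [Fintype.card_subtype_compl, Fintype.card_subtype_eq]
  rw [← h3, ← h2]
  rw [Nat.card_eq_fintype_card, Nat.card_eq_fintype_card, ← h1]
  exact dvd_mul_right _ _

/-- an element of prime order `z` in the Fitting subgroup forces `O_z ≠ 1` -/
theorem pCore_ne_bot_of_mem_fitting {G : Type*} [Group G] [Finite G] {g : G} {z : ℕ}
    (hz : z.Prime) (hg : orderOf g = z) (hgF : g ∈ fittingSubgroup G) : pCore z G ≠ ⊥ := by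
  have : Fact z.Prime := ⟨hz⟩
  have hnil : Group.IsNilpotent (fittingSubgroup G) := fittingSubgroup_isNilpotent
  have hFn : (fittingSubgroup G).Normal := fittingSubgroup_normal
  obtain ⟨P⟩ : Nonempty (Sylow z (fittingSubgroup G)) := inferInstance
  have hPn : (P : Subgroup (fittingSubgroup G)).Normal := inferInstance
  have hPc : (P : Subgroup (fittingSubgroup G)).Characteristic := P.characteristic_of_normal hPn
  have hQn : ((P : Subgroup (fittingSubgroup G)).map (fittingSubgroup G).subtype).Normal :=
    inferInstance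
  have hQp : IsPGroup z ((P : Subgroup (fittingSubgroup G)).map (fittingSubgroup G).subtype) :=
    P.2.map _
  have hle := le_pCore hQn hQp
  intro hbot
  rw [hbot, le_bot_iff] at hle
  have hP : (P : Subgroup (fittingSubgroup G)) = ⊥ := by
    rw [← (Subgroup.map_eq_bot_iff_of_injective _ (fittingSubgroup G).subtype_injective)]
    exact hle
  have hdvd : z ∣ Nat.card (fittingSubgroup G) := by
    have h1 : orderOf (⟨g, hgF⟩ : fittingSubgroup G) = z := by
      rw [← hg]; exact Subgroup.orderOf_mk g hgF
    rw [← h1]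
    exact orderOf_dvd_natCard _
  have hcard := P.card_eq_multiplicity
  rw [hP, Subgroup.card_bot] at hcard
  have h0 : (Nat.card (fittingSubgroup G)).factorization z = 0 := by
    by_contra hne
    have : 1 < z ^ (Nat.card (fittingSubgroup G)).factorization z :=
      Nat.one_lt_pow hne hz.one_lt
    omega
  have := (hz.dvd_iff_one_le_factorization Nat.card_pos.ne').1 hdvd
  omega

/-- if `O_z(G) = 1` an element of order `z` acts nontrivially on some `O_r(G)` -/
theorem exists_pCore_not_commute {G : Type*} [Group G] [Finite G] (hsol : Group.IsSolvable G) {g : G}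
    {z : ℕ} (hz : z.Prime) (hg : orderOf g = z) (hbot : pCore z G = ⊥) :
    ∃ r : ℕ, r.Prime ∧ r ≠ z ∧ ∃ x ∈ pCore r G, g * x ≠ x * g := by
  by_contra hcon
  push Not at hcon
  have hall : ∀ q : Nat.Primes, pCore (q : ℕ) G ≤ Subgroup.centralizer {g} := by
    intro q x hx
    rw [Subgroup.mem_centralizer_iff]
    intro y hy
    rw [Set.mem_singleton_iff] at hy
    subst hy
    by_cases hqz : (q : ℕ) = z
    · rw [hqz, hbot, Subgroup.mem_bot] at hx
      rw [hx, mul_one, one_mul]
    · exact hcon q q.2 hqz x hx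
  have hF : fittingSubgroup G ≤ Subgroup.centralizer {g} := by
    rw [fittingSubgroup_eq_iSup_primes]
    exact iSup_le hall
  have hgC : g ∈ Subgroup.centralizer (fittingSubgroup G : Set G) := by
    rw [Subgroup.mem_centralizer_iff]
    intro x hx
    have := hF hx
    rw [Subgroup.mem_centralizer_iff] at this
    exact (this g rfl).symm
  have hgF := centralizer_fittingSubgroup_le hgC
  exact pCore_ne_bot_of_mem_fitting hz hg hgF hbot

end Cfsg.H5.Hup
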