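import Mathlib
import Cfsg.Agent.H5.HupChain
import Cfsg.Agent.H5.HupFit
import Cfsg.Agent.Lib.Helper19.S3360FO5
import Cfsg.Agent.Lib.Helper23.S3360FO8

/-!
# Huppert's theorem (S3360): the dichotomy for a primitive prime divisor
-/

set_option autoImplicit false

namespace Cfsg.H5.Hup

open Cfsg Cfsg.Agent.Lib.Helper1 Cfsg.Agent.Lib.Helper12.NearIrr Cfsg.Agent.Lib.Helper12.NF

variable {p : ℕ} [Fact p.Prime] {V : Type*} [AddCommGroup V] [Module (ZMod p) V]
variable {H : Subgroup (V ≃ₗ[ZMod p] V)}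

theorem cen_hMZ {N M : Subgroup H} (hMN : M ≤ N) : ∀ x ∈ M, ∀ c ∈ cen N, x * c = c * x :=
  fun x hx c hc => ((mem_cen.1 hc).2 x (hMN hx)).symm

theorem cen_hcomm {N M : Subgroup H}
    (hcl : ∀ x ∈ N, ∀ y ∈ N, ∀ w ∈ N, (x * y * x⁻¹ * y⁻¹) * w = w * (x * y * x⁻¹ * y⁻¹))
    (hMN : M ≤ N) : ∀ x ∈ M, ∀ y ∈ M, x * y * x⁻¹ * y⁻¹ ∈ cen N :=
  fun x hx y hy =>
    mem_cen.2 ⟨N.mul_mem (N.mul_mem (N.mul_mem (hMN hx) (hMN hy)) (N.inv_mem (hMN hx)))
      (N.inv_mem (hMN hy)), fun w hw => hcl x (hMN hx) y (hMN hy) w hw⟩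

/-- an element of primitive prime order is not a scalar (`dim V ≥ 2`) -/
theorem not_scalar_of_ppd [Finite V] [Nontrivial V] (hn2 : 2 ≤ Module.finrank (ZMod p) V)
    {g : H} {z : ℕ} (hz : IsPpd p (Module.finrank (ZMod p) V) z) (hg : orderOf g = z)
    (α : ZMod p) (hα : toE H g = α • (1 : Module.End (ZMod p) V)) : False := by
  obtain ⟨v₀, hv₀⟩ := exists_ne (0 : V)
  have hinv : ∀ v ∈ Submodule.span (ZMod p) {v₀}, (g : V ≃ₗ[ZMod p] V) v ∈
      Submodule.span (ZMod p) {v₀} := by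
    intro v hv
    have h1 : (g : V ≃ₗ[ZMod p] V) v = α • v := by
      have := congrArg (fun f : Module.End (ZMod p) V => f v) hα
      exact this
    rw [h1]
    exact Submodule.smul_mem _ _ hv
  rcases ppd_irr hz hg _ hinv with h | h
  · apply hv₀
    have : v₀ ∈ Submodule.span (ZMod p) {v₀} := Submodule.mem_span_singleton_self v₀
    rw [h] at this
    exact (Submodule.mem_bot _).1 this
  · have h1 : Module.finrank (ZMod p) (Submodule.span (ZMod p) {v₀}) ≤ 1 := by
      have := finrank_span_le_card (R := ZMod p) ({v₀} : Set V)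
      simpa using this
    rw [h, finrank_top] at h1
    omega

/-- **the dichotomy** -/
theorem dichotomy [Finite V] [Nontrivial V] (htr : Trans H) (hsol : Group.IsSolvable H)
    (hn2 : 2 ≤ Module.finrank (ZMod p) V) {z : ℕ}
    (hz : IsPpd p (Module.finrank (ZMod p) V) z) :
    CaseI H ∨ (z = Module.finrank (ZMod p) V + 1 ∧ (∃ k, Module.finrank (ZMod p) V = 2 ^ k) ∧
      p ≠ 2 ∧ ¬ z ^ 2 ∣ Nat.card H) := by
  have := finite_H (H := H)
  have hp : p.Prime := Fact.out
  have : Fact z.Prime := ⟨hz.1⟩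
  set n := Module.finrank (ZMod p) V with hn
  have hnz : n < z := hz.lt hp (by omega)
  have hzH : z ∣ Nat.card H := by
    have h1 := card_sub_one_dvd_card htr
    rw [card_V (p := p)] at h1
    exact hz.2.1.trans h1
  obtain ⟨g, hg⟩ := exists_prime_orderOf_dvd_card' z hzH
  by_cases hpc : pCore z H = ⊥
  swap
  · exact Or.inl (caseI_of_normal_zgroup (pCore_normal z) hz (pCore_isPGroup z) hpc)
  right
  obtain ⟨r, hr, hrz, x, hxR, hgx⟩ := exists_pCore_not_commute hsol hz.1 hg hpc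
  have hcop : (orderOf g).Coprime r := by
    rw [hg]
    exact (Nat.coprime_primes hz.1 hr).2 (fun h => hrz h.symm)
  obtain ⟨N, hNn, hNR, hgN, hcl, hexp, hK⟩ := Cfsg.Agent.Lib.Helper19.S3360FO.FO5 r hr g (pCore r H) (pCore_normal r)
    (pCore_isPGroup r) hcop ⟨x, hxR, hgx⟩
  have hNr : IsPGroup r N := (pCore_isPGroup (G := H) r).to_le hNR
  have hrp : r ≠ p := by
    rintro rfl
    have hbot := eq_bot_of_normal_pgroup htr (pCore_normal (G := H) r) (pCore_isPGroup r)
    rw [hbot, Subgroup.mem_bot] at hxR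
    apply hgx
    rw [hxR, mul_one, one_mul]
  obtain ⟨hzn, hr2, hk, M, hMN, hidx, hcomm⟩ :=
    chain_elt htr hn2 hz hr hrz hNn hNr hcl hexp hg hgN
  refine ⟨hzn, hk, fun h => hrp (hr2.trans h.symm), ?_⟩
  intro hsq
  have hZn := cen_normal hNn
  have hZc := cen_comm (N := N)
  have hfree : ∀ g' : H, orderOf g' = z → ∀ x ∈ N, g' * x = x * g' → ∀ w ∈ N, x * w = w * x := by
    intro g' hg' y hy hgy
    by_cases hg'N : ∃ y ∈ N, g' * y ≠ y * g'
    · obtain ⟨-, -, -, M', hM'N, hidx', hcomm'⟩ :=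
        chain_elt htr hn2 hz hr hrz hNn hNr hcl hexp hg' hg'N
      have hT : ∀ m ∈ M', toE H m * toE H y = toE H y * toE H m := by
        intro m hm
        rw [← toE_mul, ← toE_mul, hcomm' y hy hgy m hm]
      obtain ⟨α, hα⟩ := scalar_of_commute htr hZn hZc (cen_hMZ hM'N) (cen_hcomm hcl hM'N) hidx' hT
      intro w _
      apply toE_injective H
      rw [toE_mul, toE_mul, hα, smul_mul_assoc, one_mul, mul_smul_comm, mul_one]
    · exfalso
      push Not at hg'N
      have hT : ∀ m ∈ M, toE H m * toE H g' = toE H g' * toE H m := by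
        intro m hm
        rw [← toE_mul, ← toE_mul, hg'N m (hMN hm)]
      obtain ⟨α, hα⟩ := scalar_of_commute htr hZn hZc (cen_hMZ hMN) (cen_hcomm hcl hMN) hidx hT
      exact not_scalar_of_ppd hn2 hz hg' α hα
  have h8 := Cfsg.Agent.Lib.Helper23.S3360FO8.FO8 N hNn r z hz.1 hr hrz.symm hNr hfree 2 hsq
  have hle : (Subgroup.center N).index ≤ n ^ 2 :=
    index_center_le htr hZn hZc (cen_hMZ (le_refl N)) (cen_hcomm hcl (le_refl N))
  have hpos : (Subgroup.center N).index ≠ 0 := Subgroup.index_ne_zero_of_finite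
  have h1 : (Subgroup.center N).index - 1 = 0 := by
    by_contra hne
    have h2 := Nat.le_of_dvd (Nat.pos_of_ne_zero hne) h8
    have h3 : z ^ 2 = n ^ 2 + 2 * n + 1 := by rw [hzn]; ring
    generalize n ^ 2 = A at hle h3
    generalize z ^ 2 = B at h2 h3
    omega
  have hidx1 : (Subgroup.center N).index = 1 := by omega
  rw [Subgroup.index_eq_one] at hidx1
  have hNc : ∀ a ∈ N, ∀ b ∈ N, a * b = b * a := by
    intro a ha b hb
    have h1 : (⟨a, ha⟩ : N) ∈ Subgroup.center N := by rw [hidx1]; trivial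
    have := Subgroup.mem_center_iff.1 h1 ⟨b, hb⟩
    exact (congrArg Subtype.val this).symm
  obtain ⟨y, hy, hgy⟩ := hgN
  exact hgy (commute_of_prime_order_gt htr hNn hNc hz.1 hg hnz y hy)

end Cfsg.H5.Hup
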