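import Mathlib
import Cfsg.Agent.H5.HupDich
import Cfsg.Agent.Lib.Helper29.S3360FO5b
import Cfsg.Agent.Lib.Helper19.S3360FO10

/-!
# Huppert's theorem (S3360): the two-dimensional case
-/

set_option autoImplicit false

namespace Cfsg.H5.Hup

open Cfsg Cfsg.Agent.Lib.Helper1 Cfsg.Agent.Lib.Helper12.NearIrr Cfsg.Agent.Lib.Helper12.NF
  Cfsg.Agent.Lib.Helper2.S3360FO7

variable {p : ℕ} [Fact p.Prime] {V : Type*} [AddCommGroup V] [Module (ZMod p) V]
variable {H : Subgroup (V ≃ₗ[ZMod p] V)}

/-- `h` acts as a scalar -/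
def IsScalar (h : H) : Prop := ∃ α : ZMod p, toE H h = α • (1 : Module.End (ZMod p) V)

theorem IsScalar.central {h : H} (hh : IsScalar h) (k : H) : h * k = k * h := by
  obtain ⟨α, hα⟩ := hh
  apply toE_injective H
  rw [toE_mul, toE_mul, hα, smul_mul_assoc, one_mul, mul_smul_comm, mul_one]

/-- in dimension 2 an abelian normal subgroup with a non-scalar element is irreducible -/
theorem caseI_of_nonscalar [Finite V] (htr : Trans H) (hn : Module.finrank (ZMod p) V = 2)
    {A : Subgroup H} (hAn : A.Normal) (hAc : ∀ a ∈ A, ∀ b ∈ A, a * b = b * a) {a : H}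
    (ha : a ∈ A) (hns : ¬ IsScalar a) : CaseI H := by
  refine ⟨A, hAn, hAc, ?_⟩
  intro W hW
  by_contra hcon
  push Not at hcon
  obtain ⟨hbot, htop⟩ := hcon
  have hfd : FiniteDimensional (ZMod p) V := Module.Finite.of_finite
  have h1 : Module.finrank (ZMod p) W ≠ 0 := fun h => hbot (Submodule.finrank_eq_zero.1 h)
  have h2 : Module.finrank (ZMod p) W ≠ 2 := fun h =>
    htop (Submodule.eq_top_of_finrank_eq (h.trans hn.symm))
  have h3 : Module.finrank (ZMod p) W ≤ 2 := hn ▸ Submodule.finrank_le W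
  have h4 : Module.finrank (ZMod p) W = 1 := by omega
  obtain ⟨w, hw0, hw⟩ := finrank_eq_one_iff'.1 h4
  have haw : (⟨(a : V ≃ₗ[ZMod p] V) (w : V), hW a ha w w.2⟩ : W) ∈ (⊤ : Submodule (ZMod p) W) :=
    trivial
  obtain ⟨c, hc⟩ := hw ⟨(a : V ≃ₗ[ZMod p] V) (w : V), hW a ha w w.2⟩
  have hc' : c • (w : V) = (a : V ≃ₗ[ZMod p] V) (w : V) := congrArg Subtype.val hc
  apply hns
  refine ⟨c, ?_⟩
  by_contra hne
  have hmem : toE H a - c • (1 : Module.End (ZMod p) V) ∈ adj H A :=
    sub_mem (toE_mem_adj H A ha) (Subalgebra.smul_mem _ (one_mem _) _)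
  have hne' : toE H a - c • (1 : Module.End (ZMod p) V) ≠ 0 := fun h => hne (sub_eq_zero.1 h)
  have hinj := adj_injective htr hAn hAc hmem hne'
  have h5 : (toE H a - c • (1 : Module.End (ZMod p) V)) (w : V) = 0 := by
    rw [LinearMap.sub_apply, LinearMap.smul_apply, Module.End.one_apply, toE_apply, ← hc', sub_self]
  rw [← map_zero (toE H a - c • (1 : Module.End (ZMod p) V))] at h5
  apply hw0
  exact Subtype.ext (hinj h5)

/-- in dimension 2 a transitive group contains non-scalar elements -/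
theorem exists_nonscalar [Finite V] [Nontrivial V] (htr : Trans H)
    (hn : Module.finrank (ZMod p) V = 2) : ∃ h : H, ¬ IsScalar h := by
  by_contra hall
  push Not at hall
  obtain ⟨v₀, hv₀⟩ := exists_ne (0 : V)
  have hfd : FiniteDimensional (ZMod p) V := Module.Finite.of_finite
  have hne : Submodule.span (ZMod p) {v₀} ≠ ⊤ := by
    intro h
    have h1 : Module.finrank (ZMod p) (Submodule.span (ZMod p) {v₀}) ≤ 1 := by
      have := finrank_span_le_card (R := ZMod p) ({v₀} : Set V)
      simpa using this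
    rw [h, finrank_top, hn] at h1
    omega
  obtain ⟨w, hw⟩ : ∃ w, w ∉ Submodule.span (ZMod p) {v₀} := by
    by_contra hcon
    push Not at hcon
    exact hne (eq_top_iff.2 fun v _ => hcon v)
  have hw0 : w ≠ 0 := fun h => hw (h ▸ zero_mem _)
  obtain ⟨h, hh⟩ := htr v₀ w hv₀ hw0
  obtain ⟨α, hα⟩ := hall h
  apply hw
  have h1 : w = α • v₀ := by
    rw [← hh]
    have := congrArg (fun f : Module.End (ZMod p) V => f v₀) hα
    exact this
  rw [h1]
  exact Submodule.smul_mem _ _ (Submodule.mem_span_singleton_self v₀)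

/-- a subgroup of scalars has order dividing `p - 1` when it is abelian normal -/
theorem card_dvd_of_scalar [Finite V] [Nontrivial V] (htr : Trans H) {C : Subgroup H}
    (hCn : C.Normal) (hCs : ∀ c ∈ C, IsScalar c) : Nat.card C ∣ p - 1 := by
  have := finite_H (H := H)
  have hp : p.Prime := Fact.out
  have hCc : ∀ a ∈ C, ∀ b ∈ C, a * b = b * a := fun a ha b _ => (hCs a ha).central b
  have hcyc := isCyclic_of_abelian_normal htr hCn hCc
  obtain ⟨c, hc⟩ := hcyc.exists_generator
  have hord : orderOf c = Nat.card C := orderOf_eq_card_of_forall_mem_zpowers hc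
  rw [← hord]
  apply orderOf_dvd_of_pow_eq_one
  obtain ⟨α, hα⟩ := hCs c c.2
  obtain ⟨v₀, hv₀⟩ := exists_ne (0 : V)
  have hα0 : α ≠ 0 := by
    rintro rfl
    rw [zero_smul] at hα
    have h1 := toE_inv_apply H (c : H) v₀
    rw [hα, LinearMap.zero_apply, map_zero] at h1
    exact hv₀ h1.symm
  have hpow : α ^ (p - 1) = 1 := ZMod.pow_card_sub_one_eq_one hα0
  apply Subtype.ext
  apply toE_injective H
  rw [Subgroup.coe_pow, toE_pow, hα, smul_pow, one_pow, hpow, one_smul, Subgroup.coe_one, toE_one]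

/-- **the two-dimensional case** -/
theorem case_two [Finite V] [Nontrivial V] (htr : Trans H) (hsol : Group.IsSolvable H)
    (hn : Module.finrank (ZMod p) V = 2) : CaseI H ∨ (p ≠ 2 ∧ p + 1 ∣ 24) := by
  have := finite_H (H := H)
  have hp : p.Prime := Fact.out
  by_cases hB : ∃ A : Subgroup H, A.Normal ∧ (∀ a ∈ A, ∀ b ∈ A, a * b = b * a) ∧
      ∃ a ∈ A, ¬ IsScalar a
  · obtain ⟨A, hAn, hAc, a, ha, hns⟩ := hB
    exact Or.inl (caseI_of_nonscalar htr hn hAn hAc ha hns)
  right
  push Not at hB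
  -- some `O_r(H)` is nonabelian
  have hex : ∃ r : ℕ, r.Prime ∧ ∃ x ∈ pCore r H, ∃ y ∈ pCore r H, x * y ≠ y * x := by
    by_contra hcon
    push Not at hcon
    have hcen : ∀ q : Nat.Primes, pCore (q : ℕ) H ≤ Subgroup.center H := by
      intro q x hx
      rw [Subgroup.mem_center_iff]
      intro k
      exact ((hB (pCore (q : ℕ) H) (pCore_normal _) (hcon q q.2) x hx).central k).symm
    have hF : fittingSubgroup H ≤ Subgroup.center H := by
      rw [fittingSubgroup_eq_iSup_primes]
      exact iSup_le hcen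
    have hall : ∀ g : H, g ∈ Subgroup.center H := by
      intro g
      apply hF
      apply centralizer_fittingSubgroup_le
      rw [Subgroup.mem_centralizer_iff]
      intro x hx
      exact (Subgroup.mem_center_iff.1 (hF hx) g).symm
    obtain ⟨h, hh⟩ := exists_nonscalar htr hn
    apply hh
    apply hB ⊤ inferInstance _ h trivial
    intro a _ b _
    exact (Subgroup.mem_center_iff.1 (hall a) b).symm
  obtain ⟨r, hr, x, hx, y, hy, hxy⟩ := hex
  have hab : ∀ A : Subgroup H, A.Normal → A ≤ pCore r H → (∀ a ∈ A, ∀ b ∈ A, a * b = b * a) →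
      ∀ a ∈ A, ∀ h : H, a * h = h * a := fun A hAn _ hAc a ha h => (hB A hAn hAc a ha).central h
  obtain ⟨N, hNn, hNR, hNna, hclH, hexpH⟩ := Cfsg.Agent.Lib.Helper29.S3360FO5b.FO5b r hr (pCore r H) (pCore_normal r)
    (pCore_isPGroup r) ⟨x, hx, y, hy, hxy⟩ hab
  have hNr : IsPGroup r N := (pCore_isPGroup (G := H) r).to_le hNR
  have hrp : r ≠ p := by
    rintro rfl
    have hbot := eq_bot_of_normal_pgroup htr (pCore_normal (G := H) r) (pCore_isPGroup r)
    rw [hbot, Subgroup.mem_bot] at hx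
    apply hxy
    rw [hx, mul_one, one_mul]
  have hcl : ∀ x ∈ N, ∀ y ∈ N, ∀ w ∈ N,
      (x * y * x⁻¹ * y⁻¹) * w = w * (x * y * x⁻¹ * y⁻¹) := fun x hx y hy w _ => hclH x hx y hy w
  have hZn := cen_normal hNn
  have hZc := cen_comm (N := N)
  -- the index of the centre is a square
  have hcyc : IsCyclic (Subgroup.center N) := by
    have hcycZ : IsCyclic (cen N) := isCyclic_of_abelian_normal htr hZn hZc
    let f : Subgroup.center N →* cen N :=
      { toFun := fun c => ⟨((c : N) : H), ⟨(c : N), c.2, rfl⟩⟩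
        map_one' := rfl
        map_mul' := fun a b => rfl }
    apply isCyclic_of_injective f
    intro a b hab
    have : ((a : N) : H) = ((b : N) : H) := congrArg (fun t : cen N => (t : H)) hab
    exact Subtype.ext (Subtype.ext this)
  obtain ⟨k, hk⟩ := FO7a (M := N) r hr
    (fun x y w => Subtype.ext (hcl x.1 x.2 y.1 y.2 w.1 w.2))
    (fun x w => Subtype.ext (by
      have := hexpH x.1 x.2 w.1
      simpa using this))
    hcyc
  have hle : (Subgroup.center N).index ≤ 2 ^ 2 := by
    have := index_center_le htr hZn hZc (cen_hMZ (le_refl N)) (cen_hcomm hcl (le_refl N))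
    rwa [hn] at this
  -- the index is `4`
  have hidx1 : (Subgroup.center N).index ≠ 1 := by
    intro h1
    rw [Subgroup.index_eq_one] at h1
    obtain ⟨a, ha, b, hb, hab'⟩ := hNna
    apply hab'
    have h2 : (⟨a, ha⟩ : N) ∈ Subgroup.center N := by rw [h1]; trivial
    have := Subgroup.mem_center_iff.1 h2 ⟨b, hb⟩
    exact (congrArg Subtype.val this).symm
  have hs : r ^ k = 2 := by
    have h1 : r ^ k ≠ 1 := by
      intro h
      rw [hk, h] at hidx1
      exact hidx1 (one_pow 2)
    have h2 : r ^ k ≠ 0 := (pow_pos hr.pos k).ne'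
    rw [hk] at hle
    have h3 : r ^ k ≤ 2 := by
      by_contra hcon
      push Not at hcon
      have : 2 ^ 2 < (r ^ k) ^ 2 := Nat.pow_lt_pow_left hcon (by norm_num)
      omega
    omega
  have hr2 : r = 2 := by
    have hk0 : k ≠ 0 := by
      rintro rfl
      rw [pow_zero] at hs
      omega
    have h1 : r ∣ 2 := hs ▸ dvd_pow_self r hk0
    exact (Nat.prime_dvd_prime_iff_eq hr Nat.prime_two).1 h1
  have hidx : (Subgroup.center N).index = 4 := by rw [hk, hs]; norm_num
  refine ⟨fun h => hrp (hr2.trans h.symm), ?_⟩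
  -- FO-10a
  have hZ : ∀ c ∈ N, (∀ w ∈ N, c * w = w * c) → ∀ h : H, c * h = h * c := by
    intro c hcN hc h
    exact (hB (cen N) hZn hZc c (mem_cen.2 ⟨hcN, hc⟩)).central h
  have hcenn : (Subgroup.center H).Normal := inferInstance
  have hcenc : ∀ a ∈ Subgroup.center H, ∀ b ∈ Subgroup.center H, a * b = b * a :=
    fun a ha b _ => (Subgroup.mem_center_iff.1 ha b).symm
  obtain ⟨v₀, hv₀⟩ := exists_ne (0 : V)
  have hneg : ∀ c : H, (∀ h, c * h = h * c) → c ^ 2 = 1 → c ≠ 1 →
      toE H c = (-1 : ZMod p) • (1 : Module.End (ZMod p) V) := by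
    intro c hc hc2 hc1
    have hcm : c ∈ Subgroup.center H := Subgroup.mem_center_iff.2 fun h => (hc h).symm
    obtain ⟨α, hα⟩ := hB _ hcenn hcenc c hcm
    have h1 : α ^ 2 = 1 := by
      have h2 : toE H (c ^ 2) = 1 := by rw [hc2, toE_one]
      rw [toE_pow, hα, smul_pow, one_pow] at h2
      have := congrArg (fun f : Module.End (ZMod p) V => f v₀) h2
      simp only [LinearMap.smul_apply, Module.End.one_apply] at this
      have h3 : (α ^ 2 - 1) • v₀ = 0 := by rw [sub_smul, this, one_smul, sub_self]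
      exact sub_eq_zero.1 ((smul_eq_zero.1 h3).resolve_right hv₀)
    have h2 : α = 1 ∨ α = -1 := by
      rw [sq] at h1
      exact mul_self_eq_one_iff.1 h1
    rcases h2 with h2 | h2
    · exfalso
      apply hc1
      apply toE_injective H
      rw [hα, h2, one_smul, toE_one]
    · rw [hα, h2]
  have hinv : ∀ c d : H, (∀ h, c * h = h * c) → (∀ h, d * h = h * d) → c ^ 2 = 1 → d ^ 2 = 1 →
      c ≠ 1 → d ≠ 1 → c = d := by
    intro c d hc hd hc2 hd2 hc1 hd1
    apply toE_injective H
    rw [hneg c hc hc2 hc1, hneg d hd hd2 hd1]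
  have h24 := Cfsg.Agent.Lib.Helper19.S3360FO.FO10a N hNn hidx hZ hinv
  -- the centralizer consists of scalars
  have := hNn
  have hCn : (Subgroup.centralizer (N : Set H)).Normal := inferInstance
  have hCs : ∀ c ∈ Subgroup.centralizer (N : Set H), IsScalar c := by
    intro c hc
    rw [Subgroup.mem_centralizer_iff] at hc
    have hT : ∀ m ∈ N, toE H m * toE H c = toE H c * toE H m := by
      intro m hm
      rw [← toE_mul, ← toE_mul, hc m hm]
    have hidx' : (Subgroup.center N).index = Module.finrank (ZMod p) V ^ 2 := by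
      rw [hidx, hn]; norm_num
    exact scalar_of_commute htr hZn hZc (cen_hMZ (le_refl N)) (cen_hcomm hcl (le_refl N)) hidx' hT
  have hCcard := card_dvd_of_scalar htr hCn hCs
  have hH : Nat.card H ∣ 24 * (p - 1) := by
    rw [← Subgroup.index_mul_card (Subgroup.centralizer (N : Set H))]
    exact Nat.mul_dvd_mul h24 hCcard
  have hV := card_sub_one_dvd_card htr
  rw [card_V (p := p), hn] at hV
  have h1 := hV.trans hH
  have h2 : p ^ 2 - 1 = (p + 1) * (p - 1) := by
    obtain ⟨t, ht⟩ : ∃ t, p = t + 1 := ⟨p - 1, by have := hp.pos; omega⟩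
    rw [ht]
    have : (t + 1) ^ 2 = (t + 1 + 1) * (t + 1 - 1) + 1 := by
      simp only [Nat.add_sub_cancel]; ring
    omega
  rw [h2] at h1
  have hp1 : 0 < p - 1 := by have := hp.two_le; omega
  exact Nat.dvd_of_mul_dvd_mul_right hp1 h1

end Cfsg.H5.Hup
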