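import Mathlib

/-!
Arithmetic for the soluble exceptional near-fields.
-/

set_option autoImplicit false

namespace Cfsg.H5.NearArith

theorem fin_check : ∀ p ∈ [3, 5, 7, 11, 13, 17, 19, 23], ∀ m ∈ List.range 5, ∀ n ∈ List.range 9,
    ∀ c ∈ [1, 2, 3, 4, 6, 8, 12, 24], ∀ k ∈ List.range 5,
    1 ≤ m → 2 * m ≤ n → 1 ≤ k → k ≤ m → 8 ∣ p ^ n - 1 → (k * c) ∣ (p ^ n - 1) →
    ((p ^ n - 1) / (k * c)) ∣ p ^ m - 1 → 2 ∣ (p ^ n - 1) / (k * c) →
    ¬ 4 ∣ (p ^ n - 1) / (k * c) →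
    p ^ n = 9 ∨ p ^ n = 25 ∨ p ^ n = 49 ∨ p ^ n = 121 ∨ p ^ n = 529 := by
  decide +kernel

theorem lt_three_pow : ∀ m : ℕ, 5 ≤ m → 24 * m < 3 ^ m := by
  intro m hm
  induction m, hm using Nat.le_induction with
  | base => norm_num
  | succ m hm ih =>
    have h1 : 3 ^ 5 ≤ 3 ^ m := Nat.pow_le_pow_right (by norm_num) hm
    rw [pow_succ]
    omega

/-- the arithmetic conclusion -/
theorem main (p m n a c k : ℕ) (hp : p.Prime) (hm : 1 ≤ m) (hmn : 2 * m ≤ n)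
    (ha : a ∣ p ^ m - 1) (h2 : 2 ∣ a) (h4 : ¬ 4 ∣ a) (hc : c ∣ 24) (hk1 : 1 ≤ k) (hk : k ≤ m)
    (h8 : 8 ∣ p ^ n - 1) (hh : p ^ n - 1 = k * c * a) :
    p ^ n = 9 ∨ p ^ n = 25 ∨ p ^ n = 49 ∨ p ^ n = 121 ∨ p ^ n = 529 := by
  have hp2 : p ≠ 2 := by
    rintro rfl
    have h1 : 2 ∣ 2 ^ n := dvd_pow_self 2 (by omega)
    have h3 : 1 ≤ 2 ^ n := Nat.one_le_two_pow
    omega
  have hp3 : 3 ≤ p := by
    have := hp.two_le
    omega
  have hx3 : 3 ^ m ≤ p ^ m := Nat.pow_le_pow_left hp3 m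
  have hx1 : 3 ≤ p ^ m := by
    calc 3 = 3 ^ 1 := by norm_num
      _ ≤ 3 ^ m := Nat.pow_le_pow_right (by norm_num) hm
      _ ≤ p ^ m := hx3
  have hapos : 0 < a := by
    rcases Nat.eq_zero_or_pos a with h | h
    · rw [h] at h4; exact absurd (dvd_zero 4) h4
    · exact h
  have hale : a ≤ p ^ m - 1 := Nat.le_of_dvd (by omega) ha
  have hcpos : 0 < c := Nat.pos_of_dvd_of_pos hc (by norm_num)
  have hcle : c ≤ 24 := Nat.le_of_dvd (by norm_num) hc
  have hsq : p ^ m * p ^ m ≤ p ^ n := by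
    rw [← pow_add, ← two_mul]
    exact Nat.pow_le_pow_right hp.pos hmn
  -- `p ^ m + 1 ≤ 24 * m`
  have hkey : p ^ m + 1 ≤ 24 * m := by
    obtain ⟨x, hx⟩ : ∃ x, p ^ m = x + 2 := ⟨p ^ m - 2, by omega⟩
    rw [hx] at hsq hale ⊢
    have h1 : k * c * a ≤ m * 24 * (x + 1) := by
      apply Nat.mul_le_mul (Nat.mul_le_mul hk hcle)
      omega
    have h3 : (x + 2) * (x + 2) - 1 ≤ m * 24 * (x + 1) := by
      calc (x + 2) * (x + 2) - 1 ≤ p ^ n - 1 := Nat.sub_le_sub_right hsq 1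
        _ = k * c * a := hh
        _ ≤ m * 24 * (x + 1) := h1
    have h5 : (x + 2) * (x + 2) - 1 = (x + 3) * (x + 1) := by
      have : (x + 2) * (x + 2) = (x + 3) * (x + 1) + 1 := by ring
      omega
    rw [h5] at h3
    have h6 := Nat.le_of_mul_le_mul_right h3 (by omega : 0 < x + 1)
    omega
  have hm4 : m ≤ 4 := by
    by_contra hcon
    have := lt_three_pow m (by omega)
    omega
  -- bound on `p`
  have hp23 : p ≤ 23 := by
    rcases Nat.lt_or_ge m 2 with h | h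
    · have hm1 : m = 1 := by omega
      rw [hm1, pow_one] at hkey
      omega
    · have h1 : p ^ 2 ≤ p ^ m := Nat.pow_le_pow_right hp.pos h
      have h3 : p * p ≤ 95 := by
        rw [← sq]; omega
      by_contra hcon
      have : 24 * 24 ≤ p * p := Nat.mul_le_mul (by omega) (by omega)
      omega
  -- bound on `n`
  have hn8 : n ≤ 8 := by
    by_contra hcon
    have h1 : 3 ^ 9 ≤ p ^ n :=
      calc 3 ^ 9 ≤ 3 ^ n := Nat.pow_le_pow_right (by norm_num) (by omega)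
        _ ≤ p ^ n := Nat.pow_le_pow_left hp3 n
    have h3 : k * c * a ≤ 4 * 24 * (24 * 4) := by
      apply Nat.mul_le_mul (Nat.mul_le_mul (by omega) hcle)
      omega
    omega
  have hkc : 0 < k * c := Nat.mul_pos (by omega) hcpos
  have hdiv : (p ^ n - 1) / (k * c) = a := Nat.div_eq_of_eq_mul_right hkc hh
  have hpm : p ∈ [3, 5, 7, 11, 13, 17, 19, 23] := by
    interval_cases p <;> first | (norm_num at hp; done) | simp
  have hcm : c ∈ [1, 2, 3, 4, 6, 8, 12, 24] := by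
    interval_cases c <;> first | (norm_num at hc; done) | simp
  exact fin_check p hpm m (List.mem_range.2 (by omega)) n (List.mem_range.2 (by omega)) c hcm k
    (List.mem_range.2 (by omega)) hm hmn hk1 hk h8 ⟨a, hh⟩ (by rw [hdiv]; exact ha)
    (by rw [hdiv]; exact h2) (by rw [hdiv]; exact h4)

end Cfsg.H5.NearArith
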