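import Mathlib

/-!
Linear groups over `ZMod p` that are regular on the non-zero vectors: for a normal subgroup `A`,
the minimal `A`-invariant subspaces form a spread of `V` permuted by `H`, and every linear map
preserving all `A`-invariant subspaces that kills one minimal invariant subspace is zero
(homogeneity of `V` as an `A`-module).
-/

set_option autoImplicit false

namespace Cfsg.H5.NearSpread

variable {p : ℕ} [Fact p.Prime] {V : Type*} [AddCommGroup V] [Module (ZMod p) V]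

/-- `U` is invariant under the subgroup `A` of `H`. -/
def Inv (H : Subgroup (V ≃ₗ[ZMod p] V)) (A : Subgroup H) (U : Submodule (ZMod p) V) : Prop :=
  ∀ a ∈ A, ∀ v ∈ U, ((a : H) : V ≃ₗ[ZMod p] V) v ∈ U

/-- `W` is a minimal non-zero `A`-invariant subspace. -/
def IsMinInv (H : Subgroup (V ≃ₗ[ZMod p] V)) (A : Subgroup H) (W : Submodule (ZMod p) V) : Prop :=
  W ≠ ⊥ ∧ Inv H A W ∧ ∀ W' : Submodule (ZMod p) V, W' ≤ W → Inv H A W' → W' = ⊥ ∨ W' = W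

variable {H : Subgroup (V ≃ₗ[ZMod p] V)} {A : Subgroup H}

theorem Inv.inf {U₁ U₂ : Submodule (ZMod p) V} (h₁ : Inv H A U₁) (h₂ : Inv H A U₂) :
    Inv H A (U₁ ⊓ U₂) := fun a ha v hv => ⟨h₁ a ha v hv.1, h₂ a ha v hv.2⟩

theorem Inv.sup {U₁ U₂ : Submodule (ZMod p) V} (h₁ : Inv H A U₁) (h₂ : Inv H A U₂) :
    Inv H A (U₁ ⊔ U₂) := by
  intro a ha v hv
  obtain ⟨x, hx, y, hy, rfl⟩ := Submodule.mem_sup.1 hv
  rw [map_add]
  exact Submodule.add_mem_sup (h₁ a ha x hx) (h₂ a ha y hy)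

theorem Inv.map (hAn : A.Normal) {U : Submodule (ZMod p) V} (hU : Inv H A U) (h : H) :
    Inv H A (U.map ((h : V ≃ₗ[ZMod p] V) : V →ₗ[ZMod p] V)) := by
  intro a ha x hx
  obtain ⟨y, hy, rfl⟩ := hx
  have h1 : h⁻¹ * a * h ∈ A := by
    have := hAn.conj_mem a ha h⁻¹
    simpa using this
  refine ⟨((h⁻¹ * a * h : H) : V ≃ₗ[ZMod p] V) y, hU _ h1 y hy, ?_⟩
  have e : (h : V ≃ₗ[ZMod p] V) * ((h⁻¹ * a * h : H) : V ≃ₗ[ZMod p] V) =
      ((a : H) : V ≃ₗ[ZMod p] V) * (h : V ≃ₗ[ZMod p] V) := by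
    rw [← Subgroup.coe_mul, ← Subgroup.coe_mul]
    congr 1
    group
  have := congrArg (fun f : V ≃ₗ[ZMod p] V => f y) e
  simpa using this

theorem map_map_inv (U : Submodule (ZMod p) V) (h : H) :
    (U.map ((h : V ≃ₗ[ZMod p] V) : V →ₗ[ZMod p] V)).map
      (((h⁻¹ : H) : V ≃ₗ[ZMod p] V) : V →ₗ[ZMod p] V) = U := by
  ext x
  constructor
  · rintro ⟨y, ⟨z, hz, rfl⟩, rfl⟩
    have : ((h⁻¹ : H) : V ≃ₗ[ZMod p] V) ((h : V ≃ₗ[ZMod p] V) z) = z := by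
      have e : ((h⁻¹ : H) : V ≃ₗ[ZMod p] V) * (h : V ≃ₗ[ZMod p] V) = 1 := by
        rw [← Subgroup.coe_mul, inv_mul_cancel, Subgroup.coe_one]
      have := congrArg (fun f : V ≃ₗ[ZMod p] V => f z) e
      simpa using this
    simpa [this] using hz
  · intro hx
    refine ⟨(h : V ≃ₗ[ZMod p] V) x, ⟨x, hx, rfl⟩, ?_⟩
    have e : ((h⁻¹ : H) : V ≃ₗ[ZMod p] V) * (h : V ≃ₗ[ZMod p] V) = 1 := by
      rw [← Subgroup.coe_mul, inv_mul_cancel, Subgroup.coe_one]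
    have := congrArg (fun f : V ≃ₗ[ZMod p] V => f x) e
    simpa using this

theorem IsMinInv.map (hAn : A.Normal) {W : Submodule (ZMod p) V} (hW : IsMinInv H A W) (h : H) :
    IsMinInv H A (W.map ((h : V ≃ₗ[ZMod p] V) : V →ₗ[ZMod p] V)) := by
  obtain ⟨h0, hinv, hmin⟩ := hW
  refine ⟨?_, hinv.map hAn h, ?_⟩
  · intro hb
    apply h0
    rw [Submodule.map_eq_bot_iff] at hb
    · exact hb
  · intro W' hle hW'
    have h1 : W'.map (((h⁻¹ : H) : V ≃ₗ[ZMod p] V) : V →ₗ[ZMod p] V) ≤ W := by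
      have := Submodule.map_mono (f := (((h⁻¹ : H) : V ≃ₗ[ZMod p] V) : V →ₗ[ZMod p] V)) hle
      rwa [map_map_inv] at this
    have h2 := hmin _ h1 (hW'.map hAn h⁻¹)
    have h3 : (W'.map (((h⁻¹ : H) : V ≃ₗ[ZMod p] V) : V →ₗ[ZMod p] V)).map
        ((h : V ≃ₗ[ZMod p] V) : V →ₗ[ZMod p] V) = W' := by
      have := map_map_inv W' h⁻¹
      rwa [inv_inv] at this
    rcases h2 with h2 | h2
    · left
      rw [← h3, h2, Submodule.map_bot]
    · right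
      rw [← h3, h2]

theorem IsMinInv.inf_eq_bot_or_eq {W₁ W₂ : Submodule (ZMod p) V} (h₁ : IsMinInv H A W₁)
    (h₂ : IsMinInv H A W₂) : W₁ ⊓ W₂ = ⊥ ∨ W₁ = W₂ := by
  rcases h₁.2.2 (W₁ ⊓ W₂) inf_le_left (h₁.2.1.inf h₂.2.1) with h | h
  · left; exact h
  · rcases h₂.2.2 (W₁ ⊓ W₂) inf_le_right (h₁.2.1.inf h₂.2.1) with h' | h'
    · left; exact h'
    · right; rw [← h, h']

/-- a minimal invariant subspace meeting an invariant subspace non-trivially lies inside it -/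
theorem IsMinInv.le_of_mem {W U : Submodule (ZMod p) V} (hW : IsMinInv H A W) (hU : Inv H A U)
    {v : V} (hv : v ≠ 0) (hvW : v ∈ W) (hvU : v ∈ U) : W ≤ U := by
  rcases hW.2.2 (W ⊓ U) inf_le_left (hW.2.1.inf hU) with h | h
  · exfalso
    have : v ∈ W ⊓ U := ⟨hvW, hvU⟩
    rw [h] at this
    exact hv ((Submodule.mem_bot _).1 this)
  · rw [← h]; exact inf_le_right

/-- the transfer lemma -/
theorem kill_of_sup {U₁ U₂ U₃ : Submodule (ZMod p) V} (F : V →ₗ[ZMod p] V)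
    (hF₂ : ∀ v ∈ U₂, F v ∈ U₂) (hF₃ : ∀ v ∈ U₃, F v ∈ U₃)
    (hle : U₃ ≤ U₁ ⊔ U₂) (hinf : U₃ ⊓ U₂ = ⊥) (hk : ∀ v ∈ U₁, F v = 0) :
    ∀ v ∈ U₃, F v = 0 := by
  intro v hv
  obtain ⟨x, hx, y, hy, rfl⟩ := Submodule.mem_sup.1 (hle hv)
  have h1 : F (x + y) = F y := by rw [map_add, hk x hx, zero_add]
  have h2 : F (x + y) ∈ U₃ ⊓ U₂ := ⟨hF₃ _ hv, by rw [h1]; exact hF₂ y hy⟩
  rw [hinf] at h2
  exact (Submodule.mem_bot _).1 h2

/-- **Homogeneity**: if `H` is transitive on non-zero vectors, `A` is normal in `H` and `W` is a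
minimal `A`-invariant subspace, then a linear map preserving all `A`-invariant subspaces and
killing `W` is zero. -/
theorem eq_zero_of_kill_min [Finite V]
    (htrans : ∀ v w : V, v ≠ 0 → w ≠ 0 → ∃ h : H, (h : V ≃ₗ[ZMod p] V) v = w)
    (hAn : A.Normal) {W : Submodule (ZMod p) V} (hW : IsMinInv H A W)
    (F : V →ₗ[ZMod p] V) (hF : ∀ U : Submodule (ZMod p) V, Inv H A U → ∀ v ∈ U, F v ∈ U)
    (hk : ∀ v ∈ W, F v = 0) : F = 0 := by
  classical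
  obtain ⟨w₀, hw₀W, hw₀⟩ := (Submodule.ne_bot_iff W).1 hW.1
  ext v
  rw [LinearMap.zero_apply]
  by_cases hv : v = 0
  · rw [hv, map_zero]
  obtain ⟨h, hh⟩ := htrans w₀ v hw₀ hv
  obtain ⟨W₂, hW₂def⟩ : ∃ W₂ : Submodule (ZMod p) V,
      W₂ = W.map ((h : V ≃ₗ[ZMod p] V) : V →ₗ[ZMod p] V) := ⟨_, rfl⟩
  have hW₂ : IsMinInv H A W₂ := by rw [hW₂def]; exact hW.map hAn h
  have hvW₂ : v ∈ W₂ := by rw [hW₂def]; exact ⟨w₀, hw₀W, hh⟩
  have hfr₂ : Module.finrank (ZMod p) W₂ = Module.finrank (ZMod p) W := by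
    rw [hW₂def]; exact LinearEquiv.finrank_map_eq (h : V ≃ₗ[ZMod p] V) W
  rcases hW.inf_eq_bot_or_eq hW₂ with hinf | heq
  swap
  · exact hk v (by rw [heq]; exact hvW₂)
  -- the third subspace
  have hv' : w₀ + v ≠ 0 := by
    intro h0
    have h1 : v = -w₀ := by
      rw [eq_neg_iff_add_eq_zero, add_comm]; exact h0
    have h2 : v ∈ W ⊓ W₂ := ⟨by rw [h1]; exact W.neg_mem hw₀W, hvW₂⟩
    rw [hinf] at h2
    exact hv ((Submodule.mem_bot _).1 h2)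
  obtain ⟨g, hg⟩ := htrans w₀ (w₀ + v) hw₀ hv'
  obtain ⟨W₃, hW₃def⟩ : ∃ W₃ : Submodule (ZMod p) V,
      W₃ = W.map ((g : V ≃ₗ[ZMod p] V) : V →ₗ[ZMod p] V) := ⟨_, rfl⟩
  have hW₃ : IsMinInv H A W₃ := by rw [hW₃def]; exact hW.map hAn g
  have hv'W₃ : w₀ + v ∈ W₃ := by rw [hW₃def]; exact ⟨w₀, hw₀W, hg⟩
  have hfr₃ : Module.finrank (ZMod p) W₃ = Module.finrank (ZMod p) W := by
    rw [hW₃def]; exact LinearEquiv.finrank_map_eq (g : V ≃ₗ[ZMod p] V) W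
  have hle₃ : W₃ ≤ W ⊔ W₂ :=
    hW₃.le_of_mem (hW.2.1.sup hW₂.2.1) hv' hv'W₃
      (Submodule.add_mem_sup hw₀W hvW₂)
  have hinf₃₂ : W₃ ⊓ W₂ = ⊥ := by
    rcases hW₃.inf_eq_bot_or_eq hW₂ with h1 | h1
    · exact h1
    · exfalso
      have h2 : w₀ ∈ W ⊓ W₂ := by
        refine ⟨hw₀W, ?_⟩
        have : w₀ = (w₀ + v) - v := by abel
        rw [this]
        exact W₂.sub_mem (by rw [← h1]; exact hv'W₃) hvW₂
      rw [hinf] at h2
      exact hw₀ ((Submodule.mem_bot _).1 h2)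
  have hinf₃₁ : W₃ ⊓ W = ⊥ := by
    rcases hW₃.inf_eq_bot_or_eq hW with h1 | h1
    · exact h1
    · exfalso
      have h2 : v ∈ W ⊓ W₂ := by
        refine ⟨?_, hvW₂⟩
        have : v = (w₀ + v) - w₀ := by abel
        rw [this]
        exact W.sub_mem (by rw [← h1]; exact hv'W₃) hw₀W
      rw [hinf] at h2
      exact hv ((Submodule.mem_bot _).1 h2)
  have hk₃ : ∀ u ∈ W₃, F u = 0 :=
    kill_of_sup F (hF W₂ hW₂.2.1) (hF W₃ hW₃.2.1) hle₃ hinf₃₂ hk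
  -- `W₂ ≤ W₃ ⊔ W` by dimension count
  have hsup : W₃ ⊔ W = W ⊔ W₂ := by
    apply Submodule.eq_of_le_of_finrank_le (sup_le hle₃ le_sup_left)
    have e1 := Submodule.finrank_sup_add_finrank_inf_eq W₃ W
    have e2 := Submodule.finrank_sup_add_finrank_inf_eq W W₂
    rw [hinf₃₁, finrank_bot, add_zero, hfr₃] at e1
    rw [hinf, finrank_bot, add_zero, hfr₂] at e2
    omega
  have hle₂ : W₂ ≤ W₃ ⊔ W := by rw [hsup]; exact le_sup_right
  have hinf' : W₂ ⊓ W = ⊥ := by rw [inf_comm]; exact hinf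
  exact kill_of_sup F (hF W hW.2.1) (hF W₂ hW₂.2.1) hle₂ hinf' hk₃ v hvW₂

end Cfsg.H5.NearSpread
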