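import Mathlib
import Cfsg.Agent.S0684
import Cfsg.Agent.H5.NearSpread

/-!
Counting lemmas for linear groups regular on non-zero vectors.
-/

set_option autoImplicit false

namespace Cfsg.H5.NearFinal

open Cfsg.H5.NearSpread

variable {p : ℕ} [Fact p.Prime] {V : Type*} [AddCommGroup V] [Module (ZMod p) V]
variable {H : Subgroup (V ≃ₗ[ZMod p] V)}

theorem finite_H [Finite V] : Finite H := by
  apply Finite.of_injective (fun h : H => ((h : V ≃ₗ[ZMod p] V) : V → V))
  intro h h' hh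
  apply Subtype.ext
  apply DFunLike.coe_injective
  exact hh

/-- `|H| + 1 = |V|` -/
theorem card_add_one [Finite V] [Nontrivial V]
    (hreg : ∀ v w : V, v ≠ 0 → w ≠ 0 → ∃! h : H, (h : V ≃ₗ[ZMod p] V) v = w) :
    Nat.card H + 1 = Nat.card V := by
  classical
  haveI : Finite H := finite_H
  obtain ⟨w, hw0⟩ := exists_ne (0 : V)
  have hinj : Function.Injective (fun x : H => ((x : V ≃ₗ[ZMod p] V) w)) := by
    intro x y hxy
    obtain ⟨z, -, huniq⟩ := hreg w ((x : V ≃ₗ[ZMod p] V) w) hw0 (by simpa using hw0)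
    rw [huniq x rfl, huniq y hxy.symm]
  have hrange : Set.range (fun x : H => ((x : V ≃ₗ[ZMod p] V) w)) = ({0} : Set V)ᶜ := by
    ext u
    rw [Set.mem_compl_iff, Set.mem_singleton_iff]
    constructor
    · rintro ⟨x, rfl⟩
      simpa using hw0
    · intro hu
      obtain ⟨x, hx, -⟩ := hreg w u hw0 hu
      exact ⟨x, hx⟩
  have h4 : (Set.range (fun x : H => ((x : V ≃ₗ[ZMod p] V) w))).ncard = Nat.card H := by
    rw [← Set.image_univ, Set.ncard_image_of_injective _ hinj, Set.ncard_univ]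
  have h5 := Set.ncard_add_ncard_compl ({0} : Set V)
  rw [Set.ncard_singleton, ← hrange, h4] at h5
  omega

/-- a minimal invariant proper subspace has at most half the dimension -/
theorem two_mul_finrank_le [Finite V] {A : Subgroup H}
    (htrans : ∀ v w : V, v ≠ 0 → w ≠ 0 → ∃ h : H, (h : V ≃ₗ[ZMod p] V) v = w)
    (hAn : A.Normal) {W : Submodule (ZMod p) V} (hW : IsMinInv H A W) (hWtop : W ≠ ⊤) :
    2 * Module.finrank (ZMod p) W ≤ Module.finrank (ZMod p) V := by
  obtain ⟨w, hwW, hw0⟩ := (Submodule.ne_bot_iff W).1 hW.1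
  obtain ⟨v, hvW⟩ : ∃ v : V, v ∉ W := by
    by_contra hcon
    push Not at hcon
    exact hWtop (eq_top_iff.2 fun x _ => hcon x)
  have hv0 : v ≠ 0 := fun h => hvW (h ▸ W.zero_mem)
  obtain ⟨h, hh⟩ := htrans w v hw0 hv0
  have hW₂ := hW.map hAn h
  have hvW₂ : v ∈ W.map ((h : V ≃ₗ[ZMod p] V) : V →ₗ[ZMod p] V) := ⟨w, hwW, hh⟩
  have hfr : Module.finrank (ZMod p) (W.map ((h : V ≃ₗ[ZMod p] V) : V →ₗ[ZMod p] V)) =
      Module.finrank (ZMod p) W := LinearEquiv.finrank_map_eq (h : V ≃ₗ[ZMod p] V) W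
  rcases hW.inf_eq_bot_or_eq hW₂ with hinf | heq
  · have h1 := Submodule.finrank_sup_add_finrank_inf_eq W
      (W.map ((h : V ≃ₗ[ZMod p] V) : V →ₗ[ZMod p] V))
    rw [hinf, finrank_bot, add_zero, hfr] at h1
    have h2 := Submodule.finrank_le (W ⊔ W.map ((h : V ≃ₗ[ZMod p] V) : V →ₗ[ZMod p] V))
    omega
  · exfalso
    apply hvW
    rw [heq]
    exact hvW₂

/-- a subgroup acts semiregularly on the non-zero vectors of an invariant subspace -/
theorem card_dvd_card_sub_one [Finite V]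
    (hfree : ∀ h : H, ∀ v : V, v ≠ 0 → (h : V ≃ₗ[ZMod p] V) v = v → h = 1)
    (B : Subgroup H) (U : Submodule (ZMod p) V) (hU : Inv H B U) :
    Nat.card B ∣ Nat.card U - 1 := by
  haveI : Finite H := finite_H
  letI : MulAction B U :=
    { smul := fun a w => ⟨((a : H) : V ≃ₗ[ZMod p] V) w.1, hU a a.2 w.1 w.2⟩
      one_smul := fun w => rfl
      mul_smul := fun a b w => rfl }
  apply Cfsg.Agent.S3497.card_dvd_card_sub_one_of_free (0 : U)
  · intro a
    apply Subtype.ext
    exact map_zero _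
  · intro a w hw haw
    have hw0 : (w : V) ≠ 0 := fun h0 => hw (Subtype.ext h0)
    have := hfree (a : H) w.1 hw0 (congrArg Subtype.val haw)
    exact Subtype.ext this

end Cfsg.H5.NearFinal
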