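import Mathlib
import Cfsg.Agent.H5.NearSpread

/-!
Galois bound: for a linear group `H` over `ZMod p` regular on non-zero vectors and a cyclic normal
subgroup `A` with minimal invariant subspace `W`, `|H : C_H(A)| ≤ dim W`.
-/

set_option autoImplicit false

namespace Cfsg.H5.NearGalois

open Polynomial Cfsg.H5.NearSpread

variable {p : ℕ} [Fact p.Prime] {V : Type*} [AddCommGroup V] [Module (ZMod p) V]
variable {H : Subgroup (V ≃ₗ[ZMod p] V)}

/-- the endomorphism attached to an element of `H` -/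
def toEnd (h : H) : Module.End (ZMod p) V := ((h : V ≃ₗ[ZMod p] V) : V →ₗ[ZMod p] V)

theorem toEnd_apply (h : H) (v : V) : toEnd h v = (h : V ≃ₗ[ZMod p] V) v := rfl

theorem toEnd_one : toEnd (1 : H) = 1 := by
  ext v; rfl

theorem toEnd_mul (g h : H) : toEnd (g * h) = toEnd g * toEnd h := by
  ext v; rfl

theorem toEnd_pow (h : H) (n : ℕ) : toEnd (h ^ n) = toEnd h ^ n := by
  induction n with
  | zero => rw [pow_zero, pow_zero, toEnd_one]
  | succ n ih => rw [pow_succ, pow_succ, toEnd_mul, ih]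

theorem toEnd_injective : Function.Injective (toEnd : H → Module.End (ZMod p) V) := by
  intro g h hgh
  apply Subtype.ext
  apply LinearEquiv.toLinearMap_injective
  exact hgh

theorem toEnd_inv_mul (h : H) : toEnd h⁻¹ * toEnd h = 1 := by
  rw [← toEnd_mul, inv_mul_cancel, toEnd_one]

theorem toEnd_mul_inv (h : H) : toEnd h * toEnd h⁻¹ = 1 := by
  rw [← toEnd_mul, mul_inv_cancel, toEnd_one]

theorem toEnd_conj_pow (h a : H) (n : ℕ) :
    toEnd (h * a * h⁻¹) ^ n = toEnd h * toEnd a ^ n * toEnd h⁻¹ := by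
  rw [← toEnd_pow, conj_pow, toEnd_mul, toEnd_mul, toEnd_pow]

theorem aeval_toEnd_conj (h a : H) (f : (ZMod p)[X]) :
    aeval (toEnd (h * a * h⁻¹)) f = toEnd h * aeval (toEnd a) f * toEnd h⁻¹ := by
  rw [aeval_eq_sum_range, aeval_eq_sum_range, Finset.mul_sum, Finset.sum_mul]
  apply Finset.sum_congr rfl
  intro i _
  rw [toEnd_conj_pow, mul_smul_comm, smul_mul_assoc]

theorem pow_mem_of_inv {T : Module.End (ZMod p) V} {U : Submodule (ZMod p) V}
    (hT : ∀ v ∈ U, T v ∈ U) (n : ℕ) : ∀ v ∈ U, (T ^ n) v ∈ U := by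
  induction n with
  | zero => intro v hv; simpa using hv
  | succ n ih =>
    intro v hv
    rw [pow_succ, Module.End.mul_apply]
    exact ih _ (hT v hv)

theorem aeval_mem_of_inv {T : Module.End (ZMod p) V} {U : Submodule (ZMod p) V}
    (hT : ∀ v ∈ U, T v ∈ U) (f : (ZMod p)[X]) : ∀ v ∈ U, aeval T f v ∈ U := by
  intro v hv
  rw [aeval_eq_sum_range, LinearMap.sum_apply]
  apply Submodule.sum_mem
  intro i _
  rw [LinearMap.smul_apply]
  exact U.smul_mem _ (pow_mem_of_inv hT i v hv)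

theorem aeval_commute_pow (T : Module.End (ZMod p) V) (f : (ZMod p)[X]) (k : ℕ) :
    aeval T f * T ^ k = T ^ k * aeval T f := by
  have h1 : T ^ k = aeval T (X ^ k : (ZMod p)[X]) := by rw [map_pow, aeval_X]
  rw [h1, ← map_mul, ← map_mul, mul_comm]


section main

variable [Finite V] {A : Subgroup H}

/-- homogeneity for polynomials in an element of `A` -/
theorem aeval_eq_zero_of_kill
    (htrans : ∀ v w : V, v ≠ 0 → w ≠ 0 → ∃ h : H, (h : V ≃ₗ[ZMod p] V) v = w)
    (hAn : A.Normal) {W : Submodule (ZMod p) V} (hW : IsMinInv H A W)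
    {a : H} (ha : a ∈ A) (f : (ZMod p)[X])
    (hk : ∀ v ∈ W, aeval (toEnd a) f v = 0) : aeval (toEnd a) f = 0 := by
  apply eq_zero_of_kill_min htrans hAn hW _ _ hk
  intro U hU
  exact aeval_mem_of_inv (fun v hv => hU a ha v hv) f

/-- the minimal polynomial of a generator of `A` is irreducible -/
theorem irreducible_minpoly [Nontrivial V]
    (htrans : ∀ v w : V, v ≠ 0 → w ≠ 0 → ∃ h : H, (h : V ≃ₗ[ZMod p] V) v = w)
    (hAn : A.Normal) {W : Submodule (ZMod p) V} (hW : IsMinInv H A W)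
    {a : H} (ha : a ∈ A) (hpow : ∀ b ∈ A, ∃ k : ℕ, b = a ^ k) :
    Irreducible (minpoly (ZMod p) (toEnd a)) := by
  classical
  have hint : IsIntegral (ZMod p) (toEnd a) := Algebra.IsIntegral.isIntegral _
  have hμ0 : minpoly (ZMod p) (toEnd a) ≠ 0 := minpoly.ne_zero hint
  refine ⟨minpoly.not_isUnit _ _, ?_⟩
  intro f g hfg
  have hFG : aeval (toEnd a) f * aeval (toEnd a) g = 0 := by
    rw [← map_mul, ← hfg, minpoly.aeval]
  -- key: if `F` kills `W` then `μ ∣ f`
  have key : ∀ f' g' : (ZMod p)[X], minpoly (ZMod p) (toEnd a) = f' * g' →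
      (∀ v ∈ W, aeval (toEnd a) f' v = 0) → IsUnit g' := by
    intro f' g' hfg' hk
    have h0 := aeval_eq_zero_of_kill htrans hAn hW ha f' hk
    obtain ⟨q, hq⟩ := minpoly.dvd (ZMod p) (toEnd a) h0
    have h1 : minpoly (ZMod p) (toEnd a) * (q * g') = minpoly (ZMod p) (toEnd a) * 1 := by
      rw [mul_one, ← mul_assoc, ← hq, ← hfg']
    have h2 := mul_left_cancel₀ hμ0 h1
    exact IsUnit.of_mul_eq_one q (by rw [mul_comm]; exact h2)
  -- the invariant subspace `W ⊓ ker F`
  have hinv : Inv H A (W ⊓ LinearMap.ker (aeval (toEnd a) f)) := by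
    intro b hb v hv
    rw [Submodule.mem_inf] at hv
    refine Submodule.mem_inf.2 ⟨hW.2.1 b hb v hv.1, ?_⟩
    obtain ⟨k, rfl⟩ := hpow b hb
    rw [LinearMap.mem_ker]
    have h1 : aeval (toEnd a) f ((toEnd a ^ k) v) = (toEnd a ^ k) (aeval (toEnd a) f v) := by
      rw [← Module.End.mul_apply, ← Module.End.mul_apply, aeval_commute_pow]
    have h2 : ((a ^ k : H) : V ≃ₗ[ZMod p] V) v = (toEnd a ^ k) v := by
      rw [← toEnd_pow]; rfl
    rw [h2, h1, LinearMap.mem_ker.1 hv.2, map_zero]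
  rcases hW.2.2 _ inf_le_left hinv with h1 | h1
  · -- `F` injective on `W`, so `G` kills `W`
    left
    apply key g f (by rw [hfg, mul_comm])
    intro v hv
    have hGv : aeval (toEnd a) g v ∈ W :=
      aeval_mem_of_inv (fun u hu => hW.2.1 a ha u hu) g v hv
    have h2 : aeval (toEnd a) g v ∈ W ⊓ LinearMap.ker (aeval (toEnd a) f) := by
      refine Submodule.mem_inf.2 ⟨hGv, ?_⟩
      rw [LinearMap.mem_ker, ← Module.End.mul_apply, hFG, LinearMap.zero_apply]
    rw [h1] at h2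
    exact (Submodule.mem_bot _).1 h2
  · right
    apply key f g hfg
    intro v hv
    have : v ∈ W ⊓ LinearMap.ker (aeval (toEnd a) f) := by rw [h1]; exact hv
    exact LinearMap.mem_ker.1 (Submodule.mem_inf.1 this).2


theorem aeval_root_pow_eq_zero {a h : H} {e : ℕ} (he : h * a * h⁻¹ = a ^ e) :
    aeval (AdjoinRoot.root (minpoly (ZMod p) (toEnd a)) ^ e) (minpoly (ZMod p) (toEnd a)) = 0 := by
  have h1 : (AdjoinRoot.root (minpoly (ZMod p) (toEnd a))) ^ e =
      aeval (AdjoinRoot.root (minpoly (ZMod p) (toEnd a))) (X ^ e : (ZMod p)[X]) := by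
    rw [map_pow, aeval_X]
  rw [h1, ← aeval_comp, AdjoinRoot.aeval_eq, AdjoinRoot.mk_eq_zero]
  apply minpoly.dvd
  rw [aeval_comp, map_pow, aeval_X, ← toEnd_pow, ← he, aeval_toEnd_conj, minpoly.aeval, mul_zero,
    zero_mul]

theorem pow_eq_of_root_pow_eq {a : H} {e e' : ℕ}
    (h : AdjoinRoot.root (minpoly (ZMod p) (toEnd a)) ^ e =
      AdjoinRoot.root (minpoly (ZMod p) (toEnd a)) ^ e') : a ^ e = a ^ e' := by
  have h1 : AdjoinRoot.mk (minpoly (ZMod p) (toEnd a)) (X ^ e - X ^ e' : (ZMod p)[X]) = 0 := by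
    rw [map_sub, map_pow, map_pow, AdjoinRoot.mk_X, h, sub_self]
  rw [AdjoinRoot.mk_eq_zero] at h1
  obtain ⟨q, hq⟩ := h1
  have h2 : aeval (toEnd a) (X ^ e - X ^ e' : (ZMod p)[X]) = 0 := by
    rw [hq, map_mul, minpoly.aeval, zero_mul]
  rw [map_sub, map_pow, map_pow, aeval_X, sub_eq_zero, ← toEnd_pow, ← toEnd_pow] at h2
  exact toEnd_injective h2

theorem pow_restrict_apply {T : Module.End (ZMod p) V} {W : Submodule (ZMod p) V}
    (hT : ∀ v ∈ W, T v ∈ W) (n : ℕ) (w : W) :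
    (((T.restrict hT) ^ n) w : V) = (T ^ n) (w : V) := by
  induction n generalizing w with
  | zero => simp
  | succ n ih =>
    rw [pow_succ, pow_succ, Module.End.mul_apply, Module.End.mul_apply, ih]
    rfl

theorem aeval_restrict_apply {T : Module.End (ZMod p) V} {W : Submodule (ZMod p) V}
    (hT : ∀ v ∈ W, T v ∈ W) (f : (ZMod p)[X]) (w : W) :
    ((aeval (T.restrict hT) f) w : V) = aeval T f (w : V) := by
  rw [aeval_eq_sum_range, aeval_eq_sum_range, LinearMap.sum_apply, LinearMap.sum_apply,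
    Submodule.coe_sum]
  apply Finset.sum_congr rfl
  intro i _
  rw [LinearMap.smul_apply, LinearMap.smul_apply, Submodule.coe_smul, pow_restrict_apply]

/-- the degree of the minimal polynomial of a generator is at most `dim W` -/
theorem natDegree_minpoly_le
    (htrans : ∀ v w : V, v ≠ 0 → w ≠ 0 → ∃ h : H, (h : V ≃ₗ[ZMod p] V) v = w)
    (hAn : A.Normal) {W : Submodule (ZMod p) V} (hW : IsMinInv H A W)
    {a : H} (ha : a ∈ A) :
    (minpoly (ZMod p) (toEnd a)).natDegree ≤ Module.finrank (ZMod p) W := by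
  have hT : ∀ v ∈ W, toEnd a v ∈ W := fun v hv => hW.2.1 a ha v hv
  have hintW : IsIntegral (ZMod p) ((toEnd a).restrict hT) := Algebra.IsIntegral.isIntegral _
  have h0 : aeval (toEnd a) (minpoly (ZMod p) ((toEnd a).restrict hT)) = 0 := by
    apply aeval_eq_zero_of_kill htrans hAn hW ha
    intro v hv
    have := aeval_restrict_apply hT (minpoly (ZMod p) ((toEnd a).restrict hT)) ⟨v, hv⟩
    rw [minpoly.aeval, LinearMap.zero_apply] at this
    exact this.symm
  have h1 := minpoly.dvd (ZMod p) (toEnd a) h0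
  have h2 := natDegree_le_of_dvd h1 (minpoly.ne_zero hintW)
  have h3 := natDegree_le_of_dvd (LinearMap.minpoly_dvd_charpoly ((toEnd a).restrict hT))
    ((LinearMap.charpoly_monic _).ne_zero)
  rw [LinearMap.charpoly_natDegree] at h3
  exact h2.trans h3


/-- **Galois bound**: `|H| ≤ dim W * |C_H(A)|` for a cyclic normal subgroup `A = ⟨a⟩` with minimal
invariant subspace `W`. -/
theorem card_le_finrank_mul_card_centralizer
    (htrans : ∀ v w : V, v ≠ 0 → w ≠ 0 → ∃ h : H, (h : V ≃ₗ[ZMod p] V) v = w)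
    (hAn : A.Normal) {W : Submodule (ZMod p) V} (hW : IsMinInv H A W)
    {a : H} (ha : a ∈ A) (hpow : ∀ b ∈ A, ∃ k : ℕ, b = a ^ k) :
    Nat.card H ≤ Module.finrank (ZMod p) W * Nat.card (Subgroup.centralizer (A : Set H)) := by
  classical
  haveI : Finite H := by
    apply Finite.of_injective (fun h : H => ((h : V ≃ₗ[ZMod p] V) : V → V))
    intro h h' hh
    apply Subtype.ext
    apply DFunLike.coe_injective
    exact hh
  haveI : Nontrivial V := by
    obtain ⟨w, -, hw⟩ := (Submodule.ne_bot_iff W).1 hW.1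
    exact ⟨⟨w, 0, hw⟩⟩
  have hirr := irreducible_minpoly htrans hAn hW ha hpow
  haveI : Fact (Irreducible (minpoly (ZMod p) (toEnd a))) := ⟨hirr⟩
  have hint : IsIntegral (ZMod p) (toEnd a) := Algebra.IsIntegral.isIntegral _
  have hμ0 : minpoly (ZMod p) (toEnd a) ≠ 0 := minpoly.ne_zero hint
  have hex : ∀ h : H, ∃ e : ℕ, h * a * h⁻¹ = a ^ e := fun h => hpow _ (hAn.conj_mem a ha h)
  choose e he using hex
  obtain ⟨Φ, hΦ⟩ : ∃ Φ : H → AdjoinRoot (minpoly (ZMod p) (toEnd a)),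
      ∀ h, Φ h = AdjoinRoot.root (minpoly (ZMod p) (toEnd a)) ^ e h := ⟨_, fun _ => rfl⟩
  obtain ⟨R, hR⟩ : ∃ R : Finset (AdjoinRoot (minpoly (ZMod p) (toEnd a))),
      R = ((minpoly (ZMod p) (toEnd a)).aroots
        (AdjoinRoot (minpoly (ZMod p) (toEnd a)))).toFinset := ⟨_, rfl⟩
  have hRcard : R.card ≤ Module.finrank (ZMod p) W := by
    rw [hR]
    refine (Multiset.toFinset_card_le _).trans ?_
    refine (card_roots' _).trans ?_
    rw [natDegree_map]
    exact natDegree_minpoly_le htrans hAn hW ha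
  have hΦR : ∀ h, Φ h ∈ R := by
    intro h
    rw [hR, Multiset.mem_toFinset, mem_aroots']
    refine ⟨?_, ?_⟩
    · rw [Ne, Polynomial.map_eq_zero]; exact hμ0
    · rw [hΦ]; exact aeval_root_pow_eq_zero (he h)
  have hcent : ∀ h h' : H, Φ h = Φ h' → h'⁻¹ * h ∈ Subgroup.centralizer (A : Set H) := by
    intro h h' hh
    rw [hΦ, hΦ] at hh
    have h1 := pow_eq_of_root_pow_eq hh
    rw [← he h, ← he h'] at h1
    have h2 : (h'⁻¹ * h) * a = a * (h'⁻¹ * h) := by
      calc (h'⁻¹ * h) * a = h'⁻¹ * (h * a * h⁻¹) * h := by group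
        _ = h'⁻¹ * (h' * a * h'⁻¹) * h := by rw [h1]
        _ = a * (h'⁻¹ * h) := by group
    rw [Subgroup.mem_centralizer_iff]
    intro b hb
    obtain ⟨k, rfl⟩ := hpow b hb
    exact ((Commute.pow_right (show Commute (h'⁻¹ * h) a from h2) k).eq).symm
  obtain ⟨ψ, hψ⟩ : ∃ ψ : H → R × Subgroup.centralizer (A : Set H),
      ∀ h, ψ h = (⟨Φ h, hΦR h⟩, ⟨(Function.invFun Φ (Φ h))⁻¹ * h,
        hcent h _ (Function.invFun_eq ⟨h, rfl⟩).symm⟩) := ⟨_, fun _ => rfl⟩
  have hinj : Function.Injective ψ := by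
    intro h h' hh
    rw [hψ, hψ, Prod.mk.injEq] at hh
    obtain ⟨h1, h2⟩ := hh
    have h3 : Φ h = Φ h' := congrArg Subtype.val h1
    have h4 := congrArg Subtype.val h2
    simp only at h4
    rw [h3] at h4
    exact mul_left_cancel h4
  have h1 := Nat.card_le_card_of_injective ψ hinj
  rw [Nat.card_prod, Nat.card_eq_fintype_card (α := R), Fintype.card_coe] at h1
  exact h1.trans (Nat.mul_le_mul_right _ hRcard)

end main

end Cfsg.H5.NearGalois
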