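import Mathlib
import Cfsg.Agent.S3380
import Cfsg.Agent.S3742
import Cfsg.Agent.Lib.Helper10.FrobComplement

/-!
Finite solvable groups in which every abelian subgroup is cyclic: if a maximal normal abelian
subgroup `A` is not self-centralising then there is a normal quaternion subgroup of order 8,
`|A| ≡ 2 mod 4` and `|C_G(A) : A|` divides 24.
-/

set_option autoImplicit false

namespace Cfsg.H5.NearQ8

open Cfsg.Agent.Lib.Helper10
open scoped commutatorElement

/-- every abelian subgroup is cyclic -/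
def AbCyc (G : Type*) [Group G] : Prop := ∀ B : Subgroup G, IsMulCommutative B → IsCyclic B

variable {G : Type*} [Group G]

theorem AbCyc.subgroup (h : AbCyc G) (S : Subgroup G) : AbCyc S := by
  intro B hB
  have h1 : IsMulCommutative (B.map S.subtype) := Subgroup.map_isMulCommutative B S.subtype
  have h2 := h _ h1
  have e := B.equivMapOfInjective S.subtype S.subtype_injective
  exact isCyclic_of_surjective e.symm.toMonoidHom e.symm.surjective

theorem AbCyc.cyclic_or_quat [Finite G] (h : AbCyc G) (r : ℕ) [Fact r.Prime]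
    (hG : IsPGroup r G) :
    IsCyclic G ∨ (r = 2 ∧ ∃ n : ℕ, Nonempty (G ≃* QuaternionGroup (2 ^ n))) :=
  isCyclic_or_quaternion_of_uniqueOrderP hG
    (Cfsg.Agent.S3380.uniqueOrderP_of_abelian_cyclic r hG h)

/-- commutators with a factor commuting with everything in sight -/
theorem comm_mul_left {a m y : G} (h1 : a * m = m * a) (h2 : a * y = y * a) :
    ⁅a * m, y⁆ = ⁅m, y⁆ := by
  rw [commutatorElement_def, commutatorElement_def]
  have h3 : a⁻¹ * y⁻¹ = y⁻¹ * a⁻¹ := by
    rw [← mul_inv_rev, ← mul_inv_rev, h2]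
  have h4 : a * (m * y * m⁻¹ * y⁻¹) = (m * y * m⁻¹ * y⁻¹) * a := by
    have c1 : Commute a m := h1
    have c2 : Commute a y := h2
    exact (((c1.mul_right c2).mul_right c1.inv_right).mul_right c2.inv_right).eq
  calc a * m * y * (a * m)⁻¹ * y⁻¹ = a * (m * y * m⁻¹) * (a⁻¹ * y⁻¹) := by group
    _ = a * (m * y * m⁻¹) * (y⁻¹ * a⁻¹) := by rw [h3]
    _ = a * (m * y * m⁻¹ * y⁻¹) * a⁻¹ := by group
    _ = (m * y * m⁻¹ * y⁻¹) * a * a⁻¹ := by rw [h4]
    _ = m * y * m⁻¹ * y⁻¹ := by group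

theorem comm_mul_right {a m y : G} (h1 : a * m = m * a) (h2 : a * y = y * a) :
    ⁅y, a * m⁆ = ⁅y, m⁆ := by
  rw [← commutatorElement_inv, comm_mul_left h1 h2, commutatorElement_inv]

/-- if `A` is central in `A ⊔ M` then `⁅A ⊔ M, A ⊔ M⁆ ≤ ⁅M, M⁆` -/
theorem commutator_sup_le (A M : Subgroup G) [A.Normal]
    (hAc : ∀ a ∈ A, ∀ b ∈ A, a * b = b * a)
    (hAM : ∀ a ∈ A, ∀ m ∈ M, a * m = m * a) :
    ⁅A ⊔ M, A ⊔ M⁆ ≤ ⁅M, M⁆ := by
  rw [Subgroup.commutator_le]
  intro x hx y hy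
  have hx' : x ∈ (↑(A ⊔ M) : Set G) := hx
  have hy' : y ∈ (↑(A ⊔ M) : Set G) := hy
  rw [Subgroup.normal_mul] at hx' hy'
  obtain ⟨a, ha, m, hm, rfl⟩ := Set.mem_mul.1 hx'
  obtain ⟨a', ha', m', hm', rfl⟩ := Set.mem_mul.1 hy'
  have h1 : a * (a' * m') = (a' * m') * a := by
    rw [← mul_assoc, hAc a ha a' ha', mul_assoc, hAM a ha m' hm', ← mul_assoc]
  rw [comm_mul_left (hAM a ha m hm) h1, comm_mul_right (hAM a' ha' m' hm') (hAM a' ha' m hm)]
  exact Subgroup.commutator_mem_commutator hm hm'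


/-- quaternion computation: if the commutator of the standard generators of `Q_{4m}` is central
then `m ∣ 2` -/
theorem quat_central_comm {m : ℕ} [NeZero m]
    (h : ⁅(QuaternionGroup.xa 0 : QuaternionGroup m), (QuaternionGroup.a 1 : QuaternionGroup m)⁆ * QuaternionGroup.xa 0 =
      QuaternionGroup.xa 0 * ⁅(QuaternionGroup.xa 0 : QuaternionGroup m), (QuaternionGroup.a 1 : QuaternionGroup m)⁆) :
    m ∣ 2 := by
  have h1 : ⁅(QuaternionGroup.xa 0 : QuaternionGroup m), (QuaternionGroup.a 1 : QuaternionGroup m)⁆ =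
      QuaternionGroup.a (-2) := by
    rw [commutatorElement_def]
    have e1 : (QuaternionGroup.xa 0 : QuaternionGroup m)⁻¹ = QuaternionGroup.xa ((m : ZMod (2 * m)) + 0) := rfl
    have e2 : (QuaternionGroup.a 1 : QuaternionGroup m)⁻¹ = QuaternionGroup.a (-1) := rfl
    rw [e1, e2, QuaternionGroup.xa_mul_a, QuaternionGroup.xa_mul_xa, QuaternionGroup.a_mul_a]
    congr 1
    have : ((m : ZMod (2 * m)) + (m : ZMod (2 * m))) = 0 := by
      rw [← two_mul]
      have : ((2 * m : ℕ) : ZMod (2 * m)) = 0 := ZMod.natCast_self _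
      push_cast at this
      exact this
    linear_combination this
  rw [h1, QuaternionGroup.a_mul_xa, QuaternionGroup.xa_mul_a] at h
  have h2 : (0 : ZMod (2 * m)) - -2 = 0 + -2 := by
    have := h
    injection this
  have h3 : ((4 : ℕ) : ZMod (2 * m)) = 0 := by
    push_cast
    linear_combination h2
  rw [ZMod.natCast_eq_zero_iff] at h3
  have : 2 * m ∣ 2 * 2 := h3
  exact Nat.dvd_of_mul_dvd_mul_left (by norm_num) this


theorem quat2_central_sq : ∀ g : QuaternionGroup 2, (∀ h, g * h = h * g) → g ^ 2 = 1 := by decide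

theorem quat2_comm_ne_one :
    ⁅(QuaternionGroup.xa 0 : QuaternionGroup 2), (QuaternionGroup.a 1 : QuaternionGroup 2)⁆ ≠ 1 := by
  decide

theorem quat2_comm_sq :
    ⁅(QuaternionGroup.xa 0 : QuaternionGroup 2), (QuaternionGroup.a 1 : QuaternionGroup 2)⁆ ^ 2 = 1 := by
  decide

/-- **Structure**: a normal subgroup `K` centralising the maximal normal abelian subgroup `A` but
not contained in it yields a normal `Q₈` inside `A ⊔ K`, and `|A| ≡ 2 mod 4`. -/
theorem exists_normal_q8 [Finite G] [Group.IsSolvable G] (hAC : AbCyc G) (A : Subgroup G)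
    (hAn : A.Normal) (hAc : IsMulCommutative A)
    (hAmax : ∀ B : Subgroup G, B.Normal → IsMulCommutative B → A ≤ B → B = A)
    (K : Subgroup G) (hKn : K.Normal) (hKC : K ≤ Subgroup.centralizer (A : Set G))
    (hKA : ¬ K ≤ A) :
    ∃ Q : Subgroup G, Q.Normal ∧ Q ≤ A ⊔ K ∧ Nonempty (Q ≃* QuaternionGroup 2) ∧
      2 ∣ Nat.card A ∧ ¬ 4 ∣ Nat.card A := by
  classical
  haveI := hAn
  -- step 1: a minimal normal subgroup `M ≤ K` not inside `A`
  obtain ⟨S, hSdef⟩ : ∃ S : Set ℕ, S = {n | ∃ M : Subgroup G, M.Normal ∧ M ≤ K ∧ ¬ M ≤ A ∧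
      Nat.card M = n} := ⟨_, rfl⟩
  have hS : S.Nonempty := by rw [hSdef]; exact ⟨_, K, hKn, le_rfl, hKA, rfl⟩
  have hmem := Nat.sInf_mem hS
  rw [hSdef] at hmem
  obtain ⟨M, hMn, hMK, hMA, hMcard⟩ := hmem
  haveI := hMn
  have hM' : ⁅M, M⁆ ≤ A := by
    by_contra hcon
    have h1 : (⁅M, M⁆ : Subgroup G).Normal := Subgroup.commutator_normal M M
    have h2 : ⁅M, M⁆ ≤ M := Subgroup.commutator_le_left M M
    have hMbot : M ≠ ⊥ := by rintro rfl; exact hMA bot_le
    have h3 : ⁅M, M⁆ < M := Group.IsSolvable.commutator_lt_of_ne_bot hMbot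
    have h4 : sInf S ≤ Nat.card (⁅M, M⁆ : Subgroup G) := by
      apply Nat.sInf_le
      rw [hSdef]
      exact ⟨_, h1, h2.trans hMK, hcon, rfl⟩
    have h5 : Nat.card (⁅M, M⁆ : Subgroup G) < Nat.card M := by
      by_contra h6
      exact h3.ne (Subgroup.eq_of_le_of_card_ge h2 (not_lt.1 h6))
    rw [hSdef] at h4
    omega
  -- step 2: `N = A ⊔ M`
  obtain ⟨N, hNdef⟩ : ∃ N : Subgroup G, N = A ⊔ M := ⟨_, rfl⟩
  have hNn : N.Normal := by rw [hNdef]; exact Subgroup.sup_normal A M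
  have hAcomm : ∀ a ∈ A, ∀ b ∈ A, a * b = b * a := fun a ha b hb =>
    congrArg Subtype.val (hAc.is_comm.comm ⟨a, ha⟩ ⟨b, hb⟩)
  have hAM : ∀ a ∈ A, ∀ m ∈ M, a * m = m * a := by
    intro a ha m hm
    exact Subgroup.mem_centralizer_iff.1 (hKC (hMK hm)) a ha
  have hAN : A ≤ N := by rw [hNdef]; exact le_sup_left
  have hNC : ∀ a ∈ A, ∀ x ∈ N, a * x = x * a := by
    intro a ha x hx
    rw [hNdef] at hx
    have hx' : x ∈ (↑(A ⊔ M) : Set G) := hx
    rw [Subgroup.normal_mul] at hx'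
    obtain ⟨b, hb, m, hm, rfl⟩ := Set.mem_mul.1 hx'
    rw [← mul_assoc, hAcomm a ha b hb, mul_assoc, hAM a ha m hm, ← mul_assoc]
  have hN' : ⁅N, N⁆ ≤ A := by
    rw [hNdef]; exact (commutator_sup_le A M hAcomm hAM).trans hM'
  -- step 3: `N` is not abelian
  have hNna : ¬ IsMulCommutative N := by
    intro hc
    have := hAmax N hNn hc hAN
    apply hMA
    rw [← this, hNdef]
    exact le_sup_right
  -- step 4: `N` is nilpotent
  have hNnil : Group.IsNilpotent N := by
    rw [Subgroup.isNilpotent_iff_lowerCentralSeries]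
    refine ⟨2, ?_⟩
    rw [Subgroup.lowerCentralSeries_succ, Subgroup.lowerCentralSeries_succ,
      Subgroup.lowerCentralSeries_zero, Subgroup.commutator_eq_bot_iff_le_centralizer]
    intro x hx
    rw [Subgroup.mem_centralizer_iff]
    intro y hy
    exact (hNC x (hN' hx) y hy).symm
  -- step 5: Sylow subgroups of `N`
  have hACN : AbCyc N := hAC.subgroup N
  have hsyl : ∀ (r : ℕ) [Fact r.Prime] (S : Sylow r N),
      IsCyclic S ∨ (r = 2 ∧ ∃ n : ℕ, Nonempty (S ≃* QuaternionGroup (2 ^ n))) := by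
    intro r _ S
    exact (hACN.subgroup (S : Subgroup N)).cyclic_or_quat r S.isPGroup'
  have hex : ∃ (P : Sylow 2 N) (n : ℕ), Nonempty (P ≃* QuaternionGroup (2 ^ n)) ∧
      ¬ IsCyclic P := by
    by_contra hcon
    push Not at hcon
    apply hNna
    have hall : ∀ (r : ℕ) [Fact r.Prime] (S : Sylow r N), IsCyclic S := by
      intro r _ S
      rcases hsyl r S with h | ⟨rfl, n, hn⟩
      · exact h
      · exact hcon S n hn
    have := isCyclic_of_isNilpotent_of_sylow_cyclic hNnil hall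
    exact IsCyclic.isMulCommutative
  obtain ⟨P, n, ⟨e⟩, hPnc⟩ := hex
  have hPn : (P : Subgroup N).Normal :=
    ((Group.isNilpotent_of_finite_tfae (G := N)).out 0 3 rfl rfl).mp hNnil 2 inferInstance P
  haveI : (P : Subgroup N).Characteristic := Sylow.characteristic_of_normal P hPn
  haveI := hNn
  have hQn : ((P : Subgroup N).map N.subtype).Normal :=
    ConjAct.normal_of_characteristic_of_normal
  have eQ : (P : Subgroup N) ≃* ((P : Subgroup N).map N.subtype) :=
    (P : Subgroup N).equivMapOfInjective N.subtype N.subtype_injective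
  -- the standard generators
  obtain ⟨α₀, hα₀⟩ : ∃ α₀ : (P : Subgroup N), e α₀ = QuaternionGroup.a 1 :=
    ⟨e.symm _, e.apply_symm_apply _⟩
  obtain ⟨ξ₀, hξ₀⟩ : ∃ ξ₀ : (P : Subgroup N), e ξ₀ = QuaternionGroup.xa 0 :=
    ⟨e.symm _, e.apply_symm_apply _⟩
  have hαN : ((α₀ : N) : G) ∈ N := (α₀ : N).2
  have hξN : ((ξ₀ : N) : G) ∈ N := (ξ₀ : N).2
  have hcA : ⁅((ξ₀ : N) : G), ((α₀ : N) : G)⁆ ∈ A :=
    hN' (Subgroup.commutator_mem_commutator hξN hαN)
  have hcoe : ((⁅ξ₀, α₀⁆ : (P : Subgroup N)) : N) = ⁅(ξ₀ : N), (α₀ : N)⁆ := by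
    simp [commutatorElement_def]
  have hcoe2 : (((⁅ξ₀, α₀⁆ : (P : Subgroup N)) : N) : G) = ⁅((ξ₀ : N) : G), ((α₀ : N) : G)⁆ := by
    rw [hcoe]
    simp [commutatorElement_def]
  have hcomm : ⁅ξ₀, α₀⁆ * ξ₀ = ξ₀ * ⁅ξ₀, α₀⁆ := by
    apply Subtype.ext
    apply Subtype.ext
    rw [Subgroup.coe_mul, Subgroup.coe_mul, Subgroup.coe_mul, Subgroup.coe_mul, hcoe2]
    exact hNC _ hcA _ hξN
  have hecomm : e ⁅ξ₀, α₀⁆ = ⁅(QuaternionGroup.xa 0 : QuaternionGroup (2 ^ n)),
      (QuaternionGroup.a 1 : QuaternionGroup (2 ^ n))⁆ := by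
    rw [map_commutatorElement, hα₀, hξ₀]
  have hn2 : 2 ^ n ∣ 2 := by
    apply quat_central_comm
    rw [← hecomm, ← hξ₀, ← map_mul, ← map_mul, hcomm]
  have hn1 : n = 1 := by
    have h1 : n ≤ 1 := by
      by_contra h
      have : 2 ^ 2 ≤ 2 ^ n := Nat.pow_le_pow_right (by norm_num) (by omega)
      have := Nat.le_of_dvd (by norm_num) hn2
      omega
    have h0 : n ≠ 0 := by
      rintro rfl
      apply hPnc
      have := QuaternionGroup.quaternionGroup_one_isCyclic
      exact isCyclic_of_surjective e.symm.toMonoidHom e.symm.surjective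
    omega
  subst hn1
  have e2 : (P : Subgroup N) ≃* QuaternionGroup 2 := e
  refine ⟨_, hQn, ?_, ⟨eQ.symm.trans e2⟩, ?_, ?_⟩
  · refine (Subgroup.map_subtype_le _).trans ?_
    rw [hNdef]
    exact sup_le_sup_left hMK A
  · -- an involution in `A`
    have h1 : ⁅ξ₀, α₀⁆ ≠ 1 := by
      intro h
      apply quat2_comm_ne_one
      have := hecomm
      rw [h, map_one] at this
      exact this.symm
    have h2 : ⁅ξ₀, α₀⁆ ^ 2 = 1 := by
      apply e.injective
      rw [map_pow, hecomm, map_one]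
      exact quat2_comm_sq
    have h3 : orderOf ⁅ξ₀, α₀⁆ = 2 := orderOf_eq_prime h2 h1
    have h4 : orderOf (⟨_, hcA⟩ : A) = 2 := by
      rw [Subgroup.orderOf_mk, ← hcoe2, Subgroup.orderOf_coe, Subgroup.orderOf_coe, h3]
    rw [← h4]
    exact orderOf_dvd_natCard _
  · intro h4
    have hAcyc : IsCyclic A := hAC A hAc
    obtain ⟨g, hg⟩ := IsCyclic.exists_ofOrder_eq_natCard (α := A)
    have hg0 : orderOf g ≠ 0 := by rw [hg]; exact Nat.card_pos.ne'
    have ht : orderOf (g ^ (orderOf g / 4)) = 4 := orderOf_pow_orderOf_div hg0 (by rw [hg]; exact h4)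
    obtain ⟨t, htdef⟩ : ∃ t : A, t = g ^ (orderOf g / 4) := ⟨_, rfl⟩
    rw [← htdef] at ht
    obtain ⟨tN, htN⟩ : ∃ tN : N, (tN : G) = (t : G) := ⟨⟨t, hAN t.2⟩, rfl⟩
    have htN4 : orderOf tN = 4 := by
      rw [← Subgroup.orderOf_coe, htN, Subgroup.orderOf_coe, ht]
    have hpg : IsPGroup 2 (Subgroup.zpowers tN) := by
      apply IsPGroup.of_card (n := 2)
      rw [Nat.card_zpowers, htN4]
      norm_num
    obtain ⟨P', hP'⟩ := hpg.exists_le_sylow
    have hPP' : P' = P := by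
      have := Sylow.unique_of_normal P hPn
      exact Subsingleton.elim _ _
    rw [hPP'] at hP'
    have htP : tN ∈ (P : Subgroup N) := hP' (Subgroup.mem_zpowers tN)
    have hcent : ∀ y : (P : Subgroup N), (⟨tN, htP⟩ : (P : Subgroup N)) * y = y * ⟨tN, htP⟩ := by
      intro y
      apply Subtype.ext
      apply Subtype.ext
      rw [Subgroup.coe_mul, Subgroup.coe_mul, Subgroup.coe_mul, Subgroup.coe_mul]
      show (tN : G) * ((y : N) : G) = ((y : N) : G) * (tN : G)
      rw [htN]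
      exact hNC _ t.2 _ (y : N).2
    have h5 : (e2 ⟨tN, htP⟩) ^ 2 = 1 := by
      apply quat2_central_sq
      intro h
      obtain ⟨y, rfl⟩ := e2.surjective h
      rw [← map_mul, ← map_mul, hcent]
    have h6 : (⟨tN, htP⟩ : (P : Subgroup N)) ^ 2 = 1 := by
      apply e2.injective
      rw [map_pow, h5, map_one]
    have h7 : tN ^ 2 = 1 := by
      have := congrArg Subtype.val h6
      simpa using this
    have h8 := orderOf_dvd_of_pow_eq_one h7
    rw [htN4] at h8
    omega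


theorem quat2_noncomm :
    (QuaternionGroup.xa 0 : QuaternionGroup 2) * QuaternionGroup.a 1 ≠
      QuaternionGroup.a 1 * QuaternionGroup.xa 0 := by decide

theorem card_mulAut_of_equiv_q8 {Q : Type*} [Group Q] (e : Q ≃* QuaternionGroup 2) :
    Nat.card (MulAut Q) = 24 := by
  obtain ⟨f⟩ := Cfsg.Agent.S3742.result
  rw [Nat.card_congr (MulAut.congr e).toEquiv, Nat.card_congr f.toEquiv, Nat.card_perm, Nat.card_fin]
  rfl

/-- **Main group-theoretic bound**. -/
theorem card_centralizer_dvd [Finite G] [Group.IsSolvable G] (hAC : AbCyc G) (A : Subgroup G)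
    (hAn : A.Normal) (hAc : IsMulCommutative A)
    (hAmax : ∀ B : Subgroup G, B.Normal → IsMulCommutative B → A ≤ B → B = A)
    (hlt : A < Subgroup.centralizer (A : Set G)) :
    2 ∣ Nat.card A ∧ ¬ 4 ∣ Nat.card A ∧ 8 ∣ Nat.card G ∧
      Nat.card (Subgroup.centralizer (A : Set G)) ∣ 24 * Nat.card A := by
  classical
  haveI := hAn
  have hCn : (Subgroup.centralizer (A : Set G)).Normal := Subgroup.normal_centralizer
  obtain ⟨Q, hQn, hQle, ⟨e⟩, h2, h4⟩ :=
    exists_normal_q8 hAC A hAn hAc hAmax _ hCn le_rfl (not_le_of_gt hlt)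
  haveI := hQn
  have hQC : Q ≤ Subgroup.centralizer (A : Set G) := hQle.trans (sup_le hlt.le le_rfl)
  refine ⟨h2, h4, ?_, ?_⟩
  · have h1 : Nat.card Q = 8 := by
      rw [Nat.card_congr e.toEquiv, Nat.card_eq_fintype_card, QuaternionGroup.card]
    rw [← h1]
    exact Subgroup.card_subgroup_dvd_card Q
  -- the centraliser of `Q` inside `C`
  have hK₂n : (Subgroup.centralizer (A : Set G) ⊓ Subgroup.centralizer (Q : Set G)).Normal :=
    Subgroup.normal_inf_normal _ _
  have hAK₂ : A ≤ Subgroup.centralizer (A : Set G) ⊓ Subgroup.centralizer (Q : Set G) := by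
    refine le_inf hlt.le ?_
    intro a ha
    rw [Subgroup.mem_centralizer_iff]
    intro q hq
    exact (Subgroup.mem_centralizer_iff.1 (hQC hq) a ha).symm
  have hK₂A : Subgroup.centralizer (A : Set G) ⊓ Subgroup.centralizer (Q : Set G) ≤ A := by
    by_contra hcon
    obtain ⟨Q₂, -, hQ₂le, ⟨e₂⟩, -, -⟩ :=
      exists_normal_q8 hAC A hAn hAc hAmax _ hK₂n inf_le_left hcon
    have hQ₂K : Q₂ ≤ Subgroup.centralizer (Q : Set G) :=
      (hQ₂le.trans (sup_le hAK₂ le_rfl)).trans inf_le_right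
    obtain ⟨α, hα⟩ : ∃ α : Q, e α = QuaternionGroup.a 1 := ⟨e.symm _, e.apply_symm_apply _⟩
    obtain ⟨ξ, hξ⟩ : ∃ ξ : Q, e ξ = QuaternionGroup.xa 0 := ⟨e.symm _, e.apply_symm_apply _⟩
    obtain ⟨β, hβ⟩ : ∃ β : Q₂, e₂ β = QuaternionGroup.a 1 := ⟨e₂.symm _, e₂.apply_symm_apply _⟩
    have hoα : orderOf (α : G) = 4 := by
      rw [Subgroup.orderOf_coe, ← MulEquiv.orderOf_eq e, hα, QuaternionGroup.orderOf_a_one]
    have hoβ : orderOf (β : G) = 4 := by
      rw [Subgroup.orderOf_coe, ← MulEquiv.orderOf_eq e₂, hβ, QuaternionGroup.orderOf_a_one]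
    have hβα : (α : G) * (β : G) = (β : G) * (α : G) :=
      Subgroup.mem_centralizer_iff.1 (hQ₂K β.2) α α.2
    have hβξ : (ξ : G) * (β : G) = (β : G) * (ξ : G) :=
      Subgroup.mem_centralizer_iff.1 (hQ₂K β.2) ξ ξ.2
    have hα4 : (α : G) ^ 4 = 1 := by rw [← hoα]; exact pow_orderOf_eq_one _
    have hβ4 : (β : G) ^ 4 = 1 := by rw [← hoβ]; exact pow_orderOf_eq_one _
    obtain ⟨hcomm, -⟩ := closure_pair_props hβα hα4 hβ4
    have hBc : IsMulCommutative (Subgroup.closure ({(α : G), (β : G)} : Set G)) :=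
      ⟨⟨fun a b => Subtype.ext (hcomm a a.2 b b.2)⟩⟩
    have hBcyc := hAC _ hBc
    have hαB : (α : G) ∈ Subgroup.closure ({(α : G), (β : G)} : Set G) :=
      Subgroup.subset_closure (Set.mem_insert _ _)
    have hβB : (β : G) ∈ Subgroup.closure ({(α : G), (β : G)} : Set G) :=
      Subgroup.subset_closure (Set.mem_insert_of_mem _ (Set.mem_singleton _))
    have hmem := mem_zpowers_of_orderOf_dvd' _ hBcyc hαB hβB (by rw [hoα, hoβ])
    obtain ⟨k, hk⟩ := Subgroup.mem_zpowers_iff.1 hmem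
    have hcomm2 : (ξ : G) * (α : G) = (α : G) * (ξ : G) := by
      rw [← hk]
      exact ((show Commute (ξ : G) (β : G) from hβξ).zpow_right k).eq
    apply quat2_noncomm
    rw [← hα, ← hξ, ← map_mul, ← map_mul]
    congr 1
    exact Subtype.ext hcomm2
  have hK₂ : Subgroup.centralizer (A : Set G) ⊓ Subgroup.centralizer (Q : Set G) = A :=
    le_antisymm hK₂A hAK₂
  -- the conjugation action of `C` on `Q`
  obtain ⟨φ, hφ⟩ : ∃ φ : Subgroup.centralizer (A : Set G) →* MulAut Q,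
      φ = (MulAut.conjNormal (H := Q)).comp (Subgroup.centralizer (A : Set G)).subtype := ⟨_, rfl⟩
  have hker : φ.ker = A.subgroupOf (Subgroup.centralizer (A : Set G)) := by
    ext x
    rw [MonoidHom.mem_ker, Subgroup.mem_subgroupOf]
    have hiff : (x : G) ∈ A ↔ ∀ q ∈ Q, q * (x : G) = (x : G) * q := by
      constructor
      · intro hx
        exact Subgroup.mem_centralizer_iff.1 (Subgroup.mem_inf.1 (hAK₂ hx)).2
      · intro hx
        exact hK₂A (Subgroup.mem_inf.2 ⟨x.2, Subgroup.mem_centralizer_iff.2 hx⟩)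
    rw [hiff]
    constructor
    · intro hx q hq
      have := congrArg (fun f : MulAut Q => ((f ⟨q, hq⟩ : Q) : G)) hx
      rw [hφ] at this
      simp only [MonoidHom.comp_apply, Subgroup.coe_subtype, MulAut.conjNormal_apply,
        MulAut.one_apply] at this
      calc q * (x : G) = ((x : G) * q * (x : G)⁻¹) * (x : G) := by rw [this]
        _ = (x : G) * q := by group
    · intro hx
      ext q
      rw [hφ]
      simp only [MonoidHom.comp_apply, Subgroup.coe_subtype, MulAut.conjNormal_apply,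
        MulAut.one_apply]
      rw [← hx q q.2]
      group
  have h1 := Subgroup.card_eq_card_quotient_mul_card_subgroup φ.ker
  have h3 : Nat.card (Subgroup.centralizer (A : Set G) ⧸ φ.ker) ∣ 24 := by
    rw [Nat.card_congr (QuotientGroup.quotientKerEquivRange φ).toEquiv,
      ← card_mulAut_of_equiv_q8 e]
    exact Subgroup.card_subgroup_dvd_card _
  have h5 : Nat.card φ.ker = Nat.card A := by
    rw [hker]
    exact Nat.card_congr (Subgroup.subgroupOfEquivOfLe hlt.le).toEquiv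
  rw [h1, h5]
  exact Nat.mul_dvd_mul_right h3 _

end Cfsg.H5.NearQ8
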