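import Mathlib
import Cfsg.Agent.H5.HupTwo
import Cfsg.Agent.S2904
import Cfsg.Agent.Lib.Helper23.S3360FO9
import Cfsg.Agent.Lib.Helper12.Hup26

/-!
# Huppert's theorem (S3360): assembly
-/

set_option autoImplicit false

namespace Cfsg.H5.Hup

open Cfsg Cfsg.Agent.Lib.Helper1 Cfsg.Agent.Lib.Helper12.NearIrr Cfsg.Agent.Lib.Helper12.NF

variable {p : ℕ} [Fact p.Prime] {V : Type*} [AddCommGroup V] [Module (ZMod p) V]
variable {H : Subgroup (V ≃ₗ[ZMod p] V)}

/-- a transitive group is irreducible -/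
theorem irr_top (htr : Trans H) : Irr H ⊤ := by
  intro W hW
  by_cases hW0 : W = ⊥
  · exact Or.inl hW0
  right
  obtain ⟨w, hwW, hw⟩ := (Submodule.ne_bot_iff W).1 hW0
  rw [eq_top_iff]
  intro v _
  by_cases hv : v = 0
  · rw [hv]; exact zero_mem _
  obtain ⟨h, hh⟩ := htr w v hw hv
  rw [← hh]
  exact hW h trivial w hwW

/-- the one-dimensional case -/
theorem case_one [Finite V] (htr : Trans H) (hn : Module.finrank (ZMod p) V = 1) : CaseI H := by
  refine ⟨⊤, inferInstance, ?_, irr_top htr⟩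
  intro a _ b _
  obtain ⟨v₀, hv₀0, hv₀⟩ := finrank_eq_one_iff'.1 hn
  apply toE_injective H
  rw [toE_mul, toE_mul]
  obtain ⟨α, hα⟩ := hv₀ (toE H a v₀)
  obtain ⟨β, hβ⟩ := hv₀ (toE H b v₀)
  apply LinearMap.ext
  intro v
  obtain ⟨c, rfl⟩ := hv₀ v
  rw [Module.End.mul_apply, Module.End.mul_apply, map_smul, map_smul, map_smul, map_smul,
    ← hα, ← hβ, map_smul, map_smul, ← hα, ← hβ]
  simp only [smul_smul]
  congr 1
  ring

theorem arith_two (p : ℕ) (hp : p.Prime) (hp2 : p ≠ 2) (hdvd : p + 1 ∣ 24) :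
    p ^ 2 ∈ ({9, 25, 49, 121, 529, 81} : Set ℕ) := by
  have hle : p + 1 ≤ 24 := Nat.le_of_dvd (by norm_num) hdvd
  have hp2' := hp.two_le
  have hp' : p ≤ 23 := by omega
  interval_cases p <;> simp_all

/-- **Huppert's theorem**, for subgroups of `GL(V)` -/
theorem main [Finite V] [Nontrivial V] (htr : Trans H) (hsol : Group.IsSolvable H) :
    CaseI H ∨ Nat.card V ∈ ({9, 25, 49, 121, 529, 81} : Set ℕ) := by
  have := finite_H (H := H)
  have hp : p.Prime := Fact.out
  have hn0 := finrank_pos' (p := p) (V := V)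
  have hcard := card_V (p := p) (V := V)
  obtain ⟨n, hn⟩ : ∃ n, Module.finrank (ZMod p) V = n := ⟨_, rfl⟩
  by_cases hI : CaseI H
  · exact Or.inl hI
  right
  rcases Nat.lt_or_ge n 2 with h1 | h2
  · exact absurd (case_one htr (by omega)) hI
  rcases Nat.lt_or_ge n 3 with h2' | h3
  · have hn2 : Module.finrank (ZMod p) V = 2 := by omega
    rcases case_two htr hsol hn2 with h | ⟨hp2, hdvd⟩
    · exact absurd h hI
    · rw [hcard, hn2]
      exact arith_two p hp hp2 hdvd
  · -- `n ≥ 3`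
    by_cases h26 : p = 2 ∧ Module.finrank (ZMod p) V = 6
    · exfalso
      obtain ⟨hp2, hn6⟩ := h26
      subst hp2
      have hV : Nat.card V = 64 := by rw [hcard, hn6]; norm_num
      apply hI
      exact Cfsg.Agent.Lib.Helper12.Hup26.case_two_six hV H hsol htr
        (fun A hAn hAc a ha ha1 v hv => fpf_of_mem htr hAn hAc ha ha1 hv)
    · obtain ⟨z, hz1, hz2, hz3⟩ := Cfsg.Agent.S2904.result p (Module.finrank (ZMod p) V)
        hp.one_lt (by omega) h26 (by omega)
      have hz : IsPpd p (Module.finrank (ZMod p) V) z := ⟨hz1, hz2, hz3⟩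
      rcases dichotomy htr hsol (by omega) hz with h | ⟨hzn, ⟨k, hk⟩, hp2, -⟩
      · exact absurd h hI
      have hk2 : 2 ≤ k := by
        by_contra hcon
        have hk1 : k ≤ 1 := by omega
        have : 2 ^ k ≤ 2 ^ 1 := Nat.pow_le_pow_right (by norm_num) hk1
        omega
      have hV1 := card_sub_one_dvd_card htr
      rw [hcard] at hV1
      have h9 := Cfsg.Agent.Lib.Helper23.S3360FO9.FO9 p (Module.finrank (ZMod p) V) k hp hp2 hk2 hk
        (by
          intro z' hz'1 hz'2 hz'3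
          rcases dichotomy htr hsol (by omega) ⟨hz'1, hz'2, hz'3⟩ with h | ⟨hzn', -, -, hsq⟩
          · exact absurd h hI
          · exact ⟨hzn', fun hd => hsq (hd.trans hV1)⟩)
      rw [hn] at h9 hcard
      rw [hcard, h9.1, h9.2]
      norm_num

end Cfsg.H5.Hup
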