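import Mathlib
import Cfsg.Prelude.Def_ConjugacyFunctors

/-!
# Glauberman's `K`-infinity subgroups: relative versions inside an ambient group

For subgroups `P, Q` of an ambient group `G` we define the upper and lower star families
`up P Q`, `lo P Q` (subgroups of `P`), the `K`-sequences `kOdd P n`, `kEven P n` and their limits
`kLow P`, `kUp P`, and we show that they are the images of the prelude's intrinsic objects under
every injective homomorphism with range `P`.
-/

set_option autoImplicit false
set_option linter.unusedSectionVars false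

namespace Cfsg.H5.KI

open Cfsg Subgroup

section defs

variable {G : Type*} [Group G]

/-- the centre of the subgroup `B`, as a subgroup of `G` -/
abbrev Zc (B : Subgroup G) : Subgroup G := B ⊓ centralizer (B : Set G)

/-- class at most two -/
def Cl2 (B : Subgroup G) : Prop := ⁅B, B⁆ ≤ centralizer (B : Set G)

/-- relative upper star family -/
def up (P Q : Subgroup G) : Set (Subgroup G) :=
  {B | B ≤ P ∧ Cl2 B ∧ ⁅B, Q⁆ ≤ Zc B}

/-- relative lower star family -/
def lo (P Q : Subgroup G) : Set (Subgroup G) :=
  {B | B ≤ P ∧ Cl2 B ∧ Q ≤ normalizer (B : Set G) ∧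
    ∀ A : Subgroup G, Cl2 A → A ≤ Q → B ≤ normalizer (A : Set G) → ⁅B, ⁅A, A⁆⁆ = ⊥ →
      ⁅⁅Zc B, A⁆, A⁆ = ⊥ → ⁅B, A⁆ ≤ Zc B}

/-- the odd terms of the relative `K`-sequence -/
def kOdd (P : Subgroup G) : ℕ → Subgroup G
  | 0 => P
  | n + 1 => sSup (up P (sSup (lo P (kOdd P n))))

/-- the even terms of the relative `K`-sequence -/
def kEven (P : Subgroup G) (n : ℕ) : Subgroup G := sSup (lo P (kOdd P n))

/-- relative lower `K`-infinity -/
def kLow (P : Subgroup G) : Subgroup G := ⨆ n, kEven P n

/-- relative upper `K`-infinity -/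
def kUp (P : Subgroup G) : Subgroup G := ⨅ n, kOdd P n

theorem kOdd_succ (P : Subgroup G) (n : ℕ) : kOdd P (n + 1) = sSup (up P (kEven P n)) := rfl

theorem kOdd_zero (P : Subgroup G) : kOdd P 0 = P := rfl

end defs

section bridge

variable {G : Type*} [Group G] {P : Type*} [Group P] (f : P →* G) (hf : Function.Injective f)

include hf

theorem map_le_centralizer_map_iff (X B : Subgroup P) :
    X.map f ≤ centralizer ((B.map f : Subgroup G) : Set G) ↔ X ≤ centralizer (B : Set P) := by
  constructor
  · intro h x hx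
    rw [mem_centralizer_iff]
    intro b hb
    have h1 := h (mem_map_of_mem f hx)
    rw [mem_centralizer_iff] at h1
    have h2 := h1 (f b) (mem_map_of_mem f hb)
    apply hf
    rw [map_mul, map_mul]; exact h2
  · rintro h _ ⟨x, hx, rfl⟩
    rw [mem_centralizer_iff]
    rintro _ ⟨b, hb, rfl⟩
    rw [← map_mul, ← map_mul, mem_centralizer_iff.mp (h hx) b hb]

theorem map_Zc (B : Subgroup P) :
    (B ⊓ centralizer (B : Set P)).map f = Zc (B.map f) := by
  apply le_antisymm
  · apply le_inf
    · exact Subgroup.map_mono inf_le_left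
    · exact (map_le_centralizer_map_iff f hf _ B).mpr inf_le_right
  · intro y hy
    rw [Subgroup.mem_inf] at hy
    obtain ⟨⟨x, hx, rfl⟩, hy⟩ := hy
    refine ⟨x, Subgroup.mem_inf.mpr ⟨hx, ?_⟩, rfl⟩
    rw [mem_centralizer_iff]
    intro b hb
    rw [mem_centralizer_iff] at hy
    have h2 := hy (f b) (mem_map_of_mem f hb)
    apply hf
    rw [map_mul, map_mul]; exact h2

theorem cl2_map_iff (B : Subgroup P) : Cl2 (B.map f) ↔ B ∈ classTwoSubgroups P := by
  unfold Cl2 classTwoSubgroups
  rw [← Subgroup.map_commutator, map_le_centralizer_map_iff f hf]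
  rfl

theorem map_le_normalizer_map_iff (Q B : Subgroup P) :
    Q.map f ≤ normalizer ((B.map f : Subgroup G) : Set G) ↔ Q ≤ normalizer (B : Set P) := by
  constructor
  · intro h x hx
    have h1 := h (mem_map_of_mem f hx)
    rw [mem_normalizer_iff] at h1 ⊢
    intro b
    constructor
    · intro hb
      obtain ⟨b', hb', h2⟩ := (h1 (f b)).mp (mem_map_of_mem f hb)
      have h3 : b' = x * b * x⁻¹ := by
        apply hf; rw [h2, map_mul, map_mul, map_inv]
      rw [← h3]; exact hb'
    · intro hb
      have h2 : f x * f b * (f x)⁻¹ ∈ B.map f := by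
        refine ⟨x * b * x⁻¹, hb, ?_⟩
        rw [map_mul, map_mul, map_inv]
      obtain ⟨b', hb', h3⟩ := (h1 (f b)).mpr h2
      rw [← hf h3]; exact hb'
  · rintro h _ ⟨x, hx, rfl⟩
    have h1 := h hx
    rw [mem_normalizer_iff] at h1 ⊢
    intro y
    constructor
    · rintro ⟨b, hb, rfl⟩
      refine ⟨x * b * x⁻¹, (h1 b).mp hb, ?_⟩
      rw [map_mul, map_mul, map_inv]
    · rintro ⟨b', hb', h2⟩
      refine ⟨x⁻¹ * b' * x, ?_, ?_⟩
      · apply (h1 _).mpr
        have : x * (x⁻¹ * b' * x) * x⁻¹ = b' := by group
        rw [this]; exact hb'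
      · rw [map_mul, map_mul, map_inv, h2]; group

theorem up_map (Q : Subgroup P) :
    up f.range (Q.map f) = (Subgroup.map f) '' (kUpperStarFamily Q) := by
  ext B'
  constructor
  · rintro ⟨hB'P, hcl, hcomm⟩
    have hB' : (B'.comap f).map f = B' := Subgroup.map_comap_eq_self hB'P
    refine ⟨B'.comap f, ⟨?_, ?_⟩, hB'⟩
    · rw [← cl2_map_iff f hf, hB']; exact hcl
    · rw [← hB', ← Subgroup.map_commutator, ← map_Zc f hf,
        Subgroup.map_le_map_iff_of_injective hf] at hcomm
      exact hcomm
  · rintro ⟨B, ⟨hcl, hcomm⟩, rfl⟩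
    refine ⟨Subgroup.map_le_range f B, (cl2_map_iff f hf B).mpr hcl, ?_⟩
    rw [← Subgroup.map_commutator, ← map_Zc f hf]
    exact Subgroup.map_mono hcomm

theorem lo_map (Q : Subgroup P) :
    lo f.range (Q.map f) = (Subgroup.map f) '' (kLowerStarFamily Q) := by
  ext B'
  constructor
  · rintro ⟨hB'P, hcl, hnorm, htest⟩
    have hB' : (B'.comap f).map f = B' := Subgroup.map_comap_eq_self hB'P
    refine ⟨B'.comap f, ⟨?_, ?_, ?_⟩, hB'⟩
    · rw [← cl2_map_iff f hf, hB']; exact hcl
    · rw [← map_le_normalizer_map_iff f hf, hB']; exact hnorm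
    · intro A hA hAQ hBA h1 h2
      have h3 := htest (A.map f) ((cl2_map_iff f hf A).mpr hA) (Subgroup.map_mono hAQ)
        (by rw [← hB', map_le_normalizer_map_iff f hf]; exact hBA)
        (by rw [← hB', ← Subgroup.map_commutator, ← Subgroup.map_commutator, h1, Subgroup.map_bot])
        (by rw [← hB', ← map_Zc f hf, ← Subgroup.map_commutator, ← Subgroup.map_commutator, h2,
              Subgroup.map_bot])
      rw [← hB', ← Subgroup.map_commutator, ← map_Zc f hf,
        Subgroup.map_le_map_iff_of_injective hf] at h3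
      exact h3
  · rintro ⟨B, ⟨hcl, hnorm, htest⟩, rfl⟩
    refine ⟨Subgroup.map_le_range f B, (cl2_map_iff f hf B).mpr hcl,
      (map_le_normalizer_map_iff f hf Q B).mpr hnorm, ?_⟩
    intro A' hA' hA'Q hBA' h1 h2
    have hA'r : A' ≤ f.range := hA'Q.trans (Subgroup.map_le_range f Q)
    have hA'e : (A'.comap f).map f = A' := Subgroup.map_comap_eq_self hA'r
    have hAQ : A'.comap f ≤ Q := by
      have := Subgroup.comap_mono (f := f) hA'Q
      rwa [Subgroup.comap_map_eq_self_of_injective hf] at this
    rw [← hA'e] at hA' hBA' h1 h2 ⊢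
    rw [← Subgroup.map_commutator, ← map_Zc f hf, Subgroup.map_le_map_iff_of_injective hf]
    apply htest (A'.comap f) ((cl2_map_iff f hf _).mp hA') hAQ
      ((map_le_normalizer_map_iff f hf _ _).mp hBA')
    · rw [← Subgroup.map_commutator, ← Subgroup.map_commutator] at h1
      exact (Subgroup.map_eq_bot_iff_of_injective _ hf).mp h1
    · rw [← map_Zc f hf, ← Subgroup.map_commutator, ← Subgroup.map_commutator] at h2
      exact (Subgroup.map_eq_bot_iff_of_injective _ hf).mp h2

omit hf in
theorem map_sSup_image (𝒮 : Set (Subgroup P)) :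
    (sSup 𝒮).map f = sSup ((Subgroup.map f) '' 𝒮) := by
  rw [(Subgroup.gc_map_comap f).l_sSup, sSup_image]

theorem map_kSeqOdd (n : ℕ) : (kSeqOdd P n).map f = kOdd f.range n := by
  induction n with
  | zero =>
    show (⊤ : Subgroup P).map f = f.range
    rw [MonoidHom.range_eq_map]
  | succ n ih =>
    show (sSup (kUpperStarFamily (sSup (kLowerStarFamily (kSeqOdd P n))))).map f =
      sSup (up f.range (sSup (lo f.range (kOdd f.range n))))
    rw [map_sSup_image, ← up_map f hf, map_sSup_image, ← lo_map f hf, ih]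

theorem map_kSeqEven (n : ℕ) : (kSeqEven P n).map f = kEven f.range n := by
  show (sSup (kLowerStarFamily (kSeqOdd P n))).map f = sSup (lo f.range (kOdd f.range n))
  rw [map_sSup_image, ← lo_map f hf, map_kSeqOdd f hf]

end bridge

section bridge2

universe u

variable {G : Type*} [Group G] {P : Type u} [Group P] (f : P →* G) (hf : Function.Injective f)

include hf

theorem map_kInfLower : (kInfLower P).map f = kLow f.range := by
  unfold kInfLower kLow
  rw [Subgroup.map_iSup]
  exact iSup_congr fun n => map_kSeqEven f hf n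

theorem map_kInfUpper : (kInfUpper P).map f = kUp f.range := by
  unfold kInfUpper kUp
  rw [Subgroup.map_iInf _ hf]
  exact iInf_congr fun n => map_kSeqOdd f hf n

end bridge2

section induced

universe u

variable {G : Type u} [Group G]

theorem inducedFunctor_kInfLower (S : Subgroup G) :
    inducedFunctor kInfLower S = kLow S := by
  unfold inducedFunctor
  rw [map_kInfLower S.subtype S.subtype_injective, Subgroup.range_subtype]

theorem inducedFunctor_kInfUpper (S : Subgroup G) :
    inducedFunctor kInfUpper S = kUp S := by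
  unfold inducedFunctor
  rw [map_kInfUpper S.subtype S.subtype_injective, Subgroup.range_subtype]

theorem kInfLower_eq (P : Type u) [Group P] : kInfLower P = kLow (⊤ : Subgroup P) := by
  have h := map_kInfLower (MonoidHom.id P) Function.injective_id
  rw [Subgroup.map_id, MonoidHom.range_eq_top.mpr Function.surjective_id] at h
  exact h

theorem kInfUpper_eq (P : Type u) [Group P] : kInfUpper P = kUp (⊤ : Subgroup P) := by
  have h := map_kInfUpper (MonoidHom.id P) Function.injective_id
  rw [Subgroup.map_id, MonoidHom.range_eq_top.mpr Function.surjective_id] at h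
  exact h

theorem map_kInfLower_equiv {Q R : Type u} [Group Q] [Group R] (φ : Q ≃* R) :
    (kInfLower Q).map φ.toMonoidHom = kInfLower R := by
  rw [map_kInfLower φ.toMonoidHom φ.injective, kInfLower_eq R,
    MonoidHom.range_eq_top.mpr φ.surjective]

theorem map_kInfUpper_equiv {Q R : Type u} [Group Q] [Group R] (φ : Q ≃* R) :
    (kInfUpper Q).map φ.toMonoidHom = kInfUpper R := by
  rw [map_kInfUpper φ.toMonoidHom φ.injective, kInfUpper_eq R,
    MonoidHom.range_eq_top.mpr φ.surjective]

end induced

end Cfsg.H5.KI
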