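import Mathlib
import Cfsg.Agent.H5.KInf1

/-!
# `K`-infinity: monotonicity, the centre, and the comparison theorem `K(S) = K(T)`
-/

set_option autoImplicit false
set_option linter.unusedSectionVars false

namespace Cfsg.H5.KI

open Cfsg Subgroup
open scoped commutatorElement

section basic

variable {G : Type*} [Group G]

theorem up_anti {P Q Q' : Subgroup G} (h : Q ≤ Q') : up P Q' ⊆ up P Q := by
  rintro B ⟨h1, h2, h3⟩
  exact ⟨h1, h2, (Subgroup.commutator_mono le_rfl h).trans h3⟩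

theorem lo_anti {P Q Q' : Subgroup G} (h : Q ≤ Q') : lo P Q' ⊆ lo P Q := by
  rintro B ⟨h1, h2, h3, h4⟩
  exact ⟨h1, h2, h.trans h3, fun A hA hAQ => h4 A hA (hAQ.trans h)⟩

theorem kOdd_le (P : Subgroup G) (n : ℕ) : kOdd P n ≤ P := by
  cases n with
  | zero => exact le_rfl
  | succ n => exact sSup_le fun B hB => hB.1

theorem kEven_le (P : Subgroup G) (n : ℕ) : kEven P n ≤ P :=
  sSup_le fun B hB => hB.1

theorem kLow_le (P : Subgroup G) : kLow P ≤ P := iSup_le fun n => kEven_le P n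

theorem kUp_le (P : Subgroup G) : kUp P ≤ P := (iInf_le _ 0).trans (kOdd_le P 0)

theorem commutator_eq_bot_of_le_centralizer {X Y : Subgroup G}
    (h : X ≤ centralizer (Y : Set G)) : ⁅X, Y⁆ = ⊥ :=
  (Subgroup.commutator_eq_bot_iff_le_centralizer).mpr h

theorem cl2_Zc (P : Subgroup G) : Cl2 (Zc P) := by
  unfold Cl2
  rw [commutator_eq_bot_of_le_centralizer]
  · exact bot_le
  · exact inf_le_right.trans (Subgroup.centralizer_le inf_le_left)

theorem Zc_mem_up {P Q : Subgroup G} (hQ : Q ≤ P) : Zc P ∈ up P Q := by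
  refine ⟨inf_le_left, cl2_Zc P, ?_⟩
  rw [commutator_eq_bot_of_le_centralizer]
  · exact bot_le
  · exact inf_le_right.trans (Subgroup.centralizer_le hQ)

theorem le_normalizer_Zc (P : Subgroup G) : P ≤ normalizer ((Zc P : Subgroup G) : Set G) := by
  intro x hx
  rw [mem_normalizer_iff]
  intro z
  have key : ∀ y : G, y ∈ P → ∀ z : G, z ∈ Zc P → y * z * y⁻¹ = z := by
    intro y hy z hz
    have := mem_centralizer_iff.mp hz.2 y hy
    rw [this]; group
  constructor
  · intro hz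
    rw [key x hx z hz]; exact hz
  · intro hz
    have := key x⁻¹ (inv_mem hx) _ hz
    have h2 : x⁻¹ * (x * z * x⁻¹) * x⁻¹⁻¹ = z := by group
    rw [h2] at this
    rw [this]; exact hz

theorem Zc_mem_lo {P Q : Subgroup G} (hQ : Q ≤ P) : Zc P ∈ lo P Q := by
  refine ⟨inf_le_left, cl2_Zc P, hQ.trans (le_normalizer_Zc P), ?_⟩
  intro A _ hAQ _ _ _
  rw [commutator_eq_bot_of_le_centralizer]
  · exact bot_le
  · exact inf_le_right.trans (Subgroup.centralizer_le (hAQ.trans hQ))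

theorem Zc_le_kOdd (P : Subgroup G) (n : ℕ) : Zc P ≤ kOdd P n := by
  cases n with
  | zero => exact inf_le_left
  | succ n => exact le_sSup (Zc_mem_up (kEven_le P n))

theorem Zc_le_kEven (P : Subgroup G) (n : ℕ) : Zc P ≤ kEven P n :=
  le_sSup (Zc_mem_lo (kOdd_le P n))

theorem Zc_le_kLow (P : Subgroup G) : Zc P ≤ kLow P :=
  (Zc_le_kEven P 0).trans (le_iSup (fun n => kEven P n) 0)

theorem Zc_le_kUp (P : Subgroup G) : Zc P ≤ kUp P := le_iInf fun n => Zc_le_kOdd P n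

/-- an abelian subgroup of `P` normalized by `P` lies in every lower star family -/
theorem abelian_normal_mem_lo {P Q B : Subgroup G} (hQ : Q ≤ P) (hBP : B ≤ P)
    (hab : B ≤ centralizer (B : Set G)) (hn : P ≤ normalizer (B : Set G)) : B ∈ lo P Q := by
  refine ⟨hBP, ?_, hQ.trans hn, ?_⟩
  · unfold Cl2
    rw [commutator_eq_bot_of_le_centralizer hab]; exact bot_le
  · intro A _ hAQ _ _ _
    refine le_inf ?_ ?_
    · rw [Subgroup.commutator_le]
      intro b hb a ha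
      have h1 := hn (hQ (hAQ ha))
      rw [mem_normalizer_iff] at h1
      have h2 : a * b⁻¹ * a⁻¹ ∈ B := (h1 _).mp (inv_mem hb)
      have h3 : ⁅b, a⁆ = b * (a * b⁻¹ * a⁻¹) := by
        rw [commutatorElement_def]; group
      rw [h3]; exact mul_mem hb h2
    · have : ⁅B, A⁆ ≤ B := by
        rw [Subgroup.commutator_le]
        intro b hb a ha
        have h1 := hn (hQ (hAQ ha))
        rw [mem_normalizer_iff] at h1
        have h2 : a * b⁻¹ * a⁻¹ ∈ B := (h1 _).mp (inv_mem hb)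
        have h3 : ⁅b, a⁆ = b * (a * b⁻¹ * a⁻¹) := by
          rw [commutatorElement_def]; group
        rw [h3]; exact mul_mem hb h2
      exact this.trans hab

theorem abelian_normal_le_kLow {P B : Subgroup G} (hBP : B ≤ P)
    (hab : B ≤ centralizer (B : Set G)) (hn : P ≤ normalizer (B : Set G)) : B ≤ kLow P :=
  (le_sSup (abelian_normal_mem_lo (kOdd_le P 0) hBP hab hn)).trans
    (le_iSup (fun n => kEven P n) 0)

end basic

section core

variable {G : Type*} [Group G]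

/-- **Comparison theorem.** -/
theorem core {S T A : Subgroup G} (hTS : T ≤ S) (hAT : A ≤ T) (hA2 : Cl2 A)
    (hSA : S ≤ normalizer (A : Set G)) (hTA : ⁅A, T⁆ ≤ Zc A)
    (h1 : ∀ Q : Subgroup G, A ≤ Q → Q ≤ S → ∀ B ∈ up S Q, B ≤ T)
    (h2 : ∀ Q : Subgroup G, A ≤ Q → Q ≤ S → ∀ B ∈ lo S Q, B ≤ T)
    (h3 : ∀ A' : Subgroup G, A' ≤ S → Cl2 A' → A ≤ normalizer (A' : Set G) →
      ⁅A, ⁅A', A'⁆⁆ = ⊥ → ⁅⁅Zc A, A'⁆, A'⁆ = ⊥ → A' ≤ T) :
    kLow S = kLow T ∧ kUp S = kUp T := by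
  have hAS : A ≤ S := hAT.trans hTS
  have hAlo : ∀ Q : Subgroup G, Q ≤ S → A ∈ lo S Q := fun Q hQS =>
    ⟨hAS, hA2, hQS.trans hSA, fun A' hA' hA'Q hAA' e1 e2 =>
      (Subgroup.commutator_mono le_rfl (h3 A' (hA'Q.trans hQS) hA' hAA' e1 e2)).trans hTA⟩
  have hAup : ∀ P Q : Subgroup G, A ≤ P → Q ≤ T → A ∈ up P Q := fun P Q hAP hQT =>
    ⟨hAP, hA2, (Subgroup.commutator_mono le_rfl hQT).trans hTA⟩
  have hmain : ∀ n, A ≤ kOdd S n ∧ kEven S n ≤ T := by
    intro n
    induction n with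
    | zero =>
      exact ⟨hAS, sSup_le fun B hB => h2 S hAS le_rfl B hB⟩
    | succ n ih =>
      have hA1 : A ≤ kOdd S (n + 1) := le_sSup (hAup S _ hAS ih.2)
      exact ⟨hA1, sSup_le fun B hB => h2 _ hA1 (kOdd_le S _) B hB⟩
  have hAe : ∀ n, A ≤ kEven S n := fun n => le_sSup (hAlo _ (kOdd_le S n))
  have hOT : ∀ n, kOdd S (n + 1) ≤ T := fun n =>
    sSup_le fun B hB => h1 _ (hAe n) (kEven_le S n) B hB
  -- the four interleaving steps
  have stepa : ∀ n, kOdd T n ≤ kOdd S n → kEven S n ≤ kEven T n := by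
    intro n h
    refine sSup_le fun B hB => le_sSup ?_
    obtain ⟨hB1, hB2, hB3, hB4⟩ := hB
    exact ⟨h2 _ (hmain n).1 (kOdd_le S n) B ⟨hB1, hB2, hB3, hB4⟩, hB2, h.trans hB3,
      fun A' hA' hA'Q => hB4 A' hA' (hA'Q.trans h)⟩
  have stepb : ∀ n, kEven S n ≤ kEven T n → kOdd T (n + 1) ≤ kOdd S (n + 1) := by
    intro n h
    refine sSup_le fun B hB => le_sSup ?_
    obtain ⟨hB1, hB2, hB3⟩ := hB
    exact ⟨hB1.trans hTS, hB2, (Subgroup.commutator_mono le_rfl h).trans hB3⟩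
  have stepc : ∀ n, kOdd S (n + 1) ≤ kOdd T n → kEven T n ≤ kEven S (n + 1) := by
    intro n h
    refine sSup_le fun B hB => le_sSup ?_
    obtain ⟨hB1, hB2, hB3, hB4⟩ := hB
    exact ⟨hB1.trans hTS, hB2, h.trans hB3, fun A' hA' hA'Q => hB4 A' hA' (hA'Q.trans h)⟩
  have stepd : ∀ n, kEven T n ≤ kEven S (n + 1) → kOdd S (n + 2) ≤ kOdd T (n + 1) := by
    intro n h
    refine sSup_le fun B hB => le_sSup ?_
    have hBT : B ≤ T := h1 _ (hAe (n + 1)) (kEven_le S (n + 1)) B hB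
    obtain ⟨hB1, hB2, hB3⟩ := hB
    exact ⟨hBT, hB2, (Subgroup.commutator_mono le_rfl h).trans hB3⟩
  have hI : ∀ n, kOdd T n ≤ kOdd S n ∧ kOdd S (n + 1) ≤ kOdd T n := by
    intro n
    induction n with
    | zero => exact ⟨hTS, hOT 0⟩
    | succ n ih =>
      exact ⟨stepb n (stepa n ih.1), stepd n (stepc n ih.2)⟩
  refine ⟨le_antisymm ?_ ?_, le_antisymm ?_ ?_⟩
  · exact iSup_mono fun n => stepa n (hI n).1
  · exact iSup_le fun n => (stepc n (hI n).2).trans (le_iSup (fun n => kEven S n) (n + 1))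
  · exact le_iInf fun n => (iInf_le _ (n + 1)).trans (hI n).2
  · exact iInf_mono fun n => (hI n).1

end core

section charp

universe u

theorem isCharPFunctor_kInfLower (p : ℕ) [Fact p.Prime] : IsCharPFunctor.{u} p kInfLower := by
  refine ⟨?_, ?_⟩
  · intro Q _ _ hQ _
    have h1 : Zc (⊤ : Subgroup Q) ≤ kInfLower Q := by
      rw [kInfLower_eq]; exact Zc_le_kLow _
    have h2 : Subgroup.center Q ≤ Zc (⊤ : Subgroup Q) := by
      intro z hz
      refine Subgroup.mem_inf.mpr ⟨Subgroup.mem_top z, ?_⟩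
      rw [mem_centralizer_iff]
      intro y _
      exact (Subgroup.mem_center_iff.mp hz y)
    have h3 : Nontrivial (Subgroup.center Q) := hQ.center_nontrivial
    intro hbot
    rw [hbot] at h1
    have h4 : Subgroup.center Q = ⊥ := le_bot_iff.mp (h2.trans h1)
    rw [h4] at h3
    exact not_nontrivial _ h3
  · intro Q R _ _ _ _ φ
    exact map_kInfLower_equiv φ

theorem isCharPFunctor_kInfUpper (p : ℕ) [Fact p.Prime] : IsCharPFunctor.{u} p kInfUpper := by
  refine ⟨?_, ?_⟩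
  · intro Q _ _ hQ _
    have h1 : Zc (⊤ : Subgroup Q) ≤ kInfUpper Q := by
      rw [kInfUpper_eq]; exact Zc_le_kUp _
    have h2 : Subgroup.center Q ≤ Zc (⊤ : Subgroup Q) := by
      intro z hz
      refine Subgroup.mem_inf.mpr ⟨Subgroup.mem_top z, ?_⟩
      rw [mem_centralizer_iff]
      intro y _
      exact (Subgroup.mem_center_iff.mp hz y)
    have h3 : Nontrivial (Subgroup.center Q) := hQ.center_nontrivial
    intro hbot
    rw [hbot] at h1
    have h4 : Subgroup.center Q = ⊥ := le_bot_iff.mp (h2.trans h1)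
    rw [h4] at h3
    exact not_nontrivial _ h3
  · intro Q R _ _ _ _ φ
    exact map_kInfUpper_equiv φ

end charp

end Cfsg.H5.KI
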