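import Mathlib
import Cfsg.Agent.H5.KInf2
import Cfsg.Agent.H5.PSolvable

/-!
# `K`-infinity: general lemmas on stability, coprime action and normalizers
-/

set_option autoImplicit false
set_option linter.unusedSectionVars false

namespace Cfsg.H5.KI

open Cfsg Subgroup
open scoped commutatorElement

/-- stability of all sections `U / V` normalized by a subgroup `H`: the elements of `H` acting
quadratically on `U / V` lie in a subgroup `N` normalized by `H` all of whose `p'`-elements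
centralize `U / V`. -/
def Stab (p : ℕ) (G : Type*) [Group G] : Prop :=
  ∀ (H U V : Subgroup G), V ≤ U → U ≤ H → H ≤ normalizer (U : Set G) →
    H ≤ normalizer (V : Set G) → IsPGroup p U →
    ∃ N : Subgroup G, N ≤ H ∧ H ≤ normalizer (N : Set G) ∧
      (∀ x ∈ N, (orderOf x).Coprime p → ⁅U, zpowers x⁆ ≤ V) ∧
      ∀ g ∈ H, ⁅⁅U, zpowers g⁆, zpowers g⁆ ≤ V → g ∈ N

section general

variable {G : Type*} [Group G]

theorem conj_pow_comm {l u z : G} (hz : l * z = z * l) (h : l * u * l⁻¹ = z * u) (m : ℕ) :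
    l ^ m * u * (l ^ m)⁻¹ = z ^ m * u := by
  induction m with
  | zero => simp
  | succ m ih =>
    have hc : Commute l z := hz
    have hzm : l * z ^ m = z ^ m * l := (hc.pow_right m).eq
    calc l ^ (m + 1) * u * (l ^ (m + 1))⁻¹ = l * (l ^ m * u * (l ^ m)⁻¹) * l⁻¹ := by
          rw [pow_succ']; group
      _ = l * (z ^ m * u) * l⁻¹ := by rw [ih]
      _ = (l * z ^ m) * u * l⁻¹ := by group
      _ = z ^ m * (l * u * l⁻¹) := by rw [hzm]; group
      _ = z ^ (m + 1) * u := by rw [h, pow_succ]; group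

theorem le_normalizer_of_conj_mem {H N : Subgroup G}
    (h : ∀ x ∈ H, ∀ y ∈ N, x * y * x⁻¹ ∈ N) : H ≤ normalizer (N : Set G) := by
  intro x hx
  rw [mem_normalizer_iff]
  intro y
  refine ⟨h x hx y, fun hy => ?_⟩
  have := h x⁻¹ (inv_mem hx) _ hy
  have h2 : x⁻¹ * (x * y * x⁻¹) * x⁻¹⁻¹ = y := by group
  rwa [h2] at this

theorem conj_mem_of_mem_normalizer {N : Subgroup G} {x y : G}
    (hx : x ∈ normalizer (N : Set G)) (hy : y ∈ N) : x * y * x⁻¹ ∈ N :=
  (mem_normalizer_iff.mp hx y).mp hy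

theorem le_normalizer_inf {H N₁ N₂ : Subgroup G} (h1 : H ≤ normalizer (N₁ : Set G))
    (h2 : H ≤ normalizer (N₂ : Set G)) : H ≤ normalizer ((N₁ ⊓ N₂ : Subgroup G) : Set G) :=
  le_normalizer_of_conj_mem fun x hx y hy =>
    Subgroup.mem_inf.mpr ⟨conj_mem_of_mem_normalizer (h1 hx) hy.1,
      conj_mem_of_mem_normalizer (h2 hx) hy.2⟩

theorem le_normalizer_sup {H N₁ N₂ : Subgroup G} (h1 : H ≤ normalizer (N₁ : Set G))
    (h2 : H ≤ normalizer (N₂ : Set G)) : H ≤ normalizer ((N₁ ⊔ N₂ : Subgroup G) : Set G) := by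
  apply le_normalizer_of_conj_mem
  intro x hx y hy
  have h3 : N₁ ⊔ N₂ ≤ (N₁ ⊔ N₂).comap (MulAut.conj x⁻¹).toMonoidHom := by
    apply sup_le
    · intro n hn
      rw [Subgroup.mem_comap]
      apply (le_sup_left : N₁ ≤ N₁ ⊔ N₂)
      have := conj_mem_of_mem_normalizer (h1 (inv_mem hx)) hn
      simpa using this
    · intro n hn
      rw [Subgroup.mem_comap]
      apply (le_sup_right : N₂ ≤ N₁ ⊔ N₂)
      have := conj_mem_of_mem_normalizer (h2 (inv_mem hx)) hn
      simpa using this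
  -- apply to `x * y * x⁻¹`?  we need the conjugate by `x`
  have h4 : N₁ ⊔ N₂ ≤ (N₁ ⊔ N₂).comap (MulAut.conj x).toMonoidHom := by
    apply sup_le
    · intro n hn
      rw [Subgroup.mem_comap]
      apply (le_sup_left : N₁ ≤ N₁ ⊔ N₂)
      have := conj_mem_of_mem_normalizer (h1 hx) hn
      simpa using this
    · intro n hn
      rw [Subgroup.mem_comap]
      apply (le_sup_right : N₂ ≤ N₁ ⊔ N₂)
      have := conj_mem_of_mem_normalizer (h2 hx) hn
      simpa using this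
  have := h4 hy
  rw [Subgroup.mem_comap] at this
  simpa using this

theorem le_normalizer_Zc_of_le {X B : Subgroup G} (h : X ≤ normalizer (B : Set G)) :
    X ≤ normalizer ((Zc B : Subgroup G) : Set G) := by
  apply le_normalizer_of_conj_mem
  intro x hx z hz
  have hxB := h hx
  refine Subgroup.mem_inf.mpr ⟨conj_mem_of_mem_normalizer hxB hz.1, ?_⟩
  rw [mem_centralizer_iff]
  intro b hb
  have hb' : x⁻¹ * b * x⁻¹⁻¹ ∈ B := conj_mem_of_mem_normalizer (h (inv_mem hx)) hb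
  have h1 := mem_centralizer_iff.mp hz.2 _ hb'
  calc b * (x * z * x⁻¹) = x * ((x⁻¹ * b * x⁻¹⁻¹) * z) * x⁻¹ := by group
    _ = x * (z * (x⁻¹ * b * x⁻¹⁻¹)) * x⁻¹ := by rw [h1]
    _ = x * z * x⁻¹ * b := by group

theorem commutator_le_of_le_normalizer {X B : Subgroup G} (h : X ≤ normalizer (B : Set G)) :
    ⁅X, B⁆ ≤ B := by
  rw [Subgroup.commutator_le]
  intro x hx b hb
  have h1 : x * b * x⁻¹ ∈ B := conj_mem_of_mem_normalizer (h hx) hb
  have h2 : ⁅x, b⁆ = (x * b * x⁻¹) * b⁻¹ := by rw [commutatorElement_def]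
  rw [h2]; exact mul_mem h1 (inv_mem hb)

theorem commutator_le_of_le_normalizer' {X B : Subgroup G} (h : X ≤ normalizer (B : Set G)) :
    ⁅B, X⁆ ≤ B := by
  rw [Subgroup.commutator_comm]; exact commutator_le_of_le_normalizer h

theorem commutator_self_Zc (B : Subgroup G) : ⁅Zc B, B⁆ = ⊥ :=
  commutator_eq_bot_of_le_centralizer inf_le_right

theorem commutator_self_Zc' (B : Subgroup G) : ⁅B, Zc B⁆ = ⊥ := by
  rw [Subgroup.commutator_comm]; exact commutator_self_Zc B

theorem zpowers_le_of_mem {B : Subgroup G} {g : G} (hg : g ∈ B) : zpowers g ≤ B :=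
  (Subgroup.zpowers_le).mpr hg

variable [Finite G] {p : ℕ} [Fact p.Prime]

theorem isPGroup_of_forall_coprime (N : Subgroup G)
    (h : ∀ x ∈ N, (orderOf x).Coprime p → x = 1) : IsPGroup p N := by
  have hp : p.Prime := Fact.out
  rintro ⟨g, hg⟩
  have hpos : orderOf g ≠ 0 := (orderOf_pos g).ne'
  obtain ⟨k, m, hm, hkm⟩ := Nat.exists_eq_pow_mul_and_not_dvd hpos p hp.ne_one
  have h1 : (g ^ (p ^ k)) ^ m = 1 := by
    rw [← pow_mul, ← hkm]; exact pow_orderOf_eq_one g
  have h2 : orderOf (g ^ (p ^ k)) ∣ m := orderOf_dvd_of_pow_eq_one h1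
  have h3 : m.Coprime p := ((Nat.Prime.coprime_iff_not_dvd hp).mpr hm).symm
  have h4 : g ^ (p ^ k) = 1 :=
    h _ (pow_mem hg _) (Nat.Coprime.coprime_dvd_left h2 h3)
  exact ⟨k, Subtype.ext (by simpa using h4)⟩

theorem mem_centralizer_of_coprime {A Y : Subgroup G} (hAp : IsPGroup p A) (hYA : Y ≤ A)
    {x : G} (hx : (orderOf x).Coprime p) (h1 : ⁅Y, zpowers x⁆ = ⊥) (h2 : ⁅A, zpowers x⁆ ≤ Y) :
    x ∈ centralizer (A : Set G) := by
  rw [mem_centralizer_iff]
  intro a ha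
  have hz : ⁅x, a⁆ ∈ Y := by
    have h3 : ⁅a, x⁆ ∈ ⁅A, zpowers x⁆ :=
      Subgroup.commutator_mem_commutator ha (Subgroup.mem_zpowers x)
    have h4 : ⁅x, a⁆ = (⁅a, x⁆)⁻¹ := (commutatorElement_inv a x).symm
    rw [h4]; exact inv_mem (h2 h3)
  have hYc : Y ≤ centralizer ((zpowers x : Subgroup G) : Set G) :=
    (Subgroup.commutator_eq_bot_iff_le_centralizer).mp h1
  have hcomm : x * ⁅x, a⁆ = ⁅x, a⁆ * x :=
    mem_centralizer_iff.mp (hYc hz) x (Subgroup.mem_zpowers x)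
  have hconj : x * a * x⁻¹ = ⁅x, a⁆ * a := by rw [commutatorElement_def]; group
  have h5 := conj_pow_comm hcomm hconj (orderOf x)
  rw [pow_orderOf_eq_one] at h5
  have h6 : ⁅x, a⁆ ^ orderOf x = 1 := by
    have : a = ⁅x, a⁆ ^ orderOf x * a := by simpa using h5
    exact (mul_eq_right.mp this.symm)
  have h7 : (orderOf ⁅x, a⁆).Coprime p :=
    Nat.Coprime.coprime_dvd_left (orderOf_dvd_of_pow_eq_one h6) hx
  have h8 : ⁅x, a⁆ = 1 := Cfsg.H5.eq_one_of_coprime_of_mem_pgroup h7 hAp (hYA hz)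
  rw [h8, one_mul] at hconj
  calc a * x = (x * a * x⁻¹) * x := by rw [hconj]
    _ = x * a := by group

end general

end Cfsg.H5.KI
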