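import Mathlib
import Cfsg.Agent.H5.KInf3
import Cfsg.Agent.Lib.Helper16.SylowInf

/-!
# `K`-infinity: two key lemmas on `O_p`
-/

set_option autoImplicit false
set_option linter.unusedSectionVars false

namespace Cfsg.H5.KI

open Cfsg Subgroup
open scoped commutatorElement

variable {G : Type*} [Group G] [Finite G] {p : ℕ} [Fact p.Prime]

/-- an element acting quadratically on `Y` and on `A / Y` lies in `T` -/
theorem mem_of_quad2 (hst : Stab p G) {H T A Y : Subgroup G} (hTp : IsPGroup p T)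
    (hOp : ∀ X : Subgroup G, X ≤ H → H ≤ normalizer (X : Set G) → IsPGroup p X → X ≤ T)
    (hCA : H ⊓ centralizer (A : Set G) ≤ T) (hAp : IsPGroup p A) (hAH : A ≤ H)
    (hHA : H ≤ normalizer (A : Set G)) (hYA : Y ≤ A) (hHY : H ≤ normalizer (Y : Set G))
    {g : G} (hg : g ∈ H) (h1 : ⁅⁅Y, zpowers g⁆, zpowers g⁆ = ⊥)
    (h2 : ⁅⁅A, zpowers g⁆, zpowers g⁆ ≤ Y) : g ∈ T := by
  have hbot : H ≤ normalizer (((⊥ : Subgroup G) : Subgroup G) : Set G) := by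
    apply le_normalizer_of_conj_mem
    intro x _ y hy
    rw [Subgroup.mem_bot] at hy ⊢
    rw [hy]; group
  obtain ⟨N₁, hN₁H, hN₁n, hN₁c, hN₁q⟩ :=
    hst H Y ⊥ bot_le (hYA.trans hAH) hHY hbot (hAp.to_le hYA)
  obtain ⟨N₂, hN₂H, hN₂n, hN₂c, hN₂q⟩ := hst H A Y hYA hAH hHA hHY hAp
  have hg1 : g ∈ N₁ := hN₁q g hg (by rw [h1])
  have hg2 : g ∈ N₂ := hN₂q g hg h2
  have hNp : IsPGroup p ↥(N₁ ⊓ N₂) := by
    apply isPGroup_of_forall_coprime
    intro x hx hxc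
    have h3 : ⁅Y, zpowers x⁆ = ⊥ := le_bot_iff.mp (hN₁c x hx.1 hxc)
    have h4 : ⁅A, zpowers x⁆ ≤ Y := hN₂c x hx.2 hxc
    have h5 : x ∈ centralizer (A : Set G) := mem_centralizer_of_coprime hAp hYA hxc h3 h4
    exact Cfsg.H5.eq_one_of_coprime_of_mem_pgroup hxc hTp (hCA ⟨hN₁H hx.1, h5⟩)
  exact hOp _ (inf_le_left.trans hN₁H) (le_normalizer_inf hN₁n hN₂n) hNp ⟨hg1, hg2⟩

/-- if `R₁` contains all `p'`-elements of the normal subgroup `H₁` and `R₁ ≤ H' ≤ H₁`, then every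
`p`-subgroup of `H'` normalized by `H'` lies in `O_p(G)` -/
theorem le_pCore_of_residual (H₁ R₁ H' X : Subgroup G) [hH₁ : H₁.Normal] [hR₁ : R₁.Normal]
    (hR₁H₁ : R₁ ≤ H₁) (hR : ∀ x ∈ H₁, (orderOf x).Coprime p → x ∈ R₁) (hRH' : R₁ ≤ H')
    (hXH' : X ≤ H') (hH'H₁ : H' ≤ H₁) (hnX : H' ≤ normalizer (X : Set G)) (hXp : IsPGroup p X) :
    X ≤ pCore p G := by
  have hp : p.Prime := Fact.out
  obtain ⟨S₀, hXS₀⟩ := hXp.exists_le_sylow
  -- `P = S₀ ∩ H₁` has index prime to `p` in `H₁`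
  have hidx1 : ¬ p ∣ ((S₀ : Subgroup G) ⊓ H₁).relIndex H₁ := by
    rw [Subgroup.inf_relIndex_right]
    intro h
    exact S₀.not_dvd_index
      (h.trans (Cfsg.Agent.Lib.Helper16.relIndex_dvd_index_of_normal_right' (S₀ : Subgroup G) H₁))
  -- `H₁ / R₁` is a `p`-group
  have hquot : IsPGroup p (↥H₁ ⧸ R₁.subgroupOf H₁) := by
    intro q
    obtain ⟨h, rfl⟩ := QuotientGroup.mk_surjective q
    obtain ⟨t, u, ht, hu, htu, ⟨k, hk⟩, huc⟩ :=
      Cfsg.Agent.Lib.Helper16.exists_p_decomp' p (h : G)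
    refine ⟨k, ?_⟩
    rw [← QuotientGroup.mk_pow, QuotientGroup.eq_one_iff, Subgroup.mem_subgroupOf]
    have hcomm : Commute t u := by
      obtain ⟨i, rfl⟩ := Subgroup.mem_zpowers_iff.mp ht
      obtain ⟨j, rfl⟩ := Subgroup.mem_zpowers_iff.mp hu
      exact (Commute.refl (h : G)).zpow_zpow i j
    have h1 : ((h ^ (p ^ k) : ↥H₁) : G) = u ^ (p ^ k) := by
      rw [Subgroup.coe_pow, htu, hcomm.mul_pow, ← hk, pow_orderOf_eq_one, one_mul]
    rw [h1]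
    apply pow_mem
    apply hR u _ huc
    exact (Subgroup.zpowers_le.mpr h.2) hu
  obtain ⟨n, hn⟩ := (IsPGroup.iff_card).mp hquot
  have hidx2 : R₁.relIndex H₁ = p ^ n := by
    rw [Subgroup.relIndex, Subgroup.index_eq_card]; exact hn
  -- `H₁ ≤ P ⊔ R₁`
  have hK : H₁ ≤ ((S₀ : Subgroup G) ⊓ H₁) ⊔ R₁ := by
    rw [← Subgroup.relIndex_eq_one]
    have d1 : (((S₀ : Subgroup G) ⊓ H₁) ⊔ R₁).relIndex H₁ ∣ ((S₀ : Subgroup G) ⊓ H₁).relIndex H₁ :=
      Subgroup.relIndex_dvd_of_le_left H₁ le_sup_left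
    have d2 : (((S₀ : Subgroup G) ⊓ H₁) ⊔ R₁).relIndex H₁ ∣ p ^ n := by
      rw [← hidx2]; exact Subgroup.relIndex_dvd_of_le_left H₁ le_sup_right
    obtain ⟨j, -, hj⟩ := (Nat.dvd_prime_pow hp).mp d2
    cases j with
    | zero => rw [hj, pow_zero]
    | succ j =>
      exfalso
      apply hidx1
      exact (Dvd.intro_left (p ^ j) (by rw [hj, pow_succ])).trans d1
  -- the normal closure of `X` in `H₁` lies in `S₀`
  have hNC : Subgroup.normalClosure ((X.subgroupOf H₁ : Subgroup ↥H₁) : Set ↥H₁) ≤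
      (S₀ : Subgroup G).subgroupOf H₁ := by
    unfold Subgroup.normalClosure
    rw [Subgroup.closure_le]
    intro a ha
    rw [Group.mem_conjugatesOfSet_iff] at ha
    obtain ⟨x, hx, hconj⟩ := ha
    obtain ⟨c, hc⟩ := isConj_iff.mp hconj
    rw [SetLike.mem_coe, Subgroup.mem_subgroupOf]
    have hcK : (c : G) ∈ (((S₀ : Subgroup G) ⊓ H₁) ⊔ R₁ : Subgroup G) := hK c.2
    rw [← SetLike.mem_coe, Subgroup.mul_normal] at hcK
    obtain ⟨y, hy, r, hr, hyr⟩ := Set.mem_mul.mp hcK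
    have hxX : (x : G) ∈ X := Subgroup.mem_subgroupOf.mp hx
    have h1 : r * (x : G) * r⁻¹ ∈ X := conj_mem_of_mem_normalizer (hnX (hRH' hr)) hxX
    have h2 : (a : G) = y * (r * (x : G) * r⁻¹) * y⁻¹ := by
      rw [← hc, Subgroup.coe_mul, Subgroup.coe_mul, Subgroup.coe_inv, ← hyr]; group
    rw [h2]
    exact mul_mem (mul_mem hy.1 (hXS₀ h1)) (inv_mem hy.1)
  have hNCp : IsPGroup p ↥(Subgroup.normalClosure ((X.subgroupOf H₁ : Subgroup ↥H₁) : Set ↥H₁)) :=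
    (S₀.isPGroup'.comap_subtype (K := H₁)).to_le hNC
  have h3 : X.subgroupOf H₁ ≤ pCore p ↥H₁ :=
    Subgroup.le_normalClosure.trans (Cfsg.H5.le_pCore Subgroup.normalClosure_normal hNCp)
  haveI : (pCore p ↥H₁).Characteristic := Cfsg.H5.pCore_characteristic p ↥H₁
  have hO₁n : ((pCore p ↥H₁).map H₁.subtype).Normal := ConjAct.normal_of_characteristic_of_normal
  have hO₁p : IsPGroup p ↥((pCore p ↥H₁).map H₁.subtype) :=
    (Cfsg.H5.pCore_isPGroup p ↥H₁).map _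
  have h4 : (pCore p ↥H₁).map H₁.subtype ≤ pCore p G := Cfsg.H5.le_pCore hO₁n hO₁p
  intro x hx
  apply h4
  exact ⟨⟨x, hH'H₁ (hXH' hx)⟩, h3 (Subgroup.mem_subgroupOf.mpr hx), rfl⟩

end Cfsg.H5.KI
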