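import Mathlib
import Cfsg.Agent.H5.KInf4

/-!
# `K`-infinity: members of the lower star families lie in `O_p(G)` for stable constrained `G`
-/

set_option autoImplicit false
set_option linter.unusedSectionVars false
set_option linter.style.haveILetI false

namespace Cfsg.H5.KI

open Cfsg Subgroup
open scoped commutatorElement

section ycen

variable {G : Type*} [Group G]

theorem commutatorElement_mul_left' (a b c : G) : ⁅a * b, c⁆ = a * ⁅b, c⁆ * a⁻¹ * ⁅a, c⁆ := by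
  simp only [commutatorElement_def]; group

theorem commutatorElement_inv_left' (a c : G) : ⁅a⁻¹, c⁆ = a⁻¹ * (⁅a, c⁆)⁻¹ * a := by
  simp only [commutatorElement_def]; group

theorem commutatorElement_conj_left' (x a c : G) :
    ⁅x * a * x⁻¹, c⁆ = x * ⁅a, x⁻¹ * c * x⁆ * x⁻¹ := by
  simp only [commutatorElement_def]; group

/-- the elements `a` of the class two group `A` with `[a, A] ⊆ C` -/
def ycen (A C : Subgroup G) (hA2 : Cl2 A) : Subgroup G where
  carrier := {a | a ∈ A ∧ ∀ a' ∈ A, ⁅a, a'⁆ ∈ C}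
  one_mem' := ⟨one_mem A, fun a' _ => by rw [commutatorElement_one_left]; exact one_mem C⟩
  mul_mem' := by
    rintro a b ⟨ha, hac⟩ ⟨hb, hbc⟩
    refine ⟨mul_mem ha hb, fun a' ha' => ?_⟩
    rw [commutatorElement_mul_left']
    have h1 : ⁅b, a'⁆ ∈ centralizer (A : Set G) :=
      hA2 (Subgroup.commutator_mem_commutator hb ha')
    have h2 : a * ⁅b, a'⁆ * a⁻¹ = ⁅b, a'⁆ := by
      rw [mem_centralizer_iff.mp h1 a ha]; group
    rw [h2]
    exact mul_mem (hbc a' ha') (hac a' ha')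
  inv_mem' := by
    rintro a ⟨ha, hac⟩
    refine ⟨inv_mem ha, fun a' ha' => ?_⟩
    rw [commutatorElement_inv_left']
    have h1 : (⁅a, a'⁆)⁻¹ ∈ centralizer (A : Set G) :=
      inv_mem (hA2 (Subgroup.commutator_mem_commutator ha ha'))
    have h2 : a⁻¹ * (⁅a, a'⁆)⁻¹ * a = (⁅a, a'⁆)⁻¹ := by
      rw [mul_assoc, ← mem_centralizer_iff.mp h1 a ha]; group
    rw [h2]
    exact inv_mem (hac a' ha')

theorem mem_ycen {A C : Subgroup G} {hA2 : Cl2 A} {a : G} :
    a ∈ ycen A C hA2 ↔ a ∈ A ∧ ∀ a' ∈ A, ⁅a, a'⁆ ∈ C := Iff.rfl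

theorem ycen_le (A C : Subgroup G) (hA2 : Cl2 A) : ycen A C hA2 ≤ A := fun _ h => h.1

theorem commutator_ycen_le (A C : Subgroup G) (hA2 : Cl2 A) : ⁅ycen A C hA2, A⁆ ≤ C := by
  rw [Subgroup.commutator_le]
  intro a ha a' ha'
  exact ha.2 a' ha'

/-- an element normalizing `A` and fixing `[A, A] ∩ C` into `C` normalizes `ycen A C` -/
theorem ycen_conj_mem {A C : Subgroup G} {hA2 : Cl2 A} {x : G}
    (hxA : x ∈ normalizer (A : Set G))
    (hxC : ∀ c ∈ ⁅A, A⁆, c ∈ C → x * c * x⁻¹ ∈ C) {a : G} (ha : a ∈ ycen A C hA2) :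
    x * a * x⁻¹ ∈ ycen A C hA2 := by
  refine ⟨conj_mem_of_mem_normalizer hxA ha.1, fun a' ha' => ?_⟩
  rw [commutatorElement_conj_left']
  have hx' : x⁻¹ ∈ normalizer (A : Set G) := inv_mem hxA
  have h1 : x⁻¹ * a' * x ∈ A := by
    have := conj_mem_of_mem_normalizer hx' ha'
    rwa [inv_inv] at this
  exact hxC _ (Subgroup.commutator_mem_commutator ha.1 h1) (ha.2 _ h1)

end ycen

section main

variable {G : Type*} [Group G] [Finite G] {p : ℕ} [Fact p.Prime]

/-- normal `p`-subgroups and `O_p`, for `H = ⊤` -/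
theorem op_top {X : Subgroup G} (_h1 : X ≤ ⊤) (h2 : (⊤ : Subgroup G) ≤ normalizer (X : Set G))
    (h3 : IsPGroup p X) : X ≤ pCore p G :=
  Cfsg.H5.le_pCore (Subgroup.normalizer_eq_top_iff.mp (top_le_iff.mp h2)) h3

/-- **Lower star members lie in `O_p(G)`.** -/
theorem lo_le_pCore (hst : Stab p G) {A B : Subgroup G} [hAn : A.Normal]
    (hAT : A ≤ pCore p G) (hA2 : Cl2 A) (hTA : ⁅A, pCore p G⁆ ≤ Zc A)
    (hCA : centralizer (A : Set G) ≤ pCore p G)
    (hB2 : Cl2 B) (hAB : A ≤ normalizer (B : Set G))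
    (htest : ∀ A' : Subgroup G, A' ≤ A → B ≤ normalizer (A' : Set G) → ⁅B, ⁅A', A'⁆⁆ = ⊥ →
      ⁅⁅Zc B, A'⁆, A'⁆ = ⊥ → ⁅B, A'⁆ ≤ Zc B) : B ≤ pCore p G := by
  have hTp : IsPGroup p ↥(pCore p G) := Cfsg.H5.pCore_isPGroup p G
  haveI hTn : (pCore p G).Normal := Cfsg.H5.pCore_normal p G
  have hAp : IsPGroup p A := hTp.to_le hAT
  have hnA : ∀ X : Subgroup G, X ≤ normalizer (A : Set G) := fun X => by
    rw [Subgroup.normalizer_eq_top_iff.mpr hAn]; exact le_top
  have hnZA : ∀ X : Subgroup G, X ≤ normalizer ((Zc A : Subgroup G) : Set G) := fun X =>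
    le_normalizer_Zc_of_le (hnA X)
  have hnT : ∀ X : Subgroup G, X ≤ normalizer ((pCore p G : Subgroup G) : Set G) := fun X => by
    rw [Subgroup.normalizer_eq_top_iff.mpr hTn]; exact le_top
  have hbot : ∀ X : Subgroup G, X ≤ normalizer (((⊥ : Subgroup G) : Subgroup G) : Set G) :=
    fun X => by
      rw [Subgroup.normalizer_eq_top_iff.mpr inferInstance]; exact le_top
  -- elements acting quadratically on `A` lie in `T`
  have quadT : ∀ g : G, ⁅⁅A, zpowers g⁆, zpowers g⁆ = ⊥ → g ∈ pCore p G := by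
    intro g hq
    refine mem_of_quad2 hst (H := ⊤) (Y := ⊥) hTp (fun X => op_top) (inf_le_right.trans hCA) hAp
      le_top (hnA _) bot_le (hbot _) (Subgroup.mem_top g) ?_ (by rw [hq])
    rw [Subgroup.commutator_bot_left, Subgroup.commutator_bot_left]
  -- step 0 : `Z(B) ≤ T`
  have hAZB : A ≤ normalizer ((Zc B : Subgroup G) : Set G) := le_normalizer_Zc_of_le hAB
  have hZBab : ⁅Zc B, Zc B⁆ = ⊥ :=
    le_bot_iff.mp ((Subgroup.commutator_mono le_rfl inf_le_left).trans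
      (commutator_self_Zc B).le)
  have hZB : Zc B ≤ pCore p G := by
    intro z hz
    apply quadT
    apply le_bot_iff.mp
    have hzp : zpowers z ≤ Zc B := zpowers_le_of_mem hz
    calc ⁅⁅A, zpowers z⁆, zpowers z⁆ ≤ ⁅⁅A, Zc B⁆, Zc B⁆ :=
          Subgroup.commutator_mono (Subgroup.commutator_mono le_rfl hzp) hzp
      _ ≤ ⁅Zc B, Zc B⁆ :=
          Subgroup.commutator_mono (commutator_le_of_le_normalizer hAZB) le_rfl
      _ = ⊥ := hZBab
  -- step 1 : `B` is quadratic on `Z(A)`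
  have hZAab : ⁅Zc A, Zc A⁆ = ⊥ :=
    le_bot_iff.mp ((Subgroup.commutator_mono le_rfl inf_le_left).trans
      (commutator_self_Zc A).le)
  have hq0 : ⁅B, Zc A⁆ ≤ Zc B := by
    apply htest (Zc A) inf_le_left (hnZA B)
    · rw [hZAab, Subgroup.commutator_bot_right]
    · apply le_bot_iff.mp
      calc ⁅⁅Zc B, Zc A⁆, Zc A⁆ ≤ ⁅Zc A, Zc A⁆ :=
            Subgroup.commutator_mono (commutator_le_of_le_normalizer (hnZA _)) le_rfl
        _ = ⊥ := hZAab
  obtain ⟨N₁, -, hN₁n, hN₁c, hN₁q⟩ :=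
    hst ⊤ (Zc A) ⊥ bot_le le_top (hnZA _) (hbot _) (hAp.to_le inf_le_left)
  have hBN₁ : B ≤ N₁ := by
    intro g hg
    apply hN₁q g (Subgroup.mem_top g)
    have hgp : zpowers g ≤ B := zpowers_le_of_mem hg
    calc ⁅⁅Zc A, zpowers g⁆, zpowers g⁆ ≤ ⁅⁅Zc A, B⁆, B⁆ :=
          Subgroup.commutator_mono (Subgroup.commutator_mono le_rfl hgp) hgp
      _ ≤ ⁅Zc B, B⁆ := by
          rw [Subgroup.commutator_comm (Zc A) B]
          exact Subgroup.commutator_mono hq0 le_rfl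
      _ = ⊥ := commutator_self_Zc B
      _ ≤ ⊥ := le_rfl
  haveI hN₁n' : N₁.Normal := Subgroup.normalizer_eq_top_iff.mp (top_le_iff.mp hN₁n)
  -- `H₁ = N₁ T`
  obtain ⟨H₁, hH₁⟩ : ∃ H₁ : Subgroup G, H₁ = N₁ ⊔ pCore p G := ⟨_, rfl⟩
  haveI hH₁n : H₁.Normal := by rw [hH₁]; infer_instance
  have hH₁p' : ∀ x ∈ H₁, (orderOf x).Coprime p → x ∈ N₁ := by
    intro x hx hxc
    have h1 : (QuotientGroup.mk' N₁) x ∈ H₁.map (QuotientGroup.mk' N₁) :=
      Subgroup.mem_map_of_mem _ hx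
    rw [hH₁, Subgroup.map_sup, QuotientGroup.map_mk'_self, bot_sup_eq] at h1
    have h2 : IsPGroup p ↥((pCore p G).map (QuotientGroup.mk' N₁)) := hTp.map _
    have h3 : (orderOf ((QuotientGroup.mk' N₁) x)).Coprime p :=
      Nat.Coprime.coprime_dvd_left (orderOf_map_dvd _ x) hxc
    have h4 := Cfsg.H5.eq_one_of_coprime_of_mem_pgroup h3 h2 h1
    rwa [QuotientGroup.mk'_apply, QuotientGroup.eq_one_iff] at h4
  -- `R₁`, generated by the `p'`-elements of `H₁`
  obtain ⟨R₁, hR₁⟩ : ∃ R₁ : Subgroup G,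
      R₁ = Subgroup.normalClosure {x : G | x ∈ H₁ ∧ (orderOf x).Coprime p} := ⟨_, rfl⟩
  haveI hR₁n : R₁.Normal := by rw [hR₁]; exact Subgroup.normalClosure_normal
  have hR₁H₁ : R₁ ≤ H₁ := by
    rw [hR₁]; exact Subgroup.normalClosure_le_normal fun x hx => hx.1
  have hR₁gen : ∀ x ∈ H₁, (orderOf x).Coprime p → x ∈ R₁ := fun x hx hxc => by
    rw [hR₁]; exact Subgroup.subset_normalClosure ⟨hx, hxc⟩
  haveI hZAn : (Zc A).Normal := Subgroup.normalizer_eq_top_iff.mp (top_le_iff.mp (hnZA ⊤))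
  have hR₁ZA : R₁ ≤ centralizer ((Zc A : Subgroup G) : Set G) := by
    rw [hR₁]
    apply Subgroup.normalClosure_le_normal
    intro x hx
    have h1 : ⁅Zc A, zpowers x⁆ ≤ ⊥ := hN₁c x (hH₁p' x hx.1 hx.2) hx.2
    have h2 : zpowers x ≤ centralizer ((Zc A : Subgroup G) : Set G) := by
      rw [← Subgroup.commutator_eq_bot_iff_le_centralizer, Subgroup.commutator_comm]
      exact le_bot_iff.mp h1
    exact h2 (Subgroup.mem_zpowers x)
  -- `H' = R₁ T B`
  obtain ⟨H', hH'⟩ : ∃ H' : Subgroup G, H' = R₁ ⊔ pCore p G ⊔ B := ⟨_, rfl⟩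
  have hR₁H' : R₁ ≤ H' := by rw [hH']; exact le_sup_left.trans le_sup_left
  have hTH' : pCore p G ≤ H' := by rw [hH']; exact le_sup_right.trans le_sup_left
  have hBH' : B ≤ H' := by rw [hH']; exact le_sup_right
  have hH'H₁ : H' ≤ H₁ := by
    rw [hH']
    refine sup_le (sup_le hR₁H₁ ?_) ?_
    · rw [hH₁]; exact le_sup_right
    · rw [hH₁]; exact hBN₁.trans le_sup_left
  have hOp : ∀ X : Subgroup G, X ≤ H' → H' ≤ normalizer (X : Set G) → IsPGroup p X →
      X ≤ pCore p G := fun X hX hnX hXp =>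
    le_pCore_of_residual H₁ R₁ H' X hR₁H₁ hR₁gen hR₁H' hX hH'H₁ hnX hXp
  -- `Y₀`
  obtain ⟨Y₀, hY₀⟩ : ∃ Y₀ : Subgroup G, Y₀ = ycen A (centralizer (B : Set G)) hA2 := ⟨_, rfl⟩
  have hY₀A : Y₀ ≤ A := by rw [hY₀]; exact ycen_le _ _ _
  have hDY : Zc B ⊓ A ≤ Y₀ := by
    intro d hd
    rw [hY₀]
    refine ⟨hd.2, fun a' ha' => ?_⟩
    have h1 : a' * d⁻¹ * a'⁻¹ ∈ Zc B := conj_mem_of_mem_normalizer (hAZB ha') (inv_mem hd.1)
    have h2 : ⁅d, a'⁆ = d * (a' * d⁻¹ * a'⁻¹) := by rw [commutatorElement_def]; group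
    rw [h2]
    exact (mul_mem hd.1 h1).2
  have hY₀c : ⁅Y₀, Y₀⁆ ≤ centralizer (B : Set G) := by
    rw [hY₀]
    exact (Subgroup.commutator_mono le_rfl (ycen_le _ _ _)).trans (commutator_ycen_le _ _ _)
  -- `H'` normalizes `Y₀`
  have hH'Y₀ : H' ≤ normalizer (Y₀ : Set G) := by
    rw [hH']
    refine sup_le (sup_le ?_ ?_) ?_
    · -- `R₁`
      apply le_normalizer_of_conj_mem
      intro x hx a ha
      rw [hY₀] at ha ⊢
      apply ycen_conj_mem (hnA ⊤ (Subgroup.mem_top x)) _ ha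
      intro c hc hcC
      have h1 : c ∈ Zc A := Subgroup.mem_inf.mpr
        ⟨(Subgroup.commutator_le_left A A) hc, hA2 hc⟩
      have h2 := mem_centralizer_iff.mp (hR₁ZA hx) c h1
      have h3 : x * c * x⁻¹ = c := by rw [← h2]; group
      rw [h3]; exact hcC
    · -- `T`
      apply le_normalizer_of_conj_mem
      intro t ht a ha
      rw [hY₀] at ha ⊢
      refine ⟨hAn.conj_mem a ha.1 t, fun a' ha' => ?_⟩
      have hz : ⁅t, a⁆ ∈ Zc A := by
        have h1 : ⁅a, t⁆ ∈ ⁅A, pCore p G⁆ := Subgroup.commutator_mem_commutator ha.1 ht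
        have h2 : ⁅t, a⁆ = (⁅a, t⁆)⁻¹ := (commutatorElement_inv a t).symm
        rw [h2]; exact inv_mem (hTA h1)
      have h3 : t * a * t⁻¹ = ⁅t, a⁆ * a := by rw [commutatorElement_def]; group
      rw [h3, commutatorElement_mul_left']
      have h4 : ⁅⁅t, a⁆, a'⁆ = 1 := by
        rw [commutatorElement_eq_one_iff_commute]
        exact (mem_centralizer_iff.mp hz.2 a' ha').symm
      have h5 : ⁅t, a⁆ * ⁅a, a'⁆ * (⁅t, a⁆)⁻¹ = ⁅a, a'⁆ := by
        have h6 : ⁅a, a'⁆ ∈ A := (Subgroup.commutator_le_left A A)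
          (Subgroup.commutator_mem_commutator ha.1 ha')
        rw [← mem_centralizer_iff.mp hz.2 _ h6]; group
      rw [h4, mul_one, h5]
      exact ha.2 a' ha'
    · -- `B`
      apply le_normalizer_of_conj_mem
      intro b hb a ha
      rw [hY₀] at ha ⊢
      apply ycen_conj_mem (hnA ⊤ (Subgroup.mem_top b)) _ ha
      intro c _ hcC
      have h2 := mem_centralizer_iff.mp hcC b hb
      have h3 : b * c * b⁻¹ = c := by rw [h2]; group
      rw [h3]; exact hcC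
  -- `B` is quadratic on `Y₀`
  have hq1 : ⁅B, Y₀⁆ ≤ Zc B := by
    apply htest Y₀ hY₀A (hBH'.trans hH'Y₀)
    · rw [Subgroup.commutator_comm]
      exact commutator_eq_bot_of_le_centralizer hY₀c
    · apply le_bot_iff.mp
      calc ⁅⁅Zc B, Y₀⁆, Y₀⁆ ≤ ⁅⁅pCore p G, A⁆, A⁆ :=
            Subgroup.commutator_mono (Subgroup.commutator_mono hZB hY₀A) hY₀A
        _ ≤ ⁅Zc A, A⁆ := by
            rw [Subgroup.commutator_comm (pCore p G) A]
            exact Subgroup.commutator_mono hTA le_rfl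
        _ = ⊥ := commutator_self_Zc A
  -- conclusion
  intro g hg
  have hgp : zpowers g ≤ B := zpowers_le_of_mem hg
  refine mem_of_quad2 hst (H := H') (Y := Y₀) hTp hOp (inf_le_right.trans hCA) hAp
    (hAT.trans hTH') (hnA _) hY₀A hH'Y₀ (hBH' hg) ?_ ?_
  · apply le_bot_iff.mp
    calc ⁅⁅Y₀, zpowers g⁆, zpowers g⁆ ≤ ⁅⁅Y₀, B⁆, B⁆ :=
          Subgroup.commutator_mono (Subgroup.commutator_mono le_rfl hgp) hgp
      _ ≤ ⁅Zc B, B⁆ := by
          rw [Subgroup.commutator_comm Y₀ B]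
          exact Subgroup.commutator_mono hq1 le_rfl
      _ = ⊥ := commutator_self_Zc B
  · have h1 : ⁅A, B⁆ ≤ A ⊓ B :=
      le_inf (Subgroup.commutator_le_left A B) (commutator_le_of_le_normalizer hAB)
    calc ⁅⁅A, zpowers g⁆, zpowers g⁆ ≤ ⁅⁅A, B⁆, B⁆ :=
          Subgroup.commutator_mono (Subgroup.commutator_mono le_rfl hgp) hgp
      _ ≤ Zc B ⊓ A := by
          refine le_inf (le_inf ?_ ?_) ?_
          · exact (Subgroup.commutator_mono (h1.trans inf_le_right) le_rfl).trans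
              (commutator_le_of_le_normalizer Subgroup.le_normalizer)
          · exact (Subgroup.commutator_mono (h1.trans inf_le_right) le_rfl).trans hB2
          · exact (Subgroup.commutator_mono (h1.trans inf_le_left) le_rfl).trans
              (Subgroup.commutator_le_left A B)
      _ ≤ Y₀ := hDY

end main

end Cfsg.H5.KI
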