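import Mathlib
import Cfsg.Agent.H5.KInf5
import Cfsg.Agent.Lib.Helper1.Critical
import Cfsg.Agent.S0121

/-!
# `K`-infinity: `K(S) = K(O_p(G))` in stable groups with `C(O_p(G)) ≤ O_p(G)`
-/

set_option autoImplicit false
set_option linter.unusedSectionVars false
set_option linter.style.haveILetI false

namespace Cfsg.H5.KI

open Cfsg Subgroup
open scoped commutatorElement

section normal

universe u

variable {G : Type u} [Group G]

theorem kInfLower_characteristic (P : Type u) [Group P] : (kInfLower P).Characteristic :=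
  Subgroup.characteristic_iff_map_eq.mpr fun φ => map_kInfLower_equiv φ

theorem kInfUpper_characteristic (P : Type u) [Group P] : (kInfUpper P).Characteristic :=
  Subgroup.characteristic_iff_map_eq.mpr fun φ => map_kInfUpper_equiv φ

theorem kLow_normal (T : Subgroup G) [T.Normal] : (kLow T).Normal := by
  have h := map_kInfLower T.subtype T.subtype_injective
  rw [Subgroup.range_subtype] at h
  rw [← h]
  haveI := kInfLower_characteristic ↥T
  exact ConjAct.normal_of_characteristic_of_normal

theorem kUp_normal (T : Subgroup G) [T.Normal] : (kUp T).Normal := by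
  have h := map_kInfUpper T.subtype T.subtype_injective
  rw [Subgroup.range_subtype] at h
  rw [← h]
  haveI := kInfUpper_characteristic ↥T
  exact ConjAct.normal_of_characteristic_of_normal

end normal

section main

variable {G : Type*} [Group G] [Finite G] {p : ℕ} [Fact p.Prime]

theorem cl2_of_le {A A' : Subgroup G} (hA2 : Cl2 A) (h : A' ≤ A) : Cl2 A' :=
  (Subgroup.commutator_mono h h).trans (hA2.trans (Subgroup.centralizer_le h))

/-- a critical subgroup of `O_p(G)`, seen in `G` -/
theorem exists_critical (hC : centralizer (pCore p G : Set G) ≤ pCore p G) :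
    ∃ A : Subgroup G, A.Normal ∧ A ≤ pCore p G ∧ Cl2 A ∧ ⁅A, pCore p G⁆ ≤ Zc A ∧
      centralizer (A : Set G) ≤ pCore p G := by
  have hTp : IsPGroup p ↥(pCore p G) := Cfsg.H5.pCore_isPGroup p G
  haveI hTn : (pCore p G).Normal := Cfsg.H5.pCore_normal p G
  obtain ⟨H, hHc, hH1, hH2, hH3⟩ :=
    Cfsg.Agent.Lib.Helper1.exists_critical_subgroup (P := ↥(pCore p G)) hTp
  have hinj : Function.Injective (pCore p G).subtype := (pCore p G).subtype_injective
  haveI := hHc
  have hAn : (H.map (pCore p G).subtype).Normal := ConjAct.normal_of_characteristic_of_normal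
  have hAT : H.map (pCore p G).subtype ≤ pCore p G := Subgroup.map_subtype_le H
  have hH2' : ⁅H, H⁆ ≤ centralizer (H : Set ↥(pCore p G)) :=
    (Subgroup.commutator_mono le_rfl le_top).trans (hH2.trans inf_le_right)
  have hA2 : Cl2 (H.map (pCore p G).subtype) := (cl2_map_iff _ hinj H).mpr hH2'
  have hT : pCore p G = (⊤ : Subgroup ↥(pCore p G)).map (pCore p G).subtype := by
    rw [← MonoidHom.range_eq_map, Subgroup.range_subtype]
  refine ⟨H.map (pCore p G).subtype, hAn, hAT, hA2, ?_, ?_⟩
  · have h : ⁅H.map (pCore p G).subtype, (⊤ : Subgroup ↥(pCore p G)).map (pCore p G).subtype⁆ ≤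
        Zc (H.map (pCore p G).subtype) := by
      rw [← Subgroup.map_commutator, ← map_Zc _ hinj]
      exact Subgroup.map_mono hH2
    rw [← hT] at h
    exact h
  · haveI := hAn
    have hCp : IsPGroup p ↥(centralizer ((H.map (pCore p G).subtype : Subgroup G) : Set G)) := by
      apply isPGroup_of_forall_coprime
      intro x hx hxc
      have ha : (orderOf (MulAut.conjNormal x : MulAut ↥(pCore p G))).Coprime p :=
        Nat.Coprime.coprime_dvd_left (orderOf_map_dvd _ x) hxc
      have hfix : ∀ y ∈ H, (MulAut.conjNormal x : MulAut ↥(pCore p G)) y = y := by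
        intro y hy
        apply Subtype.ext
        rw [MulAut.conjNormal_apply]
        have h1 : (y : G) ∈ H.map (pCore p G).subtype := ⟨y, hy, rfl⟩
        have h2 := mem_centralizer_iff.mp hx _ h1
        rw [← h2]; group
      have h1 : (MulAut.conjNormal x : MulAut ↥(pCore p G)) = 1 :=
        Cfsg.Agent.S0121.result hTp H hHc hH1 hH2 hH3 _ ha hfix
      have h2 : x ∈ centralizer ((pCore p G : Subgroup G) : Set G) := by
        rw [mem_centralizer_iff]
        intro t ht
        have h3 : (MulAut.conjNormal x : MulAut ↥(pCore p G)) ⟨t, ht⟩ = ⟨t, ht⟩ := by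
          rw [h1]; rfl
        have h4 := congrArg Subtype.val h3
        rw [MulAut.conjNormal_apply] at h4
        have h5 : x * t * x⁻¹ = t := h4
        calc t * x = (x * t * x⁻¹) * x := by rw [h5]
          _ = x * t := by group
      exact Cfsg.H5.eq_one_of_coprime_of_mem_pgroup hxc hTp (hC h2)
    exact Cfsg.H5.le_pCore inferInstance hCp

/-- **`K`-infinity of a Sylow subgroup equals `K`-infinity of `O_p(G)`.** -/
theorem kLow_eq_pCore (hst : Stab p G) (S : Sylow p G)
    (hC : centralizer (pCore p G : Set G) ≤ pCore p G) :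
    kLow (S : Subgroup G) = kLow (pCore p G) ∧ kUp (S : Subgroup G) = kUp (pCore p G) := by
  have hTp : IsPGroup p ↥(pCore p G) := Cfsg.H5.pCore_isPGroup p G
  haveI hTn : (pCore p G).Normal := Cfsg.H5.pCore_normal p G
  obtain ⟨A, hAn, hAT, hA2, hTA, hCA⟩ := exists_critical (p := p) hC
  haveI := hAn
  have hAp : IsPGroup p A := hTp.to_le hAT
  have hTS : pCore p G ≤ S := hTp.le_sylow_of_normal S
  have hnA : ∀ X : Subgroup G, X ≤ normalizer (A : Set G) := fun X => by
    rw [Subgroup.normalizer_eq_top_iff.mpr hAn]; exact le_top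
  have hnZA : ∀ X : Subgroup G, X ≤ normalizer ((Zc A : Subgroup G) : Set G) := fun X =>
    le_normalizer_Zc_of_le (hnA X)
  have hbot : ∀ X : Subgroup G, X ≤ normalizer (((⊥ : Subgroup G) : Subgroup G) : Set G) :=
    fun X => by
      rw [Subgroup.normalizer_eq_top_iff.mpr inferInstance]; exact le_top
  have quad2T : ∀ (Y : Subgroup G), Y ≤ A → (⊤ : Subgroup G) ≤ normalizer (Y : Set G) → ∀ g : G,
      ⁅⁅Y, zpowers g⁆, zpowers g⁆ = ⊥ → ⁅⁅A, zpowers g⁆, zpowers g⁆ ≤ Y → g ∈ pCore p G := by
    intro Y hYA hnY g hq1 hq2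
    exact mem_of_quad2 hst (H := ⊤) (Y := Y) hTp (fun X => op_top) (inf_le_right.trans hCA) hAp
      le_top (hnA _) hYA hnY (Subgroup.mem_top g) hq1 hq2
  apply core hTS hAT hA2 (hnA _) hTA
  · -- upper star members
    intro Q hAQ _ B hB g hg
    obtain ⟨-, -, hB3⟩ := hB
    have hgp : zpowers g ≤ B := zpowers_le_of_mem hg
    apply quad2T ⊥ bot_le (hbot _) g
    · rw [Subgroup.commutator_bot_left, Subgroup.commutator_bot_left]
    · calc ⁅⁅A, zpowers g⁆, zpowers g⁆ ≤ ⁅⁅A, B⁆, B⁆ :=
            Subgroup.commutator_mono (Subgroup.commutator_mono le_rfl hgp) hgp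
        _ ≤ ⁅Zc B, B⁆ := by
            rw [Subgroup.commutator_comm A B]
            exact Subgroup.commutator_mono
              ((Subgroup.commutator_mono le_rfl hAQ).trans hB3) le_rfl
        _ = ⊥ := commutator_self_Zc B
  · -- lower star members
    intro Q hAQ _ B hB
    obtain ⟨-, hB2, hQB, htest⟩ := hB
    exact lo_le_pCore hst hAT hA2 hTA hCA hB2 (hAQ.trans hQB)
      (fun A' hA'A hBA' e1 e2 => htest A' (cl2_of_le hA2 hA'A) (hA'A.trans hAQ) hBA' e1 e2)
  · -- the test subgroups for `A`
    intro A' _ hA'2 hAA' e1 e2 g hg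
    have hgp : zpowers g ≤ A' := zpowers_le_of_mem hg
    apply quad2T (Zc A) inf_le_left (hnZA _) g
    · apply le_bot_iff.mp
      rw [← e2]
      exact Subgroup.commutator_mono (Subgroup.commutator_mono le_rfl hgp) hgp
    · have h1 : ⁅A, A'⁆ ≤ A ⊓ A' :=
        le_inf (Subgroup.commutator_le_left A A') (commutator_le_of_le_normalizer hAA')
      have h2 : ⁅A', A'⁆ ≤ centralizer (A : Set G) := by
        rw [Subgroup.le_centralizer_iff, ← Subgroup.commutator_eq_bot_iff_le_centralizer]
        exact e1
      calc ⁅⁅A, zpowers g⁆, zpowers g⁆ ≤ ⁅⁅A, A'⁆, A'⁆ :=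
            Subgroup.commutator_mono (Subgroup.commutator_mono le_rfl hgp) hgp
        _ ≤ Zc A := by
            refine le_inf ?_ ?_
            · exact (Subgroup.commutator_mono (h1.trans inf_le_left) le_rfl).trans
                (Subgroup.commutator_le_left A A')
            · exact (Subgroup.commutator_mono (h1.trans inf_le_right) le_rfl).trans h2

end main

section final

universe u

variable {G : Type u} [Group G] [Finite G] {p : ℕ} [Fact p.Prime]

theorem kLow_sylow_normal (hst : Stab p G) (S : Sylow p G)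
    (hC : centralizer (pCore p G : Set G) ≤ pCore p G) : (kLow (S : Subgroup G)).Normal := by
  rw [(kLow_eq_pCore hst S hC).1]
  haveI hTn : (pCore p G).Normal := Cfsg.H5.pCore_normal p G
  exact kLow_normal _

theorem kUp_sylow_normal (hst : Stab p G) (S : Sylow p G)
    (hC : centralizer (pCore p G : Set G) ≤ pCore p G) : (kUp (S : Subgroup G)).Normal := by
  rw [(kLow_eq_pCore hst S hC).2]
  haveI hTn : (pCore p G).Normal := Cfsg.H5.pCore_normal p G
  exact kUp_normal _

end final

end Cfsg.H5.KI
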