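import Mathlib
import Cfsg.Prelude.Def_LocalEven
import Cfsg.Agent.H5.KInf6

/-!
# `K`-infinity: stability of sections from the normalizer form of `p`-stability
-/

set_option autoImplicit false
set_option linter.unusedSectionVars false
set_option linter.style.haveILetI false

namespace Cfsg.H5.KI

open Cfsg Subgroup
open scoped commutatorElement

universe u

variable {G : Type u} [Group G] [Finite G] {p : ℕ} [Fact p.Prime]

/-- stability for all sections `U / V` of `p`-power exponent (not only for `p`-subgroups `U`) -/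
def StabS (p : ℕ) (G : Type*) [Group G] : Prop :=
  ∀ (H U V : Subgroup G), V ≤ U → U ≤ H → H ≤ normalizer (U : Set G) →
    H ≤ normalizer (V : Set G) → (∀ u ∈ U, ∃ k : ℕ, u ^ (p ^ k) ∈ V) →
    ∃ N : Subgroup G, N ≤ H ∧ H ≤ normalizer (N : Set G) ∧
      (∀ x ∈ N, (orderOf x).Coprime p → ⁅U, zpowers x⁆ ≤ V) ∧
      ∀ g ∈ H, ⁅⁅U, zpowers g⁆, zpowers g⁆ ≤ V → g ∈ N

theorem StabS.toStab {p : ℕ} {G : Type*} [Group G] (h : StabS p G) : Stab p G := by
  intro H U V hVU hUH hHU hHV hUp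
  apply h H U V hVU hUH hHU hHV
  intro u hu
  obtain ⟨k, hk⟩ := hUp ⟨u, hu⟩
  refine ⟨k, ?_⟩
  have : u ^ (p ^ k) = 1 := by simpa using congrArg Subtype.val hk
  rw [this]; exact one_mem V

theorem stabS_of_sections
    (hst : ∀ (K R : Subgroup G) [hR : (R.subgroupOf K).Normal],
      Cfsg.IsNormalizerPStable p (↥K ⧸ R.subgroupOf K)) : StabS p G := by
  intro H U V hVU hUH hHU hHV hUp
  haveI hVn : (V.subgroupOf H).Normal :=
    (Subgroup.normal_subgroupOf_iff (hVU.trans hUH)).mpr fun v k hv hk =>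
      conj_mem_of_mem_normalizer (hHV hk) hv
  have hUn : (U.subgroupOf H).Normal :=
    (Subgroup.normal_subgroupOf_iff hUH).mpr fun v k hv hk =>
      conj_mem_of_mem_normalizer (hHU hk) hv
  have hπs : Function.Surjective (QuotientGroup.mk' (V.subgroupOf H)) :=
    QuotientGroup.mk'_surjective _
  obtain ⟨Pb, hPb⟩ : ∃ Pb : Subgroup (↥H ⧸ V.subgroupOf H),
      Pb = (U.subgroupOf H).map (QuotientGroup.mk' (V.subgroupOf H)) := ⟨_, rfl⟩
  have hPbp : IsPGroup p Pb := by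
    rintro ⟨q, hq⟩
    rw [hPb] at hq
    obtain ⟨u, hu, rfl⟩ := hq
    obtain ⟨k, hk⟩ := hUp (u : G) (Subgroup.mem_subgroupOf.mp hu)
    refine ⟨k, Subtype.ext ?_⟩
    show (QuotientGroup.mk' (V.subgroupOf H) u) ^ (p ^ k) = 1
    rw [← map_pow, QuotientGroup.mk'_apply, QuotientGroup.eq_one_iff, Subgroup.mem_subgroupOf]
    simpa using hk
  have hPbn : Pb.Normal := by rw [hPb]; exact hUn.map _ hπs
  have hNtop : normalizer (Pb : Set (↥H ⧸ V.subgroupOf H)) = ⊤ :=
    Subgroup.normalizer_eq_top_iff.mpr hPbn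
  have hmemN : ∀ h : ↥H, QuotientGroup.mk' (V.subgroupOf H) h ∈
      normalizer (Pb : Set (↥H ⧸ V.subgroupOf H)) := fun h => by rw [hNtop]; trivial
  -- the composite homomorphism to `N(P̄)/C(P̄)`
  let Ψ : ↥H →* ↥(normalizer (Pb : Set (↥H ⧸ V.subgroupOf H))) ⧸
      (centralizer (Pb : Set (↥H ⧸ V.subgroupOf H))).subgroupOf
        (normalizer (Pb : Set (↥H ⧸ V.subgroupOf H))) :=
    (QuotientGroup.mk' _).comp
      ((QuotientGroup.mk' (V.subgroupOf H)).codRestrict _ hmemN)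
  have hΨ : ∀ h : ↥H, Ψ h = 1 ↔
      QuotientGroup.mk' (V.subgroupOf H) h ∈ centralizer (Pb : Set (↥H ⧸ V.subgroupOf H)) := by
    intro h
    show (QuotientGroup.mk' _) (((QuotientGroup.mk' (V.subgroupOf H)).codRestrict _ hmemN) h) = 1 ↔ _
    rw [QuotientGroup.mk'_apply, QuotientGroup.eq_one_iff, Subgroup.mem_subgroupOf]
    rfl
  haveI hcn : ((pCore p (↥(normalizer (Pb : Set (↥H ⧸ V.subgroupOf H))) ⧸
      (centralizer (Pb : Set (↥H ⧸ V.subgroupOf H))).subgroupOf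
        (normalizer (Pb : Set (↥H ⧸ V.subgroupOf H))))).comap Ψ).Normal :=
    (Cfsg.H5.pCore_normal p _).comap Ψ
  refine ⟨((pCore p _).comap Ψ).map H.subtype, Subgroup.map_subtype_le _, ?_, ?_, ?_⟩
  · -- normalized by `H`
    apply le_normalizer_of_conj_mem
    rintro x hx _ ⟨n, hn, rfl⟩
    exact ⟨(⟨x, hx⟩ : ↥H) * n * (⟨x, hx⟩ : ↥H)⁻¹, hcn.conj_mem n hn ⟨x, hx⟩, rfl⟩
  · -- `p'`-elements centralize `U / V`
    rintro _ ⟨x, hx, rfl⟩ hxc
    have hxc' : (orderOf x).Coprime p := by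
      rwa [Subgroup.coe_subtype, Subgroup.orderOf_coe] at hxc
    have h1 : (orderOf (Ψ x)).Coprime p :=
      Nat.Coprime.coprime_dvd_left (orderOf_map_dvd _ x) hxc'
    have h2 : Ψ x = 1 :=
      Cfsg.H5.eq_one_of_coprime_of_mem_pgroup h1 (Cfsg.H5.pCore_isPGroup p _)
        (Subgroup.mem_comap.mp hx)
    have h3 := (hΨ x).mp h2
    rw [Subgroup.commutator_le]
    intro u hu y hy
    obtain ⟨k, rfl⟩ := Subgroup.mem_zpowers_iff.mp hy
    have h4 : QuotientGroup.mk' (V.subgroupOf H) (x ^ k) ∈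
        centralizer (Pb : Set (↥H ⧸ V.subgroupOf H)) := by
      rw [map_zpow]; exact zpow_mem h3 k
    have h5 : QuotientGroup.mk' (V.subgroupOf H) ⟨u, hUH hu⟩ ∈ Pb := by
      rw [hPb]; exact Subgroup.mem_map_of_mem _ (Subgroup.mem_subgroupOf.mpr hu)
    have h6 := mem_centralizer_iff.mp h4 _ h5
    have h7 : QuotientGroup.mk' (V.subgroupOf H) ⁅(⟨u, hUH hu⟩ : ↥H), x ^ k⁆ = 1 := by
      rw [map_commutatorElement, commutatorElement_eq_one_iff_commute]
      exact h6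
    rw [QuotientGroup.mk'_apply, QuotientGroup.eq_one_iff, Subgroup.mem_subgroupOf] at h7
    have h8 : ((⁅(⟨u, hUH hu⟩ : ↥H), x ^ k⁆ : ↥H) : G) = ⁅u, (H.subtype x) ^ k⁆ := by
      simp [commutatorElement_def]
    rw [← h8]; exact h7
  · -- quadratic elements
    intro g hg hq
    refine ⟨⟨g, hg⟩, ?_, rfl⟩
    rw [SetLike.mem_coe, Subgroup.mem_comap]
    have h1 := hst H V Pb hPbp (QuotientGroup.mk' (V.subgroupOf H) ⟨g, hg⟩) (hmemN _)
    apply h1
    have h2 : Subgroup.zpowers (QuotientGroup.mk' (V.subgroupOf H) ⟨g, hg⟩) =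
        (Subgroup.zpowers (⟨g, hg⟩ : ↥H)).map (QuotientGroup.mk' (V.subgroupOf H)) :=
      (MonoidHom.map_zpowers _ _).symm
    rw [h2, hPb, ← Subgroup.map_commutator, ← Subgroup.map_commutator,
      (Subgroup.map_eq_bot_iff _), QuotientGroup.ker_mk']
    -- now inside `H`
    have h3 : (⁅⁅U.subgroupOf H, Subgroup.zpowers (⟨g, hg⟩ : ↥H)⁆,
        Subgroup.zpowers (⟨g, hg⟩ : ↥H)⁆).map H.subtype ≤ V := by
      rw [Subgroup.map_commutator, Subgroup.map_commutator, Subgroup.subgroupOf_map_subtype,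
        MonoidHom.map_zpowers, inf_eq_left.mpr hUH]
      exact hq
    exact (Subgroup.map_le_iff_le_comap).mp h3

end Cfsg.H5.KI
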