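import Mathlib
import Cfsg.Agent.H5.KInf7

/-!
# `K`-infinity: stability passes to subgroups and quotients
-/

set_option autoImplicit false
set_option linter.unusedSectionVars false
set_option linter.style.haveILetI false

namespace Cfsg.H5.KI

open Cfsg Subgroup
open scoped commutatorElement

section sub

variable {G : Type*} [Group G] {p : ℕ}

theorem StabS.subgroup (h : StabS p G) (K : Subgroup G) : StabS p ↥K := by
  intro H U V hVU hUH hHU hHV hUp
  have hinj : Function.Injective K.subtype := K.subtype_injective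
  obtain ⟨N', hN'H, hN'n, hN'c, hN'q⟩ := h (H.map K.subtype) (U.map K.subtype) (V.map K.subtype)
    (Subgroup.map_mono hVU) (Subgroup.map_mono hUH)
    ((map_le_normalizer_map_iff _ hinj H U).mpr hHU)
    ((map_le_normalizer_map_iff _ hinj H V).mpr hHV)
    (by
      rintro _ ⟨u, hu, rfl⟩
      obtain ⟨k, hk⟩ := hUp u hu
      exact ⟨k, ⟨u ^ (p ^ k), hk, by simp⟩⟩)
  have hN'e : (N'.comap K.subtype).map K.subtype = N' :=
    Subgroup.map_comap_eq_self (hN'H.trans (Subgroup.map_le_range _ _))
  refine ⟨N'.comap K.subtype, ?_, ?_, ?_, ?_⟩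
  · rw [← Subgroup.map_le_map_iff_of_injective hinj, hN'e]; exact hN'H
  · rw [← map_le_normalizer_map_iff _ hinj, hN'e]; exact hN'n
  · intro x hx hxc
    have h1 := hN'c (x : G) (Subgroup.mem_comap.mp hx) (by rwa [Subgroup.orderOf_coe])
    rw [← Subgroup.map_le_map_iff_of_injective hinj, Subgroup.map_commutator,
      MonoidHom.map_zpowers]
    exact h1
  · intro g hg hq
    rw [Subgroup.mem_comap]
    apply hN'q _ (Subgroup.mem_map_of_mem _ hg)
    have h1 := Subgroup.map_mono (f := K.subtype) hq
    rw [Subgroup.map_commutator, Subgroup.map_commutator, MonoidHom.map_zpowers] at h1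
    exact h1

end sub

section quot

variable {G : Type*} [Group G] [Finite G] {p : ℕ} [Fact p.Prime]

theorem StabS.quotient (h : StabS p G) (R : Subgroup G) [R.Normal] : StabS p (G ⧸ R) := by
  intro H U V hVU hUH hHU hHV hUp
  have hπ : Function.Surjective (QuotientGroup.mk' R) := QuotientGroup.mk'_surjective R
  obtain ⟨N', hN'H, hN'n, hN'c, hN'q⟩ := h (H.comap (QuotientGroup.mk' R))
    (U.comap (QuotientGroup.mk' R)) (V.comap (QuotientGroup.mk' R))
    (Subgroup.comap_mono hVU) (Subgroup.comap_mono hUH)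
    ((Subgroup.comap_mono hHU).trans (Subgroup.le_normalizer_comap _))
    ((Subgroup.comap_mono hHV).trans (Subgroup.le_normalizer_comap _))
    (by
      intro u hu
      obtain ⟨k, hk⟩ := hUp _ (Subgroup.mem_comap.mp hu)
      exact ⟨k, by rw [Subgroup.mem_comap, map_pow]; exact hk⟩)
  refine ⟨N'.map (QuotientGroup.mk' R), ?_, ?_, ?_, ?_⟩
  · rw [Subgroup.map_le_iff_le_comap]; exact hN'H
  · apply le_normalizer_of_conj_mem
    rintro x hx _ ⟨n, hn, rfl⟩
    obtain ⟨x', rfl⟩ := hπ x
    refine ⟨x' * n * x'⁻¹, ?_, by simp⟩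
    exact conj_mem_of_mem_normalizer (hN'n (Subgroup.mem_comap.mpr hx)) hn
  · rintro _ ⟨x, hx, rfl⟩ hxc
    obtain ⟨t, u, ht, hu, htu, ⟨k, hk⟩, huc⟩ := Cfsg.Agent.Lib.Helper16.exists_p_decomp' p x
    -- the image of the `p`-part is trivial
    have hcomm : Commute t u := by
      obtain ⟨i, rfl⟩ := Subgroup.mem_zpowers_iff.mp ht
      obtain ⟨j, rfl⟩ := Subgroup.mem_zpowers_iff.mp hu
      exact (Commute.refl x).zpow_zpow i j
    have ht1 : (QuotientGroup.mk' R) t = 1 := by
      -- `π t` is a power of `π x`, so its order is prime to `p`; it is also a `p`-element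
      have h1 : (QuotientGroup.mk' R) t ∈ Subgroup.zpowers ((QuotientGroup.mk' R) x) := by
        rw [← MonoidHom.map_zpowers]; exact Subgroup.mem_map_of_mem _ ht
      have h2 : orderOf ((QuotientGroup.mk' R) t) ∣ orderOf ((QuotientGroup.mk' R) x) :=
        orderOf_dvd_of_mem_zpowers h1
      have h3 : orderOf ((QuotientGroup.mk' R) t) ∣ p ^ k := by
        rw [← hk]; exact orderOf_map_dvd _ t
      have h4 : (orderOf ((QuotientGroup.mk' R) t)).Coprime (p ^ k) :=
        Nat.Coprime.pow_right k (Nat.Coprime.coprime_dvd_left h2 hxc)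
      have h5 : orderOf ((QuotientGroup.mk' R) t) = 1 := Nat.Coprime.eq_one_of_dvd h4 h3
      exact orderOf_eq_one_iff.mp h5
    have hxu : (QuotientGroup.mk' R) x = (QuotientGroup.mk' R) u := by
      rw [htu, map_mul, ht1, one_mul]
    have huN : u ∈ N' := (Subgroup.zpowers_le.mpr hx) hu
    have h1 := hN'c u huN huc
    have h2 := Subgroup.map_mono (f := QuotientGroup.mk' R) h1
    rw [Subgroup.map_commutator, MonoidHom.map_zpowers, Subgroup.map_comap_eq_self_of_surjective hπ,
      Subgroup.map_comap_eq_self_of_surjective hπ] at h2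
    rw [hxu]; exact h2
  · intro g hg hq
    obtain ⟨g', rfl⟩ := hπ g
    refine ⟨g', hN'q g' (Subgroup.mem_comap.mpr hg) ?_, rfl⟩
    rw [← Subgroup.map_le_iff_le_comap, Subgroup.map_commutator, Subgroup.map_commutator,
      MonoidHom.map_zpowers, Subgroup.map_comap_eq_self_of_surjective hπ]
    exact hq

/-- stability of every section `K / R` -/
theorem StabS.section (h : StabS p G) (K R : Subgroup G) [hR : (R.subgroupOf K).Normal] :
    StabS p (↥K ⧸ R.subgroupOf K) :=
  (h.subgroup K).quotient _

end quot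

end Cfsg.H5.KI
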