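import Mathlib
import Cfsg.Agent.H5.KInf8
import Cfsg.Agent.H5.FamFusion4

/-!
# `K`-infinity controls strong fusion in groups all of whose sections are stable
-/

set_option autoImplicit false
set_option linter.unusedSectionVars false
set_option linter.style.haveILetI false

namespace Cfsg.H5.KI

open Cfsg Subgroup Cfsg.Agent.S1959 Cfsg.H5.FF
open scoped commutatorElement

universe u

section single

variable {p : ℕ} [Fact p.Prime] {W : ∀ (Q : Type u) [Group Q], Subgroup Q}

/-- a functor whose value on a Sylow subgroup is normal controls strong fusion -/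
theorem familyControls_of_normal {X : Type u} [Group X] [Finite X] (T : Sylow p X)
    (hn : (inducedFunctor W (T : Subgroup X)).Normal) :
    Cfsg.FamilyControlsStrongFusionIn p (fam {W} X) ⊤ := by
  rw [fam_iff]
  refine ⟨(T : Subgroup X), le_top, T.isPGroup', ?_, ?_⟩
  · rw [Subgroup.relIndex_top_right]; exact T.not_dvd_index
  · intro A h _ hA hAh
    refine ⟨h * 1, ?_, fun a _ => by rw [mul_one]⟩
    refine Rz.step A 1 h (Rz.base A hA) ⟨inducedFunctor W, ⟨W, rfl, rfl⟩, ?_⟩ ?_
    · refine Subgroup.mem_inf.mpr ⟨Subgroup.mem_top h, ?_⟩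
      rw [Subgroup.normalizer_eq_top_iff.mpr hn]; exact Subgroup.mem_top h
    · rw [mul_one]; exact hAh

/-- from control by the singleton family to `ControlsStrongFusion` -/
theorem controls_of_hyp (hW : Cfsg.IsCharPFunctor.{u} p W) {X : Type u} [Group X] [Finite X]
    (hyp : Hyp p {W} X) (T : Sylow p X) :
    Cfsg.ControlsStrongFusion p (inducedFunctor W (T : Subgroup X)) := by
  have h𝓦 : ∀ W' ∈ ({W} : Set (∀ (Q : Type u) [Group Q], Subgroup Q)),
      Cfsg.IsCharPFunctor.{u} p W' := by
    intro W' hW'; rw [Set.mem_singleton_iff.mp hW']; exact hW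
  refine ⟨T, Subgroup.map_subtype_le _, fun A hA => ⟨hA, fun g hg => ?_⟩⟩
  obtain ⟨g', hg', hag⟩ := real_of_hyp h𝓦 hyp T A g hA hg
  refine ⟨g', ?_, fun a ha => (hag a ha).symm⟩
  apply Rz.mem_of_le _ hg'
  rintro _ ⟨W', hW', rfl⟩
  rw [Set.mem_singleton_iff.mp hW']

end single

section main

variable {G : Type u} [Group G] [Finite G] {p : ℕ} [Fact p.Prime]

/-- the hypothesis of the local-to-global theorem for `K`-infinity in a stable group -/
theorem hyp_kInfLower (hS : StabS p G) : Hyp p {kInfLower} G := by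
  have h𝓦 : ∀ W' ∈ ({kInfLower} : Set (∀ (Q : Type u) [Group Q], Subgroup Q)),
      Cfsg.IsCharPFunctor.{u} p W' := by
    intro W' hW'; rw [Set.mem_singleton_iff.mp hW']; exact isCharPFunctor_kInfLower p
  apply hyp_of_sections h𝓦
  intro K R hR hc
  obtain ⟨T⟩ : Nonempty (Sylow p (↥K ⧸ R.subgroupOf K)) := inferInstance
  apply familyControls_of_normal T
  rw [inducedFunctor_kInfLower]
  exact kLow_sylow_normal (hS.section K R).toStab T hc

theorem hyp_kInfUpper (hS : StabS p G) : Hyp p {kInfUpper} G := by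
  have h𝓦 : ∀ W' ∈ ({kInfUpper} : Set (∀ (Q : Type u) [Group Q], Subgroup Q)),
      Cfsg.IsCharPFunctor.{u} p W' := by
    intro W' hW'; rw [Set.mem_singleton_iff.mp hW']; exact isCharPFunctor_kInfUpper p
  apply hyp_of_sections h𝓦
  intro K R hR hc
  obtain ⟨T⟩ : Nonempty (Sylow p (↥K ⧸ R.subgroupOf K)) := inferInstance
  apply familyControls_of_normal T
  rw [inducedFunctor_kInfUpper]
  exact kUp_sylow_normal (hS.section K R).toStab T hc

/-- **`K_∞` controls strong fusion** in a group all of whose sections are stable -/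
theorem kInfLower_controls (hS : StabS p G) (S : Sylow p G) :
    Cfsg.ControlsStrongFusion p (inducedFunctor kInfLower (S : Subgroup G)) :=
  controls_of_hyp (isCharPFunctor_kInfLower p) (hyp_kInfLower hS) S

theorem kInfUpper_controls (hS : StabS p G) (S : Sylow p G) :
    Cfsg.ControlsStrongFusion p (inducedFunctor kInfUpper (S : Subgroup G)) :=
  controls_of_hyp (isCharPFunctor_kInfUpper p) (hyp_kInfUpper hS) S

end main

end Cfsg.H5.KI
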