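import Mathlib
import Cfsg.Agent.H5.KInf9
import Cfsg.Agent.Lib.Helper10.PGroup
import Cfsg.Agent.Lib.Helper13.Frobenius
import Cfsg.Agent.Lib.Helper13.CharFunctor2

/-!
# `K`-infinity contains its centralizer; a normal `p`-complement criterion
-/

set_option autoImplicit false
set_option linter.unusedSectionVars false
set_option linter.style.haveILetI false

namespace Cfsg.H5.KI

open Cfsg Subgroup
open scoped commutatorElement

universe u

variable {p : ℕ} [Fact p.Prime]

/-- `K_∞(P)` contains its centralizer in the finite `p`-group `P` -/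
theorem centralizer_kInfLower_le {P : Type u} [Group P] [Finite P] (hP : IsPGroup p P) :
    centralizer (kInfLower P : Set P) ≤ kInfLower P := by
  obtain ⟨B, hBn, hBc, hmax⟩ := Cfsg.Agent.Lib.Helper10.exists_maximal_normal_abelian P
  haveI := hBn
  have h1 : centralizer (B : Set P) ≤ B :=
    Cfsg.Agent.Lib.Helper10.centralizer_le_of_maximal_normal_abelian hP B hBc hmax
  have hab : B ≤ centralizer (B : Set P) := by
    intro x hx
    rw [mem_centralizer_iff]
    intro y hy
    exact congrArg Subtype.val (hBc.is_comm.comm ⟨y, hy⟩ ⟨x, hx⟩)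
  have h2 : B ≤ kInfLower P := by
    rw [kInfLower_eq]
    apply abelian_normal_le_kLow le_top hab
    rw [Subgroup.normalizer_eq_top_iff.mpr hBn]
  exact (Subgroup.centralizer_le h2).trans (h1.trans h2)

/-- the same inside an ambient group -/
theorem inf_centralizer_inducedFunctor_le {G : Type u} [Group G] (S : Subgroup G) [Finite ↥S]
    (hS : IsPGroup p S) :
    S ⊓ centralizer ((inducedFunctor kInfLower S : Subgroup G) : Set G) ≤
      inducedFunctor kInfLower S := by
  intro x hx
  have h1 : (⟨x, hx.1⟩ : ↥S) ∈ centralizer (kInfLower ↥S : Set ↥S) := by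
    rw [mem_centralizer_iff]
    intro y hy
    apply Subtype.ext
    have h2 : (y : G) ∈ inducedFunctor kInfLower S := ⟨y, hy, rfl⟩
    exact mem_centralizer_iff.mp hx.2 _ h2
  exact ⟨⟨x, hx.1⟩, centralizer_kInfLower_le hS h1, rfl⟩

/-- a group in which all `p'`-elements centralize a normal `p`-subgroup containing its
centralizer in a Sylow `p`-subgroup has a normal `p`-complement -/
theorem hasNormalPComplement_of_central {X : Type u} [Group X] [Finite X] (P : Sylow p X)
    (K : Subgroup X) [hKn : K.Normal] (hKP : K ≤ P)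
    (hCK : (P : Subgroup X) ⊓ centralizer (K : Set X) ≤ K)
    (hp' : ∀ g : X, (orderOf g).Coprime p → g ∈ centralizer (K : Set X)) :
    Cfsg.HasNormalPComplement p X := by
  have hlc : Cfsg.Agent.Lib.Helper13.LocalCentral p X := by
    apply Cfsg.Agent.Lib.Helper13.localCentral_of_sylow P
    intro Q hQP g hg hcop
    have hgK : zpowers g ≤ centralizer (K : Set X) := zpowers_le_of_mem (hp' g hcop)
    have hAP : Q ⊔ K ≤ (P : Subgroup X) := sup_le hQP hKP
    have hAp : IsPGroup p ↥(Q ⊔ K) := P.isPGroup'.to_le hAP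
    have hnK : zpowers g ≤ normalizer (K : Set X) := by
      rw [Subgroup.normalizer_eq_top_iff.mpr hKn]; exact le_top
    have hnA : zpowers g ≤ normalizer ((Q ⊔ K : Subgroup X) : Set X) :=
      le_normalizer_sup (zpowers_le_of_mem hg) hnK
    have e1 : ⁅K, zpowers g⁆ = ⊥ := by
      rw [Subgroup.commutator_comm]
      exact commutator_eq_bot_of_le_centralizer hgK
    have e1' : ⁅zpowers g, K⁆ = ⊥ := commutator_eq_bot_of_le_centralizer hgK
    have e3 : ⁅⁅Q ⊔ K, zpowers g⁆, K⁆ = ⊥ := by
      apply Subgroup.commutator_commutator_eq_bot_of_rotate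
      · rw [e1', Subgroup.commutator_bot_left]
      · apply le_bot_iff.mp
        calc ⁅⁅K, Q ⊔ K⁆, zpowers g⁆ ≤ ⁅K, zpowers g⁆ :=
              Subgroup.commutator_mono (Subgroup.commutator_le_left K _) le_rfl
          _ = ⊥ := e1
    have e2 : ⁅Q ⊔ K, zpowers g⁆ ≤ K := by
      refine le_trans (le_inf ?_ ?_) hCK
      · exact (commutator_le_of_le_normalizer' hnA).trans hAP
      · exact (Subgroup.commutator_eq_bot_iff_le_centralizer).mp e3
    have h5 : g ∈ centralizer ((Q ⊔ K : Subgroup X) : Set X) :=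
      mem_centralizer_of_coprime hAp le_sup_right hcop e1 e2
    exact Subgroup.centralizer_le (le_sup_left : Q ≤ Q ⊔ K) h5
  obtain ⟨M, hMn, hM⟩ := Cfsg.Agent.Lib.Helper13.exists_normal_complement_of_localCentral hlc P
  exact ⟨P, M, hMn, hM⟩

/-- if all `p'`-elements of `N(K_∞(S))` centralize `K_∞(S)`, then `N(K_∞(S))` has a normal
`p`-complement -/
theorem hasNormalPComplement_normalizer {G : Type u} [Group G] [Finite G] (S : Sylow p G)
    (h : ∀ g ∈ normalizer ((inducedFunctor kInfLower (S : Subgroup G) : Subgroup G) : Set G),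
      (orderOf g).Coprime p →
        g ∈ centralizer ((inducedFunctor kInfLower (S : Subgroup G) : Subgroup G) : Set G)) :
    Cfsg.HasNormalPComplement p
      ↥(normalizer ((inducedFunctor kInfLower (S : Subgroup G) : Subgroup G) : Set G)) := by
  obtain ⟨K₀, hK₀⟩ : ∃ K₀ : Subgroup G, K₀ = inducedFunctor kInfLower (S : Subgroup G) :=
    ⟨_, rfl⟩
  rw [← hK₀] at h ⊢
  have hK₀S : K₀ ≤ S := by rw [hK₀]; exact Subgroup.map_subtype_le _
  have hSN : (S : Subgroup G) ≤ normalizer (K₀ : Set G) := by
    rw [hK₀]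
    exact Subgroup.le_normalizer.trans
      (Cfsg.Agent.Lib.Helper13.normalizer_le_normalizer_inducedFunctor
        (isCharPFunctor_kInfLower p) (S : Subgroup G) S.isPGroup')
  have hCS : (S : Subgroup G) ⊓ centralizer (K₀ : Set G) ≤ K₀ := by
    rw [hK₀]; exact inf_centralizer_inducedFunctor_le (S : Subgroup G) S.isPGroup'
  apply hasNormalPComplement_of_central (S.subtype hSN) (K₀.subgroupOf (normalizer (K₀ : Set G)))
  · intro x hx
    rw [Sylow.coe_subtype, Subgroup.mem_subgroupOf]
    exact hK₀S (Subgroup.mem_subgroupOf.mp hx)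
  · intro x hx
    rw [Sylow.coe_subtype] at hx
    rw [Subgroup.mem_subgroupOf]
    apply hCS
    refine Subgroup.mem_inf.mpr ⟨Subgroup.mem_subgroupOf.mp hx.1, ?_⟩
    rw [mem_centralizer_iff]
    intro k hk
    have hkN : k ∈ normalizer (K₀ : Set G) := hSN (hK₀S hk)
    have h1 := mem_centralizer_iff.mp hx.2 ⟨k, hkN⟩ (Subgroup.mem_subgroupOf.mpr hk)
    exact congrArg Subtype.val h1
  · intro g hg
    have h1 := h (g : G) g.2 (by rwa [Subgroup.orderOf_coe])
    rw [mem_centralizer_iff]
    intro k hk
    apply Subtype.ext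
    exact mem_centralizer_iff.mp h1 _ (Subgroup.mem_subgroupOf.mp hk)

end Cfsg.H5.KI
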