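import Mathlib
import Cfsg.Prelude.Def_PLocal
import Cfsg.Agent.H5.Basic
import Cfsg.Agent.H5.Cores

set_option autoImplicit false

namespace Cfsg.H5

open Subgroup
open scoped Pointwise

variable {G : Type*} [Group G] {H : Type*} [Group H]

theorem omegaOne_le (p : ℕ) (K : Subgroup G) : Cfsg.omegaOne p K ≤ K := by
  unfold Cfsg.omegaOne
  rw [Subgroup.closure_le]
  intro x hx
  exact hx.1

theorem omegaOne_mono (p : ℕ) {K L : Subgroup G} (h : K ≤ L) : Cfsg.omegaOne p K ≤ Cfsg.omegaOne p L := by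
  unfold Cfsg.omegaOne
  apply Subgroup.closure_mono
  intro x hx
  exact ⟨h hx.1, hx.2⟩

theorem omegaOne_map_equiv (p : ℕ) (φ : G ≃* H) (K : Subgroup G) :
    (Cfsg.omegaOne p K).map φ.toMonoidHom = Cfsg.omegaOne p (K.map φ.toMonoidHom) := by
  unfold Cfsg.omegaOne
  rw [MonoidHom.map_closure]
  congr 1
  ext y
  constructor
  · rintro ⟨x, ⟨hx, hxp⟩, rfl⟩
    refine ⟨Subgroup.mem_map_of_mem _ hx, ?_⟩
    rw [← map_pow, hxp, map_one]
  · rintro ⟨⟨x, hx, rfl⟩, hyp⟩
    refine ⟨x, ⟨hx, ?_⟩, rfl⟩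
    apply φ.injective
    rw [map_one]
    rw [← map_pow] at hyp
    exact hyp

theorem map_equiv_inf_centralizer (φ : G ≃* H) (K : Subgroup G) :
    (K ⊓ centralizer (K : Set G)).map φ.toMonoidHom =
      K.map φ.toMonoidHom ⊓ centralizer ((K.map φ.toMonoidHom : Subgroup H) : Set H) := by
  ext y
  constructor
  · rintro ⟨x, ⟨hx, hxc⟩, rfl⟩
    refine ⟨Subgroup.mem_map_of_mem _ hx, ?_⟩
    show φ.toMonoidHom x ∈ centralizer ((K.map φ.toMonoidHom : Subgroup H) : Set H)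
    rw [Subgroup.mem_centralizer_iff]
    rintro _ ⟨k, hk, rfl⟩
    have := (Subgroup.mem_centralizer_iff.mp hxc) k hk
    show φ k * φ x = φ x * φ k
    rw [← map_mul, ← map_mul, this]
  · rintro ⟨⟨x, hx, rfl⟩, hyc⟩
    refine ⟨x, ⟨hx, ?_⟩, rfl⟩
    show x ∈ centralizer (K : Set G)
    rw [Subgroup.mem_centralizer_iff]
    intro k hk
    have := (Subgroup.mem_centralizer_iff.mp hyc) (φ k) (Subgroup.mem_map_of_mem _ hk)
    apply φ.injective
    rw [map_mul, map_mul]
    exact this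

/-- `Ω₁(Z(S))` for a subgroup `S`, the expression used in the statements. -/
abbrev omegaZ (p : ℕ) (S : Subgroup G) : Subgroup G :=
  Cfsg.omegaOne p (S ⊓ centralizer (S : Set G))

theorem omegaZ_map_equiv (p : ℕ) (φ : G ≃* H) (S : Subgroup G) :
    (omegaZ p S).map φ.toMonoidHom = omegaZ p (S.map φ.toMonoidHom) := by
  unfold omegaZ
  rw [omegaOne_map_equiv, map_equiv_inf_centralizer]

/-- `Ω₁(Z(N))` of a normal subgroup is normal. -/
theorem omegaZ_normal (p : ℕ) (N : Subgroup G) [hN : N.Normal] : (omegaZ p N).Normal := by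
  constructor
  intro n hn g
  have h1 : g * n * g⁻¹ ∈ (omegaZ p N).map (MulAut.conj g).toMonoidHom := ⟨n, hn, rfl⟩
  rw [omegaZ_map_equiv] at h1
  have h2 : N.map (MulAut.conj g).toMonoidHom = N := Subgroup.Normal.map_conj_eq (H := N) g
  rwa [h2] at h1

/-- Transport of `Ω₁(Z(K))` along an injective homomorphism. -/
theorem omegaZ_map_injective (p : ℕ) (τ : G →* H) (hτ : Function.Injective τ) (K : Subgroup G) :
    (omegaZ p K).map τ = omegaZ p (K.map τ) := by
  unfold omegaZ Cfsg.omegaOne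
  rw [MonoidHom.map_closure]
  congr 1
  ext y
  constructor
  · rintro ⟨x, ⟨⟨hx, hxc⟩, hxp⟩, rfl⟩
    refine ⟨⟨Subgroup.mem_map_of_mem _ hx, ?_⟩, ?_⟩
    · show τ x ∈ centralizer ((K.map τ : Subgroup H) : Set H)
      rw [Subgroup.mem_centralizer_iff]
      rintro _ ⟨k, hk, rfl⟩
      have := (Subgroup.mem_centralizer_iff.mp hxc) k hk
      rw [← map_mul, ← map_mul, this]
    · rw [← map_pow, hxp, map_one]
  · rintro ⟨⟨⟨x, hx, rfl⟩, hyc⟩, hyp⟩
    refine ⟨x, ⟨⟨hx, ?_⟩, ?_⟩, rfl⟩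
    · show x ∈ centralizer (K : Set G)
      rw [Subgroup.mem_centralizer_iff]
      intro k hk
      have := (Subgroup.mem_centralizer_iff.mp hyc) (τ k) (Subgroup.mem_map_of_mem _ hk)
      apply hτ
      rw [map_mul, map_mul]
      exact this
    · apply hτ
      rw [map_pow, map_one]
      exact hyp

/-- The subgroup generated by all `Ω₁(Z(S))`, `S` Sylow, is normal. -/
theorem iSup_omegaZ_sylow_normal (p : ℕ) [Fact p.Prime] [Finite G] :
    (⨆ S : Sylow p G, omegaZ p (S : Subgroup G)).Normal := by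
  constructor
  intro n hn g
  have h1 : g * n * g⁻¹ ∈ (⨆ S : Sylow p G, omegaZ p (S : Subgroup G)).map (MulAut.conj g).toMonoidHom :=
    ⟨n, hn, rfl⟩
  rw [Subgroup.map_iSup] at h1
  refine (iSup_le ?_ : (⨆ S : Sylow p G, (omegaZ p (S : Subgroup G)).map (MulAut.conj g).toMonoidHom) ≤ _) h1
  intro S
  rw [omegaZ_map_equiv]
  have : (S : Subgroup G).map (MulAut.conj g).toMonoidHom = ((g • S : Sylow p G) : Subgroup G) := by
    rw [Sylow.smul_def, Sylow.pointwise_smul_def, Subgroup.pointwise_smul_def]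
    rfl
  rw [this]
  exact le_iSup (fun S : Sylow p G => omegaZ p (S : Subgroup G)) (g • S)

/-- If `C_G(O_p(G)) ≤ O_p(G)` then every `Ω₁(Z(S))` lies in `Z(O_p(G))`. -/
theorem omegaZ_sylow_le (p : ℕ) [Fact p.Prime] [Finite G]
    (hc : centralizer (Cfsg.pCore p G : Set G) ≤ Cfsg.pCore p G) (S : Sylow p G) :
    omegaZ p (S : Subgroup G) ≤
      Cfsg.pCore p G ⊓ centralizer (Cfsg.pCore p G : Set G) := by
  have hn := pCore_normal p G
  have hOS : Cfsg.pCore p G ≤ S := (pCore_isPGroup p G).le_sylow_of_normal S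
  refine (omegaOne_le p _).trans ?_
  intro x hx
  have hxc : x ∈ centralizer (Cfsg.pCore p G : Set G) :=
    Subgroup.centralizer_le (by exact_mod_cast hOS) hx.2
  exact ⟨hc hxc, hxc⟩

/-- If `C_G(O_p(G)) ≤ O_p(G)` then the subgroup generated by all `Ω₁(Z(S))` is elementary abelian. -/
theorem iSup_omegaZ_sylow_isElementaryAbelian (p : ℕ) [Fact p.Prime] [Finite G]
    (hc : centralizer (Cfsg.pCore p G : Set G) ≤ Cfsg.pCore p G) :
    Cfsg.IsElementaryAbelian p (⨆ S : Sylow p G, omegaZ p (S : Subgroup G)) := by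
  set Z := Cfsg.pCore p G ⊓ centralizer (Cfsg.pCore p G : Set G) with hZ
  have hT : Cfsg.IsElementaryAbelian p (Subgroup.closure {x : G | x ∈ Z ∧ x ^ p = 1}) := by
    apply isElementaryAbelian_closure
    · rintro x ⟨hx, -⟩ y ⟨hy, -⟩
      exact ((Subgroup.mem_centralizer_iff.mp hy.2) x hx.1)
    · rintro x ⟨-, hx⟩
      exact hx
  apply isElementaryAbelian_mono hT
  apply iSup_le
  intro S
  unfold omegaZ Cfsg.omegaOne
  apply Subgroup.closure_mono
  rintro x ⟨hx, hxp⟩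
  refine ⟨?_, hxp⟩
  apply omegaZ_sylow_le p hc S
  exact Subgroup.subset_closure ⟨hx, hxp⟩

end Cfsg.H5
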