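import Mathlib
import Cfsg.Prelude.Def_PLocal
import Cfsg.Agent.H5.Basic
import Cfsg.Agent.H5.Thompson
import Cfsg.Agent.H5.Omega

set_option autoImplicit false

namespace Cfsg.H5

open Subgroup

universe u

variable {S S' : Type u} [Group S] [Group S']

theorem map_center_equiv (η : S ≃* S') : (center S).map η.toMonoidHom = center S' := by
  ext y
  constructor
  · rintro ⟨x, hx, rfl⟩
    rw [Subgroup.mem_center_iff]
    intro g
    obtain ⟨g', rfl⟩ := η.surjective g
    show η g' * η x = η x * η g'
    rw [← map_mul, ← map_mul, Subgroup.mem_center_iff.mp hx g']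
  · intro hy
    refine ⟨η.symm y, ?_, by simp⟩
    rw [SetLike.mem_coe, Subgroup.mem_center_iff]
    intro g
    apply η.injective
    rw [map_mul, map_mul, η.apply_symm_apply]
    exact Subgroup.mem_center_iff.mp hy (η g)

theorem omegaCenterThompson_map_equiv (p : ℕ) (η : S ≃* S') :
    (Cfsg.omegaCenterThompson p S).map η.toMonoidHom = Cfsg.omegaCenterThompson p S' := by
  unfold Cfsg.omegaCenterThompson
  rw [omegaOne_map_equiv, map_equiv_inf_centralizer, thompsonSubgroup_map_equiv]

theorem map_symm_map (η : S ≃* S') (W : Subgroup S) :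
    (W.map η.toMonoidHom).map η.symm.toMonoidHom = W := by
  rw [Subgroup.map_map]
  have : η.symm.toMonoidHom.comp η.toMonoidHom = MonoidHom.id S := by ext x; simp
  rw [this, Subgroup.map_id]

theorem map_map_symm (η : S ≃* S') (W : Subgroup S') :
    (W.map η.symm.toMonoidHom).map η.toMonoidHom = W := by
  have := map_symm_map η.symm W
  simpa using this

/-- Precomposing a stable embedding with an isomorphism gives a stable embedding. -/
theorem isStableEmbedding_comp_equiv {p : ℕ} {H : Type u} [Group H] (τ : S →* H)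
    (hτ : Cfsg.IsStableEmbedding p τ) (η : S' ≃* S) :
    Cfsg.IsStableEmbedding p (τ.comp η.toMonoidHom) := by
  obtain ⟨h1, h2, h3, h4, h5, h6⟩ := hτ
  refine ⟨?_, h2, ?_, h4, ?_, ?_⟩
  · exact h1.comp η.injective
  · obtain ⟨P, hP⟩ := h3
    refine ⟨P, ?_⟩
    rw [hP, MonoidHom.range_eq_map, MonoidHom.range_eq_map, ← Subgroup.map_map]
    congr 1
    symm
    rw [← MonoidHom.range_eq_map, MonoidHom.range_eq_top]
    exact η.surjective
  · rw [← Subgroup.map_map, thompsonSubgroup_map_equiv]
    exact h5
  · intro V hV hle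
    rw [← Subgroup.map_map, omegaCenterThompson_map_equiv] at hle
    exact h6 V hle

/-- The family defining the stable normal closure. -/
def stableFamily (p : ℕ) (S : Type u) [Group S] : Set (Subgroup S) :=
  {W : Subgroup S | Cfsg.omegaOne p (Subgroup.center S) ≤ W ∧
    ∀ (H : Type u) [Group H] (τ : S →* H), Cfsg.IsStableEmbedding p τ → (W.map τ).Normal}

theorem stableNormalClosure_eq (p : ℕ) (S : Type u) [Group S] :
    Cfsg.stableNormalClosure p S = sInf (stableFamily p S) := rfl

theorem stableFamily_map_symm {p : ℕ} (η : S ≃* S') {W' : Subgroup S'} (hW' : W' ∈ stableFamily p S') :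
    W'.map η.symm.toMonoidHom ∈ stableFamily p S := by
  refine ⟨?_, ?_⟩
  · have := Subgroup.map_mono (f := η.symm.toMonoidHom) hW'.1
    rwa [omegaOne_map_equiv, map_center_equiv] at this
  · intro H _ τ hτ
    have h1 := isStableEmbedding_comp_equiv τ hτ η.symm
    have h2 := hW'.2 H _ h1
    rwa [← Subgroup.map_map] at h2

theorem stableNormalClosure_map_le (p : ℕ) (η : S ≃* S') :
    (Cfsg.stableNormalClosure p S).map η.toMonoidHom ≤ Cfsg.stableNormalClosure p S' := by
  rw [stableNormalClosure_eq, stableNormalClosure_eq]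
  apply le_sInf
  intro W' hW'
  have h1 : sInf (stableFamily p S) ≤ W'.map η.symm.toMonoidHom := sInf_le (stableFamily_map_symm η hW')
  have h2 := Subgroup.map_mono (f := η.toMonoidHom) h1
  rwa [map_map_symm] at h2

theorem stableNormalClosure_map_equiv (p : ℕ) (η : S ≃* S') :
    (Cfsg.stableNormalClosure p S).map η.toMonoidHom = Cfsg.stableNormalClosure p S' := by
  apply le_antisymm (stableNormalClosure_map_le p η)
  have h := stableNormalClosure_map_le p η.symm
  have h2 := Subgroup.map_mono (f := η.toMonoidHom) h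
  rwa [map_map_symm] at h2

end Cfsg.H5
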