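import Mathlib
import Cfsg.Agent.H5.KInf9
import Cfsg.Agent.H5.QdNoControl2

/-!
# `K`-infinity of groups of class at most two; the counterexample `Qd(p)`
-/

set_option autoImplicit false
set_option linter.unusedSectionVars false
set_option linter.style.haveILetI false

namespace Cfsg.H5.KI

open Cfsg Subgroup
open scoped commutatorElement

universe u

/-- groups of order `p ^ 3` have class at most two -/
theorem class_two_of_card_cube {Q : Type*} [Group Q] {p : ℕ} [hp : Fact p.Prime]
    (h : Nat.card Q = p ^ 3) :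
    ⁅(⊤ : Subgroup Q), ⊤⁆ ≤ centralizer ((⊤ : Subgroup Q) : Set Q) := by
  haveI : Finite Q := Nat.finite_of_card_ne_zero (by rw [h]; exact pow_ne_zero _ hp.out.ne_zero)
  have hQp : IsPGroup p Q := IsPGroup.of_card h
  haveI : Nontrivial Q := by
    rw [← Finite.one_lt_card_iff_nontrivial, h]
    exact Nat.one_lt_pow (by omega) hp.out.one_lt
  haveI := IsPGroup.center_nontrivial hQp
  have hcomm : ∀ a b : Q ⧸ center Q, a * b = b * a := by
    have h1 := (center Q).card_mul_index
    rw [h] at h1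
    have hd : Nat.card (center Q) ∣ p ^ 3 := Dvd.intro _ h1
    obtain ⟨k, hk3, hk⟩ := (Nat.dvd_prime_pow hp.out).1 hd
    have hk0 : k ≠ 0 := by
      rintro rfl
      rw [pow_zero] at hk
      have := (Finite.one_lt_card_iff_nontrivial (α := center Q)).2 inferInstance
      omega
    have hidx : (center Q).index = p ^ (3 - k) := by
      have h2 : p ^ k * (center Q).index = p ^ k * p ^ (3 - k) := by
        rw [← hk, h1, hk, ← pow_add]; congr 1; omega
      exact Nat.eq_of_mul_eq_mul_left (pow_pos hp.out.pos k) h2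
    have hcq : Nat.card (Q ⧸ center Q) = p ^ (3 - k) := by
      rw [← hidx]; rfl
    have hcases : 3 - k = 0 ∨ 3 - k = 1 ∨ 3 - k = 2 := by omega
    rcases hcases with h0 | h0 | h0
    · rw [h0, pow_zero] at hcq
      haveI : Subsingleton (Q ⧸ center Q) := (Nat.card_eq_one_iff_unique.1 hcq).1
      intro a b
      exact Subsingleton.elim _ _
    · rw [h0, pow_one] at hcq
      haveI : IsCyclic (Q ⧸ center Q) := isCyclic_of_prime_card hcq
      intro a b
      obtain ⟨g, hg⟩ := IsCyclic.exists_generator (α := Q ⧸ center Q)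
      obtain ⟨i, rfl⟩ := Subgroup.mem_zpowers_iff.1 (hg a)
      obtain ⟨j, rfl⟩ := Subgroup.mem_zpowers_iff.1 (hg b)
      exact ((Commute.refl g).zpow_zpow i j).eq
    · rw [h0] at hcq
      haveI := IsPGroup.isMulCommutative_of_card_eq_prime_sq hcq
      intro a b
      exact mul_comm' a b
  rw [Subgroup.commutator_le]
  intro a _ b _
  rw [coe_top, centralizer_univ]
  have h2 : ((⁅a, b⁆ : Q) : Q ⧸ center Q) = 1 := by
    rw [commutatorElement_def, QuotientGroup.mk_mul, QuotientGroup.mk_mul, QuotientGroup.mk_mul,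
      QuotientGroup.mk_inv, QuotientGroup.mk_inv, hcomm (a : Q ⧸ center Q) b]
    group
  exact (QuotientGroup.eq_one_iff _).1 h2

theorem top_mem_lower_top {Q : Type*} [Group Q]
    (h : ⁅(⊤ : Subgroup Q), ⊤⁆ ≤ centralizer ((⊤ : Subgroup Q) : Set Q)) :
    (⊤ : Subgroup Q) ∈ kLowerStarFamily (⊤ : Subgroup Q) := by
  refine ⟨h, ?_, fun A _ _ _ _ _ => ?_⟩
  · exact Subgroup.le_normalizer
  exact le_inf le_top ((Subgroup.commutator_mono le_rfl le_top).trans h)

theorem top_mem_upper_top {Q : Type*} [Group Q]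
    (h : ⁅(⊤ : Subgroup Q), ⊤⁆ ≤ centralizer ((⊤ : Subgroup Q) : Set Q)) :
    (⊤ : Subgroup Q) ∈ kUpperStarFamily (⊤ : Subgroup Q) :=
  ⟨h, le_inf le_top h⟩

theorem kSeqOdd_eq_top_of_class_two {Q : Type*} [Group Q]
    (h : ⁅(⊤ : Subgroup Q), ⊤⁆ ≤ centralizer ((⊤ : Subgroup Q) : Set Q)) (n : ℕ) :
    kSeqOdd Q n = ⊤ := by
  induction n with
  | zero => rfl
  | succ n ih =>
    rw [kSeqOdd, ih]
    have h1 : sSup (kLowerStarFamily (⊤ : Subgroup Q)) = ⊤ :=
      top_le_iff.1 (le_sSup (top_mem_lower_top h))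
    rw [h1]
    exact top_le_iff.1 (le_sSup (top_mem_upper_top h))

theorem kInfLower_eq_top_of_class_two {Q : Type u} [Group Q]
    (h : ⁅(⊤ : Subgroup Q), ⊤⁆ ≤ centralizer ((⊤ : Subgroup Q) : Set Q)) :
    kInfLower Q = ⊤ := by
  apply top_le_iff.1
  have h1 : kSeqEven Q 0 ≤ kInfLower Q := le_iSup (kSeqEven Q) 0
  refine le_trans ?_ h1
  exact le_sSup (top_mem_lower_top h)

theorem kInfUpper_eq_top_of_class_two {Q : Type u} [Group Q]
    (h : ⁅(⊤ : Subgroup Q), ⊤⁆ ≤ centralizer ((⊤ : Subgroup Q) : Set Q)) :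
    kInfUpper Q = ⊤ := by
  apply top_le_iff.1
  exact le_iInf fun n => (kSeqOdd_eq_top_of_class_two h n).ge

theorem inducedFunctor_eq_self_of_top {G : Type u} [Group G]
    {W : ∀ (Q : Type u) [Group Q], Subgroup Q} (T : Subgroup G) (h : W ↥T = ⊤) :
    inducedFunctor W T = T := by
  unfold inducedFunctor
  rw [h, ← MonoidHom.range_eq_map, Subgroup.range_subtype]

/-- a Sylow subgroup of order `p ^ 3` does not control strong fusion in a group with a
self-centralizing normal subgroup of order `p ^ 2` on whose nonidentity elements it is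
transitive -/
theorem not_controls_self {X : Type*} [Group X] [Finite X] {p : ℕ} [Fact p.Prime]
    (V : Subgroup X) [hVn : V.Normal]
    (hVcard : Nat.card V = p ^ 2) (hCV : Subgroup.centralizer (V : Set X) ≤ V)
    (htrans : ∀ v ∈ V, ∀ z ∈ V, v ≠ 1 → z ≠ 1 → ∃ g : X, g * v * g⁻¹ = z)
    (T : Sylow p X) (hT : Nat.card (T : Subgroup X) = p ^ 3) :
    ¬ Cfsg.ControlsStrongFusion p (T : Subgroup X) := by
  have hp : p.Prime := Fact.out
  have hVp : IsPGroup p V := IsPGroup.of_card hVcard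
  have hVle : ∀ T' : Sylow p X, V ≤ (T' : Subgroup X) := fun T' =>
    Cfsg.Agent.Lib.Helper16.normal_pgroup_le_sylow V hVn hVp T'
  have hTp : IsPGroup p (T : Subgroup X) := T.isPGroup'
  have hnotle : ¬ (T : Subgroup X) ≤ V := by
    intro hTV
    have h1 := Subgroup.card_le_of_le hTV
    rw [hT, hVcard] at h1
    have : 3 ≤ 2 := (Nat.pow_le_pow_iff_right hp.one_lt).1 h1
    omega
  haveI : Nontrivial ↥(T : Subgroup X) := by
    rw [← Finite.one_lt_card_iff_nontrivial, hT]
    exact Nat.one_lt_pow (by omega) hp.one_lt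
  haveI := IsPGroup.center_nontrivial hTp
  obtain ⟨⟨z₀, hz₀c⟩, hz₀1⟩ := exists_ne (1 : Subgroup.center ↥(T : Subgroup X))
  have hzcomm : ∀ t ∈ (T : Subgroup X), t * (z₀ : X) = (z₀ : X) * t := by
    intro t ht
    have := Subgroup.mem_center_iff.1 hz₀c ⟨t, ht⟩
    exact congrArg Subtype.val this
  have hz1 : (z₀ : X) ≠ 1 := by
    intro h
    apply hz₀1
    apply Subtype.ext
    apply Subtype.ext
    exact h
  have hzV : (z₀ : X) ∈ V := by
    apply hCV
    rw [Subgroup.mem_centralizer_iff]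
    intro v hv
    exact hzcomm v (hVle T hv)
  -- an element of `V` that is not central in `T`
  have hexv : ∃ v ∈ V, ∃ t ∈ (T : Subgroup X), t * v ≠ v * t := by
    by_contra hcon
    push Not at hcon
    apply hnotle
    intro t ht
    apply hCV
    rw [Subgroup.mem_centralizer_iff]
    intro v hv
    exact (hcon v hv t ht).symm
  obtain ⟨v, hvV, t, htT, hne⟩ := hexv
  have hv1 : v ≠ 1 := by
    rintro rfl
    apply hne
    rw [mul_one, one_mul]
  obtain ⟨g, hg⟩ := htrans v hvV (z₀ : X) hzV hv1 hz1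
  rintro ⟨T', hTT', hctl⟩
  have hTeq : (T : Subgroup X) = (T' : Subgroup X) := by
    apply Subgroup.eq_of_le_of_card_ge hTT'
    rw [T'.card_eq_multiplicity, ← T.card_eq_multiplicity]
  have hsub : ({v} : Set X) ⊆ ((T' : Subgroup X) : Set X) := by
    rintro _ rfl
    exact hVle T' hvV
  have himg : (fun a => g * a * g⁻¹) '' ({v} : Set X) ⊆ ((T' : Subgroup X) : Set X) := by
    rintro _ ⟨a, rfl, rfl⟩
    show g * a * g⁻¹ ∈ (T' : Subgroup X)
    rw [hg]
    exact hTT' z₀.2
  obtain ⟨x, hx, hxa⟩ := (hctl {v} hsub).2 g himg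
  have h1 := hxa v rfl
  rw [hg] at h1
  apply hne
  -- `x t x⁻¹ ∈ T` commutes with `z₀`
  have h2 : x * t * x⁻¹ ∈ (T : Subgroup X) := (Subgroup.mem_normalizer_iff.1 hx t).1 htT
  have h3 := hzcomm _ h2
  rw [h1] at h3
  have h4 : x * (t * v) * x⁻¹ = x * (v * t) * x⁻¹ := by
    calc x * (t * v) * x⁻¹ = x * t * x⁻¹ * (x * v * x⁻¹) := by group
      _ = x * v * x⁻¹ * (x * t * x⁻¹) := h3
      _ = x * (v * t) * x⁻¹ := by group
  exact mul_left_cancel (mul_right_cancel h4)

open Cfsg.Agent.Lib.Helper16 in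
/-- in a group isomorphic to the affine group `Qd(p)`, no Sylow `p`-subgroup controls strong
fusion -/
theorem not_controls_self_of_equiv {p : ℕ} [hp : Fact p.Prime] {X : Type*} [Group X] [Finite X]
    (e : X ≃* affSL3 (ZMod p)) (T : Sylow p X) :
    Nat.card (T : Subgroup X) = p ^ 3 ∧ ¬ Cfsg.ControlsStrongFusion p (T : Subgroup X) := by
  have hcardX : Nat.card X = Nat.card (affSL3 (ZMod p)) := Nat.card_congr e.toEquiv
  have hT : Nat.card (T : Subgroup X) = p ^ 3 := by
    have h1 := T.card_eq_multiplicity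
    have h2 := (Cfsg.H5.QdNC.affSyl p).card_eq_multiplicity
    rw [Cfsg.H5.QdNC.coe_affSyl, Cfsg.H5.QdNC.card_affS, ZMod.card] at h2
    rw [h1, hcardX, ← h2]
  refine ⟨hT, ?_⟩
  obtain ⟨V, hV⟩ : ∃ V : Subgroup X, V = (affV (ZMod p)).comap e.toMonoidHom := ⟨_, rfl⟩
  have hmem : ∀ x : X, x ∈ V ↔ e x ∈ affV (ZMod p) := by
    intro x
    rw [hV]
    rfl
  haveI hVn : V.Normal := by
    rw [hV]
    infer_instance
  have hVcard : Nat.card V = p ^ 2 := by
    have h1 : V = (affV (ZMod p)).map e.symm.toMonoidHom := by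
      rw [hV]
      exact Subgroup.comap_equiv_eq_map_symm e _
    rw [h1, Subgroup.card_map_of_injective e.symm.injective, Cfsg.H5.QdNC.card_affV, ZMod.card]
  have hCV : Subgroup.centralizer (V : Set X) ≤ V := by
    intro c hc
    rw [hmem]
    apply Cfsg.Agent.Lib.Helper20.QdN.centralizer_affV_le
    rw [Subgroup.mem_centralizer_iff]
    intro w hw
    have hw' : e.symm w ∈ V := by
      rw [hmem, e.apply_symm_apply]
      exact hw
    have h1 := Subgroup.mem_centralizer_iff.1 hc _ hw'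
    have h2 := congrArg e h1
    rw [map_mul, map_mul, e.apply_symm_apply] at h2
    exact h2
  have htrans : ∀ v ∈ V, ∀ z ∈ V, v ≠ 1 → z ≠ 1 → ∃ g : X, g * v * g⁻¹ = z := by
    intro v hv z hz hv1 hz1
    have hv1' : e v ≠ 1 := fun h => hv1 (e.injective (h.trans (map_one e).symm))
    have hz1' : e z ≠ 1 := fun h => hz1 (e.injective (h.trans (map_one e).symm))
    obtain ⟨g, hg⟩ := Cfsg.H5.QdNC.affV_trans (e v) ((hmem v).1 hv) (e z) ((hmem z).1 hz)
      hv1' hz1'
    refine ⟨e.symm g, ?_⟩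
    apply e.injective
    rw [map_mul, map_mul, map_inv, e.apply_symm_apply]
    exact hg
  exact not_controls_self V hVcard hCV htrans T hT

open Cfsg.Agent.Lib.Helper16 in
/-- in a group isomorphic to `Qd(p)`, the lower `K`-infinity subgroup of a Sylow `p`-subgroup
does not control strong fusion -/
theorem not_controls_kInfLower_of_equiv {p : ℕ} [hp : Fact p.Prime] {X : Type u} [Group X]
    [Finite X] (e : X ≃* affSL3 (ZMod p)) (T : Sylow p X) :
    ¬ Cfsg.ControlsStrongFusion p (inducedFunctor kInfLower (T : Subgroup X)) := by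
  obtain ⟨hT, hnc⟩ := not_controls_self_of_equiv e T
  rw [inducedFunctor_eq_self_of_top _
    (kInfLower_eq_top_of_class_two (class_two_of_card_cube (p := p) hT))]
  exact hnc

open Cfsg.Agent.Lib.Helper16 in
theorem not_controls_kInfUpper_of_equiv {p : ℕ} [hp : Fact p.Prime] {X : Type u} [Group X]
    [Finite X] (e : X ≃* affSL3 (ZMod p)) (T : Sylow p X) :
    ¬ Cfsg.ControlsStrongFusion p (inducedFunctor kInfUpper (T : Subgroup X)) := by
  obtain ⟨hT, hnc⟩ := not_controls_self_of_equiv e T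
  rw [inducedFunctor_eq_self_of_top _
    (kInfUpper_eq_top_of_class_two (class_two_of_card_cube (p := p) hT))]
  exact hnc

end Cfsg.H5.KI
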