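import Mathlib
import Cfsg.Agent.H5.KInf6
import Cfsg.Agent.S2003
import Cfsg.Agent.Lib.Helper1.Frattini

/-!
# `K`-infinity not normal: an element acting with small nilpotency on the chief factors
-/

set_option autoImplicit false
set_option linter.unusedSectionVars false
set_option linter.style.haveILetI false

namespace Cfsg.H5.KI

open Cfsg Subgroup
open scoped commutatorElement

section crit

variable {G : Type*} [Group G] [Finite G] {p : ℕ} [Fact p.Prime]

/-- a critical subgroup of `O_p(G)`, seen in `G`, with all its properties -/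
theorem exists_critical_full (p : ℕ) [Fact p.Prime] (G : Type*) [Group G] [Finite G] :
    ∃ A : Subgroup G, A.Normal ∧ A ≤ pCore p G ∧ (A.subgroupOf (pCore p G)).Characteristic ∧
      (∀ a ∈ A, a ^ p ∈ Zc A) ∧ Cl2 A ∧ ⁅pCore p G, A⁆ ≤ Zc A ∧
      pCore p G ⊓ centralizer (A : Set G) = Zc A ∧
      (∀ φ : MulAut ↥(pCore p G), (orderOf φ).Coprime p →
        (∀ a : ↥(pCore p G), (a : G) ∈ A → φ a = a) → φ = 1) := by
  have hTp : IsPGroup p ↥(pCore p G) := Cfsg.H5.pCore_isPGroup p G
  haveI hTn : (pCore p G).Normal := Cfsg.H5.pCore_normal p G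
  obtain ⟨H, hHc, hH1, hH2, hH3⟩ :=
    Cfsg.Agent.Lib.Helper1.exists_critical_subgroup (P := ↥(pCore p G)) hTp
  have hinj : Function.Injective (pCore p G).subtype := (pCore p G).subtype_injective
  haveI := hHc
  have hAn : (H.map (pCore p G).subtype).Normal := ConjAct.normal_of_characteristic_of_normal
  have hAT : H.map (pCore p G).subtype ≤ pCore p G := Subgroup.map_subtype_le H
  have hH2' : ⁅H, H⁆ ≤ centralizer (H : Set ↥(pCore p G)) :=
    (Subgroup.commutator_mono le_rfl le_top).trans (hH2.trans inf_le_right)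
  have hA2 : Cl2 (H.map (pCore p G).subtype) := (cl2_map_iff _ hinj H).mpr hH2'
  have hT : pCore p G = (⊤ : Subgroup ↥(pCore p G)).map (pCore p G).subtype := by
    rw [← MonoidHom.range_eq_map, Subgroup.range_subtype]
  have hsub : (H.map (pCore p G).subtype).subgroupOf (pCore p G) = H := by
    ext x
    rw [Subgroup.mem_subgroupOf]
    constructor
    · rintro ⟨y, hy, hyx⟩
      have : y = x := Subtype.ext hyx
      rwa [← this]
    · intro hx
      exact ⟨x, hx, rfl⟩
  have hmem : ∀ a : ↥(pCore p G), (a : G) ∈ H.map (pCore p G).subtype ↔ a ∈ H := by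
    intro a
    constructor
    · rintro ⟨y, hy, hyx⟩
      have : y = a := Subtype.ext hyx
      rwa [← this]
    · intro hx
      exact ⟨a, hx, rfl⟩
  refine ⟨H.map (pCore p G).subtype, hAn, hAT, ?_, ?_, hA2, ?_, ?_, ?_⟩
  · rw [hsub]; exact hHc
  · rintro _ ⟨a, ha, rfl⟩
    rw [← map_pow, ← map_Zc _ hinj]
    apply Subgroup.mem_map_of_mem
    refine Subgroup.mem_inf.mpr ⟨pow_mem ha p, ?_⟩
    apply hH1
    have hHp : IsPGroup p ↥H := hTp.to_subgroup H
    have h1 := Cfsg.Agent.Lib.Helper1.IsPGroup.pow_mem_frattini hHp (⟨a, ha⟩ : ↥H)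
    exact ⟨_, h1, rfl⟩
  · have h : ⁅(⊤ : Subgroup ↥(pCore p G)).map (pCore p G).subtype,
        H.map (pCore p G).subtype⁆ ≤ Zc (H.map (pCore p G).subtype) := by
      rw [← Subgroup.map_commutator, ← map_Zc _ hinj, Subgroup.commutator_comm]
      exact Subgroup.map_mono hH2
    rw [← hT] at h
    exact h
  · apply le_antisymm
    · intro x hx
      obtain ⟨hxT, hxC⟩ := Subgroup.mem_inf.mp hx
      have h1 : (⟨x, hxT⟩ : ↥(pCore p G)) ∈ centralizer (H : Set ↥(pCore p G)) := by
        rw [mem_centralizer_iff]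
        intro y hy
        apply Subtype.ext
        have := mem_centralizer_iff.mp hxC (y : G) ⟨y, hy, rfl⟩
        exact this
      have h2 : (⟨x, hxT⟩ : ↥(pCore p G)) ∈ H := hH3 h1
      exact Subgroup.mem_inf.mpr ⟨⟨_, h2, rfl⟩, hxC⟩
    · exact inf_le_inf_right _ hAT
  · intro φ hφ hfix
    exact Cfsg.Agent.S0121.result hTp H hHc hH1 hH2 hH3 φ hφ
      (fun x hx => hfix x ((hmem x).mpr hx))

end crit

section bad

variable {G : Type*} [Group G] [Finite G]

/-- if `K`-infinity of `S` differs from `K`-infinity of `T`, some element of `S` outside `T`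
acts cubically on `A` and quadratically on `Z(A)` -/
theorem exists_bad_element {S T A : Subgroup G} (hTS : T ≤ S) (hAT : A ≤ T) (hA2 : Cl2 A)
    [hAn : A.Normal] (hTA : ⁅A, T⁆ ≤ Zc A)
    (hK : ¬ (kLow S = kLow T ∧ kUp S = kUp T)) :
    ∃ g ∈ S, g ∉ T ∧ ⁅⁅⁅A, zpowers g⁆, zpowers g⁆, zpowers g⁆ = ⊥ ∧
      ⁅⁅Zc A, zpowers g⁆, zpowers g⁆ = ⊥ := by
  by_contra hcon
  push Not at hcon
  have hmem : ∀ g ∈ S, ⁅⁅⁅A, zpowers g⁆, zpowers g⁆, zpowers g⁆ = ⊥ →
      ⁅⁅Zc A, zpowers g⁆, zpowers g⁆ = ⊥ → g ∈ T := by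
    intro g hg h1 h2
    by_contra hgT
    exact hcon g hg hgT h1 h2
  have hnA : ∀ X : Subgroup G, X ≤ normalizer (A : Set G) := fun X => by
    rw [Subgroup.normalizer_eq_top_iff.mpr hAn]; exact le_top
  have hnZA : ∀ X : Subgroup G, X ≤ normalizer ((Zc A : Subgroup G) : Set G) := fun X =>
    le_normalizer_Zc_of_le (hnA X)
  have hZAab : ⁅Zc A, Zc A⁆ = ⊥ :=
    le_bot_iff.mp ((Subgroup.commutator_mono le_rfl inf_le_left).trans
      (commutator_self_Zc A).le)
  apply hK
  apply core hTS hAT hA2 (hnA _) hTA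
  · -- upper star members
    intro Q hAQ _ B hB g hg
    obtain ⟨hBS, -, hB3⟩ := hB
    have hgp : zpowers g ≤ B := zpowers_le_of_mem hg
    have h1 : ⁅⁅A, zpowers g⁆, zpowers g⁆ = ⊥ := by
      apply le_bot_iff.mp
      calc ⁅⁅A, zpowers g⁆, zpowers g⁆ ≤ ⁅⁅A, B⁆, B⁆ :=
            Subgroup.commutator_mono (Subgroup.commutator_mono le_rfl hgp) hgp
        _ ≤ ⁅Zc B, B⁆ := by
            rw [Subgroup.commutator_comm A B]
            exact Subgroup.commutator_mono
              ((Subgroup.commutator_mono le_rfl hAQ).trans hB3) le_rfl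
        _ = ⊥ := commutator_self_Zc B
    apply hmem g (hBS hg)
    · rw [h1, Subgroup.commutator_bot_left]
    · apply le_bot_iff.mp
      rw [← h1]
      exact Subgroup.commutator_mono (Subgroup.commutator_mono inf_le_left le_rfl) le_rfl
  · -- lower star members
    intro Q hAQ _ B hB g hg
    obtain ⟨hBS, hB2, hQB, htest⟩ := hB
    have hAB : A ≤ normalizer (B : Set G) := hAQ.trans hQB
    have hgp : zpowers g ≤ B := zpowers_le_of_mem hg
    have hq0 : ⁅B, Zc A⁆ ≤ Zc B := by
      apply htest (Zc A) (cl2_of_le hA2 inf_le_left) (inf_le_left.trans hAQ) (hnZA B)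
      · rw [hZAab, Subgroup.commutator_bot_right]
      · apply le_bot_iff.mp
        calc ⁅⁅Zc B, Zc A⁆, Zc A⁆ ≤ ⁅Zc A, Zc A⁆ :=
              Subgroup.commutator_mono (commutator_le_of_le_normalizer (hnZA _)) le_rfl
          _ = ⊥ := hZAab
    have h1 : ⁅A, B⁆ ≤ A ⊓ B :=
      le_inf (Subgroup.commutator_le_left A B) (commutator_le_of_le_normalizer hAB)
    apply hmem g (hBS hg)
    · apply le_bot_iff.mp
      calc ⁅⁅⁅A, zpowers g⁆, zpowers g⁆, zpowers g⁆ ≤ ⁅⁅⁅A, B⁆, B⁆, B⁆ :=
            Subgroup.commutator_mono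
              (Subgroup.commutator_mono (Subgroup.commutator_mono le_rfl hgp) hgp) hgp
        _ ≤ ⁅Zc B, B⁆ := by
            apply Subgroup.commutator_mono _ le_rfl
            refine le_inf ?_ ?_
            · exact (Subgroup.commutator_mono (h1.trans inf_le_right) le_rfl).trans
                (commutator_le_of_le_normalizer Subgroup.le_normalizer)
            · exact (Subgroup.commutator_mono (h1.trans inf_le_right) le_rfl).trans hB2
        _ = ⊥ := commutator_self_Zc B
    · apply le_bot_iff.mp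
      calc ⁅⁅Zc A, zpowers g⁆, zpowers g⁆ ≤ ⁅⁅Zc A, B⁆, B⁆ :=
            Subgroup.commutator_mono (Subgroup.commutator_mono le_rfl hgp) hgp
        _ ≤ ⁅Zc B, B⁆ := by
            rw [Subgroup.commutator_comm (Zc A) B]
            exact Subgroup.commutator_mono hq0 le_rfl
        _ = ⊥ := commutator_self_Zc B
  · -- the test subgroups for `A`
    intro A' hA'S hA'2 hAA' e1 e2 g hg
    have hgp : zpowers g ≤ A' := zpowers_le_of_mem hg
    have h1 : ⁅A, A'⁆ ≤ A ⊓ A' :=
      le_inf (Subgroup.commutator_le_left A A') (commutator_le_of_le_normalizer hAA')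
    apply hmem g (hA'S hg)
    · apply le_bot_iff.mp
      calc ⁅⁅⁅A, zpowers g⁆, zpowers g⁆, zpowers g⁆ ≤ ⁅⁅⁅A, A'⁆, A'⁆, A'⁆ :=
            Subgroup.commutator_mono
              (Subgroup.commutator_mono (Subgroup.commutator_mono le_rfl hgp) hgp) hgp
        _ ≤ ⁅⁅A', A'⁆, A'⁆ :=
            Subgroup.commutator_mono
              (Subgroup.commutator_mono (h1.trans inf_le_right) le_rfl) le_rfl
        _ = ⊥ := commutator_eq_bot_of_le_centralizer hA'2
    · apply le_bot_iff.mp
      rw [← e2]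
      exact Subgroup.commutator_mono (Subgroup.commutator_mono le_rfl hgp) hgp

end bad

section chief

variable {G : Type*} [Group G]

theorem iterCommutator_mono {U U' Z : Subgroup G} (h : U ≤ U') (n : ℕ) :
    iterCommutator U Z n ≤ iterCommutator U' Z n := by
  induction n with
  | zero => exact h
  | succ n ih => exact Subgroup.commutator_mono ih le_rfl

theorem iterCommutator_le_of_le {U V Z : Subgroup G} [hV : V.Normal] {m : ℕ}
    (h : iterCommutator U Z m ≤ V) (n : ℕ) (hmn : m ≤ n) : iterCommutator U Z n ≤ V := by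
  induction n, hmn using Nat.le_induction with
  | base => exact h
  | succ n _ ih =>
    exact (Subgroup.commutator_mono ih le_rfl).trans (Subgroup.commutator_le_left V Z)

end chief

section main

universe u

variable {X : Type u} [Group X] [Finite X] {p : ℕ} [Fact p.Prime]

/-- **The `K`-infinity input for control of transfer.** If the lower or the upper
`K`-infinity subgroup of a Sylow `p`-subgroup `T` is not normal, some element of `T` outside
`O_p(X)` acts with `[U, g; 4] ≤ V` on every chief factor `U / V` below `O_p(X)`. -/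
theorem exists_four_nilpotent (T : Sylow p X)
    (hn : ¬ (inducedFunctor kInfLower (T : Subgroup X)).Normal ∨
      ¬ (inducedFunctor kInfUpper (T : Subgroup X)).Normal) :
    ∃ g : X, g ∈ (T : Subgroup X) ∧ g ∉ pCore p X ∧
      ∀ U V : Subgroup X, IsChiefFactor U V → U ≤ pCore p X →
        iterCommutator U (zpowers g) 4 ≤ V := by
  have hTp : IsPGroup p ↥(pCore p X) := Cfsg.H5.pCore_isPGroup p X
  haveI hTn : (pCore p X).Normal := Cfsg.H5.pCore_normal p X
  have hTS : pCore p X ≤ T := hTp.le_sylow_of_normal T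
  obtain ⟨A, hAn, hAT, hAc, hA1, hA2, hA3, hA4, hA5⟩ := exists_critical_full p X
  haveI := hAn
  have hTA : ⁅A, pCore p X⁆ ≤ Zc A := by rw [Subgroup.commutator_comm]; exact hA3
  have hK : ¬ (kLow (T : Subgroup X) = kLow (pCore p X) ∧
      kUp (T : Subgroup X) = kUp (pCore p X)) := by
    rintro ⟨e1, e2⟩
    rcases hn with hn | hn
    · apply hn
      rw [inducedFunctor_kInfLower, e1]
      exact kLow_normal _
    · apply hn
      rw [inducedFunctor_kInfUpper, e2]
      exact kUp_normal _
  obtain ⟨g, hgT, hgO, hg3, hg2⟩ := exists_bad_element hTS hAT hA2 hTA hK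
  refine ⟨g, hgT, hgO, ?_⟩
  have h := Cfsg.Agent.S2003.result (p := p) (pCore p X) hTp A hAT hAc hA1 hA2 hA3 hA4 hA5 g 3 2
    (by norm_num) (by norm_num)
    (fun U V _ hUA => by
      have h1 : iterCommutator U (zpowers g) 3 ≤ iterCommutator A (zpowers g) 3 :=
        iterCommutator_mono hUA 3
      have h2 : iterCommutator A (zpowers g) 3 = ⊥ := hg3
      rw [h2] at h1
      exact h1.trans bot_le)
    (fun U V _ hUZ => by
      have h1 : iterCommutator U (zpowers g) 2 ≤ iterCommutator (Zc A) (zpowers g) 2 :=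
        iterCommutator_mono hUZ 2
      have h2 : iterCommutator (Zc A) (zpowers g) 2 = ⊥ := hg2
      rw [h2] at h1
      exact h1.trans bot_le)
  exact h

/-- the same with `p - 1` entries, for `p ≥ 5` -/
theorem exists_nilpotent_of_five_le (hp : 5 ≤ p) (T : Sylow p X)
    (hn : ¬ (inducedFunctor kInfLower (T : Subgroup X)).Normal ∨
      ¬ (inducedFunctor kInfUpper (T : Subgroup X)).Normal) :
    ∃ g : X, g ∈ (T : Subgroup X) ∧ g ∉ pCore p X ∧
      ∀ U V : Subgroup X, IsChiefFactor U V → U ≤ pCore p X →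
        iterCommutator U (zpowers g) (p - 1) ≤ V := by
  obtain ⟨g, hgT, hgO, h⟩ := exists_four_nilpotent T hn
  refine ⟨g, hgT, hgO, fun U V hUV hU => ?_⟩
  haveI : V.Normal := hUV.2.2.1
  exact iterCommutator_le_of_le (h U V hUV hU) (p - 1) (by omega)

end main

end Cfsg.H5.KI
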