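import Mathlib

set_option autoImplicit false

/-!
# Nilpotent action of a group acting as a `p`-group on a `p`-group
-/

namespace Cfsg.H5

open Subgroup
open scoped commutatorElement

variable {G : Type*} [Group G]

/-- Inside a nilpotent subgroup `X`, `N ≤ [N, X]` forces `N = 1`.
(Same as `Cfsg.Agent.Lib.Helper17.eq_bot_of_le_commutator_of_nilpotent`.) -/
theorem eq_bot_of_le_commutator_of_nilpotent' {N X : Subgroup G} (hX : Group.IsNilpotent X)
    (hNX : N ≤ X) (h : N ≤ ⁅N, X⁆) : N = ⊥ := by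
  have key : ∀ i : ℕ, N ≤ X.lowerCentralSeries i := by
    intro i
    induction i with
    | zero => simpa using hNX
    | succ i ih =>
      rw [Subgroup.lowerCentralSeries_succ]
      exact h.trans (Subgroup.commutator_mono ih le_rfl)
  obtain ⟨n, hn⟩ := (Subgroup.isNilpotent_iff_lowerCentralSeries X).mp hX
  rw [eq_bot_iff, ← hn]
  exact key n

/-- If `P` and `B` are `p`-subgroups of a finite group with `B` normalizing `P` and `P ≤ [P, B]`,
then `P = 1`. -/
theorem eq_bot_of_le_commutator_pgroups' [Finite G] {p : ℕ} [Fact p.Prime] {P B : Subgroup G}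
    (hP : IsPGroup p P) (hB : IsPGroup p B) (hBP : B ≤ Subgroup.normalizer (P : Set G))
    (h : P ≤ ⁅P, B⁆) : P = ⊥ := by
  have hX : IsPGroup p (P ⊔ B : Subgroup G) := hP.to_sup_of_normal_left' hB hBP
  have hnil : Group.IsNilpotent (P ⊔ B : Subgroup G) := hX.isNilpotent
  exact eq_bot_of_le_commutator_of_nilpotent' hnil le_sup_left
    (h.trans (Subgroup.commutator_mono le_rfl le_sup_right))

/-- conjugating the centralizer of `V` by an element normalizing `V` -/
theorem conj_mem_centralizer_of_mem_normalizer {V : Subgroup G} {a c : G}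
    (ha : a ∈ normalizer (V : Set G)) (hc : c ∈ centralizer (V : Set G)) :
    a * c * a⁻¹ ∈ centralizer (V : Set G) := by
  rw [mem_centralizer_iff]
  intro v hv
  have h1 : a⁻¹ * v * a ∈ V := by
    have := (mem_set_normalizer_iff.mp ha (a⁻¹ * v * a)).mpr (by
      have : a * (a⁻¹ * v * a) * a⁻¹ = v := by group
      rw [this]; exact hv)
    exact this
  have h2 := (mem_centralizer_iff.mp hc) _ h1
  calc v * (a * c * a⁻¹) = a * ((a⁻¹ * v * a) * c) * a⁻¹ := by group
    _ = a * (c * (a⁻¹ * v * a)) * a⁻¹ := by rw [h2]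
    _ = a * c * a⁻¹ * v := by group

/-- If every `p`-th power of an element of `A` centralizes `V` (and `A` normalizes `V`), then
`A = S C_A(V)` for a `p`-subgroup `S` of `A`. -/
theorem exists_pSubgroup_mul_centralizer [Finite G] {p : ℕ} [Fact p.Prime] {V A : Subgroup G}
    (hAV : A ≤ normalizer (V : Set G)) (hpow : ∀ a ∈ A, a ^ p ∈ centralizer (V : Set G)) :
    ∃ S : Subgroup G, S ≤ A ∧ IsPGroup p S ∧
      ∀ a ∈ A, ∃ s ∈ S, ∃ c ∈ centralizer (V : Set G), a = s * c := by
  classical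
  set C' : Subgroup A := (centralizer (V : Set G)).subgroupOf A with hC'
  have hCn : C'.Normal := by
    constructor
    intro c hc a
    rw [hC', mem_subgroupOf] at hc ⊢
    exact conj_mem_centralizer_of_mem_normalizer (hAV a.2) hc
  -- the quotient is a `p`-group
  have hquot : IsPGroup p (A ⧸ C') := by
    intro q
    refine ⟨1, ?_⟩
    induction q using QuotientGroup.induction_on with
    | H a =>
      rw [pow_one, ← QuotientGroup.mk_pow, QuotientGroup.eq_one_iff]
      rw [hC', mem_subgroupOf]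
      exact hpow a a.2
  obtain ⟨k, hk⟩ := hquot.exists_card_eq
  obtain ⟨S⟩ : Nonempty (Sylow p A) := inferInstance
  have hidx : ((S : Subgroup A) ⊔ C').index = 1 := by
    have h1 : ((S : Subgroup A) ⊔ C').index ∣ (S : Subgroup A).index :=
      Subgroup.index_dvd_of_le le_sup_left
    have h2 : ((S : Subgroup A) ⊔ C').index ∣ C'.index := Subgroup.index_dvd_of_le le_sup_right
    have h3 : C'.index = p ^ k := hk
    rw [h3] at h2
    have h4 : ¬ p ∣ (S : Subgroup A).index := S.not_dvd_index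
    have h5 : ¬ p ∣ ((S : Subgroup A) ⊔ C').index := fun h => h4 (h.trans h1)
    obtain ⟨j, -, hj⟩ := (Nat.dvd_prime_pow (Fact.out : p.Prime)).mp h2
    rcases Nat.eq_zero_or_pos j with h0 | hpos
    · rw [hj, h0, pow_zero]
    · exfalso
      apply h5
      rw [hj]
      exact dvd_pow_self p hpos.ne'
  rw [Subgroup.index_eq_one] at hidx
  refine ⟨(S : Subgroup A).map A.subtype, Subgroup.map_subtype_le _, ?_, ?_⟩
  · exact S.isPGroup'.map A.subtype
  · intro a ha
    have hmem : (⟨a, ha⟩ : A) ∈ ((S : Subgroup A) ⊔ C') := by rw [hidx]; trivial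
    rw [← SetLike.mem_coe, Subgroup.mul_normal, Set.mem_mul] at hmem
    obtain ⟨s, hs, c, hc, hsc⟩ := hmem
    refine ⟨s, ⟨s, hs, rfl⟩, c, ?_, ?_⟩
    · exact hc
    · have := congrArg Subtype.val hsc
      exact this.symm

/-- A group acting as a `p`-group on a `p`-group acts nilpotently: an invariant subgroup `X` of `V`
with `X ≤ [X, A]` is trivial. -/
theorem eq_bot_of_le_commutator_of_pow_mem [Finite G] {p : ℕ} [Fact p.Prime] {V A X : Subgroup G}
    (hV : IsPGroup p V) (hAV : A ≤ normalizer (V : Set G))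
    (hpow : ∀ a ∈ A, a ^ p ∈ centralizer (V : Set G)) (hXV : X ≤ V)
    (hAX : A ≤ normalizer (X : Set G)) (h : X ≤ ⁅X, A⁆) : X = ⊥ := by
  obtain ⟨S, hSA, hS, hdec⟩ := exists_pSubgroup_mul_centralizer hAV hpow
  have hXp : IsPGroup p X := hV.to_le hXV
  apply eq_bot_of_le_commutator_pgroups' hXp hS (hSA.trans hAX)
  refine h.trans ?_
  rw [Subgroup.commutator_le]
  intro x hx a ha
  obtain ⟨s, hs, c, hc, rfl⟩ := hdec a ha
  have hxc : c * x = x * c := ((mem_centralizer_iff.mp hc) x (hXV hx)).symm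
  have : ⁅x, s * c⁆ = ⁅x, s⁆ := by
    simp only [commutatorElement_def]
    calc x * (s * c) * x⁻¹ * (s * c)⁻¹ = x * s * (c * x⁻¹ * c⁻¹) * s⁻¹ := by group
      _ = x * s * x⁻¹ * s⁻¹ := by
        have : c * x⁻¹ * c⁻¹ = x⁻¹ := by
          have : c * x⁻¹ * c⁻¹ = (c * x * c⁻¹)⁻¹ := by group
          rw [this, hxc]; group
        rw [this]
  rw [this]
  exact Subgroup.commutator_mem_commutator hx hs

theorem map_conj_eq_of_mem_normalizer {H : Subgroup G} {a : G} (ha : a ∈ normalizer (H : Set G)) :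
    H.map (MulAut.conj a).toMonoidHom = H := by
  ext x
  rw [mem_map]
  constructor
  · rintro ⟨y, hy, rfl⟩
    exact (mem_set_normalizer_iff.mp ha y).mp hy
  · intro hx
    refine ⟨a⁻¹ * x * a, ?_, ?_⟩
    · apply (mem_set_normalizer_iff.mp ha (a⁻¹ * x * a)).mpr
      have : a * (a⁻¹ * x * a) * a⁻¹ = x := by group
      rw [this]; exact hx
    · show a * (a⁻¹ * x * a) * a⁻¹ = x
      group

theorem mem_normalizer_of_map_conj_eq {H : Subgroup G} {a : G}
    (h : H.map (MulAut.conj a).toMonoidHom = H) : a ∈ normalizer (H : Set G) := by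
  rw [mem_set_normalizer_iff]
  intro n
  constructor
  · intro hn
    rw [← h]
    exact ⟨n, hn, rfl⟩
  · intro hn
    rw [← h] at hn
    obtain ⟨m, hm, hmn⟩ := hn
    have hmn' : a * m * a⁻¹ = a * n * a⁻¹ := hmn
    have : m = n := by
      have := congrArg (fun z => a⁻¹ * z * a) hmn'
      simpa [mul_assoc] using this
    rw [← this]; exact hm

/-- `A` normalizes `[V, A]` when it normalizes `V`. -/
theorem le_normalizer_commutator {V A : Subgroup G} (hAV : A ≤ normalizer (V : Set G)) :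
    A ≤ normalizer ((⁅V, A⁆ : Subgroup G) : Set G) := by
  intro a ha
  apply mem_normalizer_of_map_conj_eq
  rw [Subgroup.map_commutator, map_conj_eq_of_mem_normalizer (hAV ha),
    map_conj_eq_of_mem_normalizer (le_normalizer ha)]

/-- commutators of elements of `Y ⊔ Z` with `A`, when `Z` is centralized by `A`. -/
theorem comm_mem_of_mem_sup {V A X Y Z : Subgroup G} (hV : IsMulCommutative V)
    (hAV : A ≤ normalizer (V : Set G)) (hXV : X ≤ V) (hYX : Y ≤ X) (hZV : Z ≤ V)
    (hZ : Z ≤ centralizer (A : Set G)) {k : G} (hk : k ∈ Y ⊔ Z) :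
    k ∈ V ∧ ∀ a ∈ A, ⁅k, a⁆ ∈ ⁅X, A⁆ := by
  have hcomm : ∀ x ∈ V, ∀ y ∈ V, x * y = y * x := fun x hx y hy =>
    congrArg Subtype.val (hV.is_comm.comm ⟨x, hx⟩ ⟨y, hy⟩)
  have hcV : ∀ v ∈ V, ∀ a ∈ A, ⁅v, a⁆ ∈ V := by
    intro v hv a ha
    have h1 : a * v⁻¹ * a⁻¹ ∈ V := (mem_set_normalizer_iff.mp (hAV ha) v⁻¹).mp (V.inv_mem hv)
    have : ⁅v, a⁆ = v * (a * v⁻¹ * a⁻¹) := by rw [commutatorElement_def]; group
    rw [this]; exact V.mul_mem hv h1
  rw [Subgroup.sup_eq_closure] at hk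
  induction hk using Subgroup.closure_induction with
  | mem x hx =>
    rcases hx with hx | hx
    · exact ⟨hXV (hYX hx), fun a ha => Subgroup.commutator_mem_commutator (hYX hx) ha⟩
    · refine ⟨hZV hx, fun a ha => ?_⟩
      have h1 := (mem_centralizer_iff.mp (hZ hx)) a ha
      have : ⁅x, a⁆ = 1 := by
        rw [commutatorElement_def, ← h1]; group
      rw [this]; exact Subgroup.one_mem _
  | one =>
    refine ⟨V.one_mem, fun a _ => ?_⟩
    have : ⁅(1 : G), a⁆ = 1 := by rw [commutatorElement_def]; group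
    rw [this]; exact Subgroup.one_mem _
  | mul x y _ _ hx hy =>
    refine ⟨V.mul_mem hx.1 hy.1, fun a ha => ?_⟩
    have e1 : ⁅x * y, a⁆ = x * ⁅y, a⁆ * x⁻¹ * ⁅x, a⁆ := by
      simp only [commutatorElement_def]; group
    have e2 : x * ⁅y, a⁆ * x⁻¹ = ⁅y, a⁆ := by
      rw [hcomm x hx.1 _ (hcV y hy.1 a ha)]; group
    rw [e1, e2]
    exact Subgroup.mul_mem _ (hy.2 a ha) (hx.2 a ha)
  | inv x _ hx =>
    refine ⟨V.inv_mem hx.1, fun a ha => ?_⟩
    have e1 : ⁅x⁻¹, a⁆ = x⁻¹ * (⁅x, a⁆)⁻¹ * x := by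
      simp only [commutatorElement_def]; group
    have e2 : x⁻¹ * (⁅x, a⁆)⁻¹ * x = (⁅x, a⁆)⁻¹ := by
      rw [hcomm x⁻¹ (V.inv_mem hx.1) _ (V.inv_mem (hcV x hx.1 a ha))]; group
    rw [e1, e2]
    exact Subgroup.inv_mem _ (hx.2 a ha)

/-- If `V = Y C_V(A)` with `Y ≤ [V, A]` and `A` acts on the `p`-group `V` as a `p`-group, then
`[V, A] = 1`. -/
theorem commutator_eq_bot_of_sup_eq [Finite G] {p : ℕ} [Fact p.Prime] {V A Y Z : Subgroup G}
    (hVc : IsMulCommutative V) (hV : IsPGroup p V) (hAV : A ≤ normalizer (V : Set G))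
    (hpow : ∀ a ∈ A, a ^ p ∈ centralizer (V : Set G)) (hY : Y ≤ ⁅V, A⁆) (hZV : Z ≤ V)
    (hZ : Z ≤ centralizer (A : Set G)) (hsup : V ≤ Y ⊔ Z) : ⁅V, A⁆ = ⊥ := by
  have hXV : ⁅V, A⁆ ≤ V := by
    rw [Subgroup.commutator_le]
    intro v hv a ha
    have h1 : a * v⁻¹ * a⁻¹ ∈ V := (mem_set_normalizer_iff.mp (hAV ha) v⁻¹).mp (V.inv_mem hv)
    have : ⁅v, a⁆ = v * (a * v⁻¹ * a⁻¹) := by rw [commutatorElement_def]; group
    rw [this]; exact V.mul_mem hv h1
  apply eq_bot_of_le_commutator_of_pow_mem hV hAV hpow hXV (le_normalizer_commutator hAV)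
  rw [Subgroup.commutator_le]
  intro v hv a ha
  exact (comm_mem_of_mem_sup hVc hAV hXV hY hZV hZ (hsup hv)).2 a ha

end Cfsg.H5
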