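import Mathlib
import Cfsg.Agent.H5.KInf12
import Cfsg.Agent.S1972
import Cfsg.Agent.S1962
import Cfsg.Agent.Lib.Helper13.Sections
import Cfsg.Agent.Lib.Helper13.CharFunctor

/-!
# `K`-infinity controls transfer for `p ≥ 5`
-/

set_option autoImplicit false
set_option linter.unusedSectionVars false
set_option linter.style.haveILetI false

namespace Cfsg.H5.KI

open Cfsg Subgroup

universe u

variable {G : Type u} [Group G] [Finite G] {p : ℕ} [Fact p.Prime]

theorem kInfLower_controlsTransfer_sections (hp : 5 ≤ p) (K R : Subgroup G)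
    [hR : (R.subgroupOf K).Normal] :
    ControlsTransferIn p (inducedFunctor (G := (↥K ⧸ R.subgroupOf K)) kInfLower) ⊤ :=
  Cfsg.Agent.S1972.result (G := G) (p := p) kInfLower (isCharPFunctor_kInfLower p)
    (fun _ _ _ _ T hn => exists_nilpotent_of_five_le hp T (Or.inl hn)) K R

theorem kInfUpper_controlsTransfer_sections (hp : 5 ≤ p) (K R : Subgroup G)
    [hR : (R.subgroupOf K).Normal] :
    ControlsTransferIn p (inducedFunctor (G := (↥K ⧸ R.subgroupOf K)) kInfUpper) ⊤ :=
  Cfsg.Agent.S1972.result (G := G) (p := p) kInfUpper (isCharPFunctor_kInfUpper p)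
    (fun _ _ _ _ T hn => exists_nilpotent_of_five_le hp T (Or.inr hn)) K R

theorem kInfLower_controlsTransfer (hp : 5 ≤ p) :
    ControlsTransferIn p (inducedFunctor (G := G) kInfLower) ⊤ := by
  have hn : ((⊥ : Subgroup G).subgroupOf ⊤).Normal := by
    rw [Subgroup.bot_subgroupOf]; infer_instance
  exact Cfsg.Agent.Lib.Helper13.controlsTransferIn_top_of_equiv (isCharPFunctor_kInfLower p)
    (Cfsg.Agent.Lib.Helper13.sectionTopBot G) (kInfLower_controlsTransfer_sections hp ⊤ ⊥)

theorem kInfUpper_controlsTransfer (hp : 5 ≤ p) :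
    ControlsTransferIn p (inducedFunctor (G := G) kInfUpper) ⊤ := by
  have hn : ((⊥ : Subgroup G).subgroupOf ⊤).Normal := by
    rw [Subgroup.bot_subgroupOf]; infer_instance
  exact Cfsg.Agent.Lib.Helper13.controlsTransferIn_top_of_equiv (isCharPFunctor_kInfUpper p)
    (Cfsg.Agent.Lib.Helper13.sectionTopBot G) (kInfUpper_controlsTransfer_sections hp ⊤ ⊥)

/-- transfer equality for any iso-invariant functor controlling transfer, for every Sylow
subgroup -/
theorem transfer_eq_of_controls {W : ∀ (Q : Type u) [Group Q], Subgroup Q}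
    (hW : IsCharPFunctor.{u} p W) (h : ControlsTransferIn p (inducedFunctor (G := G) W) ⊤)
    (S : Sylow p G) :
    (S : Subgroup G) ⊓ commutator G = (S : Subgroup G) ⊓
      ⁅normalizer ((inducedFunctor W (S : Subgroup G) : Subgroup G) : Set G),
        normalizer ((inducedFunctor W (S : Subgroup G) : Subgroup G) : Set G)⁆ := by
  have hWc := Cfsg.Agent.Lib.Helper13.isConjugacyFunctor_inducedFunctor hW G
  have hSi : ¬ p ∣ (S : Subgroup G).relIndex ⊤ := by
    rw [Subgroup.relIndex_top_right]; exact S.not_dvd_index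
  have heq := Cfsg.Agent.S1962.transfer_any_sylow (inducedFunctor (G := G) W) hWc ⊤ h
    (S : Subgroup G) le_top S.isPGroup' hSi
  rw [top_inf_eq, ← commutator_def] at heq
  exact heq

theorem kInfLower_transfer_eq (hp : 5 ≤ p) (S : Sylow p G) :
    (S : Subgroup G) ⊓ commutator G = (S : Subgroup G) ⊓
      ⁅normalizer ((inducedFunctor kInfLower (S : Subgroup G) : Subgroup G) : Set G),
        normalizer ((inducedFunctor kInfLower (S : Subgroup G) : Subgroup G) : Set G)⁆ :=
  transfer_eq_of_controls (isCharPFunctor_kInfLower p) (kInfLower_controlsTransfer hp) S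

theorem kInfUpper_transfer_eq (hp : 5 ≤ p) (S : Sylow p G) :
    (S : Subgroup G) ⊓ commutator G = (S : Subgroup G) ⊓
      ⁅normalizer ((inducedFunctor kInfUpper (S : Subgroup G) : Subgroup G) : Set G),
        normalizer ((inducedFunctor kInfUpper (S : Subgroup G) : Subgroup G) : Set G)⁆ :=
  transfer_eq_of_controls (isCharPFunctor_kInfUpper p) (kInfUpper_controlsTransfer hp) S

end Cfsg.H5.KI
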