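import Mathlib
import Cfsg.Prelude.Def_Amalgam
import Cfsg.Agent.H5.KInf12

/-!
# `K`-infinity inside subgroups: the local hypothesis for weak closure of elements
-/

set_option autoImplicit false
set_option linter.unusedSectionVars false
set_option linter.style.haveILetI false

namespace Cfsg.H5.KI

open Cfsg Subgroup
open scoped commutatorElement

section maps

universe u

variable {G : Type u} [Group G]

/-- relative `K`-infinity commutes with the inclusion of a subgroup -/
theorem kLow_map_subtype (H : Subgroup G) (P : Subgroup ↥H) :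
    kLow (P.map H.subtype) = (kLow P).map H.subtype := by
  have h1 := map_kInfLower (P := ↥P) P.subtype P.subtype_injective
  rw [Subgroup.range_subtype] at h1
  have hinj : Function.Injective (H.subtype.comp P.subtype) :=
    H.subtype_injective.comp P.subtype_injective
  have h2 := map_kInfLower (P := ↥P) (H.subtype.comp P.subtype) hinj
  rw [MonoidHom.range_comp, Subgroup.range_subtype, ← Subgroup.map_map, h1] at h2
  exact h2.symm

theorem kUp_map_subtype (H : Subgroup G) (P : Subgroup ↥H) :
    kUp (P.map H.subtype) = (kUp P).map H.subtype := by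
  have h1 := map_kInfUpper (P := ↥P) P.subtype P.subtype_injective
  rw [Subgroup.range_subtype] at h1
  have hinj : Function.Injective (H.subtype.comp P.subtype) :=
    H.subtype_injective.comp P.subtype_injective
  have h2 := map_kInfUpper (P := ↥P) (H.subtype.comp P.subtype) hinj
  rw [MonoidHom.range_comp, Subgroup.range_subtype, ← Subgroup.map_map, h1] at h2
  exact h2.symm

theorem le_normalizer_map_subtype (H : Subgroup G) (N : Subgroup ↥H) [hN : N.Normal] :
    H ≤ normalizer ((N.map H.subtype : Subgroup G) : Set G) := by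
  apply le_normalizer_of_conj_mem
  rintro x hx _ ⟨y, hy, rfl⟩
  exact ⟨⟨x, hx⟩ * y * ⟨x, hx⟩⁻¹, hN.conj_mem y hy ⟨x, hx⟩, rfl⟩

theorem map_subtype_subgroupOf {H T : Subgroup G} (hTH : T ≤ H) :
    (T.subgroupOf H).map H.subtype = T := by
  rw [Subgroup.subgroupOf_map_subtype, inf_of_le_left hTH]

variable [Finite G] {p : ℕ} [Fact p.Prime]

/-- the local hypothesis of the weak closure theorems, for the two `K`-infinity functors:
if `K(T)` is not normalized by `H`, for a Sylow `p`-subgroup `T` of `H`, then some element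
of `T` outside `O_p(H)` acts quadratically on `Z(O_p(H))` -/
theorem exists_quadratic_on_center (H T : Subgroup G) (hTH : T ≤ H) (hTp : IsPGroup p ↥T)
    (hTi : ¬ p ∣ T.relIndex H)
    (hn : ¬ H ≤ normalizer ((inducedFunctor kInfLower T : Subgroup G) : Set G) ∨
      ¬ H ≤ normalizer ((inducedFunctor kInfUpper T : Subgroup G) : Set G)) :
    ∃ g : G, g ∈ T ∧ g ∉ pCoreOf p H ∧
      ⁅⁅pCoreOf p H ⊓ centralizer ((pCoreOf p H : Subgroup G) : Set G), zpowers g⁆,
        zpowers g⁆ = ⊥ := by
  have hOp : IsPGroup p ↥(pCore p ↥H) := Cfsg.H5.pCore_isPGroup p ↥H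
  haveI hOn : (pCore p ↥H).Normal := Cfsg.H5.pCore_normal p ↥H
  have hT'p : IsPGroup p ↥(T.subgroupOf H) := hTp.comap_subtype
  obtain ⟨T', hT'⟩ : ∃ T' : Sylow p ↥H, (T' : Subgroup ↥H) = T.subgroupOf H :=
    ⟨hT'p.toSylow hTi, rfl⟩
  have hOT : pCore p ↥H ≤ T.subgroupOf H := by
    rw [← hT']; exact hOp.le_sylow_of_normal T'
  obtain ⟨A, hAn, hAT, hAc, hA1, hA2, hA3, hA4, hA5⟩ := exists_critical_full p ↥H
  haveI := hAn
  have hTA : ⁅A, pCore p ↥H⁆ ≤ Zc A := by rw [Subgroup.commutator_comm]; exact hA3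
  have hmapT : (T.subgroupOf H).map H.subtype = T := map_subtype_subgroupOf hTH
  have hK : ¬ (kLow (T.subgroupOf H) = kLow (pCore p ↥H) ∧
      kUp (T.subgroupOf H) = kUp (pCore p ↥H)) := by
    rintro ⟨e1, e2⟩
    rcases hn with hn | hn
    · apply hn
      rw [inducedFunctor_kInfLower, ← hmapT, kLow_map_subtype, e1]
      haveI := kLow_normal (pCore p ↥H)
      exact le_normalizer_map_subtype H _
    · apply hn
      rw [inducedFunctor_kInfUpper, ← hmapT, kUp_map_subtype, e2]
      haveI := kUp_normal (pCore p ↥H)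
      exact le_normalizer_map_subtype H _
  obtain ⟨g, hgT, hgO, -, hg2⟩ := exists_bad_element hOT hAT hA2 hTA hK
  refine ⟨(g : G), Subgroup.mem_subgroupOf.mp hgT, ?_, ?_⟩
  · rintro ⟨y, hy, hyg⟩
    apply hgO
    have : y = g := Subtype.ext hyg
    rwa [← this]
  · -- the centre of `O_p(H)` lies in `Z(A)`
    have hZ : pCore p ↥H ⊓ centralizer ((pCore p ↥H : Subgroup ↥H) : Set ↥H) ≤ Zc A := by
      rw [← hA4]
      exact inf_le_inf_left _ (Subgroup.centralizer_le hAT)
    have hq : ⁅⁅pCore p ↥H ⊓ centralizer ((pCore p ↥H : Subgroup ↥H) : Set ↥H), zpowers g⁆,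
        zpowers g⁆ = ⊥ := by
      apply le_bot_iff.mp
      rw [← hg2]
      exact Subgroup.commutator_mono (Subgroup.commutator_mono hZ le_rfl) le_rfl
    have hinj : Function.Injective H.subtype := H.subtype_injective
    have hzp : (zpowers g).map H.subtype = zpowers (g : G) := by
      rw [MonoidHom.map_zpowers]; rfl
    have hcen : pCoreOf p H ⊓ centralizer ((pCoreOf p H : Subgroup G) : Set G) =
        (pCore p ↥H ⊓ centralizer ((pCore p ↥H : Subgroup ↥H) : Set ↥H)).map H.subtype := by
      unfold pCoreOf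
      exact (map_Zc H.subtype hinj (pCore p ↥H)).symm
    rw [hcen, ← hzp, ← Subgroup.map_commutator, ← Subgroup.map_commutator, hq, Subgroup.map_bot]

end maps

end Cfsg.H5.KI

namespace Cfsg.H5.KI

open Cfsg Subgroup

section chief2

universe u

variable {G : Type u} [Group G]

theorem iterCommutator_eq_bot_of_le {U Z : Subgroup G} {m : ℕ}
    (h : iterCommutator U Z m = ⊥) (n : ℕ) (hmn : m ≤ n) : iterCommutator U Z n = ⊥ := by
  induction n, hmn using Nat.le_induction with
  | base => exact h
  | succ n _ ih =>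
    show ⁅iterCommutator U Z n, Z⁆ = ⊥
    rw [ih, Subgroup.commutator_bot_left]

variable [Finite G] {p : ℕ} [Fact p.Prime]

/-- the local hypothesis in the chief factor form, `p` odd -/
theorem exists_nilpotent_on_center (hp : p ≠ 2) (H T : Subgroup G) (hTH : T ≤ H)
    (hTp : IsPGroup p ↥T) (hTi : ¬ p ∣ T.relIndex H)
    (hn : ¬ H ≤ normalizer ((inducedFunctor kInfLower T : Subgroup G) : Set G) ∨
      ¬ H ≤ normalizer ((inducedFunctor kInfUpper T : Subgroup G) : Set G)) :
    ∃ g : G, g ∈ T ∧ g ∉ pCoreOf p H ∧ ∀ U V : Subgroup ↥H, IsChiefFactor U V →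
      U.map H.subtype ≤ pCoreOf p H ⊓ centralizer ((pCoreOf p H : Subgroup G) : Set G) →
      iterCommutator (U.map H.subtype) (zpowers g) (p - 1) ≤ V.map H.subtype := by
  obtain ⟨g, hgT, hgO, hq⟩ := exists_quadratic_on_center H T hTH hTp hTi hn
  refine ⟨g, hgT, hgO, fun U V _ hU => ?_⟩
  have h2 : iterCommutator (U.map H.subtype) (zpowers g) 2 = ⊥ := by
    apply le_bot_iff.mp
    rw [← hq]
    exact Subgroup.commutator_mono (Subgroup.commutator_mono hU le_rfl) le_rfl
  have hp2 : 2 ≤ p - 1 := by
    have := (Fact.out : p.Prime).two_le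
    omega
  rw [iterCommutator_eq_bot_of_le h2 (p - 1) hp2]
  exact bot_le

end chief2

end Cfsg.H5.KI
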