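import Mathlib

set_option autoImplicit false

namespace Cfsg.H5

open MulAction SubMulAction
open scoped Pointwise

/-- On a primitive action, an equivariant involution that moves a point `y` forces the set to be
`{y, ι y}`. -/
theorem eq_or_eq_of_equivariant_involution {F Y : Type*} [Group F] [MulAction F Y]
    [hprim : IsPreprimitive F Y] (ι : Y → Y) (hι : ∀ (g : F) (y : Y), ι (g • y) = g • ι y)
    (hinv : ∀ y, ι (ι y) = y) (y : Y) (hy : ι y ≠ y) (z : Y) : z = y ∨ z = ι y := by
  have hB : IsBlock F ({y, ι y} : Set Y) := by
    rw [isBlock_iff_smul_eq_of_mem]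
    intro g z hz hgz
    have key : g • y = y ∨ g • y = ι y := by
      rcases hz with hz | hz
      · rw [hz] at hgz
        exact hgz
      · rw [hz, ← hι g y] at hgz
        rcases hgz with h | h
        · right
          have := congrArg ι h
          rwa [hinv] at this
        · left
          have := congrArg ι h
          rwa [hinv, hinv] at this
    have himg : g • ({y, ι y} : Set Y) = {g • y, ι (g • y)} := by
      rw [hι]
      ext w
      simp only [Set.mem_smul_set, Set.mem_insert_iff, Set.mem_singleton_iff]
      constructor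
      · rintro ⟨v, rfl | rfl, rfl⟩
        · left; rfl
        · right; rfl
      · rintro (rfl | rfl)
        · exact ⟨y, Or.inl rfl, rfl⟩
        · exact ⟨ι y, Or.inr rfl, rfl⟩
    rw [himg]
    rcases key with h | h
    · rw [h]
    · rw [h, hinv]
      exact Set.pair_comm _ _
  rcases hprim.isTrivialBlock_of_isBlock hB with h | h
  · exfalso
    exact hy (h (Set.mem_insert_of_mem _ rfl) (Set.mem_insert _ _))
  · have : z ∈ ({y, ι y} : Set Y) := by rw [h]; trivial
    exact this

theorem card_eq_two_of_equivariant_involution {F Y : Type*} [Group F] [MulAction F Y]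
    [hprim : IsPreprimitive F Y] (ι : Y → Y) (hι : ∀ (g : F) (y : Y), ι (g • y) = g • ι y)
    (hinv : ∀ y, ι (ι y) = y) (y : Y) (hy : ι y ≠ y) : Nat.card Y = 2 := by
  have h := eq_or_eq_of_equivariant_involution ι hι hinv y hy
  rw [Nat.card_eq_two_iff]
  refine ⟨y, ι y, Ne.symm hy, ?_⟩
  ext z
  simp only [Set.mem_insert_iff, Set.mem_singleton_iff, Set.mem_univ, iff_true]
  exact h z

section regular

variable {G : Type*} [Group G] {X : Type*} [MulAction G X] (N : Subgroup G)

/-- uniqueness for a semiregular subgroup -/
theorem eq_of_smul_eq_of_stabilizer_eq_bot (hreg : ∀ x : X, MulAction.stabilizer N x = ⊥)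
    {n m : N} {a : X} (h : n • a = m • a) : n = m := by
  have h1 : m⁻¹ * n ∈ MulAction.stabilizer N a := by
    rw [MulAction.mem_stabilizer_iff, mul_smul, h, inv_smul_smul]
  rw [hreg a, Subgroup.mem_bot] at h1
  exact (inv_mul_eq_one.mp h1).symm

/-- a regular subgroup is in bijection with the set -/
theorem card_eq_of_regular [MulAction.IsPretransitive N X]
    (hreg : ∀ x : X, MulAction.stabilizer N x = ⊥) (a : X) : Nat.card N = Nat.card X := by
  apply Nat.card_congr
  apply Equiv.ofBijective (fun n : N => n • a)
  constructor
  · intro n m h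
    exact eq_of_smul_eq_of_stabilizer_eq_bot N hreg h
  · intro x
    exact MulAction.exists_smul_eq N a x

end regular

end Cfsg.H5
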