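import Mathlib
import Cfsg.Agent.H5.RegNormal

set_option autoImplicit false

namespace Cfsg.H5.KPrim

open MulAction SubMulAction

variable {M : Type*} [Group M] {X : Type*} [MulAction M X]

/-- transport of multiple transitivity from `N ∩ M_a` on `X ∖ {a}` to `N` on `X` -/
theorem isMultiplyPretransitive_succ_of_subgroupOf (N : Subgroup M) (a : X) (k : ℕ)
    [IsPretransitive N X]
    (h : IsMultiplyPretransitive (N.subgroupOf (stabilizer M a)) (ofStabilizer M a) k) :
    IsMultiplyPretransitive N X (k + 1) := by
  rw [ofStabilizer.isMultiplyPretransitive (G := N) (a := a)]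
  let σ : N.subgroupOf (stabilizer M a) → stabilizer N a := fun n =>
    ⟨⟨(n.1 : M), n.2⟩, by
      rw [mem_stabilizer_iff]
      exact n.1.2⟩
  let f : ofStabilizer M a →ₑ[σ] ofStabilizer N a :=
    { toFun := fun x => ⟨x.1, x.2⟩
      map_smul' := fun n x => by
        apply Subtype.ext
        rfl }
  have hf : Function.Surjective f := fun y => ⟨⟨y.1, y.2⟩, rfl⟩
  exact IsPretransitive.of_embedding (f := f) hf

/-- if the stabilizer induces all permutations of the remaining points, the transitive group induces
all permutations -/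
theorem toPermHom_surjective_of_stabilizer [IsPretransitive M X] (a : X)
    (h : Function.Surjective (MulAction.toPermHom (stabilizer M a) (ofStabilizer M a))) :
    Function.Surjective (MulAction.toPermHom M X) := by
  intro σ
  obtain ⟨g, hg⟩ := exists_smul_eq M a (σ a)
  set τ : Equiv.Perm X := (MulAction.toPermHom M X g)⁻¹ * σ with hτdef
  have hτx : ∀ x, τ x = g⁻¹ • σ x := fun x => rfl
  have hτa : τ a = a := by
    rw [hτx, ← hg, inv_smul_smul]
  have hτ : ∀ x, τ x ∈ ofStabilizer M a ↔ x ∈ ofStabilizer M a := by
    intro x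
    rw [mem_ofStabilizer_iff, mem_ofStabilizer_iff]
    constructor
    · intro h1 h2
      apply h1
      rw [h2, hτa]
    · intro h1 h2
      apply h1
      apply τ.injective
      rw [h2, hτa]
  obtain ⟨m, hm⟩ := h (τ.subtypePerm hτ)
  refine ⟨g * (m : M), ?_⟩
  ext x
  show (g * (m : M)) • x = σ x
  rw [mul_smul]
  by_cases hx : x = a
  · rw [hx]
    have : (m : M) • a = a := m.2
    rw [this, hg]
  · have hx' : x ∈ ofStabilizer M a := hx
    have h1 := congrArg (fun π : Equiv.Perm (ofStabilizer M a) => ((π ⟨x, hx'⟩ : ofStabilizer M a) : X)) hm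
    have h2 : (m : M) • x = τ x := h1
    rw [h2, hτx, smul_inv_smul]

/-- a triply transitive action on at most four points induces all permutations -/
theorem toPermHom_surjective_of_card_le_four [Finite X] (h3 : 3 ≤ Nat.card X)
    (h4 : Nat.card X ≤ 4) (ht : IsMultiplyPretransitive M X 3) :
    Function.Surjective (MulAction.toPermHom M X) := by
  have h1 : IsMultiplyPretransitive M X (Nat.card X - 1) :=
    isMultiplyPretransitive_of_le (n := 3) (by omega) h3
  let σ : M → (MulAction.toPermHom M X).range := (MulAction.toPermHom M X).rangeRestrict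
  let f : X →ₑ[σ] X :=
    { toFun := id
      map_smul' := fun m x => rfl }
  have hf : Function.Surjective f := fun y => ⟨y, rfl⟩
  have h2 : IsMultiplyPretransitive (MulAction.toPermHom M X).range X (Nat.card X - 1) :=
    IsPretransitive.of_embedding (f := f) hf
  have h5 := Equiv.Perm.eq_top_of_isMultiplyPretransitive h2
  exact MonoidHom.range_eq_top.mp h5

/-- base case: a normal subgroup of a primitive group acting nontrivially is transitive -/
theorem isPretransitive_of_normal_of_preprimitive [IsPreprimitive M X] (N : Subgroup M)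
    [N.Normal] (h : ∃ n ∈ N, ∃ b : X, n • b ≠ b) : IsPretransitive N X := by
  apply IsQuasiPreprimitive.isPretransitive_of_normal
  intro hall
  obtain ⟨n, hn, b, hb⟩ := h
  have : b ∈ fixedPoints N X := by rw [hall]; trivial
  exact hb (this ⟨n, hn⟩)

/-- the "sharply doubly transitive" case: the degree is at most four -/
theorem card_le_four_of_sharp [Finite X] (N : Subgroup M) [hNn : N.Normal] (a : X)
    (h3prim : IsMultiplyPreprimitive M X 3) (hcard : 3 ≤ Nat.card X)
    (hNT : IsPretransitive N X)
    (hNaT : IsPretransitive (N.subgroupOf (stabilizer M a)) (ofStabilizer M a))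
    (hB : ∀ n ∈ N, n • a = a → ∀ b : X, b ≠ a → n • b = b → ∀ c : X, n • c = c) :
    Nat.card X ≤ 4 := by
  classical
  -- sharpness
  have hsharp : ∀ n ∈ N, ∀ b c : X, b ≠ c → n • b = b → n • c = c → ∀ x : X, n • x = x := by
    intro n hn b c hbc hb hc x
    obtain ⟨⟨m, hmN⟩, hm⟩ := exists_smul_eq N b a
    have hm' : m • b = a := hm
    have h1 : (m * n * m⁻¹) ∈ N := hNn.conj_mem n hn m
    have hma : m⁻¹ • a = b := by rw [← hm', inv_smul_smul]
    have h2 : (m * n * m⁻¹) • a = a := by
      rw [mul_smul, mul_smul, hma, hb, hm']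
    have h3 : (m * n * m⁻¹) • (m • c) = m • c := by
      rw [mul_smul, mul_smul, inv_smul_smul, hc]
    have h4 : m • c ≠ a := by
      intro h
      have h' : m • c = m • b := h.trans hm'.symm
      exact hbc (smul_left_cancel m h').symm
    have h5 := hB _ h1 h2 (m • c) h4 h3 (m • x)
    rw [mul_smul, mul_smul, inv_smul_smul] at h5
    exact smul_left_cancel m h5
  -- a second point
  have hnt : Nontrivial X := by
    rw [← Finite.one_lt_card_iff_nontrivial]
    omega
  obtain ⟨b, hba⟩ := exists_ne a
  -- the swap
  obtain ⟨⟨n₁, hn₁N⟩, hn₁⟩ := exists_smul_eq N b a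
  have hn₁' : n₁ • b = a := hn₁
  have hc : n₁ • a ≠ a := by
    intro h
    have h' : n₁ • a = n₁ • b := h.trans hn₁'.symm
    exact hba (smul_left_cancel n₁ h').symm
  obtain ⟨⟨⟨n₂, hn₂a⟩, hn₂N⟩, hn₂⟩ :=
    exists_smul_eq (N.subgroupOf (stabilizer M a)) (⟨n₁ • a, hc⟩ : ofStabilizer M a)
      (⟨b, hba⟩ : ofStabilizer M a)
  have hn₂' : n₂ • (n₁ • a) = b := congrArg Subtype.val hn₂
  have hn₂a' : n₂ • a = a := hn₂a
  have hn₂N' : n₂ ∈ N := hn₂N
  set t := n₂ * n₁ with ht
  have htN : t ∈ N := N.mul_mem hn₂N' hn₁N
  have hta : t • a = b := by rw [ht, mul_smul, hn₂']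
  have htb : t • b = a := by rw [ht, mul_smul, hn₁', hn₂a']
  have htt : ∀ x : X, t • (t • x) = x := by
    intro x
    have := hsharp (t * t) (N.mul_mem htN htN) a b (Ne.symm hba)
      (by rw [mul_smul, hta, htb]) (by rw [mul_smul, htb, hta]) x
    rwa [mul_smul] at this
  have htia : t⁻¹ • b = a := by rw [← hta, inv_smul_smul]
  have htib : t⁻¹ • a = b := by rw [← htb, inv_smul_smul]
  -- the primitive action on the complement of `{a, b}`
  have hs2 : ({a, b} : Set X).encard + 1 = ((3 : ℕ) : ℕ∞) := by
    rw [Set.encard_pair (Ne.symm hba)]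
    rfl
  have hprim : IsPreprimitive (fixingSubgroup M ({a, b} : Set X))
      (ofFixingSubgroup M ({a, b} : Set X)) :=
    h3prim.isPreprimitive_ofFixingSubgroup hs2
  have hmemY : ∀ y : X, y ∉ ({a, b} : Set X) → t • y ∉ ({a, b} : Set X) := by
    intro y hy h
    rcases h with h | h
    · apply hy
      right
      have h' : t • y = t • b := h.trans htb.symm
      exact smul_left_cancel t h'
    · apply hy
      left
      have h' : t • y = t • a := (show t • y = b from h).trans hta.symm
      exact smul_left_cancel t h'
  let ι : ofFixingSubgroup M ({a, b} : Set X) → ofFixingSubgroup M ({a, b} : Set X) :=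
    fun y => ⟨t • (y : X), hmemY _ y.2⟩
  have hι : ∀ (g : fixingSubgroup M ({a, b} : Set X)) (y : ofFixingSubgroup M ({a, b} : Set X)),
      ι (g • y) = g • ι y := by
    intro g y
    have hga : (g : M) • a = a := (mem_fixingSubgroup_iff M).mp g.2 a (Or.inl rfl)
    have hgb : (g : M) • b = b := (mem_fixingSubgroup_iff M).mp g.2 b (Or.inr rfl)
    have hgia : (g : M)⁻¹ • a = a := inv_smul_eq_iff.mpr hga.symm
    have hgib : (g : M)⁻¹ • b = b := inv_smul_eq_iff.mpr hgb.symm
    have huN : t⁻¹ * ((g : M) * t * (g : M)⁻¹) ∈ N :=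
      N.mul_mem (N.inv_mem htN) (hNn.conj_mem t htN g)
    have hua : (t⁻¹ * ((g : M) * t * (g : M)⁻¹)) • a = a := by
      rw [mul_smul, mul_smul, mul_smul, hgia, hta, hgb, htia]
    have hub : (t⁻¹ * ((g : M) * t * (g : M)⁻¹)) • b = b := by
      rw [mul_smul, mul_smul, mul_smul, hgib, htb, hga, htib]
    have hu := hsharp _ huN a b (Ne.symm hba) hua hub ((g : M) • (y : X))
    rw [mul_smul, mul_smul, mul_smul, inv_smul_smul] at hu
    apply Subtype.ext
    show t • ((g : M) • (y : X)) = (g : M) • (t • (y : X))
    rw [← hu, smul_inv_smul]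
  have hinv : ∀ y, ι (ι y) = y := by
    intro y
    apply Subtype.ext
    exact htt (y : X)
  have hY : Nat.card (ofFixingSubgroup M ({a, b} : Set X)) = (({a, b} : Set X)ᶜ).ncard :=
    Nat.card_coe_set_eq _
  have hsum := Set.ncard_add_ncard_compl ({a, b} : Set X)
  rw [Set.ncard_pair (Ne.symm hba)] at hsum
  by_cases hex : ∃ y, ι y ≠ y
  · obtain ⟨y, hy⟩ := hex
    have := card_eq_two_of_equivariant_involution ι hι hinv y hy
    omega
  · push Not at hex
    have hle : Nat.card (ofFixingSubgroup M ({a, b} : Set X)) ≤ 1 := by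
      by_contra hlt
      push Not at hlt
      have hnt' : Nontrivial (ofFixingSubgroup M ({a, b} : Set X)) :=
        Finite.one_lt_card_iff_nontrivial.mp hlt
      obtain ⟨y₁, y₂, hne⟩ := exists_pair_ne (ofFixingSubgroup M ({a, b} : Set X))
      have h1 : t • (y₁ : X) = y₁ := congrArg Subtype.val (hex y₁)
      have h2 : t • (y₂ : X) = y₂ := congrArg Subtype.val (hex y₂)
      have hne' : (y₁ : X) ≠ y₂ := fun h => hne (Subtype.ext h)
      have := hsharp t htN _ _ hne' h1 h2 a
      rw [hta] at this
      exact hba this
    omega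

end Cfsg.H5.KPrim

namespace Cfsg.H5.KPrim

open MulAction SubMulAction

universe u v

/-- In a `k`-primitive action not inducing the full symmetric group, a normal subgroup that is not
semiregular (modulo the kernel of the action) is `k`-transitive. -/
theorem isMultiplyPretransitive_of_normal (k : ℕ) (hk : 1 ≤ k) :
    ∀ {M : Type u} [Group M] {X : Type v} [MulAction M X] [Finite X],
      k ≤ Nat.card X → IsMultiplyPreprimitive M X k →
      ¬ Function.Surjective (MulAction.toPermHom M X) →
      ∀ (N : Subgroup M) [N.Normal], (∃ n ∈ N, ∃ a b : X, n • a = a ∧ n • b ≠ b) →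
      IsMultiplyPretransitive N X k := by
  induction k, hk using Nat.le_induction with
  | base =>
    intro M _ X _ _ hcard hprim hns N _ hN
    have : IsPreprimitive M X := (is_one_preprimitive_iff M X).mp hprim
    obtain ⟨n, hn, a, b, -, hb⟩ := hN
    have := isPretransitive_of_normal_of_preprimitive N ⟨n, hn, b, hb⟩
    exact is_one_pretransitive_iff.mpr this
  | succ k hk ih =>
    intro M _ X _ _ hcard hprim hns N _ hN
    obtain ⟨n₀, hn₀, a, b₀, hn₀a, hn₀b⟩ := hN
    have hENat : ((k + 1 : ℕ) : ℕ∞) ≤ ENat.card X := by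
      rw [ENat.card_eq_coe_natCard]
      exact_mod_cast hcard
    have hMt : IsMultiplyPretransitive M X (k + 1) := hprim.isMultiplyPretransitive
    have hM1 : IsPretransitive M X := by
      have : IsMultiplyPretransitive M X 1 :=
        isMultiplyPretransitive_of_le (n := k + 1) (by omega) hcard
      exact is_one_pretransitive_iff.mp this
    have hprim1 : IsPreprimitive M X := by
      have := isMultiplyPreprimitive_of_le M X hprim (m := 1) (by omega) hENat
      exact (is_one_preprimitive_iff M X).mp this
    have hNT : IsPretransitive N X :=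
      isPretransitive_of_normal_of_preprimitive N ⟨n₀, hn₀, b₀, hn₀b⟩
    have hprimA : IsMultiplyPreprimitive (stabilizer M a) (ofStabilizer M a) k := by
      have : IsMultiplyPreprimitive M X k.succ := hprim
      exact isMultiplyPreprimitive_ofStabilizer M X
    have hcardX := nat_card_ofStabilizer_add_one_eq M a
    have hcardA : k ≤ Nat.card (ofStabilizer M a) := by omega
    have hnsA : ¬ Function.Surjective
        (MulAction.toPermHom (stabilizer M a) (ofStabilizer M a)) :=
      fun h => hns (toPermHom_surjective_of_stabilizer a h)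
    have hNan : (N.subgroupOf (stabilizer M a)).Normal := Subgroup.Normal.subgroupOf ‹_› _
    have key : IsMultiplyPretransitive (N.subgroupOf (stabilizer M a)) (ofStabilizer M a) k := by
      by_cases hA : ∃ n ∈ N.subgroupOf (stabilizer M a), ∃ b c : ofStabilizer M a,
          n • b = b ∧ n • c ≠ c
      · exact ih hcardA hprimA hnsA (N.subgroupOf (stabilizer M a)) hA
      · push Not at hA
        have hb₀ : b₀ ≠ a := by
          intro h
          rw [h] at hn₀b
          exact hn₀b hn₀a
        have hENatA : ((k : ℕ) : ℕ∞) ≤ ENat.card (ofStabilizer M a) := by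
          rw [ENat.card_eq_coe_natCard]
          exact_mod_cast hcardA
        have hprimA1 : IsPreprimitive (stabilizer M a) (ofStabilizer M a) := by
          have := isMultiplyPreprimitive_of_le (stabilizer M a) (ofStabilizer M a) hprimA (m := 1)
            hk hENatA
          exact (is_one_preprimitive_iff _ _).mp this
        have hNaT : IsPretransitive (N.subgroupOf (stabilizer M a)) (ofStabilizer M a) := by
          apply isPretransitive_of_normal_of_preprimitive
          refine ⟨⟨n₀, hn₀a⟩, hn₀, ⟨b₀, hb₀⟩, ?_⟩
          intro h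
          exact hn₀b (congrArg Subtype.val h)
        rcases Nat.eq_or_lt_of_le hk with hk1 | hk2
        · rw [← hk1]
          exact is_one_pretransitive_iff.mpr hNaT
        · exfalso
          have h3prim : IsMultiplyPreprimitive M X 3 :=
            isMultiplyPreprimitive_of_le M X hprim (by omega) hENat
          have hB : ∀ n ∈ N, n • a = a → ∀ b : X, b ≠ a → n • b = b → ∀ c : X, n • c = c := by
            intro n hn hna b hb hnb c
            by_cases hc : c = a
            · rw [hc]
              exact hna
            · have := hA ⟨n, hna⟩ hn ⟨b, hb⟩ ⟨c, hc⟩ (Subtype.ext hnb)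
              exact congrArg Subtype.val this
          have h4 := card_le_four_of_sharp N a h3prim (by omega) hNT hNaT hB
          have h3t : IsMultiplyPretransitive M X 3 :=
            isMultiplyPretransitive_of_le (n := k + 1) (by omega) hcard
          exact hns (toPermHom_surjective_of_card_le_four (by omega) h4 h3t)
    exact isMultiplyPretransitive_succ_of_subgroupOf N a k key

end Cfsg.H5.KPrim
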