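import Mathlib

/-!
# Reduced-word lemmas for free groups (for the Leary–Stancu construction)
-/

set_option autoImplicit false

namespace Cfsg.H5.LS

open FreeGroup

variable {α : Type*}

/-- The inverse letter. -/
def linv (y : α × Bool) : α × Bool := (y.1, !y.2)

@[simp] theorem linv_linv (y : α × Bool) : linv (linv y) = y := by
  cases y; simp [linv]

theorem linv_ne (y : α × Bool) : linv y ≠ y := by
  cases y with
  | mk a b => cases b <;> simp [linv]

theorem invRev_singleton (y : α × Bool) : invRev [y] = [linv y] := by
  simp [invRev, linv]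

theorem isReduced_pair {a b : α × Bool} : FreeGroup.IsReduced [a, b] ↔ a ≠ linv b := by
  rw [isReduced_cons_cons]
  constructor
  · rintro ⟨h, -⟩ hab
    subst hab
    have := h rfl
    simp [linv] at this
  · intro h
    refine ⟨fun h1 => ?_, IsReduced.singleton⟩
    by_contra h2
    apply h
    cases a with
    | mk a1 a2 =>
      cases b with
      | mk b1 b2 =>
        simp only at h1 h2
        subst h1
        cases a2 <;> cases b2 <;> simp_all [linv]

theorem isReduced_cons_iff {a b : α × Bool} {L : List (α × Bool)} :
    FreeGroup.IsReduced (a :: b :: L) ↔ a ≠ linv b ∧ FreeGroup.IsReduced (b :: L) := by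
  rw [isReduced_cons_cons, ← isReduced_pair, isReduced_cons_cons]
  constructor
  · rintro ⟨h1, h2⟩
    exact ⟨⟨h1, IsReduced.singleton⟩, h2⟩
  · rintro ⟨⟨h1, -⟩, h2⟩
    exact ⟨h1, h2⟩

theorem isReduced_invRev [DecidableEq α] {L : List (α × Bool)} (h : FreeGroup.IsReduced L) :
    FreeGroup.IsReduced (invRev L) := by
  rw [isReduced_iff_reduce_eq, reduce_invRev, h.reduce_eq]

theorem isReduced_tail {a : α × Bool} {L : List (α × Bool)} (h : FreeGroup.IsReduced (a :: L)) :
    FreeGroup.IsReduced L :=
  h.infix ⟨[a], [], by simp⟩

/-- Image of a reduced word under an injective relabelling is reduced. -/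
theorem isReduced_map {β : Type*} (σ : α → β) (hσ : Function.Injective σ)
    {L : List (α × Bool)} (h : FreeGroup.IsReduced L) :
    FreeGroup.IsReduced (L.map (Prod.map σ id)) := by
  unfold FreeGroup.IsReduced at *
  rw [List.isChain_map]
  refine h.imp ?_
  intro a b hab h1
  exact hab (hσ h1)

theorem toWord_map [DecidableEq α] {β : Type*} [DecidableEq β] (σ : α → β)
    (hσ : Function.Injective σ)
    (f : FreeGroup α) : toWord (FreeGroup.map σ f) = (toWord f).map (Prod.map σ id) := by
  conv_lhs => rw [← mk_toWord (x := f), FreeGroup.map.mk, toWord_mk]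
  exact (isReduced_map σ hσ isReduced_toWord).reduce_eq

theorem norm_map [DecidableEq α] {β : Type*} [DecidableEq β] (σ : α → β)
    (hσ : Function.Injective σ)
    (f : FreeGroup α) : FreeGroup.norm (FreeGroup.map σ f) = FreeGroup.norm f := by
  simp [FreeGroup.norm, toWord_map σ hσ]

/-- Appending a letter to a reduced word. -/
theorem reduce_append_singleton [DecidableEq α] {L : List (α × Bool)}
    (hL : FreeGroup.IsReduced L) (y : α × Bool) :
    (FreeGroup.IsReduced (L ++ [y]) ∧ reduce (L ++ [y]) = L ++ [y]) ∨
      (∃ L', L = L' ++ [linv y] ∧ reduce (L ++ [y]) = L') := by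
  rcases List.eq_nil_or_concat L with rfl | ⟨L', b, h⟩
  · left
    exact ⟨by simp, by simp⟩
  · rw [List.concat_eq_append] at h
    subst h
    by_cases hb : b = linv y
    · right
      subst hb
      refine ⟨L', rfl, ?_⟩
      have hstep : Red.Step (L' ++ [linv y] ++ [y]) (L' ++ []) := by
        have := @Red.Step.not_rev α L' [] y.1 y.2
        simpa [linv] using this
      rw [reduce.Step.eq hstep]
      simp only [List.append_nil]
      exact (hL.infix ⟨[], [linv y], by simp⟩).reduce_eq
    · left
      have h2 : FreeGroup.IsReduced ([b] ++ [y]) := by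
        simpa using isReduced_pair.mpr hb
      have h3 : FreeGroup.IsReduced (L' ++ [b] ++ [y]) :=
        IsReduced.append_overlap hL h2 (by simp)
      exact ⟨h3, h3.reduce_eq⟩

/-- If the first letters of two reduced words differ, `A⁻¹ B` is reduced as written. -/
theorem isReduced_invRev_append [DecidableEq α] {A B : List (α × Bool)}
    (hA : FreeGroup.IsReduced A) (hB : FreeGroup.IsReduced B)
    (h : ∀ a ∈ A.head?, ∀ b ∈ B.head?, a ≠ b) : FreeGroup.IsReduced (invRev A ++ B) := by
  cases A with
  | nil => simpa using hB
  | cons a A' =>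
    cases B with
    | nil => simpa using isReduced_invRev hA
    | cons b B' =>
      have hab : a ≠ b := h a (by simp) b (by simp)
      have h1 : FreeGroup.IsReduced (invRev A' ++ [linv a]) := by
        have := isReduced_invRev hA
        rwa [invRev_cons, invRev_singleton] at this
      have h2 : FreeGroup.IsReduced ([linv a] ++ b :: B') := by
        have : FreeGroup.IsReduced (linv a :: b :: B') := by
          rw [isReduced_cons_iff]
          refine ⟨fun h => hab ?_, hB⟩
          have := congrArg linv h
          simpa using this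
        simpa using this
      have := IsReduced.append_overlap h1 h2 (by simp)
      rw [invRev_cons, invRev_singleton]
      simpa using this

theorem toWord_inv_mul_of_head_ne [DecidableEq α] {A B : List (α × Bool)}
    (hA : FreeGroup.IsReduced A) (hB : FreeGroup.IsReduced B)
    (h : ∀ a ∈ A.head?, ∀ b ∈ B.head?, a ≠ b) :
    toWord ((mk A)⁻¹ * mk B) = invRev A ++ B := by
  rw [inv_mk, mul_mk, toWord_mk]
  exact (isReduced_invRev_append hA hB h).reduce_eq

theorem norm_inv_mul_of_head_ne [DecidableEq α] {A B : List (α × Bool)}
    (hA : FreeGroup.IsReduced A) (hB : FreeGroup.IsReduced B)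
    (h : ∀ a ∈ A.head?, ∀ b ∈ B.head?, a ≠ b) :
    FreeGroup.norm ((mk A)⁻¹ * mk B) = A.length + B.length := by
  rw [FreeGroup.norm, toWord_inv_mul_of_head_ne hA hB h]
  simp [invRev_length]

theorem toWord_mk_of_isReduced [DecidableEq α] {L : List (α × Bool)}
    (h : FreeGroup.IsReduced L) : toWord (mk L) = L := by
  rw [toWord_mk, h.reduce_eq]

theorem norm_mk_of_isReduced [DecidableEq α] {L : List (α × Bool)}
    (h : FreeGroup.IsReduced L) : FreeGroup.norm (mk L) = L.length := by
  rw [FreeGroup.norm, toWord_mk_of_isReduced h]

end Cfsg.H5.LS
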