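import Mathlib
import Cfsg.Prelude.Def_FusionSystem
import Cfsg.Agent.H5.LSWord

/-!
# The Leary–Stancu group of a fusion system, inside `FreeGroup X ⋊ Perm S`
-/

set_option autoImplicit false

namespace Cfsg.H5.LS

open FreeGroup Cfsg

universe u

/-! ### Equivariant permutations -/

/-- For an injective homomorphism `θ : P → S` from a subgroup of a finite group, some permutation
`w` of `S` intertwines left multiplication by `u` with left multiplication by `θ u`. -/
theorem exists_perm_conj {S : Type*} [Group S] [Finite S] (P : Subgroup S) (θ : P →* S)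
    (hθ : Function.Injective θ) :
    ∃ w : Equiv.Perm S, ∀ (u : P) (z : S), w ((u : S) * z) = θ u * w z := by
  classical
  obtain ⟨TP, hTP, -⟩ := Subgroup.exists_isComplement_right P (1 : S)
  obtain ⟨TQ, hTQ, -⟩ := Subgroup.exists_isComplement_right θ.range (1 : S)
  have hcard : Nat.card TP = Nat.card TQ := by
    have h1 := hTP.card_mul_card
    have h2 := hTQ.card_mul_card
    have h3 : Nat.card P = Nat.card θ.range :=
      Nat.card_congr (MonoidHom.ofInjective hθ).toEquiv
    have h4 : 0 < Nat.card P := Nat.card_pos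
    rw [SetLike.coe_sort_coe] at h1 h2
    rw [← h3, ← h1] at h2
    exact (Nat.eq_of_mul_eq_mul_left h4 h2).symm
  obtain ⟨β⟩ : Nonempty (TP ≃ TQ) := Finite.card_eq.mp hcard
  let eP : P × TP ≃ S :=
    Equiv.ofBijective (fun x : P × TP => (x.1 : S) * (x.2 : S)) hTP
  let eQ : θ.range × TQ ≃ S :=
    Equiv.ofBijective (fun x : θ.range × TQ => (x.1 : S) * (x.2 : S)) hTQ
  let θ' : P ≃ θ.range := (MonoidHom.ofInjective hθ).toEquiv
  have heP : ∀ a : P × TP, eP a = (a.1 : S) * (a.2 : S) := fun a => rfl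
  have heQ : ∀ a : θ.range × TQ, eQ a = (a.1 : S) * (a.2 : S) := fun a => rfl
  refine ⟨eP.symm.trans ((θ'.prodCongr β).trans eQ), fun u z => ?_⟩
  have hsymm : eP.symm ((u : S) * z) = (u * (eP.symm z).1, (eP.symm z).2) := by
    apply eP.injective
    rw [Equiv.apply_symm_apply, heP]
    simp only [Subgroup.coe_mul]
    rw [mul_assoc, ← heP, Equiv.apply_symm_apply]
  simp only [Equiv.trans_apply, Equiv.prodCongr_apply, heQ, Prod.map_fst, Prod.map_snd]
  rw [hsymm]
  simp only
  have h5 : ((θ' (u * (eP.symm z).1) : θ.range) : S)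
      = θ u * ((θ' (eP.symm z).1 : θ.range) : S) := by
    show θ (u * (eP.symm z).1) = θ u * θ (eP.symm z).1
    exact θ.map_mul _ _
  rw [h5, mul_assoc]

variable {Ω : Type u} [Group Ω] {S : Subgroup Ω}

/-- The left regular representation of `S`. -/
def lam (S : Subgroup Ω) : S →* Equiv.Perm S := MulAction.toPermHom S S

@[simp] theorem lam_apply (s x : S) : lam S s x = s * x := rfl

theorem lam_injective : Function.Injective (lam S) := by
  intro a b h
  have := congrArg (fun f : Equiv.Perm S => f 1) h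
  simpa using this

/-- The image of `S` in `Perm S`. -/
def Sw (S : Subgroup Ω) : Subgroup (Equiv.Perm S) := (lam S).range

/-- The index type: all maps of the fusion system. -/
abbrev Idx (F : FusionSystem S) : Type u := Σ P : Subgroup Ω, {φ : P →* Ω // φ ∈ F.Hom P}

variable (F : FusionSystem S)

/-- The map of index `i`, as a homomorphism from a subgroup of `S` to `S`. -/
def thetaOf (i : Idx F) : (i.1.subgroupOf S) →* S :=
  (i.2.1.codRestrict S (F.le_of_mem i.2.2).2).comp
    (Subgroup.subgroupOfEquivOfLe (F.le_of_mem i.2.2).1).toMonoidHom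

theorem thetaOf_coe (i : Idx F) (u : i.1.subgroupOf S) :
    ((thetaOf F i u : S) : Ω) = i.2.1 ⟨(u : S), u.2⟩ := rfl

theorem thetaOf_injective (i : Idx F) : Function.Injective (thetaOf F i) := by
  intro a b h
  have h1 : i.2.1 ⟨(a : S), a.2⟩ = i.2.1 ⟨(b : S), b.2⟩ := by
    rw [← thetaOf_coe, ← thetaOf_coe, h]
  have := F.injective_of_mem i.2.2 h1
  apply Subtype.ext
  apply Subtype.ext
  exact congrArg (fun x : i.1 => (x : Ω)) this

/-- The source of the map of index `i`, inside `Perm S`. -/
def Pw (i : Idx F) : Subgroup (Equiv.Perm S) := (i.1.subgroupOf S).map (lam S)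

theorem Pw_le_Sw (i : Idx F) : Pw F i ≤ Sw S := by
  rintro _ ⟨u, -, rfl⟩
  exact ⟨u, rfl⟩

variable [Finite S]

/-- A permutation of `S` realising the map of index `i` by conjugation. -/
noncomputable def wOf (i : Idx F) : Equiv.Perm S :=
  Classical.choose (exists_perm_conj (i.1.subgroupOf S) (thetaOf F i) (thetaOf_injective F i))

theorem wOf_spec (i : Idx F) (u : i.1.subgroupOf S) :
    wOf F i * lam S u * (wOf F i)⁻¹ = lam S (thetaOf F i u) := by
  have h := Classical.choose_spec
    (exists_perm_conj (i.1.subgroupOf S) (thetaOf F i) (thetaOf_injective F i)) u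
  ext x
  simp only [Equiv.Perm.coe_mul, Function.comp_apply, lam_apply]
  have := h ((wOf F i)⁻¹ x)
  rw [show (Classical.choose (exists_perm_conj (i.1.subgroupOf S) (thetaOf F i)
    (thetaOf_injective F i))) = wOf F i from rfl] at this
  rw [this]
  simp

theorem wOf_spec' (i : Idx F) (u : i.1.subgroupOf S) :
    (wOf F i)⁻¹ * lam S (thetaOf F i u) * wOf F i = lam S u := by
  rw [← wOf_spec]; group

/-- The letters. -/
abbrev X : Type u := Σ i : Idx F, Equiv.Perm S ⧸ Pw F i

noncomputable instance : DecidableEq (X F) := Classical.decEq _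

omit [Finite S] in
theorem smul_X (m : Equiv.Perm S) (i : Idx F) (v : Equiv.Perm S) :
    m • (⟨i, (v : Equiv.Perm S ⧸ Pw F i)⟩ : X F) = ⟨i, ((m * v : Equiv.Perm S) : Equiv.Perm S ⧸ Pw F i)⟩ :=
  rfl


/-! ### The action on the free group and the semidirect product -/

/-- A group acting on a type acts on the free group by automorphisms. -/
def phiAct (Y : Type*) (M : Type*) [Group M] [MulAction M Y] : M →* MulAut (FreeGroup Y) where
  toFun m := FreeGroup.freeGroupCongr (MulAction.toPerm m)
  map_one' := by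
    apply MulEquiv.ext
    intro f
    show FreeGroup.map (MulAction.toPerm (1 : M)) f = f
    have : ((MulAction.toPerm (1 : M) : Equiv.Perm Y) : Y → Y) = id := by
      ext y; simp
    rw [this, FreeGroup.map.id]
  map_mul' a b := by
    apply MulEquiv.ext
    intro f
    show FreeGroup.map (MulAction.toPerm (a * b)) f =
      FreeGroup.map (MulAction.toPerm a) (FreeGroup.map (MulAction.toPerm b) f)
    rw [FreeGroup.map.comp]
    congr 1
    ext y
    simp [mul_smul]

theorem phiAct_apply {Y : Type*} {M : Type*} [Group M] [MulAction M Y] (m : M)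
    (f : FreeGroup Y) : phiAct Y M m f = FreeGroup.map (fun y => m • y) f := rfl

@[simp] theorem phiAct_of {Y : Type*} {M : Type*} [Group M] [MulAction M Y] (m : M) (y : Y) :
    phiAct Y M m (FreeGroup.of y) = FreeGroup.of (m • y) := by
  rw [phiAct_apply, FreeGroup.map.of]

theorem phiAct_mk {Y : Type*} {M : Type*} [Group M] [MulAction M Y] (m : M)
    (L : List (Y × Bool)) :
    phiAct Y M m (FreeGroup.mk L) = FreeGroup.mk (L.map (Prod.map (fun y => m • y) id)) := by
  rw [phiAct_apply, FreeGroup.map.mk]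
  rfl

theorem toWord_phiAct {Y : Type*} [DecidableEq Y] {M : Type*} [Group M] [MulAction M Y] (m : M)
    (f : FreeGroup Y) :
    toWord (phiAct Y M m f) = (toWord f).map (Prod.map (fun y => m • y) id) := by
  rw [phiAct_apply]
  exact toWord_map _ (MulAction.injective m) f

theorem norm_phiAct {Y : Type*} [DecidableEq Y] {M : Type*} [Group M] [MulAction M Y] (m : M)
    (f : FreeGroup Y) : FreeGroup.norm (phiAct Y M m f) = FreeGroup.norm f := by
  rw [phiAct_apply]
  exact norm_map _ (MulAction.injective m) f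

/-- The ambient group `FreeGroup X ⋊ Perm S`. -/
abbrev Gt : Type u := FreeGroup (X F) ⋊[phiAct (X F) (Equiv.Perm S)] Equiv.Perm S

/-- The embedding of `S`. -/
def iotaT : S →* Gt F := SemidirectProduct.inr.comp (lam S)

/-- The base letter of index `i`. -/
def x0 (i : Idx F) : X F := ⟨i, ((1 : Equiv.Perm S) : Equiv.Perm S ⧸ Pw F i)⟩

/-- The stable letter of index `i`. -/
noncomputable def tgen (i : Idx F) : Gt F :=
  SemidirectProduct.inr (wOf F i) * SemidirectProduct.inl (FreeGroup.of (x0 F i))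

/-- The Leary–Stancu group. -/
noncomputable def Gs : Subgroup (Gt F) :=
  Subgroup.closure (Set.range (iotaT F) ∪ Set.range (tgen F))

omit [Finite S] in
theorem iotaT_left (s : S) : (iotaT F s).left = 1 := rfl
omit [Finite S] in
theorem iotaT_right (s : S) : (iotaT F s).right = lam S s := rfl

theorem tgen_left (i : Idx F) : (tgen F i).left = FreeGroup.of (wOf F i • x0 F i) := by
  simp [tgen, SemidirectProduct.mul_left]

theorem tgen_right (i : Idx F) : (tgen F i).right = wOf F i := by
  simp [tgen, SemidirectProduct.mul_right]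

theorem tgen_inv_left (i : Idx F) : ((tgen F i)⁻¹).left = (FreeGroup.of (x0 F i))⁻¹ := by
  rw [SemidirectProduct.inv_left, tgen_left, tgen_right, _root_.map_inv, phiAct_of,
    inv_smul_smul]

theorem tgen_inv_right (i : Idx F) : ((tgen F i)⁻¹).right = (wOf F i)⁻¹ := by
  rw [SemidirectProduct.inv_right, tgen_right]

theorem iotaT_mem (s : S) : iotaT F s ∈ Gs F :=
  Subgroup.subset_closure (Or.inl ⟨s, rfl⟩)

theorem tgen_mem (i : Idx F) : tgen F i ∈ Gs F :=
  Subgroup.subset_closure (Or.inr ⟨i, rfl⟩)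

omit [Finite S] in
theorem lam_smul_x0 (i : Idx F) (u : i.1.subgroupOf S) : lam S u • x0 F i = x0 F i := by
  show (⟨i, ((lam S u * 1 : Equiv.Perm S) : Equiv.Perm S ⧸ Pw F i)⟩ : X F) =
    ⟨i, ((1 : Equiv.Perm S) : Equiv.Perm S ⧸ Pw F i)⟩
  congr 1
  rw [QuotientGroup.eq]
  simp only [mul_one]
  exact (Pw F i).inv_mem ⟨u, u.2, rfl⟩

/-- The stable letter of index `i` induces the map of index `i` on `S`. -/
theorem tgen_conj (i : Idx F) (u : i.1.subgroupOf S) :
    tgen F i * iotaT F u * (tgen F i)⁻¹ = iotaT F (thetaOf F i u) := by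
  have hcomm : (SemidirectProduct.inl (FreeGroup.of (x0 F i)) : Gt F) *
      SemidirectProduct.inr (lam S u) =
      SemidirectProduct.inr (lam S u) * SemidirectProduct.inl (FreeGroup.of (x0 F i)) := by
    have h := SemidirectProduct.inl_aut (φ := phiAct (X F) (Equiv.Perm S)) (lam S u)
      (FreeGroup.of (x0 F i))
    rw [phiAct_of, lam_smul_x0] at h
    rw [_root_.map_inv] at h
    conv_lhs => rw [h]
    group
  unfold tgen iotaT
  simp only [MonoidHom.comp_apply, mul_inv_rev]
  rw [mul_assoc (SemidirectProduct.inr (wOf F i)), hcomm]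
  rw [← wOf_spec, _root_.map_mul, _root_.map_mul, _root_.map_inv]
  group


/-! ### The chain invariant -/

omit [Finite S] in
theorem mk_eq_mk_Sw {a b : Equiv.Perm S} :
    ((a : Equiv.Perm S) : Equiv.Perm S ⧸ Sw S) = (b : Equiv.Perm S ⧸ Sw S) ↔
      ∃ s : S, b = a * lam S s := by
  rw [QuotientGroup.eq]
  constructor
  · rintro ⟨s, hs⟩
    exact ⟨s, by rw [hs]; group⟩
  · rintro ⟨s, rfl⟩
    exact ⟨s, by group⟩

/-- The natural map from cosets of the source of the map of index `i` to cosets of `S`. -/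
def proj (i : Idx F) : Equiv.Perm S ⧸ Pw F i → Equiv.Perm S ⧸ Sw S :=
  Subgroup.quotientMapOfLE (Pw_le_Sw F i)

/-- The twisted map `v P_i ↦ v w_i⁻¹ S`. -/
noncomputable def projw (i : Idx F) : Equiv.Perm S ⧸ Pw F i → Equiv.Perm S ⧸ Sw S :=
  Quotient.map' (fun v => v * (wOf F i)⁻¹) (by
    intro a b hab
    rw [QuotientGroup.leftRel_apply] at hab ⊢
    obtain ⟨u, hu, hu'⟩ := hab
    refine ⟨thetaOf F i ⟨u, hu⟩, ?_⟩
    rw [← wOf_spec]
    rw [hu']
    group)

omit [Finite S] in
theorem proj_mk (i : Idx F) (v : Equiv.Perm S) :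
    proj F i (v : Equiv.Perm S ⧸ Pw F i) = (v : Equiv.Perm S ⧸ Sw S) := rfl

theorem projw_mk (i : Idx F) (v : Equiv.Perm S) :
    projw F i (v : Equiv.Perm S ⧸ Pw F i) = ((v * (wOf F i)⁻¹ : Equiv.Perm S) : Equiv.Perm S ⧸ Sw S) :=
  rfl

omit [Finite S] in
theorem proj_smul (i : Idx F) (m : Equiv.Perm S) (c : Equiv.Perm S ⧸ Pw F i) :
    proj F i (m • c) = m • proj F i c := by
  induction c using QuotientGroup.induction_on with
  | H v => rfl

theorem projw_smul (i : Idx F) (m : Equiv.Perm S) (c : Equiv.Perm S ⧸ Pw F i) :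
    projw F i (m • c) = m • projw F i c := by
  induction c using QuotientGroup.induction_on with
  | H v =>
    show ((m * v * (wOf F i)⁻¹ : Equiv.Perm S) : Equiv.Perm S ⧸ Sw S) =
      ((m * (v * (wOf F i)⁻¹) : Equiv.Perm S) : Equiv.Perm S ⧸ Sw S)
    rw [mul_assoc]

/-- The coset at which a letter starts. -/
noncomputable def inC (y : X F × Bool) : Equiv.Perm S ⧸ Sw S :=
  if y.2 then projw F y.1.1 y.1.2 else proj F y.1.1 y.1.2

/-- The coset at which a letter ends. -/
noncomputable def outC (y : X F × Bool) : Equiv.Perm S ⧸ Sw S :=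
  if y.2 then proj F y.1.1 y.1.2 else projw F y.1.1 y.1.2

theorem inC_linv (y : X F × Bool) : inC F (linv y) = outC F y := by
  obtain ⟨x, b⟩ := y
  cases b <;> simp [inC, outC, linv]

theorem outC_linv (y : X F × Bool) : outC F (linv y) = inC F y := by
  obtain ⟨x, b⟩ := y
  cases b <;> simp [inC, outC, linv]

/-- The action of `Perm S` on letters. -/
def lsmul (m : Equiv.Perm S) (y : X F × Bool) : X F × Bool := Prod.map (fun x => m • x) id y

theorem inC_smul (m : Equiv.Perm S) (y : X F × Bool) : inC F (lsmul F m y) = m • inC F y := by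
  obtain ⟨⟨i, c⟩, b⟩ := y
  cases b
  · exact proj_smul F i m c
  · exact projw_smul F i m c

theorem outC_smul (m : Equiv.Perm S) (y : X F × Bool) : outC F (lsmul F m y) = m • outC F y := by
  obtain ⟨⟨i, c⟩, b⟩ := y
  cases b
  · exact projw_smul F i m c
  · exact proj_smul F i m c

/-- A word is a chain from the coset `a` to the coset `b`. -/
def Chain : Equiv.Perm S ⧸ Sw S → List (X F × Bool) → Equiv.Perm S ⧸ Sw S → Prop
  | a, [], b => a = b
  | a, y :: L, b => inC F y = a ∧ Chain (outC F y) L b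

theorem chain_nil {a b : Equiv.Perm S ⧸ Sw S} : Chain F a [] b ↔ a = b := Iff.rfl

theorem chain_cons {a b : Equiv.Perm S ⧸ Sw S} {y : X F × Bool} {L : List (X F × Bool)} :
    Chain F a (y :: L) b ↔ inC F y = a ∧ Chain F (outC F y) L b := Iff.rfl

theorem chain_append {a b : Equiv.Perm S ⧸ Sw S} {L₁ L₂ : List (X F × Bool)} :
    Chain F a (L₁ ++ L₂) b ↔ ∃ c, Chain F a L₁ c ∧ Chain F c L₂ b := by
  induction L₁ generalizing a with
  | nil =>
    simp only [List.nil_append, chain_nil]
    constructor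
    · intro h; exact ⟨a, rfl, h⟩
    · rintro ⟨c, rfl, h⟩; exact h
  | cons y L ih =>
    simp only [List.cons_append, chain_cons, ih]
    constructor
    · rintro ⟨h1, c, h2, h3⟩; exact ⟨c, ⟨h1, h2⟩, h3⟩
    · rintro ⟨c, ⟨h1, h2⟩, h3⟩; exact ⟨h1, c, h2, h3⟩

theorem chain_smul (m : Equiv.Perm S) {a b : Equiv.Perm S ⧸ Sw S} {L : List (X F × Bool)}
    (h : Chain F a L b) : Chain F (m • a) (L.map (lsmul F m)) (m • b) := by
  induction L generalizing a with
  | nil =>
    rw [chain_nil] at h
    subst h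
    exact rfl
  | cons y L ih =>
    rw [chain_cons] at h
    simp only [List.map_cons]
    rw [chain_cons]
    refine ⟨?_, ?_⟩
    · rw [inC_smul, h.1]
    · rw [outC_smul]
      exact ih h.2

/-- Multiplying a chain by a letter on the right, and reducing. -/
theorem chain_reduce_append {a₀ a : Equiv.Perm S ⧸ Sw S} {L : List (X F × Bool)}
    (hL : FreeGroup.IsReduced L) (h : Chain F a₀ L a) (y : X F × Bool) (hy : inC F y = a) :
    Chain F a₀ (reduce (L ++ [y])) (outC F y) := by
  rcases reduce_append_singleton hL y with ⟨-, h1⟩ | ⟨L', h1, h2⟩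
  · rw [h1, chain_append]
    exact ⟨a, h, hy, rfl⟩
  · rw [h2]
    subst h1
    rw [chain_append] at h
    obtain ⟨c, hc, h3, h4⟩ := h
    rw [inC_linv] at h3
    rw [h3]
    exact hc

/-- The invariant satisfied by the elements of the Leary–Stancu group. -/
def Good (g : Gt F) : Prop :=
  Chain F ((1 : Equiv.Perm S) : Equiv.Perm S ⧸ Sw S) (toWord g.left)
    ((g.right : Equiv.Perm S) : Equiv.Perm S ⧸ Sw S)

theorem good_of_mem {g : Gt F} (hg : g ∈ Gs F) : Good F g := by
  unfold Gs at hg
  induction hg using Subgroup.closure_induction_right with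
  | one =>
    show Chain F _ (toWord (1 : FreeGroup (X F))) _
    rw [toWord_one]
    exact rfl
  | mul_right x hx y hy ih =>
    rcases hy with ⟨s, rfl⟩ | ⟨i, rfl⟩
    · unfold Good at ih ⊢
      have h1 : (x * iotaT F s).left = x.left := by
        rw [SemidirectProduct.mul_left, iotaT_left, _root_.map_one, mul_one]
      have h2 : (((x * iotaT F s).right : Equiv.Perm S) : Equiv.Perm S ⧸ Sw S) =
          ((x.right : Equiv.Perm S) : Equiv.Perm S ⧸ Sw S) := by
        rw [SemidirectProduct.mul_right, iotaT_right]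
        exact (mk_eq_mk_Sw.mpr ⟨s, rfl⟩).symm
      rw [h1, h2]
      exact ih
    · unfold Good at ih ⊢
      obtain ⟨y, hy⟩ : ∃ y : X F × Bool,
          y = (⟨i, ((x.right * wOf F i : Equiv.Perm S) : Equiv.Perm S ⧸ Pw F i)⟩, true) :=
        ⟨_, rfl⟩
      have h1 : (x * tgen F i).left = x.left * mk [y] := by
        rw [SemidirectProduct.mul_left, tgen_left, phiAct_of, hy]
        rfl
      have h2 : (x * tgen F i).right = x.right * wOf F i := by
        rw [SemidirectProduct.mul_right, tgen_right]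
      have hin : inC F y = ((x.right : Equiv.Perm S) : Equiv.Perm S ⧸ Sw S) := by
        rw [hy]
        show ((x.right * wOf F i * (wOf F i)⁻¹ : Equiv.Perm S) : Equiv.Perm S ⧸ Sw S) = _
        rw [mul_inv_cancel_right]
      have hout : outC F y = ((x.right * wOf F i : Equiv.Perm S) : Equiv.Perm S ⧸ Sw S) := by
        rw [hy]; rfl
      rw [h1, h2, toWord_mul, ← hout]
      have : toWord (mk [y] : FreeGroup (X F)) = [y] := by
        rw [toWord_mk]; rfl
      rw [this]
      exact chain_reduce_append F isReduced_toWord ih y hin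
  | mul_inv_cancel x hx y hy ih =>
    rcases hy with ⟨s, rfl⟩ | ⟨i, rfl⟩
    · unfold Good at ih ⊢
      have h1 : (x * (iotaT F s)⁻¹).left = x.left := by
        rw [← _root_.map_inv, SemidirectProduct.mul_left, iotaT_left, _root_.map_one, mul_one]
      have h2 : (((x * (iotaT F s)⁻¹).right : Equiv.Perm S) : Equiv.Perm S ⧸ Sw S) =
          ((x.right : Equiv.Perm S) : Equiv.Perm S ⧸ Sw S) := by
        rw [← _root_.map_inv, SemidirectProduct.mul_right, iotaT_right]
        exact (mk_eq_mk_Sw.mpr ⟨s⁻¹, rfl⟩).symm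
      rw [h1, h2]
      exact ih
    · unfold Good at ih ⊢
      obtain ⟨y, hy⟩ : ∃ y : X F × Bool,
          y = (⟨i, ((x.right : Equiv.Perm S) : Equiv.Perm S ⧸ Pw F i)⟩, false) :=
        ⟨_, rfl⟩
      have h1 : (x * (tgen F i)⁻¹).left = x.left * mk [y] := by
        rw [SemidirectProduct.mul_left, tgen_inv_left, _root_.map_inv, phiAct_of, hy]
        have : x.right • x0 F i = ⟨i, ((x.right : Equiv.Perm S) : Equiv.Perm S ⧸ Pw F i)⟩ := by
          show (⟨i, ((x.right * 1 : Equiv.Perm S) : Equiv.Perm S ⧸ Pw F i)⟩ : X F) = _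
          rw [mul_one]
        rw [this, FreeGroup.of, inv_mk]
        rfl
      have h2 : (x * (tgen F i)⁻¹).right = x.right * (wOf F i)⁻¹ := by
        rw [SemidirectProduct.mul_right, tgen_inv_right]
      have hin : inC F y = ((x.right : Equiv.Perm S) : Equiv.Perm S ⧸ Sw S) := by
        rw [hy]; rfl
      have hout : outC F y =
          ((x.right * (wOf F i)⁻¹ : Equiv.Perm S) : Equiv.Perm S ⧸ Sw S) := by
        rw [hy]; rfl
      rw [h1, h2, toWord_mul, ← hout]
      have : toWord (mk [y] : FreeGroup (X F)) = [y] := by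
        rw [toWord_mk]; rfl
      rw [this]
      exact chain_reduce_append F isReduced_toWord ih y hin

/-- An element of the Leary–Stancu group lying in `Perm S` lies in `S`. -/
theorem right_mem_Sw_of_left_eq_one {g : Gt F} (hg : g ∈ Gs F) (h1 : g.left = 1) :
    g.right ∈ Sw S := by
  have := good_of_mem F hg
  unfold Good at this
  rw [h1, toWord_one, chain_nil, mk_eq_mk_Sw] at this
  obtain ⟨s, hs⟩ := this
  exact ⟨s, by rw [hs, one_mul]⟩

/-- Every letter starting at the base coset is the free part of an element of the group. -/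
theorem first_letter (y : X F × Bool)
    (hy : inC F y = ((1 : Equiv.Perm S) : Equiv.Perm S ⧸ Sw S)) :
    ∃ w : Equiv.Perm S, (⟨mk [y], w⟩ : Gt F) ∈ Gs F := by
  obtain ⟨⟨i, c⟩, b⟩ := y
  induction c using QuotientGroup.induction_on with
  | H v =>
    cases b with
    | true =>
      have h1 : ((v * (wOf F i)⁻¹ : Equiv.Perm S) : Equiv.Perm S ⧸ Sw S) =
          ((1 : Equiv.Perm S) : Equiv.Perm S ⧸ Sw S) := hy
      obtain ⟨s, hs⟩ := mk_eq_mk_Sw.mp h1.symm
      rw [one_mul] at hs
      refine ⟨v, ?_⟩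
      have : (⟨mk [(⟨i, (v : Equiv.Perm S ⧸ Pw F i)⟩, true)], v⟩ : Gt F) =
          iotaT F s * tgen F i := by
        ext
        · rw [SemidirectProduct.mul_left, iotaT_left, one_mul, iotaT_right, tgen_left, phiAct_of]
          show FreeGroup.of (⟨i, (v : Equiv.Perm S ⧸ Pw F i)⟩ : X F) = _
          congr 1
          show (⟨i, (v : Equiv.Perm S ⧸ Pw F i)⟩ : X F) =
            ⟨i, ((lam S s * (wOf F i * 1) : Equiv.Perm S) : Equiv.Perm S ⧸ Pw F i)⟩
          rw [mul_one, ← hs, inv_mul_cancel_right]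
        · rw [SemidirectProduct.mul_right, iotaT_right, tgen_right, ← hs, inv_mul_cancel_right]
      rw [this]
      exact (Gs F).mul_mem (iotaT_mem F s) (tgen_mem F i)
    | false =>
      have h1 : ((v : Equiv.Perm S) : Equiv.Perm S ⧸ Sw S) =
          ((1 : Equiv.Perm S) : Equiv.Perm S ⧸ Sw S) := hy
      obtain ⟨s, hs⟩ := mk_eq_mk_Sw.mp h1.symm
      rw [one_mul] at hs
      refine ⟨v * (wOf F i)⁻¹, ?_⟩
      have : (⟨mk [(⟨i, (v : Equiv.Perm S ⧸ Pw F i)⟩, false)], v * (wOf F i)⁻¹⟩ : Gt F) =
          iotaT F s * (tgen F i)⁻¹ := by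
        ext
        · rw [SemidirectProduct.mul_left, iotaT_left, one_mul, iotaT_right, tgen_inv_left,
            _root_.map_inv, phiAct_of]
          show _ = (FreeGroup.of (⟨i, ((lam S s * 1 : Equiv.Perm S) : Equiv.Perm S ⧸ Pw F i)⟩ : X F))⁻¹
          rw [mul_one, ← hs, FreeGroup.of, inv_mk]
          rfl
        · rw [SemidirectProduct.mul_right, iotaT_right, tgen_inv_right, ← hs]
      rw [this]
      exact (Gs F).mul_mem (iotaT_mem F s) ((Gs F).inv_mem (tgen_mem F i))

end Cfsg.H5.LS
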