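import Mathlib
import Cfsg.Prelude.Def_FusionSystem
import Cfsg.Agent.H5.LSGroup
import Cfsg.Agent.Lib.Helper27.FusionBasic

/-!
# The Leary–Stancu group realises the fusion system
-/

set_option autoImplicit false

namespace Cfsg.H5.LS

open FreeGroup Cfsg Cfsg.Agent.Lib.Helper27

universe u

variable {Ω : Type u} [Group Ω] {S : Subgroup Ω} (F : FusionSystem S) [Finite S]

omit [Finite S] in
theorem lam_conj (a b : S) : lam S a * lam S b * (lam S a)⁻¹ = lam S (a * b * a⁻¹) := by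
  rw [_root_.map_mul, _root_.map_mul, _root_.map_inv]

omit [Finite S] in
theorem sigma_snd_eq {i : Idx F} {a b : Equiv.Perm S ⧸ Pw F i}
    (h : (⟨i, a⟩ : X F) = ⟨i, b⟩) : a = b :=
  eq_of_heq (Sigma.mk.inj_iff.mp h).2

/-- The key induction: conjugation by the `Perm S`-part of an element of the group, on a subgroup
fixing all the letters of its free part, is a map of the fusion system. -/
theorem fus_aux : ∀ (n : ℕ) (L : List (X F × Bool)), L.length = n → ∀ (w : Equiv.Perm S),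
    Chain F ((1 : Equiv.Perm S) : Equiv.Perm S ⧸ Sw S) L (w : Equiv.Perm S ⧸ Sw S) →
    ∀ (P : Subgroup Ω) (hP : P ≤ S) (ψ : P →* Ω) (hψ : ∀ x : P, ψ x ∈ S),
    (∀ x : P, w⁻¹ * lam S ⟨x, hP x.2⟩ * w = lam S ⟨ψ x, hψ x⟩) →
    (∀ x : P, ∀ y ∈ L, lam S ⟨x, hP x.2⟩ • y.1 = y.1) → ψ ∈ F.Hom P := by
  intro n
  induction n with
  | zero =>
    intro L hL w hch P hP ψ hψ hconj _
    obtain rfl := List.length_eq_zero_iff.mp hL
    rw [chain_nil, mk_eq_mk_Sw] at hch
    obtain ⟨σ, hσ⟩ := hch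
    rw [one_mul] at hσ
    have h1 : ∀ x : P, ψ x = (σ⁻¹ : S) * (x : Ω) * ((σ⁻¹ : S) : Ω)⁻¹ := by
      intro x
      have h2 := hconj x
      rw [hσ] at h2
      have h3 : (lam S σ)⁻¹ * lam S ⟨x, hP x.2⟩ * lam S σ =
          lam S (σ⁻¹ * ⟨x, hP x.2⟩ * σ) := by
        rw [_root_.map_mul, _root_.map_mul, _root_.map_inv]
      rw [h3] at h2
      have h4 := lam_injective h2
      have h5 := congrArg (fun s : S => (s : Ω)) h4
      simp only [Subgroup.coe_mul, Subgroup.coe_inv] at h5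
      rw [← h5]
      simp
    have h6 : ψ = conjHom P ((σ⁻¹ : S) : Ω) := by
      ext x
      rw [h1 x]
      rfl
    rw [h6]
    exact F.conj_mem hP (σ⁻¹).2
  | succ n ih =>
    intro L₀ hL₀ w hch P hP ψ hψ hconj hfix
    obtain ⟨y, L, rfl⟩ : ∃ y L, L₀ = y :: L := by
      cases L₀ with
      | nil => simp at hL₀
      | cons y L => exact ⟨y, L, rfl⟩
    have hLn : L.length = n := by simpa using hL₀
    obtain ⟨⟨i, c⟩, b⟩ := y
    induction c using QuotientGroup.induction_on with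
    | H v =>
    rw [chain_cons] at hch
    obtain ⟨hin, hch'⟩ := hch
    have hS1 : i.1 ≤ S := (F.le_of_mem i.2.2).1
    have hS2 : ∀ x : i.1, i.2.1 x ∈ S := (F.le_of_mem i.2.2).2
    -- `P` fixes the first letter
    have hfix1 : ∀ x : P, ∃ u : i.1.subgroupOf S, lam S u = v⁻¹ * lam S ⟨x, hP x.2⟩ * v := by
      intro x
      have h1 := hfix x (⟨i, (v : Equiv.Perm S ⧸ Pw F i)⟩, b) (List.mem_cons_self ..)
      have h2 : ((lam S ⟨x, hP x.2⟩ * v : Equiv.Perm S) : Equiv.Perm S ⧸ Pw F i) =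
          (v : Equiv.Perm S ⧸ Pw F i) := sigma_snd_eq F h1
      rw [QuotientGroup.eq] at h2
      have h3 := (Pw F i).inv_mem h2
      obtain ⟨u, hu, hu'⟩ := h3
      refine ⟨⟨u, hu⟩, ?_⟩
      rw [hu']
      group
    have hfixL : ∀ x : P, ∀ y ∈ L, lam S ⟨x, hP x.2⟩ • y.1 = y.1 :=
      fun x y hy => hfix x y (List.mem_cons_of_mem _ hy)
    cases b with
    | true =>
      -- positive letter: `v = σ w_i`
      have hin' : ((v * (wOf F i)⁻¹ : Equiv.Perm S) : Equiv.Perm S ⧸ Sw S) =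
          ((1 : Equiv.Perm S) : Equiv.Perm S ⧸ Sw S) := hin
      obtain ⟨s, hs⟩ := mk_eq_mk_Sw.mp hin'
      obtain ⟨σ, hσ⟩ : ∃ σ : S, σ = s⁻¹ := ⟨_, rfl⟩
      have hv : v = lam S σ * wOf F i := by
        rw [hσ, _root_.map_inv]
        have : v * (wOf F i)⁻¹ = (lam S s)⁻¹ := by
          rw [eq_inv_iff_mul_eq_one, ← hs]
        rw [← this]
        group
      have hch'' : Chain F ((1 : Equiv.Perm S) : Equiv.Perm S ⧸ Sw S) (L.map (lsmul F v⁻¹))
          ((v⁻¹ * w : Equiv.Perm S) : Equiv.Perm S ⧸ Sw S) := by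
        have := chain_smul F v⁻¹ hch'
        have h0 : v⁻¹ • outC F (⟨i, (v : Equiv.Perm S ⧸ Pw F i)⟩, true) =
            ((1 : Equiv.Perm S) : Equiv.Perm S ⧸ Sw S) := by
          show ((v⁻¹ * v : Equiv.Perm S) : Equiv.Perm S ⧸ Sw S) = _
          rw [inv_mul_cancel]
        rw [h0] at this
        exact this
      -- the map `κ : u ↦ σ φ_i(u) σ⁻¹`
      have hκ : (conjHom S (σ : Ω)).comp (i.2.1.codRestrict S hS2) ∈ F.Hom i.1 :=
        F.comp_mem i.2.2 (F.conj_mem le_rfl σ.2) hS2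
      obtain ⟨κ, hκdef⟩ : ∃ κ : i.1 →* Ω, κ = (conjHom S (σ : Ω)).comp (i.2.1.codRestrict S hS2) :=
        ⟨_, rfl⟩
      rw [← hκdef] at hκ
      have hκa : ∀ u : i.1, κ u = (σ : Ω) * i.2.1 u * (σ : Ω)⁻¹ := by
        intro u; rw [hκdef]; rfl
      obtain ⟨P₂, hP₂def⟩ : ∃ P₂ : Subgroup Ω, P₂ = (P.comap κ).map i.1.subtype := ⟨_, rfl⟩
      have hP₂i : P₂ ≤ i.1 := by rw [hP₂def]; exact Subgroup.map_subtype_le _
      have hP₂S : P₂ ≤ S := le_trans hP₂i hS1
      have hκ₂ : κ.comp (Subgroup.inclusion hP₂i) ∈ F.Hom P₂ := hom_restrict F hP₂i hκ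
      have hmemP : ∀ u : P₂, κ ⟨u, hP₂i u.2⟩ ∈ P := by
        intro u
        obtain ⟨u', hu', hu''⟩ : (u : Ω) ∈ Subgroup.map i.1.subtype (P.comap κ) := by
          rw [← hP₂def]; exact u.2
        have : (⟨u, hP₂i u.2⟩ : i.1) = u' := Subtype.ext hu''.symm
        rw [this]
        exact hu'
      -- key relation on the first letter
      have hkey0 : ∀ (u : i.1.subgroupOf S),
          v * lam S u * v⁻¹ = lam S (σ * thetaOf F i u * σ⁻¹) := by
        intro u
        rw [hv, ← lam_conj, ← wOf_spec]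
        group
      have hrange : (κ.comp (Subgroup.inclusion hP₂i)).range = P := by
        apply le_antisymm
        · rintro _ ⟨u, rfl⟩
          exact hmemP u
        · intro x hx
          obtain ⟨u, hu⟩ := hfix1 ⟨x, hx⟩
          have h1 : v * lam S u * v⁻¹ = lam S ⟨x, hP hx⟩ := by rw [hu]; group
          rw [hkey0] at h1
          have h2 := congrArg (fun s : S => (s : Ω)) (lam_injective h1)
          simp only [Subgroup.coe_mul, Subgroup.coe_inv, thetaOf_coe] at h2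
          have h3 : κ ⟨(u : S), u.2⟩ = x := by rw [hκa]; exact h2
          have h4 : ((u : S) : Ω) ∈ P₂ := by
            rw [hP₂def]
            refine ⟨⟨(u : S), u.2⟩, ?_, rfl⟩
            show κ ⟨(u : S), u.2⟩ ∈ P
            rw [h3]; exact hx
          exact ⟨⟨((u : S) : Ω), h4⟩, h3⟩
      obtain ⟨e, he, hee⟩ := exists_isIso_of_hom F hκ₂ hrange
      have hee' : ∀ u : P₂, ((e u : P) : Ω) = (σ : Ω) * i.2.1 ⟨u, hP₂i u.2⟩ * (σ : Ω)⁻¹ := by
        intro u
        rw [hee u]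
        exact hκa _
      have hkey : ∀ u : P₂, v * lam S ⟨u, hP₂S u.2⟩ * v⁻¹ = lam S ⟨(e u : P), hP (e u).2⟩ := by
        intro u
        have := hkey0 ⟨⟨u, hP₂S u.2⟩, hP₂i u.2⟩
        rw [this]
        congr 1
        apply Subtype.ext
        simp only [Subgroup.coe_mul, Subgroup.coe_inv, thetaOf_coe]
        rw [hee']
      have hψ₂ : ∀ u : P₂, (ψ.comp e.toMonoidHom) u ∈ S := fun u => hψ (e u)
      have hmem₂ : ψ.comp e.toMonoidHom ∈ F.Hom P₂ := by
        apply ih (L.map (lsmul F v⁻¹)) (by rw [List.length_map, hLn]) (v⁻¹ * w) hch'' P₂ hP₂S _ hψ₂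
        · intro u
          have h1 := hconj (e u)
          have h2 := hkey u
          show (v⁻¹ * w)⁻¹ * lam S ⟨u, hP₂S u.2⟩ * (v⁻¹ * w) = lam S ⟨ψ (e u), hψ (e u)⟩
          rw [← h1, ← h2]
          group
        · intro u y hy
          rw [List.mem_map] at hy
          obtain ⟨y₀, hy₀, rfl⟩ := hy
          have h1 := hfixL (e u) y₀ hy₀
          have h2 := hkey u
          show lam S ⟨u, hP₂S u.2⟩ • (v⁻¹ • y₀.1) = v⁻¹ • y₀.1
          rw [smul_smul]
          have : lam S ⟨u, hP₂S u.2⟩ * v⁻¹ = v⁻¹ * lam S ⟨(e u : P), hP (e u).2⟩ := by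
            rw [← h2]; group
          rw [this, ← smul_smul, h1]
      have := he.symm.comp_hom hmem₂
      convert this using 1
      ext x
      simp
    | false =>
      have hin' : ((v : Equiv.Perm S) : Equiv.Perm S ⧸ Sw S) =
          ((1 : Equiv.Perm S) : Equiv.Perm S ⧸ Sw S) := hin
      obtain ⟨s, hs⟩ := mk_eq_mk_Sw.mp hin'
      obtain ⟨σ, hσ⟩ : ∃ σ : S, σ = s⁻¹ := ⟨_, rfl⟩
      have hv : v = lam S σ := by
        rw [hσ, _root_.map_inv, eq_inv_iff_mul_eq_one, ← hs]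
      obtain ⟨m, hm⟩ : ∃ m : Equiv.Perm S, m = (v * (wOf F i)⁻¹)⁻¹ := ⟨_, rfl⟩
      have hch'' : Chain F ((1 : Equiv.Perm S) : Equiv.Perm S ⧸ Sw S) (L.map (lsmul F m))
          ((m * w : Equiv.Perm S) : Equiv.Perm S ⧸ Sw S) := by
        have := chain_smul F m hch'
        have h0 : m • outC F (⟨i, (v : Equiv.Perm S ⧸ Pw F i)⟩, false) =
            ((1 : Equiv.Perm S) : Equiv.Perm S ⧸ Sw S) := by
          show ((m * (v * (wOf F i)⁻¹) : Equiv.Perm S) : Equiv.Perm S ⧸ Sw S) = _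
          rw [hm, inv_mul_cancel]
        rw [h0] at this
        exact this
      -- `σ⁻¹ x σ ∈ P_i` for `x ∈ P`
      have hmem : ∀ x : P, conjHom P ((σ⁻¹ : S) : Ω) x ∈ i.1 := by
        intro x
        obtain ⟨u, hu⟩ := hfix1 x
        have h1 : lam S u = lam S (σ⁻¹ * ⟨x, hP x.2⟩ * σ) := by
          rw [hu, hv, _root_.map_mul, _root_.map_mul, _root_.map_inv]
        have h2 := congrArg (fun s : S => (s : Ω)) (lam_injective h1)
        simp only [Subgroup.coe_mul, Subgroup.coe_inv] at h2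
        have h3 : conjHom P ((σ⁻¹ : S) : Ω) x = ((u : S) : Ω) := by
          rw [h2]
          simp [conjHom]
        rw [h3]
        exact u.2
      have hη : i.2.1.comp ((conjHom P ((σ⁻¹ : S) : Ω)).codRestrict i.1 hmem) ∈ F.Hom P :=
        F.comp_mem (F.conj_mem hP (σ⁻¹).2) i.2.2 hmem
      obtain ⟨η, hηdef⟩ : ∃ η : P →* Ω,
          η = i.2.1.comp ((conjHom P ((σ⁻¹ : S) : Ω)).codRestrict i.1 hmem) := ⟨_, rfl⟩
      rw [← hηdef] at hη
      obtain ⟨e, he, hee⟩ := exists_isIso_of_hom F hη rfl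
      have hP₂S : η.range ≤ S := hom_range_le F hη
      -- key relation
      have hkey : ∀ x : P, m⁻¹ * lam S ⟨(e x : η.range), hP₂S (e x).2⟩ * m =
          lam S ⟨x, hP x.2⟩ := by
        intro x
        obtain ⟨u, hu⟩ : ∃ u : i.1.subgroupOf S,
            ((u : S) : Ω) = conjHom P ((σ⁻¹ : S) : Ω) x :=
          ⟨⟨⟨conjHom P ((σ⁻¹ : S) : Ω) x, hS1 (hmem x)⟩, hmem x⟩, rfl⟩
        have h1 : (⟨(e x : η.range), hP₂S (e x).2⟩ : S) = thetaOf F i u := by
          apply Subtype.ext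
          rw [thetaOf_coe]
          show ((e x : η.range) : Ω) = _
          rw [hee x, hηdef]
          show i.2.1 _ = i.2.1 _
          congr 1
          apply Subtype.ext
          exact hu.symm
        rw [h1, hm, inv_inv, mul_inv_rev, inv_inv]
        have h2 := wOf_spec' F i u
        have h3 : v * (wOf F i)⁻¹ * lam S (thetaOf F i u) * (wOf F i * v⁻¹) =
            v * ((wOf F i)⁻¹ * lam S (thetaOf F i u) * wOf F i) * v⁻¹ := by group
        rw [h3, h2, hv, lam_conj]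
        congr 1
        apply Subtype.ext
        simp only [Subgroup.coe_mul, Subgroup.coe_inv]
        rw [hu]
        simp only [conjHom, MonoidHom.coe_comp, MulEquiv.coe_toMonoidHom, Subgroup.coe_subtype,
          Function.comp_apply, MulAut.conj_apply, Subgroup.coe_inv, inv_inv]
        group
      have hψ₂ : ∀ u : η.range, (ψ.comp e.symm.toMonoidHom) u ∈ S := fun u => hψ (e.symm u)
      have hmem₂ : ψ.comp e.symm.toMonoidHom ∈ F.Hom η.range := by
        apply ih (L.map (lsmul F m)) (by rw [List.length_map, hLn]) (m * w) hch'' η.range hP₂S _ hψ₂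
        · intro u
          have h1 := hconj (e.symm u)
          have h2 := hkey (e.symm u)
          rw [MulEquiv.apply_symm_apply] at h2
          show (m * w)⁻¹ * lam S ⟨u, hP₂S u.2⟩ * (m * w) =
            lam S ⟨ψ (e.symm u), hψ (e.symm u)⟩
          rw [← h1, ← h2]
          group
        · intro u y hy
          rw [List.mem_map] at hy
          obtain ⟨y₀, hy₀, rfl⟩ := hy
          have h1 := hfixL (e.symm u) y₀ hy₀
          have h2 := hkey (e.symm u)
          rw [MulEquiv.apply_symm_apply] at h2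
          show lam S ⟨u, hP₂S u.2⟩ • (m • y₀.1) = m • y₀.1
          rw [smul_smul]
          have : lam S ⟨u, hP₂S u.2⟩ * m = m * lam S ⟨(e.symm u : P), hP (e.symm u).2⟩ := by
            rw [← h2]; group
          rw [this, ← smul_smul, h1]
      have := he.comp_hom hmem₂
      convert this using 1
      ext x
      simp

theorem fus (L : List (X F × Bool)) (w : Equiv.Perm S)
    (hch : Chain F ((1 : Equiv.Perm S) : Equiv.Perm S ⧸ Sw S) L (w : Equiv.Perm S ⧸ Sw S))
    (P : Subgroup Ω) (hP : P ≤ S) (ψ : P →* Ω) (hψ : ∀ x : P, ψ x ∈ S)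
    (hconj : ∀ x : P, w⁻¹ * lam S ⟨x, hP x.2⟩ * w = lam S ⟨ψ x, hψ x⟩)
    (hfix : ∀ x : P, ∀ y ∈ L, lam S ⟨x, hP x.2⟩ • y.1 = y.1) : ψ ∈ F.Hom P :=
  fus_aux F L.length L rfl w hch P hP ψ hψ hconj hfix

end Cfsg.H5.LS
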