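import Mathlib
import Cfsg.Agent.H5.LSWord

/-!
# A fixed point theorem for finite groups acting on the Cayley tree of a free group
-/

set_option autoImplicit false

namespace Cfsg.H5.LS

open FreeGroup

variable {X : Type*} [DecidableEq X]

/-- The tree distance on a free group. -/
def tdist (u v : FreeGroup X) : ℕ := FreeGroup.norm (u⁻¹ * v)

theorem tdist_comm (u v : FreeGroup X) : tdist u v = tdist v u := by
  unfold tdist
  rw [← FreeGroup.norm_inv_eq]
  simp

theorem tdist_left_mul (m u v : FreeGroup X) : tdist (m * u) (m * v) = tdist u v := by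
  unfold tdist
  congr 1
  group

theorem tdist_eq_zero {u v : FreeGroup X} : tdist u v = 0 ↔ u = v := by
  unfold tdist
  rw [FreeGroup.norm_eq_zero, inv_mul_eq_one]

omit [DecidableEq X] in
theorem mk_cons (y : X × Bool) (L : List (X × Bool)) : mk (y :: L) = mk [y] * mk L := by
  rw [mul_mk]; rfl

/-- The key inequality: moving one step from `u` towards `v` decreases the distance to the farther
of the two from any third point. Stated in coordinates centred at the intermediate vertex. -/
theorem midpoint_ineq {y y₂ : X × Bool} {L : List (X × Bool)}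
    (h : FreeGroup.IsReduced (y :: y₂ :: L)) (o : FreeGroup X) :
    FreeGroup.norm o + 1 ≤
      max (FreeGroup.norm (mk [y] * o)) (FreeGroup.norm ((mk (y₂ :: L))⁻¹ * o)) := by
  have hyy : y ≠ linv y₂ := (isReduced_cons_iff.mp h).1
  have hL : FreeGroup.IsReduced (y₂ :: L) := (isReduced_cons_iff.mp h).2
  obtain ⟨Z, hZ⟩ : ∃ Z, Z = toWord o := ⟨_, rfl⟩
  have hZr : FreeGroup.IsReduced Z := hZ ▸ isReduced_toWord
  have ho : o = mk Z := by rw [hZ, mk_toWord]
  have hno : FreeGroup.norm o = Z.length := by rw [FreeGroup.norm, hZ]
  have hy1 : (mk [y] : FreeGroup X) = (mk [linv y])⁻¹ := by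
    rw [inv_mk, invRev_singleton, linv_linv]
  by_cases hz : ∀ z ∈ Z.head?, linv y ≠ z
  · -- first letter of `o` is not `y⁻¹`
    have h1 : FreeGroup.norm (mk [y] * o) = 1 + Z.length := by
      rw [hy1, ho, norm_inv_mul_of_head_ne IsReduced.singleton hZr]
      · simp
      · intro a ha b hb
        simp only [List.head?_cons, Option.mem_def, Option.some.injEq] at ha
        subst ha
        exact hz b hb
    rw [hno]
    have := le_max_left (FreeGroup.norm (mk [y] * o)) (FreeGroup.norm ((mk (y₂ :: L))⁻¹ * o))
    omega
  · push Not at hz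
    obtain ⟨z, hzm, hzy⟩ := hz
    have h2 : FreeGroup.norm ((mk (y₂ :: L))⁻¹ * o) = (L.length + 1) + Z.length := by
      rw [ho, norm_inv_mul_of_head_ne hL hZr]
      · simp
      · intro a ha b hb
        simp only [List.head?_cons, Option.mem_def, Option.some.injEq] at ha
        subst ha
        have : b = z := by
          simp only [Option.mem_def] at hb hzm
          rw [hb] at hzm
          exact Option.some.inj hzm
        subst this
        intro hab
        apply hyy
        rw [hab, ← hzy, linv_linv]
    rw [hno]
    have := le_max_right (FreeGroup.norm (mk [y] * o)) (FreeGroup.norm ((mk (y₂ :: L))⁻¹ * o))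
    omega

/-- **Fixed point theorem.** A finite group acting on the Cayley tree of a free group by
orientation preserving isometries, and preserving a convex set of vertices `T`, fixes a vertex
of `T`. -/
theorem exists_fixed {H : Type*} [Group H] [Finite H]
    (act : H → FreeGroup X → FreeGroup X)
    (act_one : ∀ v, act 1 v = v) (act_mul : ∀ h k v, act (h * k) v = act h (act k v))
    (perm : H → X → X)
    (act_of : ∀ h v x, act h (v * FreeGroup.of x) = act h v * FreeGroup.of (perm h x))
    (iso : ∀ h u v, tdist (act h u) (act h v) = tdist u v)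
    (T : Set (FreeGroup X)) (hT1 : (1 : FreeGroup X) ∈ T) (hTinv : ∀ h, ∀ v ∈ T, act h v ∈ T)
    (hconv : ∀ u ∈ T, ∀ v ∈ T, ∀ y L, toWord (u⁻¹ * v) = y :: L → u * mk [y] ∈ T) :
    ∃ v ∈ T, ∀ h, act h v = v := by
  classical
  have := Fintype.ofFinite H
  obtain ⟨r, hr⟩ : ∃ r : FreeGroup X → ℕ,
      r = fun v => Finset.univ.sup (fun h : H => tdist (act h 1) v) := ⟨_, rfl⟩
  have le_r : ∀ (h : H) v, tdist (act h 1) v ≤ r v := by
    intro h v
    rw [hr]
    exact Finset.le_sup (f := fun h : H => tdist (act h 1) v) (Finset.mem_univ h)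
  have r_le : ∀ k v, r (act k v) ≤ r v := by
    intro k v
    rw [hr]
    refine Finset.sup_le fun h _ => ?_
    have h1 : act h 1 = act k (act (k⁻¹ * h) 1) := by rw [← act_mul, mul_inv_cancel_left]
    rw [h1, iso]
    exact Finset.le_sup (f := fun h : H => tdist (act h 1) v) (Finset.mem_univ (k⁻¹ * h))
  have r_eq : ∀ k v, r (act k v) = r v := by
    intro k v
    refine le_antisymm (r_le k v) ?_
    have := r_le k⁻¹ (act k v)
    rwa [← act_mul, inv_mul_cancel, act_one] at this
  have hex : ∃ n, ∃ v ∈ T, r v = n := ⟨r 1, 1, hT1, rfl⟩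
  obtain ⟨ρ, hρ⟩ : ∃ ρ, ρ = Nat.find hex := ⟨_, rfl⟩
  obtain ⟨u, huT, hur⟩ : ∃ v ∈ T, r v = ρ := hρ ▸ Nat.find_spec hex
  have hmin : ∀ v ∈ T, ρ ≤ r v := fun v hv => hρ ▸ Nat.find_min' hex ⟨v, hv, rfl⟩
  -- two minimisers are at distance at most one
  have near : ∀ u v, u ∈ T → v ∈ T → r u = ρ → r v = ρ → tdist u v ≤ 1 := by
    intro u v hu hv hru hrv
    by_contra hlt
    push Not at hlt
    have hlen : 2 ≤ (toWord (u⁻¹ * v)).length := hlt
    obtain ⟨y, y₂, L, hw⟩ : ∃ y y₂ L, toWord (u⁻¹ * v) = y :: y₂ :: L := by
      match hh : toWord (u⁻¹ * v), hlen with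
      | y :: y₂ :: L, _ => exact ⟨y, y₂, L, rfl⟩
    have hred : FreeGroup.IsReduced (y :: y₂ :: L) := hw ▸ isReduced_toWord
    have hmT : u * mk [y] ∈ T := hconv u hu v hv y _ hw
    have huv : u⁻¹ * v = mk [y] * mk (y₂ :: L) := by
      rw [← mk_cons, ← hw, mk_toWord]
    have key : ∀ h : H, tdist (act h 1) (u * mk [y]) + 1 ≤ ρ := by
      intro h
      have e1 : tdist (act h 1) (u * mk [y]) = FreeGroup.norm ((u * mk [y])⁻¹ * act h 1) := by
        rw [tdist_comm]; rfl
      have e2 : tdist (act h 1) u = FreeGroup.norm (mk [y] * ((u * mk [y])⁻¹ * act h 1)) := by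
        rw [tdist_comm]
        unfold tdist
        congr 1
        group
      have e3 : tdist (act h 1) v =
          FreeGroup.norm ((mk (y₂ :: L))⁻¹ * ((u * mk [y])⁻¹ * act h 1)) := by
        rw [tdist_comm]
        unfold tdist
        congr 1
        have : v = u * (mk [y] * mk (y₂ :: L)) := by rw [← huv]; group
        rw [this]
        group
      have := midpoint_ineq hred ((u * mk [y])⁻¹ * act h 1)
      rw [← e1, ← e2, ← e3] at this
      have h1 := le_r h u
      have h2 := le_r h v
      rw [hru] at h1
      rw [hrv] at h2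
      have := max_le h1 h2
      omega
    have hρ1 : 1 ≤ ρ := by have := key 1; omega
    have : r (u * mk [y]) ≤ ρ - 1 := by
      rw [hr]
      refine Finset.sup_le fun h _ => ?_
      have := key h
      omega
    have := hmin _ hmT
    omega
  by_cases hfix : ∀ k, act k u = u
  · exact ⟨u, huT, hfix⟩
  · exfalso
    push Not at hfix
    obtain ⟨k, hk⟩ := hfix
    have hvT : act k u ∈ T := hTinv k u huT
    have hrv : r (act k u) = ρ := by rw [r_eq, hur]
    have hd1 : tdist u (act k u) ≤ 1 := near u _ huT hvT hur hrv
    have hd0 : tdist u (act k u) ≠ 0 := fun h => hk (tdist_eq_zero.mp h).symm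
    have hlen : (toWord (u⁻¹ * act k u)).length = 1 := by
      have : tdist u (act k u) = (toWord (u⁻¹ * act k u)).length := rfl
      omega
    obtain ⟨y, hy⟩ := List.length_eq_one_iff.mp hlen
    have huv : u⁻¹ * act k u = mk [y] := by rw [← hy, mk_toWord]
    have hv2T : act k (act k u) ∈ T := hTinv k _ hvT
    have hrv2 : r (act k (act k u)) = ρ := by rw [r_eq, hrv]
    have hd2 : tdist u (act k (act k u)) ≤ 1 := near u _ huT hv2T hur hrv2
    obtain ⟨x, b⟩ := y
    cases b with
    | true =>
      have hv : act k u = u * FreeGroup.of x := by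
        have : (mk [(x, true)] : FreeGroup X) = FreeGroup.of x := rfl
        rw [← this, ← huv]; group
      have hv2 : act k (act k u) = u * FreeGroup.of x * FreeGroup.of (perm k x) := by
        conv_lhs => rw [hv, act_of, hv]
      have : tdist u (act k (act k u)) = 2 := by
        unfold tdist
        rw [hv2]
        have : u⁻¹ * (u * FreeGroup.of x * FreeGroup.of (perm k x)) =
            mk [(x, true), (perm k x, true)] := by
          have : (mk [(x, true), (perm k x, true)] : FreeGroup X) =
              FreeGroup.of x * FreeGroup.of (perm k x) := by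
            rw [FreeGroup.of, FreeGroup.of, mul_mk]; rfl
          rw [this]; group
        rw [this, norm_mk_of_isReduced]
        · rfl
        · rw [isReduced_pair]
          simp [linv]
      omega
    | false =>
      have hu : u = act k u * FreeGroup.of x := by
        have : (mk [(x, false)] : FreeGroup X) = (FreeGroup.of x)⁻¹ := by
          rw [FreeGroup.of, inv_mk]; rfl
        rw [this] at huv
        have : act k u = u * (FreeGroup.of x)⁻¹ := by rw [← huv]; group
        rw [this]; group
      have hv2 : act k (act k u) = u * (FreeGroup.of x)⁻¹ * (FreeGroup.of (perm k x))⁻¹ := by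
        have h1 : act k u = act k (act k u) * FreeGroup.of (perm k x) := by
          conv_lhs => rw [hu, act_of]
        have h2 : act k u = u * (FreeGroup.of x)⁻¹ := by
          conv_rhs => rw [hu]
          group
        rw [← h2]
        conv_rhs => rw [h1]
        group
      have : tdist u (act k (act k u)) = 2 := by
        unfold tdist
        rw [hv2]
        have : u⁻¹ * (u * (FreeGroup.of x)⁻¹ * (FreeGroup.of (perm k x))⁻¹) =
            mk [(x, false), (perm k x, false)] := by
          have : (mk [(x, false), (perm k x, false)] : FreeGroup X) =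
              (FreeGroup.of x)⁻¹ * (FreeGroup.of (perm k x))⁻¹ := by
            rw [FreeGroup.of, FreeGroup.of, inv_mk, inv_mk, mul_mk]; rfl
          rw [this]; group
        rw [this, norm_mk_of_isReduced]
        · rfl
        · rw [isReduced_pair]
          simp [linv]
      omega

end Cfsg.H5.LS
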