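import Mathlib
import Cfsg.Prelude.Def_FusionSystem
import Cfsg.Agent.H5.LSGroup
import Cfsg.Agent.H5.LSFusion
import Cfsg.Agent.H5.LSTree

/-!
# Main properties of the Leary–Stancu group
-/

set_option autoImplicit false

namespace Cfsg.H5.LS

open FreeGroup Cfsg

universe u

variable {Ω : Type u} [Group Ω] {S : Subgroup Ω} (F : FusionSystem S) [Finite S]

/-- The embedding of `S` in the Leary–Stancu group. -/
noncomputable def iota : S →* ↥(Gs F) := (iotaT F).codRestrict (Gs F) (iotaT_mem F)

theorem iota_coe (s : S) : ((iota F s : ↥(Gs F)) : Gt F) = iotaT F s := rfl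

omit [Finite S] in
theorem iotaT_injective : Function.Injective (iotaT F) := by
  intro a b h
  exact lam_injective (SemidirectProduct.inr_injective h)

theorem iota_injective : Function.Injective (iota F) := by
  intro a b h
  apply iotaT_injective F
  rw [← iota_coe, ← iota_coe, h]

theorem forall_of_map_eq_self {α : Type*} (g : α → α) :
    ∀ L : List α, L.map g = L → ∀ y ∈ L, g y = y := by
  intro L
  induction L with
  | nil => intro _ y hy; simp at hy
  | cons a L ih =>
    intro h y hy
    simp only [List.map_cons, List.cons.injEq] at h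
    rcases List.mem_cons.mp hy with rfl | hy'
    · exact h.1
    · exact ih h.2 y hy'

/-- The Leary–Stancu group realises the fusion system. -/
theorem realized : F.IsRealizedBy (iota F) := by
  refine ⟨iota_injective F, ?_⟩
  intro P hP φ hφ
  constructor
  · intro hmem
    obtain ⟨i, hi⟩ : ∃ i : Idx F, i = ⟨P, φ, hmem⟩ := ⟨_, rfl⟩
    refine ⟨⟨tgen F i, tgen_mem F i⟩, fun x => ?_⟩
    apply Subtype.ext
    have hu : (⟨(x : Ω), hP x.2⟩ : S) ∈ i.1.subgroupOf S := by
      rw [hi]; exact x.2
    have h1 := tgen_conj F i ⟨⟨x, hP x.2⟩, hu⟩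
    have h2 : thetaOf F i ⟨⟨x, hP x.2⟩, hu⟩ = ⟨φ x, hφ x⟩ := by
      apply Subtype.ext
      rw [thetaOf_coe]
      subst hi
      rfl
    rw [h2] at h1
    simp only [Subgroup.coe_mul, Subgroup.coe_inv, iota_coe]
    exact h1.symm
  · rintro ⟨g, hg⟩
    obtain ⟨h₀, hh₀⟩ : ∃ h₀ : Gt F, h₀ = ((g : ↥(Gs F)) : Gt F)⁻¹ := ⟨_, rfl⟩
    have hmem₀ : h₀ ∈ Gs F := by rw [hh₀]; exact (Gs F).inv_mem g.2
    have hcomm : ∀ x : P, h₀ * iotaT F ⟨φ x, hφ x⟩ = iotaT F ⟨x, hP x.2⟩ * h₀ := by
      intro x
      have := congrArg (fun z : ↥(Gs F) => (z : Gt F)) (hg x)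
      simp only [Subgroup.coe_mul, Subgroup.coe_inv, iota_coe] at this
      rw [this, hh₀]
      group
    have hright : ∀ x : P, h₀.right⁻¹ * lam S ⟨x, hP x.2⟩ * h₀.right = lam S ⟨φ x, hφ x⟩ := by
      intro x
      have := congrArg SemidirectProduct.right (hcomm x)
      rw [SemidirectProduct.mul_right, SemidirectProduct.mul_right, iotaT_right, iotaT_right] at this
      rw [mul_assoc, ← this]
      group
    have hleft : ∀ x : P, phiAct (X F) (Equiv.Perm S) (lam S ⟨x, hP x.2⟩) h₀.left = h₀.left := by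
      intro x
      have := congrArg SemidirectProduct.left (hcomm x)
      rw [SemidirectProduct.mul_left, SemidirectProduct.mul_left, iotaT_left, iotaT_left,
        iotaT_right, _root_.map_one, mul_one, one_mul] at this
      exact this.symm
    refine fus F (toWord h₀.left) h₀.right (good_of_mem F hmem₀) P hP φ hφ hright ?_
    intro x y hy
    have h1 := congrArg toWord (hleft x)
    rw [toWord_phiAct] at h1
    have h2 := forall_of_map_eq_self _ _ h1 y hy
    have h3 := congrArg Prod.fst h2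
    rw [Prod.map_fst] at h3
    exact h3

/-- The set of vertices of the Cayley tree in the orbit of the base vertex. -/
def Tset : Set (FreeGroup (X F)) := {v | ∃ w : Equiv.Perm S, (⟨v, w⟩ : Gt F) ∈ Gs F}

/-- Every finite subgroup of the Leary–Stancu group is conjugate into `S`. -/
theorem finite_conj (K : Subgroup ↥(Gs F)) [Finite K] :
    ∃ g : ↥(Gs F), ∀ k ∈ K, g * k * g⁻¹ ∈ (iota F).range := by
  classical
  obtain ⟨act, hact⟩ : ∃ act : K → FreeGroup (X F) → FreeGroup (X F),
      act = fun (k : K) v => ((k : ↥(Gs F)) : Gt F).left *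
        phiAct (X F) (Equiv.Perm S) ((k : ↥(Gs F)) : Gt F).right v := ⟨_, rfl⟩
  have act_eq : ∀ (k : K) v, act k v = ((k : ↥(Gs F)) : Gt F).left *
        phiAct (X F) (Equiv.Perm S) ((k : ↥(Gs F)) : Gt F).right v := by
    intro k v; rw [hact]
  have key : ∀ (k : K) (v : FreeGroup (X F)) (w : Equiv.Perm S),
      ((k : ↥(Gs F)) : Gt F) * ⟨v, w⟩ = ⟨act k v, ((k : ↥(Gs F)) : Gt F).right * w⟩ := by
    intro k v w
    rw [act_eq]
    rfl
  have hfixed := exists_fixed (X := X F) (H := K) act
    (by intro v; rw [act_eq]; simp)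
    (by
      intro h k v
      rw [act_eq, act_eq, act_eq]
      simp only [Subgroup.coe_mul, SemidirectProduct.mul_left, SemidirectProduct.mul_right,
        _root_.map_mul, MulAut.mul_apply]
      group)
    (fun k x => ((k : ↥(Gs F)) : Gt F).right • x)
    (by
      intro k v x
      rw [act_eq, act_eq, _root_.map_mul, phiAct_of, mul_assoc])
    (by
      intro k u v
      unfold tdist
      rw [act_eq, act_eq]
      have : (((k : ↥(Gs F)) : Gt F).left *
          phiAct (X F) (Equiv.Perm S) ((k : ↥(Gs F)) : Gt F).right u)⁻¹ *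
          (((k : ↥(Gs F)) : Gt F).left *
          phiAct (X F) (Equiv.Perm S) ((k : ↥(Gs F)) : Gt F).right v) =
          phiAct (X F) (Equiv.Perm S) ((k : ↥(Gs F)) : Gt F).right (u⁻¹ * v) := by
        rw [_root_.map_mul, _root_.map_inv]
        group
      rw [this, norm_phiAct])
    (Tset F)
    ⟨1, (Gs F).one_mem⟩
    (by
      rintro k v ⟨w, hw⟩
      refine ⟨((k : ↥(Gs F)) : Gt F).right * w, ?_⟩
      rw [← key]
      exact (Gs F).mul_mem (k : ↥(Gs F)).2 hw)
    (by
      rintro u ⟨wu, hu⟩ v ⟨wv, hv⟩ y L hw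
      -- the element `⟨u, wu⟩⁻¹ * ⟨v, wv⟩` of the group
      have hg : (⟨u, wu⟩ : Gt F)⁻¹ * ⟨v, wv⟩ ∈ Gs F := (Gs F).mul_mem ((Gs F).inv_mem hu) hv
      have hleft : ((⟨u, wu⟩ : Gt F)⁻¹ * ⟨v, wv⟩).left =
          phiAct (X F) (Equiv.Perm S) wu⁻¹ (u⁻¹ * v) := by
        rw [SemidirectProduct.mul_left, SemidirectProduct.inv_left, SemidirectProduct.inv_right,
          _root_.map_mul]
      have hgood := good_of_mem F hg
      unfold Good at hgood
      rw [hleft, toWord_phiAct, hw, List.map_cons, chain_cons] at hgood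
      obtain ⟨w', hw'⟩ := first_letter F _ hgood.1
      refine ⟨wu * w', ?_⟩
      have : (⟨u * mk [y], wu * w'⟩ : Gt F) =
          ⟨u, wu⟩ * ⟨mk [Prod.map (fun x => wu⁻¹ • x) id y], w'⟩ := by
        ext
        · rw [SemidirectProduct.mul_left]
          simp only
          rw [phiAct_mk]
          congr 2
          obtain ⟨x, b⟩ := y
          simp only [List.map_cons, List.map_nil, Prod.map_apply, id_eq, smul_inv_smul]
        · rfl
      rw [this]
      exact (Gs F).mul_mem hu hw')
  obtain ⟨v, ⟨m, hvm⟩, hfix⟩ := hfixed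
  refine ⟨⟨⟨v, m⟩, hvm⟩⁻¹, fun k hk => ?_⟩
  have h1 : ((k : ↥(Gs F)) : Gt F) * ⟨v, m⟩ =
      ⟨v, m⟩ * SemidirectProduct.inr (m⁻¹ * (k : Gt F).right * m) := by
    have := key ⟨k, hk⟩ v m
    simp only at this
    rw [this, hfix ⟨k, hk⟩]
    ext
    · rw [SemidirectProduct.mul_left, SemidirectProduct.left_inr, _root_.map_one, mul_one]
    · rw [SemidirectProduct.mul_right, SemidirectProduct.right_inr]
      group
  have h2 : (⟨v, m⟩ : Gt F)⁻¹ * (k : Gt F) * ⟨v, m⟩ =
      SemidirectProduct.inr (m⁻¹ * (k : Gt F).right * m) := by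
    rw [mul_assoc, h1]; group
  have h3 : (SemidirectProduct.inr (m⁻¹ * (k : Gt F).right * m) : Gt F) ∈ Gs F := by
    rw [← h2]
    exact (Gs F).mul_mem ((Gs F).mul_mem ((Gs F).inv_mem hvm) k.2) hvm
  obtain ⟨s, hs⟩ := right_mem_Sw_of_left_eq_one F h3 rfl
  refine ⟨s, ?_⟩
  apply Subtype.ext
  simp only [Subgroup.coe_mul, Subgroup.coe_inv, inv_inv, iota_coe]
  rw [h2]
  show SemidirectProduct.inr (lam S s) = _
  rw [hs]
  rfl

/-- The Leary–Stancu group has a free normal subgroup of index dividing `(#S)!`. -/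
theorem free_normal : ∃ N : Subgroup ↥(Gs F), N.Normal ∧ IsFreeGroup ↥N ∧
    N.index ∣ (Nat.card ↥S).factorial := by
  obtain ⟨π, hπ⟩ : ∃ π : ↥(Gs F) →* Equiv.Perm S,
      π = SemidirectProduct.rightHom.comp (Gs F).subtype := ⟨_, rfl⟩
  have hπa : ∀ a : ↥(Gs F), π a = (a : Gt F).right := by
    intro a; rw [hπ]; rfl
  refine ⟨π.ker, inferInstance, ?_, ?_⟩
  · -- the kernel embeds in the free group
    have hr : ∀ a : π.ker, ((a : ↥(Gs F)) : Gt F).right = 1 := by
      intro a
      rw [← hπa]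
      exact a.2
    let j : π.ker →* FreeGroup (X F) :=
      { toFun := fun a => ((a : ↥(Gs F)) : Gt F).left
        map_one' := rfl
        map_mul' := by
          intro a b
          show (((a : ↥(Gs F)) : Gt F) * ((b : ↥(Gs F)) : Gt F)).left = _
          rw [SemidirectProduct.mul_left, hr a, _root_.map_one]
          rfl }
    have hj : Function.Injective j := by
      intro a b hab
      apply Subtype.ext
      apply Subtype.ext
      ext
      · exact hab
      · rw [hr a, hr b]
    exact IsFreeGroup.ofMulEquiv (MonoidHom.ofInjective hj).symm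
  · rw [Subgroup.index_ker]
    have h1 : Nat.card π.range ∣ Nat.card (Equiv.Perm S) := Subgroup.card_subgroup_dvd_card _
    rwa [Nat.card_perm] at h1

end Cfsg.H5.LS
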