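import Mathlib
import Cfsg.Prelude
import Cfsg.Agent.H5.GTMain
import Cfsg.Agent.H5.PStableZJ
import Cfsg.Agent.Lib.Helper13.Sylow
import Cfsg.Agent.Lib.Helper13.RelSylow
import Cfsg.Agent.Lib.Helper1.BaerSuzuki

set_option autoImplicit false

/-! If all `p`-locals of `G` are `p`-constrained and `p`-stable with trivial `O_{p'}` (`p` odd), then
`N_G(Z e P)` contains the normalizer of every nontrivial subgroup of the Sylow `p`-subgroup `P`. -/

namespace Cfsg.H5.GT

open Cfsg.H5.ZJ Cfsg.Agent.Lib.Helper13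

variable {G : Type*} [Group G] [Finite G] {p : ℕ} [Fact p.Prime]

theorem normalizer_le_of_local (e : ℕ) (he : p ∣ e)
    (hloc : ∀ Q : Subgroup G, IsPGroup p Q → Q ≠ ⊥ →
      Cfsg.pPrimeCore p ↥(Subgroup.normalizer (Q : Set G)) = ⊥ ∧
      Cfsg.IsPConstrained p ↥(Subgroup.normalizer (Q : Set G)) ∧
      Cfsg.IsPStable p ↥(Subgroup.normalizer (Q : Set G)))
    (P : Sylow p G) (Q : Subgroup G) (hQP : Q ≤ (P : Subgroup G)) (hQ1 : Q ≠ ⊥) :
    Subgroup.normalizer (Q : Set G) ≤ Subgroup.normalizer (Z e (P : Subgroup G) : Set G) := by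
  have hp : p.Prime := Fact.out
  obtain ⟨M, hM⟩ : ∃ M : Subgroup G, M = Subgroup.normalizer (Z e (P : Subgroup G) : Set G) :=
    ⟨_, rfl⟩
  rw [← hM]
  have hPM : (P : Subgroup G) ≤ M := by
    rw [hM]; exact Subgroup.le_normalizer.trans (normalizer_le_normalizer_Z _)
  by_contra hcon0
  obtain ⟨S, hS⟩ : ∃ S : Set (Subgroup G), S = {Q : Subgroup G | Q ≤ (P : Subgroup G) ∧ Q ≠ ⊥ ∧
      ¬ Subgroup.normalizer (Q : Set G) ≤ M} := ⟨_, rfl⟩
  have hSne : S.Nonempty := ⟨Q, by rw [hS]; exact ⟨hQP, hQ1, hcon0⟩⟩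
  obtain ⟨Q₀, hQ₀S, hmax⟩ := Set.exists_max_image S
    (fun Q : Subgroup G => Nat.card ↥(Subgroup.normalizer (Q : Set G) ⊓ (P : Subgroup G)))
    (Set.toFinite S) hSne
  rw [hS] at hQ₀S
  obtain ⟨hQ₀P, hQ₀1, hcon⟩ := hQ₀S
  have hmax' : ∀ Q' : Subgroup G, Q' ≤ (P : Subgroup G) → Q' ≠ ⊥ →
      Nat.card ↥(Subgroup.normalizer (Q₀ : Set G) ⊓ (P : Subgroup G)) <
        Nat.card ↥(Subgroup.normalizer (Q' : Set G) ⊓ (P : Subgroup G)) →
      Subgroup.normalizer (Q' : Set G) ≤ M := by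
    intro Q' h1 h2 h3
    by_contra h4
    have := hmax Q' (by rw [hS]; exact ⟨h1, h2, h4⟩)
    omega
  obtain ⟨R, hR⟩ : ∃ R : Subgroup G, R = Subgroup.normalizer (Q₀ : Set G) ⊓ (P : Subgroup G) :=
    ⟨_, rfl⟩
  rw [← hR] at hmax'
  have hRP : R ≤ (P : Subgroup G) := by rw [hR]; exact inf_le_right
  have hRN : R ≤ Subgroup.normalizer (Q₀ : Set G) := by rw [hR]; exact inf_le_left
  have hRp : IsPGroup p R := P.isPGroup'.to_le hRP
  have hQR : Q₀ ≤ R := by rw [hR]; exact le_inf Subgroup.le_normalizer hQ₀P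
  have hRne : R ≠ ⊥ := fun h => hQ₀1 (eq_bot_iff.2 (h ▸ hQR))
  have hQp : IsPGroup p Q₀ := P.isPGroup'.to_le hQ₀P
  have hgrow : R ≠ (P : Subgroup G) → ∀ X : Subgroup G,
      Subgroup.normalizer (R : Set G) ≤ Subgroup.normalizer (X : Set G) → X ≤ (P : Subgroup G) →
      X ≠ ⊥ → Subgroup.normalizer (X : Set G) ≤ M := by
    intro hne X hX hXP hXne
    have hlt : R < (P : Subgroup G) := lt_of_le_of_ne hRP hne
    obtain ⟨w, hwP, hwN, hwR⟩ :=
      Cfsg.Agent.Lib.Helper1.exists_mem_normalizer_notMem_of_lt P.isPGroup'.isNilpotent hlt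
    apply hmax' X hXP hXne
    have h1 : R < Subgroup.normalizer (X : Set G) ⊓ (P : Subgroup G) := by
      refine lt_of_le_of_ne (le_inf (Subgroup.le_normalizer.trans hX) hRP) (fun h => hwR ?_)
      rw [h]; exact ⟨hX hwN, hwP⟩
    exact card_lt_of_lt h1
  have hRp' : IsPGroup p ↥(R.subgroupOf (Subgroup.normalizer (Q₀ : Set G))) := hRp.comap_subtype
  obtain ⟨TN, hTN⟩ := hRp'.exists_le_sylow
  obtain ⟨T, hT⟩ : ∃ T : Subgroup G,
      T = (TN : Subgroup ↥(Subgroup.normalizer (Q₀ : Set G))).map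
        (Subgroup.normalizer (Q₀ : Set G)).subtype := ⟨_, rfl⟩
  have hTp : IsPGroup p T := by rw [hT]; exact TN.isPGroup'.map _
  have hTNle : T ≤ Subgroup.normalizer (Q₀ : Set G) := by
    rw [hT]; exact Subgroup.map_subtype_le _
  have hRT : R ≤ T := by
    have := Subgroup.map_mono (f := (Subgroup.normalizer (Q₀ : Set G)).subtype) hTN
    rwa [Subgroup.map_subgroupOf_eq_of_le hRN, ← hT] at this
  have hTR : T = R := by
    by_contra hne
    have hlt : R < T := lt_of_le_of_ne hRT (Ne.symm hne)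
    obtain ⟨u, huT, huN, huR⟩ :=
      Cfsg.Agent.Lib.Helper1.exists_mem_normalizer_notMem_of_lt hTp.isNilpotent hlt
    obtain ⟨R', hR'⟩ : ∃ R' : Subgroup G, R' = R ⊔ Subgroup.zpowers u := ⟨_, rfl⟩
    have hR'T : R' ≤ T := by rw [hR']; exact sup_le hRT (Subgroup.zpowers_le.2 huT)
    have hR'p : IsPGroup p R' := hTp.to_le hR'T
    have hRR' : R < R' := by
      refine lt_of_le_of_ne (by rw [hR']; exact le_sup_left) (fun h => huR ?_)
      rw [h, hR']; exact (le_sup_right : Subgroup.zpowers u ≤ _) (Subgroup.mem_zpowers u)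
    have hR'NR : R' ≤ Subgroup.normalizer (R : Set G) := by
      rw [hR']; exact sup_le Subgroup.le_normalizer (Subgroup.zpowers_le.2 huN)
    have hRneP : R ≠ (P : Subgroup G) := by
      intro h
      have h1 : R' = (P : Subgroup G) := P.is_maximal' hR'p (h ▸ hRR'.le)
      exact hRR'.ne (h.trans h1.symm)
    have hNRM : Subgroup.normalizer (R : Set G) ≤ M := hgrow hRneP R le_rfl hRP hRne
    have hR'M : R' ≤ M := hR'NR.trans hNRM
    obtain ⟨m, hmM, hm⟩ := exists_conj_le_of_relIndex M (P : Subgroup G) R' P.isPGroup'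
      (sylow_not_dvd_relIndex P M hPM) hR'M hR'p
    obtain ⟨Q', hQ'⟩ : ∃ Q' : Subgroup G, Q' = Q₀.map (MulAut.conj m).toMonoidHom := ⟨_, rfl⟩
    have hQ'P : Q' ≤ (P : Subgroup G) := by
      rw [hQ']
      rintro _ ⟨q, hq, rfl⟩
      exact hm q (hRR'.le (hQR hq))
    have hQ'ne : Q' ≠ ⊥ := by
      rw [hQ', Ne, Subgroup.map_eq_bot_iff_of_injective _ (MulAut.conj m).injective]
      exact hQ₀1
    have hNQ' : Subgroup.normalizer (Q' : Set G) =
        (Subgroup.normalizer (Q₀ : Set G)).map (MulAut.conj m).toMonoidHom := by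
      rw [hQ', Subgroup.map_equiv_normalizer_eq]
    have hcard : Nat.card ↥R <
        Nat.card ↥(Subgroup.normalizer (Q' : Set G) ⊓ (P : Subgroup G)) := by
      have h1 : R'.map (MulAut.conj m).toMonoidHom ≤
          Subgroup.normalizer (Q' : Set G) ⊓ (P : Subgroup G) := by
        refine le_inf ?_ ?_
        · rw [hNQ']; exact Subgroup.map_mono (hR'T.trans hTNle)
        · rintro _ ⟨r, hr, rfl⟩
          exact hm r hr
      have h2 : Nat.card ↥(R'.map (MulAut.conj m).toMonoidHom) = Nat.card R' :=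
        Subgroup.card_map_of_injective (MulAut.conj m).injective
      have h3 := Subgroup.card_le_of_le h1
      have h4 := card_lt_of_lt hRR'
      omega
    have hNQ'M := hmax' Q' hQ'P hQ'ne hcard
    apply hcon
    intro g hg
    have h1 : m * g * m⁻¹ ∈ M := hNQ'M (by rw [hNQ']; exact ⟨g, hg, rfl⟩)
    have e1 : g = m⁻¹ * (m * g * m⁻¹) * m := by group
    rw [e1]; exact M.mul_mem (M.mul_mem (M.inv_mem hmM) h1) hmM
  obtain ⟨hbot, hc, hs⟩ := hloc Q₀ hQp hQ₀1
  have hZJ := Cfsg.H5.PSt.sup_normalizer_Z_eq_top hc hs TN e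
  rw [hbot, bot_sup_eq] at hZJ
  have hZmap : (Z e (TN : Subgroup ↥(Subgroup.normalizer (Q₀ : Set G)))).map
      (Subgroup.normalizer (Q₀ : Set G)).subtype = Z e R := by
    rw [Z_map_hom (by rw [Subgroup.ker_subtype, inf_bot_eq]), ← hT, hTR]
  have hNZ : Subgroup.normalizer (Q₀ : Set G) ≤ Subgroup.normalizer (Z e R : Set G) := by
    intro g hg
    have h1 : (⟨g, hg⟩ : ↥(Subgroup.normalizer (Q₀ : Set G))) ∈ Subgroup.normalizer
        (Z e (TN : Subgroup ↥(Subgroup.normalizer (Q₀ : Set G))) :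
          Set ↥(Subgroup.normalizer (Q₀ : Set G))) := by rw [hZJ]; trivial
    have h2 := Subgroup.le_normalizer_map (Subgroup.normalizer (Q₀ : Set G)).subtype
      ⟨_, h1, rfl⟩
    rwa [hZmap] at h2
  by_cases hRP' : R = (P : Subgroup G)
  · apply hcon
    rw [hM, ← hRP']; exact hNZ
  · have := hgrow hRP' (Z e R) (normalizer_le_normalizer_Z R) (Z_le.trans hRP)
      (Z_ne_bot he hRp hRne)
    exact hcon (hNZ.trans this)

end Cfsg.H5.GT
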