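import Cfsg.Agent.H5.M12CoverData
import Cfsg.Agent.Lib.Helper24.CovAlt
import Cfsg.Agent.Lib.Helper28.OutM12

/-!
# A stem extension of `M12` with kernel of order 2 (helper5)
-/

set_option autoImplicit false
set_option linter.unusedVariables false

namespace Cfsg.H5.M12Cov

open Cfsg Cfsg.Agent.Lib Cfsg.Agent.Lib.Helper28 Cfsg.Agent.Lib.Helper28.BSGS Cfsg.Agent.Lib.Helper24.Cov

set_option maxRecDepth 1000000 in
theorem cert : dataCert 48 6 24 2 gens levels tz tzi ta tai tb tbi tc tc tc tc = true := by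
  decide +kernel

set_option maxRecDepth 1000000 in
theorem size : codeSize levels = 190080 := by decide +kernel

/-- the table on the Golay points of a packed table -/
def gtab (t : ℕ) : Fin 24 → Fin 24 := fun a => Fin.ofNat 24 (look 6 t a.val)

/-- the generators preserve the first 24 points and act on them as elements of `M12` -/
def GensOK : Prop := ∀ g ∈ gens, (∀ a : Fin 24, look 6 g.1 a.val < 24) ∧ TabCheck (gtab g.1) ∧
  ∀ a : Fin 24, sqMask.testBit a.val = true → sqMask.testBit (gtab g.1 a).val = true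

instance : Decidable GensOK := by unfold GensOK; infer_instance

set_option maxRecDepth 1000000 in
set_option maxHeartbeats 4000000 in
theorem gens_ok : GensOK := by decide +kernel

set_option maxRecDepth 1000000 in
theorem gens_pair : gensOK 48 6 gens = true := by decide +kernel

instance : NeZero 48 := ⟨by norm_num⟩

theorem hinv : ∀ g ∈ genGroup 48 6 gens, ∀ x : Fin 48, x.val < 24 → (g x).val < 24 := by
  intro g hgm
  unfold genGroup at hgm
  refine closure_induction_finite (p := fun g => ∀ x : Fin 48, x.val < 24 → (g x).val < 24)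
    ?_ ?_ ?_ hgm
  · intro s hs x hx
    have hs' : s ∈ List.map (fun g => permOf 48 6 g.1 g.2) gens := hs
    rw [List.mem_map] at hs'
    obtain ⟨g0, hg0, rfl⟩ := hs'
    rw [permOf_apply (gensOK_spec 48 6 gens_pair g0 hg0)]
    exact (gens_ok g0 hg0).1 ⟨x.val, hx⟩
  · intro x hx; exact hx
  · intro a b ha hb x hx
    exact ha _ (hb x hx)

/-- the action on the Golay points -/
noncomputable def sigma0 : genGroup 48 6 gens →* Equiv.Perm GolayPt :=
  (Equiv.permCongrHom ptEquiv).toMonoidHom.comp
    (resHom (by norm_num : 24 ≤ 48) (genGroup 48 6 gens) hinv)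

theorem sigma0_pt (g : genGroup 48 6 gens) (a : Fin 24) :
    sigma0 g (Helper4.pt a) =
      Helper4.pt (resHom (by norm_num : 24 ≤ 48) (genGroup 48 6 gens) hinv g a) := by
  show ptEquiv ((resHom (by norm_num : 24 ≤ 48) (genGroup 48 6 gens) hinv g)
    (ptEquiv.symm (Helper4.pt a))) = _
  have : ptEquiv.symm (Helper4.pt a) = a := ptInv_pt a
  rw [this]
  rfl

theorem sigma0_mem (g : genGroup 48 6 gens) : sigma0 g ∈ Spor.M12 := by
  obtain ⟨g, hgm⟩ := g
  unfold genGroup at hgm
  induction hgm using Subgroup.closure_induction with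
  | mem s hs =>
    have hs' : s ∈ List.map (fun g => permOf 48 6 g.1 g.2) gens := hs
    rw [List.mem_map] at hs'
    obtain ⟨g0, hg0, rfl⟩ := hs'
    have hp0 := gensOK_spec 48 6 gens_pair g0 hg0
    obtain ⟨h1, h2, h3⟩ := gens_ok g0 hg0
    have hT : TActs (sigma0 ⟨permOf 48 6 g0.1 g0.2, Subgroup.subset_closure hs⟩) (gtab g0.1) := by
      intro a
      rw [sigma0_pt]
      congr 1
      apply Fin.ext
      rw [resHom_apply_val]
      show (permOf 48 6 g0.1 g0.2 (Fin.castLE _ a)).val = (gtab g0.1 a).val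
      rw [permOf_apply hp0]
      show look 6 g0.1 a.val = (Fin.ofNat 24 (look 6 g0.1 a.val)).val
      simp [Fin.ofNat, Nat.mod_eq_of_lt (h1 a)]
    rw [mem_sporM12]
    exact ⟨mem_M24_of_table _ _ hT h2, smul_sq_of_tab hT h3⟩
  | one =>
    have : (⟨1, Subgroup.one_mem _⟩ : genGroup 48 6 gens) = 1 := rfl
    rw [this, map_one]
    exact Subgroup.one_mem _
  | mul a b ha hb iha ihb =>
    have : (⟨a * b, Subgroup.mul_mem _ ha hb⟩ : genGroup 48 6 gens) = ⟨a, ha⟩ * ⟨b, hb⟩ := rfl
    rw [this, map_mul]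
    exact Subgroup.mul_mem _ iha ihb
  | inv a ha iha =>
    have : (⟨a⁻¹, Subgroup.inv_mem _ ha⟩ : genGroup 48 6 gens) = (⟨a, ha⟩)⁻¹ := rfl
    rw [this, map_inv]
    exact Subgroup.inv_mem _ iha

/-- a finite stem extension of `M12` with cyclic kernel of order 2 -/
theorem exists_cover : ∃ (Γ : Type) (_ : Group Γ) (_ : Finite Γ) (σ : Γ →* ↥Spor.M12),
    Cfsg.IsStemExtension σ ∧ Nonempty (σ.ker ≃* Multiplicative (ZMod 2)) := by
  obtain ⟨hcard, hz, hcent, hcomm, hord, hzfix, hkerz⟩ :=
    dataCert_sound 48 6 24 2 (by norm_num) (by norm_num) gens levels tz tzi ta tai tb tbi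
      tc tc tc tc cert
  let σ : genGroup 48 6 gens →* ↥Spor.M12 := sigma0.codRestrict Spor.M12 sigma0_mem
  have hker : σ.ker = Subgroup.zpowers
      (⟨permOf 48 6 tz tzi, hz⟩ : genGroup 48 6 gens) := by
    have hk1 : σ.ker = sigma0.ker := MonoidHom.ker_codRestrict _ _ _
    have hk2 : sigma0.ker =
        (resHom (by norm_num : 24 ≤ 48) (genGroup 48 6 gens) hinv).ker := by
      ext g
      rw [MonoidHom.mem_ker, MonoidHom.mem_ker]
      show (Equiv.permCongrHom ptEquiv) _ = 1 ↔ _
      rw [EmbeddingLike.map_eq_one_iff]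
    rw [hk1, hk2]
    apply le_antisymm
    · intro g hgk
      rw [MonoidHom.mem_ker, resHom_eq_one_iff] at hgk
      apply hkerz g
      intro a ha
      exact hgk (pt 48 a) (by rw [pt_val 48 (lt_of_lt_of_le ha (by norm_num))]; exact ha)
    · rw [Subgroup.zpowers_le, MonoidHom.mem_ker, resHom_eq_one_iff]
      intro x hx
      have := hzfix x.val hx
      rwa [pt_of_val] at this
  have hcardG : Nat.card (genGroup 48 6 gens) = 2 * Nat.card ↥Spor.M12 := by
    rw [hcard, size, card_sporM12]
  exact ⟨genGroup 48 6 gens, inferInstance, inferInstance, σ,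
    stem_of_central_cyclic σ _ 2 hker hord hcardG hcent hcomm⟩

end Cfsg.H5.M12Cov
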