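import Cfsg.Agent.H5.StemTC
import Cfsg.Agent.H5.M12UpperData
import Cfsg.Agent.Lib.Helper28.OutM12
import Cfsg.Agent.S2034
import Cfsg.Agent.Lib.Helper13.SchurUpperCore

/-!
# The kernel of a finite stem extension of `M12` has order at most 2 (helper5)
-/

set_option autoImplicit false
set_option linter.unusedVariables false

namespace Cfsg.H5.M12Mult

open Cfsg Cfsg.Agent.Lib.Helper28 Cfsg.H5.TCk Cfsg.H5.StemTC Cfsg.H5.StemLift
open scoped commutatorElement

/-- the four generators as permutations -/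
noncomputable def gP : ℕ → Equiv.Perm GolayPt
  | 0 => o11_b
  | 1 => cubeTwist
  | 2 => o11m_x
  | 3 => o12_z
  | _ => 1

theorem gP_mem_M11 : ∀ i, i < 3 → gP i ∈ Spor.M11
  | 0, _ => o11_b_mem_M11
  | 1, _ => cubeTwist_mem_M11
  | 2, _ => o11m_x_mem_M11
  | (n + 3), h => absurd h (by omega)

theorem gP_mem : ∀ i, gP i ∈ Spor.M12
  | 0 => M11_le_M12 o11_b_mem_M11
  | 1 => M11_le_M12 cubeTwist_mem_M11
  | 2 => M11_le_M12 o11m_x_mem_M11
  | 3 => o12_z_mem_M12
  | (n + 4) => Subgroup.one_mem _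

/-- the generators as elements of `M12` -/
noncomputable def gM (i : ℕ) : ↥Spor.M12 := ⟨gP i, gP_mem i⟩

/-- the tables of the letters -/
def ltab : ℕ → Fin 24 → Fin 24
  | 0 => o11_btab
  | 1 => o11_binvtab
  | 2 => cubeTwistTab
  | 3 => cubeTwistInvTab
  | 4 => o11m_xtab
  | 5 => o11m_xinvtab
  | 6 => o12_ztab
  | 7 => o12_ztab
  | _ => fun a => a

theorem o12_ztab_inv : ∀ a, o12_ztab (o12_ztab a) = a := by decide

theorem gl_acts : ∀ l, TActs (gl gP l) (ltab l)
  | 0 => o11_b_acts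
  | 1 => o11_binv_acts
  | 2 => cubeTwist_acts
  | 3 => cubeTwist_acts.inv cubeTwistInvTab o23_tab_inv.2.2
  | 4 => o11m_x_acts
  | 5 => o11m_x_acts.inv o11m_xinvtab o11m_tab_inv
  | 6 => o12_z_acts
  | 7 => o12_z_acts.inv o12_ztab o12_ztab_inv
  | (n + 8) => by
    have h : gl gP (n + 8) = 1 := by
      unfold gl
      have h1 : (n + 8) / 2 = n / 2 + 4 := by omega
      rw [h1]
      simp only [gP]
      split_ifs <;> simp
    rw [h]
    exact TActs.one

/-- the table of a word -/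
def wtab : List ℕ → Fin 24 → Fin 24
  | [], a => a
  | l :: w, a => ltab l (wtab w a)

theorem ev_acts (w : List ℕ) : TActs (ev gP w) (wtab w) := by
  induction w with
  | nil => exact TActs.one
  | cons l w ih => exact (gl_acts l).mul ih

theorem coe_ev (w : List ℕ) : ((ev gM w : ↥Spor.M12) : Equiv.Perm GolayPt) = ev gP w := by
  have := map_ev Spor.M12.subtype gM w
  exact this

theorem ev_eq_one (w : List ℕ) (h : ∀ a, wtab w a = a) : ev gM w = 1 := by
  apply Subtype.ext
  rw [coe_ev]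
  exact TActs.ext (ev_acts w) TActs.one h

/-! ### the Boolean checks -/

set_option maxRecDepth 100000 in
theorem relsH_ok : ∀ r ∈ relsH, r.all (fun l => decide (l < 2 * 3)) = true ∧
    ∀ a, wtab r a = a := by decide +kernel

set_option maxRecDepth 100000 in
theorem rho1_ok : (∀ a, wtab rho1 a = a) ∧ esum 3 rho1 = 1 := by decide +kernel

set_option maxRecDepth 100000 in
theorem cen_ok : ∀ r ∈ cen, ∀ a, wtab r a = a := by decide +kernel

theorem sgens_ok : ∀ g ∈ sgens, g.all (fun l => decide (l < 2 * 3)) = true := by decide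

set_option maxRecDepth 1000000 in
theorem tc_ok : check 24 5 (2 * (3 + 1)) 132 24 tcDefs
    (relsH ++ [rho1] ++ cwords cen (3 + 1)) sgens tcLog = true := by decide +kernel

/-! ### `M11` is perfect -/

theorem comm_word (u v : List ℕ) :
    ⁅ev gP u, ev gP v⁆ = ev gP (u ++ v ++ winv u ++ winv v) := by
  rw [commutatorElement_def, ev_append, ev_append, ev_append, ev_winv, ev_winv]

theorem ev_mem_M11 (w : List ℕ) (hw : w.all (fun l => decide (l < 2 * 3)) = true) :
    ev gP w ∈ Spor.M11 := ev_mem gP Spor.M11 3 gP_mem_M11 w hw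

theorem gen_comm (i : ℕ) (u v : List ℕ)
    (hu : u.all (fun l => decide (l < 2 * 3)) = true)
    (hv : v.all (fun l => decide (l < 2 * 3)) = true)
    (h : ∀ a, ltab (2 * i) a = wtab (u ++ v ++ winv u ++ winv v) a) :
    gP i ∈ ⁅Spor.M11, Spor.M11⁆ := by
  have h1 : gP i = ⁅ev gP u, ev gP v⁆ := by
    rw [comm_word]
    have := gl_acts (2 * i)
    rw [gl_even] at this
    exact TActs.ext this (ev_acts _) h
  rw [h1]
  exact Subgroup.commutator_mem_commutator (ev_mem_M11 u hu) (ev_mem_M11 v hv)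

theorem M11_perfect : Spor.M11 ≤ ⁅Spor.M11, Spor.M11⁆ := by
  conv_lhs => rw [← o11m_gen]
  rw [Subgroup.closure_le]
  intro g hg
  simp only [Set.mem_insert_iff, Set.mem_range] at hg
  rcases hg with rfl | rfl | ⟨k, rfl⟩
  · exact gen_comm 0 [3] [3, 0] (by decide) (by decide) (by decide)
  · exact gen_comm 1 [3] [4] (by decide) (by decide) (by decide)
  · fin_cases k
    exact gen_comm 2 [5, 1] [3, 4, 0] (by decide) (by decide) (by decide)

/-- `M11` inside `M12` -/
noncomputable def H11 : Subgroup ↥Spor.M12 := Spor.M11.subgroupOf Spor.M12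

theorem H11_perfect : H11 ≤ ⁅H11, H11⁆ := by
  intro x hx
  have h1 : x.1 ∈ ⁅Spor.M11, Spor.M11⁆ := M11_perfect (Subgroup.mem_subgroupOf.mp hx)
  have h2 : (⁅H11, H11⁆).map Spor.M12.subtype = ⁅Spor.M11, Spor.M11⁆ := by
    rw [Subgroup.map_commutator]
    unfold H11
    rw [Subgroup.map_subgroupOf_eq_of_le M11_le_M12]
  rw [← h2] at h1
  obtain ⟨y, hy, hyx⟩ := h1
  have : y = x := Subtype.ext hyx
  rw [← this]; exact hy

/-- stem extensions of `M11` (as a subgroup of `M12`) are trivial -/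
theorem H11_trivial (Λ : Type) [Group Λ] [Finite Λ] (τ : Λ →* ↥H11) (hτ : IsStemExtension τ) :
    τ.ker = ⊥ := by
  let e : ↥H11 ≃* ↥Spor.M11 := Subgroup.subgroupOfEquivOfLe M11_le_M12
  obtain ⟨hτ', hker⟩ := Cfsg.Agent.Lib.Helper13.SchurUpper.stem_comp_equiv τ hτ e
  obtain ⟨π, hπ⟩ := Cfsg.Agent.S2034.result.2 Λ (e.toMonoidHom.comp τ) hτ'
  rw [← hker, Subgroup.eq_bot_iff_forall]
  intro x hx
  obtain ⟨y, hy⟩ := hπ ⟨x, hx⟩
  have h1 : y = 1 := Subsingleton.elim _ _
  rw [h1, map_one] at hy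
  exact (congrArg Subtype.val hy).symm

theorem gM_gen : Subgroup.closure (Set.range fun i : Fin (3 + 1) => gM i.val) = ⊤ := by
  have h1 : (Subgroup.closure (Set.range fun i : Fin (3 + 1) => gM i.val)).map
      Spor.M12.subtype = Spor.M12 := by
    rw [MonoidHom.map_closure]
    refine Eq.trans ?_ o12_gen
    congr 1
    ext g
    simp only [Set.mem_image, Set.mem_range, Set.mem_insert_iff]
    constructor
    · rintro ⟨_, ⟨i, rfl⟩, rfl⟩
      fin_cases i
      · left; rfl
      · right; left; rfl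
      · right; right; exact ⟨0, rfl⟩
      · right; right; exact ⟨1, rfl⟩
    · rintro (rfl | rfl | ⟨k, rfl⟩)
      · exact ⟨gM 0, ⟨0, rfl⟩, rfl⟩
      · exact ⟨gM 1, ⟨1, rfl⟩, rfl⟩
      · fin_cases k
        · exact ⟨gM 2, ⟨2, rfl⟩, rfl⟩
        · exact ⟨gM 3, ⟨3, rfl⟩, rfl⟩
  rw [eq_top_iff]
  intro x _
  have hx : x.1 ∈ (Subgroup.closure (Set.range fun i : Fin (3 + 1) => gM i.val)).map
      Spor.M12.subtype := by rw [h1]; exact x.2
  obtain ⟨y, hy, hyx⟩ := hx
  have : y = x := Subtype.ext hyx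
  rw [← this]; exact hy

theorem card_H11 : Nat.card H11 = 7920 := by
  rw [← card_sporM11]
  exact Nat.card_congr (Subgroup.subgroupOfEquivOfLe M11_le_M12).toEquiv

/-- **The kernel of a finite stem extension of `M12` has at most two elements.** -/
theorem card_ker_le_two (Γ : Type) [Group Γ] [Finite Γ] (σ : Γ →* ↥Spor.M12)
    (hσ : IsStemExtension σ) : Nat.card σ.ker ≤ 2 := by
  have hmain := card_le_of_cert σ hσ H11 H11_perfect H11_trivial gM 3
    (fun i hi => Subgroup.mem_subgroupOf.mpr (gP_mem_M11 i hi)) gM_gen relsH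
    (fun r hr => ⟨(relsH_ok r hr).1, ev_eq_one r (relsH_ok r hr).2⟩)
    rho1 (ev_eq_one rho1 rho1_ok.1) rho1_ok.2 cen (fun r hr => ev_eq_one r (cen_ok r hr))
    sgens sgens_ok 24 5 132 24 tcDefs tcLog tc_ok
  rw [card_H11] at hmain
  have h1 : Nat.card Γ = Nat.card σ.ker * Nat.card ↥Spor.M12 := by
    have h2 := Subgroup.card_eq_card_quotient_mul_card_subgroup σ.ker
    have h3 : Nat.card (Γ ⧸ σ.ker) = Nat.card ↥Spor.M12 :=
      Nat.card_congr (QuotientGroup.quotientKerEquivOfSurjective σ hσ.1).toEquiv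
    rw [h2, h3, mul_comm]
  rw [h1, card_sporM12] at hmain
  omega

end Cfsg.H5.M12Mult
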