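import Mathlib

set_option autoImplicit false

namespace Cfsg.H5.Mat2

open Matrix

/-- A `2 × 2` matrix encoded by its four entries as natural numbers. -/
abbrev M4 := ℕ × ℕ × ℕ × ℕ

/-- The matrix over `ZMod n` encoded by a quadruple. -/
def toMat (n : ℕ) (x : M4) : Matrix (Fin 2) (Fin 2) (ZMod n) :=
  !![(x.1 : ZMod n), (x.2.1 : ZMod n); (x.2.2.1 : ZMod n), (x.2.2.2 : ZMod n)]

/-- Multiplication of encoded matrices, entries reduced mod `n`. -/
def mul4 (n : ℕ) (x y : M4) : M4 :=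
  ((x.1 * y.1 + x.2.1 * y.2.2.1) % n, (x.1 * y.2.1 + x.2.1 * y.2.2.2) % n,
    (x.2.2.1 * y.1 + x.2.2.2 * y.2.2.1) % n, (x.2.2.1 * y.2.1 + x.2.2.2 * y.2.2.2) % n)

def one4 : M4 := (1, 0, 0, 1)

theorem toMat_mul4 (n : ℕ) (x y : M4) : toMat n (mul4 n x y) = toMat n x * toMat n y := by
  ext i j
  fin_cases i <;> fin_cases j <;>
    simp [toMat, mul4, Matrix.mul_apply, Fin.sum_univ_two, ZMod.natCast_mod]

theorem toMat_one4 (n : ℕ) : toMat n one4 = 1 := by
  ext i j
  fin_cases i <;> fin_cases j <;> simp [toMat, one4]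

/-- All entries are reduced. -/
def red (n : ℕ) (x : M4) : Bool :=
  decide (x.1 < n) && decide (x.2.1 < n) && decide (x.2.2.1 < n) && decide (x.2.2.2 < n)

theorem toMat_injOn (n : ℕ) {x y : M4} (hx : red n x = true) (hy : red n y = true)
    (h : toMat n x = toMat n y) : x = y := by
  simp only [red, Bool.and_eq_true, decide_eq_true_eq] at hx hy
  obtain ⟨⟨⟨hx1, hx2⟩, hx3⟩, hx4⟩ := hx
  obtain ⟨⟨⟨hy1, hy2⟩, hy3⟩, hy4⟩ := hy
  have e := fun i j => congrFun (congrFun h i) j
  have h1 := e 0 0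
  have h2 := e 0 1
  have h3 := e 1 0
  have h4 := e 1 1
  simp only [toMat, Matrix.of_apply, Matrix.cons_val_zero, Matrix.cons_val_one, Matrix.cons_val',
    Matrix.cons_val_fin_one] at h1 h2 h3 h4
  rw [ZMod.natCast_eq_natCast_iff', Nat.mod_eq_of_lt hx1, Nat.mod_eq_of_lt hy1] at h1
  rw [ZMod.natCast_eq_natCast_iff', Nat.mod_eq_of_lt hx2, Nat.mod_eq_of_lt hy2] at h2
  rw [ZMod.natCast_eq_natCast_iff', Nat.mod_eq_of_lt hx3, Nat.mod_eq_of_lt hy3] at h3
  rw [ZMod.natCast_eq_natCast_iff', Nat.mod_eq_of_lt hx4, Nat.mod_eq_of_lt hy4] at h4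
  ext <;> assumption

/-- The inverse of a unit whose matrix is encoded by `x`, given an encoded right inverse. -/
theorem coe_inv_eq {n : ℕ} {g : GL (Fin 2) (ZMod n)} {x x' : M4}
    (hg : (g : Matrix (Fin 2) (Fin 2) (ZMod n)) = toMat n x) (hx : mul4 n x x' = one4) :
    ((g⁻¹ : GL (Fin 2) (ZMod n)) : Matrix (Fin 2) (Fin 2) (ZMod n)) = toMat n x' := by
  apply Units.inv_eq_of_mul_eq_one_right
  rw [hg, ← toMat_mul4, hx, toMat_one4]

section Closure

variable {n : ℕ} (S : Set (GL (Fin 2) (ZMod n))) (gens ginv elts : List M4)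

/-- Part I: every element of the closure has its matrix in the list `elts`. -/
theorem exists_mem_of_mem_closure
    (hgen : ∀ g ∈ S, ∃ x ∈ gens, (g : Matrix (Fin 2) (Fin 2) (ZMod n)) = toMat n x)
    (hginv : ∀ g ∈ S, ∃ x ∈ ginv, ((g⁻¹ : GL (Fin 2) (ZMod n)) : Matrix (Fin 2) (Fin 2) (ZMod n)) = toMat n x)
    (hone : one4 ∈ elts)
    (hclosed : ∀ x ∈ elts, ∀ g ∈ gens ++ ginv, mul4 n x g ∈ elts)
    {h : GL (Fin 2) (ZMod n)} (hh : h ∈ Subgroup.closure S) :
    ∃ x ∈ elts, (h : Matrix (Fin 2) (Fin 2) (ZMod n)) = toMat n x := by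
  induction hh using Subgroup.closure_induction_right with
  | one => exact ⟨one4, hone, by rw [toMat_one4]; rfl⟩
  | mul_right x hx y hy ih =>
    obtain ⟨a, ha, hxa⟩ := ih
    obtain ⟨b, hb, hyb⟩ := hgen y hy
    refine ⟨mul4 n a b, hclosed a ha b (List.mem_append_left _ hb), ?_⟩
    rw [toMat_mul4, ← hxa, ← hyb]; rfl
  | mul_inv_cancel x hx y hy ih =>
    obtain ⟨a, ha, hxa⟩ := ih
    obtain ⟨b, hb, hyb⟩ := hginv y hy
    refine ⟨mul4 n a b, hclosed a ha b (List.mem_append_right _ hb), ?_⟩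
    rw [toMat_mul4, ← hxa, ← hyb]; rfl

/-- Boolean check that every element of a list is the identity or a previously seen element times
a generator. -/
def checkBFS (n : ℕ) (gens : List M4) : List M4 → List M4 → Bool
  | _, [] => true
  | seen, x :: rest =>
    (x == one4 || seen.any (fun y => gens.any (fun g => mul4 n y g == x))) &&
      checkBFS n gens (x :: seen) rest

theorem forall_of_checkBFS (P : M4 → Prop) (hone : P one4)
    (hmul : ∀ y g, P y → g ∈ gens → P (mul4 n y g)) :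
    ∀ (l seen : List M4), (∀ y ∈ seen, P y) → checkBFS n gens seen l = true → ∀ x ∈ l, P x := by
  intro l
  induction l with
  | nil => intro seen _ _ x hx; simp at hx
  | cons a l ih =>
    intro seen hseen hcheck x hx
    simp only [checkBFS, Bool.and_eq_true, Bool.or_eq_true, beq_iff_eq, List.any_eq_true] at hcheck
    obtain ⟨ha, hrest⟩ := hcheck
    have hPa : P a := by
      rcases ha with ha | ⟨y, hy, g, hg, hyg⟩
      · rw [ha]; exact hone
      · rw [← hyg]; exact hmul y g (hseen y hy) hg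
    have hseen' : ∀ y ∈ a :: seen, P y := by
      intro y hy
      rcases List.mem_cons.mp hy with h | h
      · rw [h]; exact hPa
      · exact hseen y h
    rcases List.mem_cons.mp hx with h | h
    · rw [h]; exact hPa
    · exact ih (a :: seen) hseen' hrest x h

/-- Part III (lower bound): every listed matrix comes from the closure. -/
theorem exists_closure_of_mem
    (hgen' : ∀ x ∈ gens, ∃ g ∈ S, (g : Matrix (Fin 2) (Fin 2) (ZMod n)) = toMat n x)
    (hbfs : checkBFS n gens [] elts = true) :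
    ∀ x ∈ elts, ∃ h ∈ Subgroup.closure S, (h : Matrix (Fin 2) (Fin 2) (ZMod n)) = toMat n x := by
  apply forall_of_checkBFS gens
    (fun x => ∃ h ∈ Subgroup.closure S, (h : Matrix (Fin 2) (Fin 2) (ZMod n)) = toMat n x) ?_ ?_ elts []
    (by simp) hbfs
  · exact ⟨1, Subgroup.one_mem _, by rw [toMat_one4]; rfl⟩
  · rintro y g ⟨h, hh, hy⟩ hg
    obtain ⟨k, hk, hkg⟩ := hgen' g hg
    refine ⟨h * k, Subgroup.mul_mem _ hh (Subgroup.subset_closure hk), ?_⟩
    rw [toMat_mul4, ← hy, ← hkg]; rfl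

/-- Part III: the order of the closure. -/
theorem card_closure_eq
    (hI : ∀ h ∈ Subgroup.closure S, ∃ x ∈ elts, (h : Matrix (Fin 2) (Fin 2) (ZMod n)) = toMat n x)
    (hIII : ∀ x ∈ elts, ∃ h ∈ Subgroup.closure S, (h : Matrix (Fin 2) (Fin 2) (ZMod n)) = toMat n x)
    (hnodup : elts.Nodup) (hred : ∀ x ∈ elts, red n x = true) :
    Nat.card (Subgroup.closure S) = elts.length := by
  classical
  have hI' : ∀ h : Subgroup.closure S, ∃ x : elts.toFinset,
      ((h : GL (Fin 2) (ZMod n)) : Matrix (Fin 2) (Fin 2) (ZMod n)) = toMat n x.1 := by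
    intro h
    obtain ⟨x, hx, hhx⟩ := hI h.1 h.2
    exact ⟨⟨x, List.mem_toFinset.mpr hx⟩, hhx⟩
  choose f hf using hI'
  have hinj : Function.Injective f := by
    intro h h' hhh
    apply Subtype.ext
    apply Units.ext
    show ((h : GL (Fin 2) (ZMod n)) : Matrix (Fin 2) (Fin 2) (ZMod n)) = _
    rw [hf h, hf h', hhh]
  have hsurj : Function.Surjective f := by
    rintro ⟨x, hx⟩
    obtain ⟨h, hh, hhx⟩ := hIII x (List.mem_toFinset.mp hx)
    refine ⟨⟨h, hh⟩, ?_⟩
    apply Subtype.ext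
    have h1 := hf ⟨h, hh⟩
    rw [hhx] at h1
    exact (toMat_injOn n (hred x (List.mem_toFinset.mp hx))
      (hred _ (List.mem_toFinset.mp (f ⟨h, hh⟩).2)) h1).symm
  rw [Nat.card_congr (Equiv.ofBijective f ⟨hinj, hsurj⟩), Nat.card_eq_fintype_card, Fintype.card_coe,
    List.toFinset_card_of_nodup hnodup]

end Closure

/-- Boolean check that `x` is the identity or `x - 1` is invertible modulo `n`. -/
def fixFree (n : ℕ) (x : M4) : Bool :=
  x == one4 || ((x.1 + (n - 1)) * (x.2.2.2 + (n - 1))) % n != (x.2.1 * x.2.2.1) % n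

theorem natCast_pred_eq_neg_one (n : ℕ) [hn : Fact n.Prime] : ((n - 1 : ℕ) : ZMod n) = -1 := by
  have h1 : 1 ≤ n := hn.out.one_lt.le
  rw [Nat.cast_sub h1, ZMod.natCast_self, Nat.cast_one, zero_sub]

/-- Part II: a listed element fixing a nonzero vector is the identity. -/
theorem eq_one_of_mulVec_eq {n : ℕ} [hn : Fact n.Prime] {h : GL (Fin 2) (ZMod n)} {x : M4}
    (hx : (h : Matrix (Fin 2) (Fin 2) (ZMod n)) = toMat n x) (hfix : fixFree n x = true)
    {v : Fin 2 → ZMod n} (hv : v ≠ 0)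
    (hhv : Matrix.mulVec (h : Matrix (Fin 2) (Fin 2) (ZMod n)) v = v) : h = 1 := by
  simp only [fixFree, Bool.or_eq_true, beq_iff_eq, bne_iff_ne, ne_eq] at hfix
  rcases hfix with h1 | h1
  · apply Units.ext
    show (h : Matrix (Fin 2) (Fin 2) (ZMod n)) = 1
    rw [hx, h1, toMat_one4]
  · exfalso
    apply hv
    have hdet : (toMat n x - 1).det ≠ 0 := by
      intro hd
      apply h1
      rw [← ZMod.natCast_eq_natCast_iff']
      rw [Matrix.det_fin_two] at hd
      simp only [toMat, Matrix.sub_apply, Matrix.of_apply, Matrix.cons_val_zero, Matrix.cons_val_one,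
        Matrix.cons_val', Matrix.cons_val_fin_one, Matrix.one_apply_eq, Matrix.one_apply_ne,
        ne_eq, zero_ne_one, one_ne_zero, not_false_eq_true, sub_zero] at hd
      push_cast
      rw [natCast_pred_eq_neg_one]
      linear_combination hd
    apply Matrix.eq_zero_of_mulVec_eq_zero hdet
    rw [Matrix.sub_mulVec, Matrix.one_mulVec, ← hx, hhv, sub_self]

/-- Part IV: a fixed-point-free subgroup of order `n² - 1` is regular on nonzero vectors. -/
theorem existsUnique_of_free {n : ℕ} [hn : Fact n.Prime] (H : Subgroup (GL (Fin 2) (ZMod n)))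
    (hcard : Nat.card H = n ^ 2 - 1)
    (hfree : ∀ h ∈ H, ∀ v : Fin 2 → ZMod n, v ≠ 0 →
      Matrix.mulVec (h : Matrix (Fin 2) (Fin 2) (ZMod n)) v = v → h = 1)
    (v w : Fin 2 → ZMod n) (hv : v ≠ 0) (hw : w ≠ 0) :
    ∃! h : H, Matrix.mulVec ((h : GL (Fin 2) (ZMod n)) : Matrix (Fin 2) (Fin 2) (ZMod n)) v = w := by
  classical
  have hne : ∀ h : GL (Fin 2) (ZMod n), Matrix.mulVec (h : Matrix (Fin 2) (Fin 2) (ZMod n)) v ≠ 0 := by
    intro h h0
    apply hv
    have := congrArg (Matrix.mulVec ((h⁻¹ : GL (Fin 2) (ZMod n)) : Matrix (Fin 2) (Fin 2) (ZMod n))) h0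
    rw [Matrix.mulVec_mulVec, ← Units.val_mul, inv_mul_cancel, Units.val_one, Matrix.one_mulVec,
      Matrix.mulVec_zero] at this
    exact this
  let f : H → {u : Fin 2 → ZMod n // u ≠ 0} := fun h =>
    ⟨Matrix.mulVec ((h : GL (Fin 2) (ZMod n)) : Matrix (Fin 2) (Fin 2) (ZMod n)) v, hne h⟩
  have hinj : Function.Injective f := by
    intro h h' hhh
    have e : Matrix.mulVec ((h : GL (Fin 2) (ZMod n)) : Matrix (Fin 2) (Fin 2) (ZMod n)) v =
        Matrix.mulVec ((h' : GL (Fin 2) (ZMod n)) : Matrix (Fin 2) (Fin 2) (ZMod n)) v :=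
      congrArg Subtype.val hhh
    have h1 : (h'⁻¹ * h : H) = 1 := by
      apply Subtype.ext
      apply hfree _ (h'⁻¹ * h).2 v hv
      show Matrix.mulVec (((h' : GL (Fin 2) (ZMod n))⁻¹ * (h : GL (Fin 2) (ZMod n)) :
        GL (Fin 2) (ZMod n)) : Matrix (Fin 2) (Fin 2) (ZMod n)) v = v
      rw [Units.val_mul, ← Matrix.mulVec_mulVec, e, Matrix.mulVec_mulVec, ← Units.val_mul,
        inv_mul_cancel, Units.val_one, Matrix.one_mulVec]
    exact (inv_mul_eq_one.mp h1).symm
  have hfin : Finite H := by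
    apply Nat.finite_of_card_ne_zero
    rw [hcard]
    have := hn.out.two_le
    have : 4 ≤ n ^ 2 := by nlinarith
    omega
  have hcard2 : Nat.card {u : Fin 2 → ZMod n // u ≠ 0} = n ^ 2 - 1 := by
    haveI : NeZero n := ⟨hn.out.ne_zero⟩
    rw [Nat.card_eq_fintype_card, Fintype.card_subtype_compl, Fintype.card_fun, ZMod.card,
      Fintype.card_fin, Fintype.card_subtype_eq]
  have hbij : Function.Bijective f := by
    rw [Nat.bijective_iff_injective_and_card]
    exact ⟨hinj, by rw [hcard, hcard2]⟩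
  obtain ⟨h, hh⟩ := hbij.2 ⟨w, hw⟩
  refine ⟨h, congrArg Subtype.val hh, ?_⟩
  intro h' hh'
  apply hinj
  rw [hh]
  exact Subtype.ext hh'

section Scalar

variable {n : ℕ} (S : Set (GL (Fin 2) (ZMod n))) (gens0 ginv0 elts0 : List M4) (c c' : ℕ)
  (scal : List ℕ)

/-- Part I with an extra central scalar generator: every element of the closure is a listed
scalar times a listed matrix. -/
theorem exists_mem_of_mem_closure_scal
    (hgen : ∀ g ∈ S, (∃ x ∈ gens0, (g : Matrix (Fin 2) (Fin 2) (ZMod n)) = toMat n x) ∨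
      (g : Matrix (Fin 2) (Fin 2) (ZMod n)) = (c : ZMod n) • (1 : Matrix (Fin 2) (Fin 2) (ZMod n)))
    (hginv : ∀ g ∈ S, (∃ x ∈ ginv0,
        ((g⁻¹ : GL (Fin 2) (ZMod n)) : Matrix (Fin 2) (Fin 2) (ZMod n)) = toMat n x) ∨
      ((g⁻¹ : GL (Fin 2) (ZMod n)) : Matrix (Fin 2) (Fin 2) (ZMod n)) =
        (c' : ZMod n) • (1 : Matrix (Fin 2) (Fin 2) (ZMod n)))
    (hone : one4 ∈ elts0) (h1 : 1 ∈ scal)
    (hclosed : ∀ x ∈ elts0, ∀ g ∈ gens0 ++ ginv0, mul4 n x g ∈ elts0)
    (hclosedS : ∀ s ∈ scal, (s * c) % n ∈ scal ∧ (s * c') % n ∈ scal)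
    {h : GL (Fin 2) (ZMod n)} (hh : h ∈ Subgroup.closure S) :
    ∃ x ∈ elts0, ∃ s ∈ scal,
      (h : Matrix (Fin 2) (Fin 2) (ZMod n)) = (s : ZMod n) • toMat n x := by
  induction hh using Subgroup.closure_induction_right with
  | one => exact ⟨one4, hone, 1, h1, by rw [toMat_one4, Nat.cast_one, one_smul]; rfl⟩
  | mul_right x hx y hy ih =>
    obtain ⟨a, ha, s, hs, hxa⟩ := ih
    rcases hgen y hy with ⟨b, hb, hyb⟩ | hyc
    · refine ⟨mul4 n a b, hclosed a ha b (List.mem_append_left _ hb), s, hs, ?_⟩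
      rw [toMat_mul4, Units.val_mul, hxa, hyb, Matrix.smul_mul]
    · refine ⟨a, ha, (s * c) % n, (hclosedS s hs).1, ?_⟩
      rw [Units.val_mul, hxa, hyc, ZMod.natCast_mod, Nat.cast_mul, Matrix.smul_mul, Matrix.mul_smul,
        Matrix.mul_one, smul_smul, mul_comm]
  | mul_inv_cancel x hx y hy ih =>
    obtain ⟨a, ha, s, hs, hxa⟩ := ih
    rcases hginv y hy with ⟨b, hb, hyb⟩ | hyc
    · refine ⟨mul4 n a b, hclosed a ha b (List.mem_append_right _ hb), s, hs, ?_⟩
      rw [toMat_mul4, Units.val_mul, hxa, hyb, Matrix.smul_mul]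
    · refine ⟨a, ha, (s * c') % n, (hclosedS s hs).2, ?_⟩
      rw [Units.val_mul, hxa, hyc, ZMod.natCast_mod, Nat.cast_mul, Matrix.smul_mul, Matrix.mul_smul,
        Matrix.mul_one, smul_smul, mul_comm]

end Scalar

/-- Boolean check that `s • x` is the identity (with `x = 1`, `s = 1`) or `s • x - 1` is
invertible modulo `n`. -/
def fixFreeS (n : ℕ) (x : M4) (s : ℕ) : Bool :=
  (x == one4 && s == 1) ||
    ((s * x.1 + (n - 1)) * (s * x.2.2.2 + (n - 1))) % n != ((s * x.2.1) * (s * x.2.2.1)) % n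

/-- Part II with scalars. -/
theorem eq_one_of_mulVec_eq_scal {n : ℕ} [hn : Fact n.Prime] {h : GL (Fin 2) (ZMod n)} {x : M4}
    {s : ℕ} (hx : (h : Matrix (Fin 2) (Fin 2) (ZMod n)) = (s : ZMod n) • toMat n x)
    (hfix : fixFreeS n x s = true) {v : Fin 2 → ZMod n} (hv : v ≠ 0)
    (hhv : Matrix.mulVec (h : Matrix (Fin 2) (Fin 2) (ZMod n)) v = v) : h = 1 := by
  simp only [fixFreeS, Bool.or_eq_true, Bool.and_eq_true, beq_iff_eq, bne_iff_ne, ne_eq] at hfix
  rcases hfix with ⟨h1, h2⟩ | h1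
  · apply Units.ext
    show (h : Matrix (Fin 2) (Fin 2) (ZMod n)) = 1
    rw [hx, h1, h2, toMat_one4, Nat.cast_one, one_smul]
  · exfalso
    apply hv
    have hdet : ((s : ZMod n) • toMat n x - 1).det ≠ 0 := by
      intro hd
      apply h1
      rw [← ZMod.natCast_eq_natCast_iff']
      rw [Matrix.det_fin_two] at hd
      simp only [toMat, Matrix.sub_apply, Matrix.smul_apply, Matrix.of_apply, Matrix.cons_val_zero,
        Matrix.cons_val_one, Matrix.cons_val', Matrix.cons_val_fin_one, Matrix.one_apply_eq,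
        Matrix.one_apply_ne, ne_eq, zero_ne_one, one_ne_zero, not_false_eq_true, sub_zero,
        smul_eq_mul] at hd
      push_cast
      rw [natCast_pred_eq_neg_one]
      linear_combination hd
    apply Matrix.eq_zero_of_mulVec_eq_zero hdet
    rw [Matrix.sub_mulVec, Matrix.one_mulVec, ← hx, hhv, sub_self]

/-- Upper bound for the order of a subgroup all of whose elements are listed scalars times listed
matrices. -/
theorem card_le_of_scal {n : ℕ} (K : Subgroup (GL (Fin 2) (ZMod n))) (elts0 : List M4)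
    (scal : List ℕ)
    (hI : ∀ h ∈ K, ∃ x ∈ elts0, ∃ s ∈ scal,
      (h : Matrix (Fin 2) (Fin 2) (ZMod n)) = (s : ZMod n) • toMat n x) :
    Nat.card K ≤ elts0.length * scal.length := by
  classical
  have hI' : ∀ h : K, ∃ xs : elts0.toFinset × scal.toFinset,
      ((h : GL (Fin 2) (ZMod n)) : Matrix (Fin 2) (Fin 2) (ZMod n)) =
        ((xs.2.1 : ℕ) : ZMod n) • toMat n xs.1.1 := by
    intro h
    obtain ⟨x, hx, s, hs, hhx⟩ := hI h.1 h.2
    exact ⟨⟨⟨x, List.mem_toFinset.mpr hx⟩, ⟨s, List.mem_toFinset.mpr hs⟩⟩, hhx⟩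
  choose f hf using hI'
  have hinj : Function.Injective f := by
    intro h h' hhh
    apply Subtype.ext
    apply Units.ext
    show ((h : GL (Fin 2) (ZMod n)) : Matrix (Fin 2) (Fin 2) (ZMod n)) = _
    rw [hf h, hf h', hhh]
  calc Nat.card K ≤ Nat.card (elts0.toFinset × scal.toFinset) := Nat.card_le_card_of_injective f hinj
    _ = elts0.toFinset.card * scal.toFinset.card := by
        rw [Nat.card_prod, Nat.card_eq_fintype_card, Nat.card_eq_fintype_card, Fintype.card_coe,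
          Fintype.card_coe]
    _ ≤ elts0.length * scal.length :=
        Nat.mul_le_mul (List.toFinset_card_le _) (List.toFinset_card_le _)

end Cfsg.H5.Mat2
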