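import Mathlib
import Cfsg.Prelude.Def_OddOrderLocal
import Cfsg.Prelude.Def_CaseTheorems
import Cfsg.Agent.Lib.Helper4.CSC4

set_option autoImplicit false

/-! Metacyclic `2`-groups containing a nonabelian subgroup of order `8` are dihedral, generalized
quaternion or semidihedral. -/

namespace Cfsg.H5.MetaTwo

open Cfsg
open scoped commutatorElement

/-- a cyclic group has at most one involution -/
theorem eq_of_sq_eq_one_of_isCyclic {Q : Type*} [Group Q] [Finite Q] [IsCyclic Q] {y₁ y₂ : Q}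
    (h₁ : y₁ ^ 2 = 1) (h₂ : y₂ ^ 2 = 1) (n₁ : y₁ ≠ 1) (n₂ : y₂ ≠ 1) : y₁ = y₂ := by
  classical
  have := Fintype.ofFinite Q
  by_contra hne
  have hle := IsCyclic.card_pow_eq_one_le (α := Q) (n := 2) (by norm_num)
  have hsub : ({1, y₁, y₂} : Finset Q) ⊆ Finset.univ.filter (fun a => a ^ 2 = 1) := by
    intro x hx
    simp only [Finset.mem_insert, Finset.mem_singleton] at hx
    simp only [Finset.mem_filter, Finset.mem_univ, true_and]
    rcases hx with rfl | rfl | rfl
    · exact one_pow 2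
    · exact h₁
    · exact h₂
  have hcard : ({1, y₁, y₂} : Finset Q).card = 3 := by
    rw [Finset.card_insert_of_notMem, Finset.card_insert_of_notMem, Finset.card_singleton]
    · simpa using hne
    · simp only [Finset.mem_insert, Finset.mem_singleton, not_or]
      exact ⟨n₁.symm, n₂.symm⟩
  have h3 := Finset.card_le_card hsub
  omega

section main

variable {X : Type*} [Group X] [Finite X]

/-- the case where the element of order `4` lies in the cyclic normal subgroup -/
theorem dqs_of_pair_mem (hX : IsPGroup 2 X) (N : Subgroup X) [hNn : N.Normal] (hNc : IsCyclic N)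
    (hQc : IsCyclic (X ⧸ N)) {v w : X} (hvN : v ∈ N) (hv4 : v ^ 4 = 1) (hv2 : v ^ 2 ≠ 1)
    (hw : w * v * w⁻¹ = v⁻¹) (hw2 : w ^ 2 ∈ N) :
    (∃ m : ℕ, Nonempty (X ≃* DihedralGroup m)) ∨ (∃ m : ℕ, Nonempty (X ≃* QuaternionGroup m)) ∨
      Cfsg.IsQuasiDihedral X := by
  have : Fact (Nat.Prime 2) := ⟨Nat.prime_two⟩
  obtain ⟨⟨a, haN⟩, hgen⟩ := IsCyclic.exists_generator (α := N)
  have hNa : ∀ x, x ∈ N ↔ x ∈ Subgroup.zpowers a := by
    intro x
    constructor
    · intro hx
      obtain ⟨k, hk⟩ := Subgroup.mem_zpowers_iff.mp (hgen ⟨x, hx⟩)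
      refine Subgroup.mem_zpowers_iff.mpr ⟨k, ?_⟩
      have := congrArg Subtype.val hk
      simpa using this
    · intro hx
      obtain ⟨k, rfl⟩ := Subgroup.mem_zpowers_iff.mp hx
      exact N.zpow_mem haN k
  have hNcomm : ∀ x ∈ N, ∀ y ∈ N, x * y = y * x := by
    intro x hx y hy
    obtain ⟨i, rfl⟩ := Subgroup.mem_zpowers_iff.mp ((hNa x).mp hx)
    obtain ⟨j, rfl⟩ := Subgroup.mem_zpowers_iff.mp ((hNa y).mp hy)
    exact ((Commute.refl a).zpow_zpow i j).eq
  obtain ⟨m, hm⟩ := (IsPGroup.iff_orderOf.mp hX) a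
  -- `w` does not commute with `v`
  have hwv : w * v ≠ v * w := by
    intro h
    apply hv2
    have h1 : w * v * w⁻¹ = v := by rw [h]; group
    rw [h1] at hw
    rw [pow_two]
    nth_rewrite 1 [hw]
    exact inv_mul_cancel v
  have hwN : w ∉ N := fun h => hwv (hNcomm w h v hvN)
  -- every element outside `N` has a power in the coset `w N`
  have hinv : ∀ g : X, g ∉ N → ∃ h ∈ Subgroup.zpowers g, h⁻¹ * w ∈ N := by
    intro g hg
    have hgtop : N.comap (Subgroup.zpowers g).subtype ≠ ⊤ := by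
      intro h
      apply hg
      have : (⟨g, Subgroup.mem_zpowers g⟩ : Subgroup.zpowers g) ∈
          N.comap (Subgroup.zpowers g).subtype := by rw [h]; trivial
      exact this
    have hZp : IsPGroup 2 (Subgroup.zpowers g) := hX.to_subgroup _
    obtain ⟨h, hh1, hh2⟩ :=
      Cfsg.Agent.Lib.Helper10.exists_pow_mem_of_ne_top hZp _ hgtop
    refine ⟨h.1, h.2, ?_⟩
    have hhN : (h : X) ∉ N := hh1
    have hh2N : (h : X) ^ 2 ∈ N := by
      have : ((h ^ 2 : Subgroup.zpowers g) : X) ∈ N := hh2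
      simpa using this
    have e1 : (QuotientGroup.mk (h : X) : X ⧸ N) = QuotientGroup.mk w := by
      apply eq_of_sq_eq_one_of_isCyclic
      · rw [← QuotientGroup.mk_pow, QuotientGroup.eq_one_iff]; exact hh2N
      · rw [← QuotientGroup.mk_pow, QuotientGroup.eq_one_iff]; exact hw2
      · rw [Ne, QuotientGroup.eq_one_iff]; exact hhN
      · rw [Ne, QuotientGroup.eq_one_iff]; exact hwN
    exact QuotientGroup.eq.mp e1
  -- if `g ∉ N` centralizes an element `y` of `N`, so does `w`
  have hcent : ∀ g : X, g ∉ N → ∀ y ∈ N, g * y = y * g → w * y = y * w := by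
    intro g hg y hy hgy
    obtain ⟨h, hh, hhw⟩ := hinv g hg
    obtain ⟨k, rfl⟩ := Subgroup.mem_zpowers_iff.mp hh
    have h1 : Commute (g ^ k) y := (show Commute g y from hgy).zpow_left k
    have h2 : Commute ((g ^ k)⁻¹ * w) y := hNcomm _ hhw y hy
    have h3 : w = g ^ k * ((g ^ k)⁻¹ * w) := by group
    rw [h3]
    exact (h1.mul_left h2).eq
  have hyp : Cfsg.Agent.Helper4.CSC.Hyp 2 m a := by
    refine ⟨hX, hm, fun g => ?_, fun g hg => ?_, ⟨w, fun h => hwN ((hNa w).mpr h)⟩⟩
    · rw [← hNa]; exact hNn.conj_mem a haN g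
    · by_contra hgN
      rw [← hNa] at hgN
      have h1 := hcent g hgN a haN hg
      apply hwv
      obtain ⟨i, rfl⟩ := Subgroup.mem_zpowers_iff.mp ((hNa v).mp hvN)
      exact ((show Commute w a from h1).zpow_right i).eq
  rcases hyp.dichotomy with ⟨-, x, hx, hall, hconj⟩ | ⟨hpn, x, hxM, hxU⟩
  · exact (hyp.beta_recog hx hall hconj).2
  · exfalso
    have hm2 := hyp.two_le
    have hm3 : 3 ≤ m := by
      by_contra hlt
      exact hpn ⟨rfl, by omega⟩
    rw [← hNa] at hxU
    have h1 : w * a ^ 2 = a ^ 2 * w := hcent x hxU (a ^ 2) (N.pow_mem haN 2) hxM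
    apply hwv
    -- `v` is a power of `a ^ 2`
    have hvz := (hNa v).mp hvN
    rw [← (isOfFinOrder_of_finite a).mem_powers_iff_mem_zpowers] at hvz
    obtain ⟨i, rfl⟩ := (Submonoid.mem_powers_iff _ _).mp hvz
    rcases Nat.even_or_odd i with ⟨j, hj⟩ | hodd
    · have e1 : a ^ i = (a ^ 2) ^ j := by rw [← pow_mul, hj]; ring_nf
      rw [e1]
      exact ((show Commute w (a ^ 2) from h1).pow_right j).eq
    · exfalso
      have hcop : Nat.Coprime (orderOf a) i := by
        rw [hm]
        exact Nat.Coprime.pow_left m (Nat.coprime_two_left.mpr hodd)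
      have hord : orderOf (a ^ i) = orderOf a := hcop.orderOf_pow
      have hdvd : orderOf (a ^ i) ∣ 4 := orderOf_dvd_of_pow_eq_one hv4
      rw [hord, hm] at hdvd
      have hle : 2 ^ m ≤ 4 := Nat.le_of_dvd (by norm_num) hdvd
      have : 2 ^ 3 ≤ 2 ^ m := Nat.pow_le_pow_right (by norm_num) hm3
      omega

/-- **Metacyclic `2`-groups with a nonabelian subgroup of order `8`.** If the metacyclic `2`-group
`X` contains `v` of order `4` and `w` inverting `v` with `w² ∈ {1, v²}`, then `X` is dihedral,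
generalized quaternion or semidihedral. -/
theorem dqs_of_pair (hX : IsPGroup 2 X) (hm : Cfsg.IsMetacyclic X) {v w : X} (hv4 : v ^ 4 = 1)
    (hv2 : v ^ 2 ≠ 1) (hw : w * v * w⁻¹ = v⁻¹) (hw2 : w ^ 2 = 1 ∨ w ^ 2 = v ^ 2) :
    (∃ m : ℕ, Nonempty (X ≃* DihedralGroup m)) ∨ (∃ m : ℕ, Nonempty (X ≃* QuaternionGroup m)) ∨
      Cfsg.IsQuasiDihedral X := by
  obtain ⟨N, hNn, hNc, hQc⟩ := hm
  have hcomN : commutator X ≤ N := by
    have h1 : IsMulCommutative (X ⧸ N) := IsCyclic.isMulCommutative
    exact Subgroup.Normal.quotient_commutative_iff_commutator_le.mp h1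
  have hw' : w * v⁻¹ * w⁻¹ = v := by
    have h0 : w * v⁻¹ * w⁻¹ = (w * v * w⁻¹)⁻¹ := by group
    rw [h0, hw, inv_inv]
  have hzN : v ^ 2 ∈ N := by
    have h1 : ⁅v, w⁆ = v ^ 2 := by
      rw [commutatorElement_def]
      calc v * w * v⁻¹ * w⁻¹ = v * (w * v⁻¹ * w⁻¹) := by group
        _ = v ^ 2 := by rw [hw', pow_two]
    rw [← h1]
    exact hcomN (Subgroup.commutator_mem_commutator (Subgroup.mem_top _) (Subgroup.mem_top _))
  have hw2N : w ^ 2 ∈ N := by
    rcases hw2 with h | h
    · rw [h]; exact N.one_mem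
    · rw [h]; exact hzN
  have hwv : w * v ≠ v * w := by
    intro h
    apply hv2
    have h1 : w * v * w⁻¹ = v := by rw [h]; group
    rw [h1] at hw
    rw [pow_two]
    nth_rewrite 1 [hw]
    exact inv_mul_cancel v
  have hv4' : (v ^ 2) ^ 2 = 1 := by rw [← pow_mul]; exact hv4
  -- the unique involution of `N`
  have hinvN : ∀ y ∈ N, y ^ 2 = 1 → y ≠ 1 → y = v ^ 2 := by
    intro y hy hy2 hy1
    have h1 : (⟨y, hy⟩ : N) = ⟨v ^ 2, hzN⟩ := by
      apply eq_of_sq_eq_one_of_isCyclic
      · exact Subtype.ext hy2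
      · exact Subtype.ext hv4'
      · intro h; exact hy1 (congrArg Subtype.val h)
      · intro h; exact hv2 (congrArg Subtype.val h)
    exact congrArg Subtype.val h1
  by_cases hvN : v ∈ N
  · exact dqs_of_pair_mem hX N hNc hQc hvN hv4 hv2 hw hw2N
  by_cases hwN : w ∈ N
  · -- then `w² = v²` and the pair `(w, v)` works
    have hw2' : w ^ 2 = v ^ 2 := by
      rcases hw2 with h | h
      · exfalso
        have hw1 : w ≠ 1 := by
          rintro rfl
          exact hwv (by rw [one_mul, mul_one])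
        have h1 := hinvN w hwN h hw1
        apply hwv
        rw [h1, pow_two]; group
      · exact h
    refine dqs_of_pair_mem hX N hNc hQc hwN ?_ ?_ ?_ hzN
    · calc w ^ 4 = (w ^ 2) ^ 2 := by rw [← pow_mul]
        _ = 1 := by rw [hw2', hv4']
    · rw [hw2']; exact hv2
    · -- `v w v⁻¹ = w⁻¹`
      have h1 : w * v⁻¹ = v * w := by
        calc w * v⁻¹ = (w * v⁻¹ * w⁻¹) * w := by group
          _ = v * w := by rw [hw']
      have h2 : v⁻¹ * v⁻¹ = w * w := by
        have h3 : v⁻¹ * v⁻¹ = (v ^ 2)⁻¹ := by rw [pow_two]; group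
        have h4 : (v ^ 2)⁻¹ = v ^ 2 := by
          rw [inv_eq_iff_mul_eq_one, ← pow_two]; exact hv4'
        rw [h3, h4, ← hw2', pow_two]
      have h5 : w * w * w * w = 1 := by
        have : w * w * w * w = (w ^ 2) ^ 2 := by rw [pow_two, pow_two]; group
        rw [this, hw2', hv4']
      calc v * w * v⁻¹ = w * v⁻¹ * v⁻¹ := by rw [h1]
        _ = w * (v⁻¹ * v⁻¹) := by group
        _ = w * (w * w) := by rw [h2]
        _ = w⁻¹ * (w * w * w * w) := by group
        _ = w⁻¹ := by rw [h5, mul_one]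
  · -- both outside `N`: then `v w ∈ N`
    have e1 : (QuotientGroup.mk v : X ⧸ N) = QuotientGroup.mk w := by
      apply eq_of_sq_eq_one_of_isCyclic
      · rw [← QuotientGroup.mk_pow, QuotientGroup.eq_one_iff]; exact hzN
      · rw [← QuotientGroup.mk_pow, QuotientGroup.eq_one_iff]; exact hw2N
      · rw [Ne, QuotientGroup.eq_one_iff]; exact hvN
      · rw [Ne, QuotientGroup.eq_one_iff]; exact hwN
    have huN : v * w ∈ N := by
      rw [← QuotientGroup.eq_one_iff, QuotientGroup.mk_mul, e1, ← pow_two, ← QuotientGroup.mk_pow,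
        QuotientGroup.eq_one_iff]
      exact hw2N
    have hu2 : (v * w) ^ 2 = w ^ 2 := by
      calc (v * w) ^ 2 = v * (w * v * w⁻¹) * (w * w) := by rw [pow_two]; group
        _ = w ^ 2 := by rw [hw, mul_inv_cancel, one_mul, pow_two]
    have hw2' : w ^ 2 = v ^ 2 := by
      rcases hw2 with h | h
      · exfalso
        have hu1 : v * w ≠ 1 := by
          intro h1
          apply hwv
          have : w = v⁻¹ := by
            rw [eq_inv_iff_mul_eq_one]
            have h2 : w * v = v⁻¹ * (v * w) * v := by group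
            rw [h2, h1]; group
          rw [this]; group
        have h1 := hinvN (v * w) huN (by rw [hu2, h]) hu1
        apply hwv
        have h2 : w = v := by
          have h3 : v * w = v * v := by rw [h1, pow_two]
          exact mul_left_cancel h3
        rw [h2]
      · exact h
    refine dqs_of_pair_mem hX N hNc hQc huN ?_ ?_ ?_ hw2N
    · calc (v * w) ^ 4 = ((v * w) ^ 2) ^ 2 := by rw [← pow_mul]
        _ = 1 := by rw [hu2, hw2', hv4']
    · rw [hu2, hw2']; exact hv2
    · -- `w (v w) w⁻¹ = (v w)⁻¹`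
      have h1 : w * v⁻¹ = v * w := by
        calc w * v⁻¹ = (w * v⁻¹ * w⁻¹) * w := by group
          _ = v * w := by rw [hw']
      have h2 : w * v⁻¹ * w = v⁻¹ := by
        have h3 : v * (w * w) = v⁻¹ := by
          rw [← pow_two, hw2']
          have : v * v ^ 2 * v = 1 := by
            have : v * v ^ 2 * v = v ^ 4 := by group
            rw [this, hv4]
          calc v * v ^ 2 = (v * v ^ 2 * v) * v⁻¹ := by group
            _ = v⁻¹ := by rw [this, one_mul]
        calc w * v⁻¹ * w = v * w * w := by rw [h1]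
          _ = v * (w * w) := by group
          _ = v⁻¹ := h3
      calc w * (v * w) * w⁻¹ = w * v * w⁻¹ * w := by group
        _ = v⁻¹ * w := by rw [hw]
        _ = w⁻¹ * (w * v⁻¹ * w) := by group
        _ = w⁻¹ * v⁻¹ := by rw [h2]
        _ = (v * w)⁻¹ := by group

end main

end Cfsg.H5.MetaTwo
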