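import Mathlib
import Cfsg.Prelude.Def_OddOrderLocal

set_option autoImplicit false

/-! In a metacyclic `2`-group, an abelian subgroup `D` of index `2` all of whose involutions are
squares (e.g. homocyclic of exponent at least `4`) is acted on trivially modulo squares. -/

namespace Cfsg.H5.MetaTwo

open Cfsg

section main

variable {X : Type*} [Group X] [Finite X]

theorem conj_mem_sq (hX : IsPGroup 2 X) (N : Subgroup X) [hNn : N.Normal] (hNc : IsCyclic N)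
    (hQc : IsCyclic (X ⧸ N)) (D : Subgroup X) (hDc : ∀ x ∈ D, ∀ y ∈ D, x * y = y * x)
    (hDn : ∀ g : X, ∀ y ∈ D, g * y * g⁻¹ ∈ D) {t : X} (htD : t ∉ D) (ht2 : t ^ 2 ∈ D)
    (hall : ∀ x : X, x ∈ D ∨ t⁻¹ * x ∈ D)
    (hsq : ∀ x ∈ D, x ^ 2 = 1 → ∃ u ∈ D, x = u ^ 2) :
    ∀ y ∈ D, ∃ u ∈ D, y⁻¹ * (t * y * t⁻¹) = u ^ 2 := by
  obtain ⟨⟨a, haN⟩, hgen⟩ := IsCyclic.exists_generator (α := N)
  have hNa : ∀ x, x ∈ N ↔ x ∈ Subgroup.zpowers a := by
    intro x
    constructor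
    · intro hx
      obtain ⟨k, hk⟩ := Subgroup.mem_zpowers_iff.mp (hgen ⟨x, hx⟩)
      refine Subgroup.mem_zpowers_iff.mpr ⟨k, ?_⟩
      have := congrArg Subtype.val hk
      simpa using this
    · intro hx
      obtain ⟨k, rfl⟩ := Subgroup.mem_zpowers_iff.mp hx
      exact N.zpow_mem haN k
  have hNcomm : ∀ x ∈ N, ∀ y ∈ N, x * y = y * x := by
    intro x hx y hy
    obtain ⟨i, rfl⟩ := Subgroup.mem_zpowers_iff.mp ((hNa x).mp hx)
    obtain ⟨j, rfl⟩ := Subgroup.mem_zpowers_iff.mp ((hNa y).mp hy)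
    exact ((Commute.refl a).zpow_zpow i j).eq
  -- elements outside `D` act on `D` like `t`, and have squares in `D`
  have hout : ∀ g : X, g ∉ D → (∀ y ∈ D, g * y * g⁻¹ = t * y * t⁻¹) ∧ g ^ 2 ∈ D := by
    intro g hg
    have hx₀ : t⁻¹ * g ∈ D := (hall g).resolve_left hg
    constructor
    · intro y hy
      have h1 : g = t * (t⁻¹ * g) := by group
      have h2 := hDc _ hx₀ y hy
      calc g * y * g⁻¹ = t * ((t⁻¹ * g) * y) * (t⁻¹ * g)⁻¹ * t⁻¹ := by group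
        _ = t * (y * (t⁻¹ * g)) * (t⁻¹ * g)⁻¹ * t⁻¹ := by rw [h2]
        _ = t * y * t⁻¹ := by group
    · have h1 : g ^ 2 = t ^ 2 * (t⁻¹ * (t⁻¹ * g) * t⁻¹⁻¹) * (t⁻¹ * g) := by
        rw [pow_two, pow_two]; group
      rw [h1]
      exact D.mul_mem (D.mul_mem ht2 (hDn t⁻¹ _ hx₀)) hx₀
  intro y hy
  by_cases hND : N ≤ D
  · -- `X = ⟨b⟩ N`
    obtain ⟨β, hβ⟩ := IsCyclic.exists_generator (α := X ⧸ N)
    obtain ⟨b, rfl⟩ := QuotientGroup.mk_surjective β
    have hb : ∀ x : X, ∃ j : ℤ, (b ^ j)⁻¹ * x ∈ N := by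
      intro x
      obtain ⟨j, hj⟩ := Subgroup.mem_zpowers_iff.mp (hβ (QuotientGroup.mk x))
      refine ⟨j, ?_⟩
      rw [← QuotientGroup.mk_zpow] at hj
      exact QuotientGroup.eq.mp hj
    have hbD : b ∉ D := by
      intro hbD
      apply htD
      obtain ⟨j, hj⟩ := hb t
      have h1 : t = b ^ j * ((b ^ j)⁻¹ * t) := by group
      rw [h1]
      exact D.mul_mem (D.zpow_mem hbD j) (hND hj)
    obtain ⟨hbact, hb2⟩ := hout b hbD
    obtain ⟨j, hj⟩ := hb y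
    -- `j` is even
    have hjeven : Even j := by
      rcases Int.even_or_odd j with h | ⟨i, hi⟩
      · exact h
      · exfalso
        apply hbD
        have h1 : b ^ j ∈ D := by
          have h2 : b ^ j = y * ((b ^ j)⁻¹ * y)⁻¹ := by group
          rw [h2]
          exact D.mul_mem hy (D.inv_mem (hND hj))
        have h3 : b = b ^ j * ((b ^ 2) ^ i)⁻¹ := by
          rw [hi, ← zpow_natCast b 2, ← zpow_mul, zpow_add, zpow_one]
          push_cast
          group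
        rw [h3]
        exact D.mul_mem h1 (D.inv_mem (D.zpow_mem hb2 i))
    obtain ⟨i, hi⟩ := hjeven
    obtain ⟨ν, hνdef⟩ : ∃ ν : X, ν = (b ^ j)⁻¹ * y := ⟨_, rfl⟩
    have hνN : ν ∈ N := by rw [hνdef]; exact hj
    have hyν : y = b ^ j * ν := by rw [hνdef]; group
    have h1 : y⁻¹ * (t * y * t⁻¹) = ν⁻¹ * (b * ν * b⁻¹) := by
      rw [← hbact y hy, hyν]
      have hc : Commute b (b ^ j) := (Commute.refl b).zpow_right j
      have hc' : b * b ^ j = b ^ j * b := hc.eq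
      calc (b ^ j * ν)⁻¹ * (b * (b ^ j * ν) * b⁻¹) = ν⁻¹ * (b ^ j)⁻¹ * (b * b ^ j) * ν * b⁻¹ := by
            group
        _ = ν⁻¹ * (b ^ j)⁻¹ * (b ^ j * b) * ν * b⁻¹ := by rw [hc']
        _ = ν⁻¹ * (b * ν * b⁻¹) := by group
    rw [h1]
    -- the action of `b` on `N = ⟨a⟩`
    have hconj : b * a * b⁻¹ ∈ Subgroup.zpowers a := by
      rw [← hNa]; exact hNn.conj_mem a haN b
    rw [← (isOfFinOrder_of_finite a).mem_powers_iff_mem_zpowers] at hconj
    obtain ⟨s, hs⟩ := (Submonoid.mem_powers_iff _ _).mp hconj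
    obtain ⟨k, hk⟩ := Subgroup.mem_zpowers_iff.mp ((hNa ν).mp hνN)
    by_cases ha1 : a = 1
    · refine ⟨1, D.one_mem, ?_⟩
      rw [← hk, ha1]
      simp
    have hsodd : Odd s := by
      obtain ⟨m, hm⟩ := (IsPGroup.iff_orderOf.mp hX) a
      have hm1 : m ≠ 0 := by
        rintro rfl
        rw [pow_zero, orderOf_eq_one_iff] at hm
        exact ha1 hm
      have hord : orderOf (a ^ s) = orderOf a := by
        rw [hs]
        have hsc : SemiconjBy b a (b * a * b⁻¹) := by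
          unfold SemiconjBy; group
        exact (SemiconjBy.orderOf_eq b hsc).symm
      rcases Nat.even_or_odd s with ⟨e, he⟩ | hodd
      · exfalso
        have h2 : (a ^ s) ^ (2 ^ (m - 1)) = 1 := by
          rw [← pow_mul, he]
          have : (e + e) * 2 ^ (m - 1) = 2 ^ m * e := by
            have : 2 ^ m = 2 * 2 ^ (m - 1) := by
              rw [← pow_succ']; congr 1; omega
            rw [this]; ring
          rw [this, pow_mul, ← hm, pow_orderOf_eq_one, one_pow]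
        have h3 := orderOf_dvd_of_pow_eq_one h2
        rw [hord, hm] at h3
        have h4 : 2 ^ m ≤ 2 ^ (m - 1) := Nat.le_of_dvd (by positivity) h3
        have h5 : 2 ^ (m - 1) < 2 ^ m := Nat.pow_lt_pow_right (by norm_num) (by omega)
        omega
      · exact hodd
    obtain ⟨e, he⟩ := hsodd
    refine ⟨(a ^ (e : ℤ)) ^ k, hND (N.zpow_mem (N.zpow_mem haN _) _), ?_⟩
    rw [← hk]
    have h2 : b * a ^ k * b⁻¹ = (a ^ s) ^ k := by
      rw [hs, conj_zpow]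
    rw [h2, he, ← zpow_natCast a (2 * e + 1), ← zpow_mul, ← zpow_neg, ← zpow_add, ← zpow_mul,
      ← zpow_natCast _ 2, ← zpow_mul]
    congr 1
    push_cast
    ring
  · -- some element of `N` lies outside `D`
    obtain ⟨a₀, ha₀N, ha₀D⟩ := SetLike.not_le_iff_exists.mp hND
    obtain ⟨hact, ha₀2⟩ := hout a₀ ha₀D
    obtain ⟨c, hcdef⟩ : ∃ c : X, c = y⁻¹ * (a₀ * y * a₀⁻¹) := ⟨_, rfl⟩
    have hcN : c ∈ N := by
      have h1 : c = (y⁻¹ * a₀ * y⁻¹⁻¹) * a₀⁻¹ := by rw [hcdef]; group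
      rw [h1]
      exact N.mul_mem (hNn.conj_mem a₀ ha₀N y⁻¹) (N.inv_mem ha₀N)
    have hcD : c ∈ D := by
      rw [hcdef]
      exact D.mul_mem (D.inv_mem hy) (hDn a₀ y hy)
    have hca : a₀ * c = c * a₀ := hNcomm a₀ ha₀N c hcN
    have hy2 : a₀ ^ 2 * y = y * a₀ ^ 2 := hDc _ ha₀2 y hy
    have hcc : c ^ 2 = 1 := by
      have h1 : a₀ * y * a₀⁻¹ = y * c := by rw [hcdef]; group
      have h2 : a₀ ^ 2 * y * (a₀ ^ 2)⁻¹ = y * c * c := by
        calc a₀ ^ 2 * y * (a₀ ^ 2)⁻¹ = a₀ * (a₀ * y * a₀⁻¹) * a₀⁻¹ := by rw [pow_two]; group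
          _ = a₀ * (y * c) * a₀⁻¹ := by rw [h1]
          _ = (a₀ * y * a₀⁻¹) * (a₀ * c) * a₀⁻¹ := by group
          _ = (y * c) * (c * a₀) * a₀⁻¹ := by rw [h1, hca]
          _ = y * c * c := by group
      have h3 : a₀ ^ 2 * y * (a₀ ^ 2)⁻¹ = y := by rw [hy2]; group
      rw [h3] at h2
      have h4 : y * 1 = y * (c * c) := by rw [mul_one, ← mul_assoc]; exact h2
      rw [pow_two]
      exact (mul_left_cancel h4).symm
    obtain ⟨u, hu, hcu⟩ := hsq c hcD hcc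
    refine ⟨u, hu, ?_⟩
    rw [← hact y hy, ← hcdef]
    exact hcu

end main

end Cfsg.H5.MetaTwo
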