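import Mathlib
import Cfsg.Agent.H5.MetaSC2
import Cfsg.Agent.H5.MetaTwo1
import Cfsg.Agent.H5.MetaTwo2

set_option autoImplicit false

/-! Strongly closed metacyclic subgroups of saturated fusion systems at the prime `2`. -/

namespace Cfsg.H5.MetaTwo

open Cfsg Cfsg.FusionSystem Cfsg.Agent.Lib.Helper27 Cfsg.H5.MetaSC

/-! ### Group-theoretic preliminaries -/

/-- a `p`-group of automorphisms of a nontrivial finite `p`-group has a nontrivial common fixed point -/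
theorem exists_common_fixed {V : Type*} [Group V] [Finite V] {p : ℕ} [hp : Fact p.Prime]
    (hV : IsPGroup p V) (hne : ∃ v : V, v ≠ 1) (Q : Subgroup (MulAut V)) (hQ : IsPGroup p Q) :
    ∃ e : V, e ≠ 1 ∧ ∀ q ∈ Q, q e = e := by
  classical
  have hmod := hQ.card_modEq_card_fixedPoints V
  have hdvd : p ∣ Nat.card V := by
    rcases hV.card_eq_or_dvd with h | h
    · exfalso
      obtain ⟨v, hv⟩ := hne
      have : Subsingleton V := (Nat.card_eq_one_iff_unique.mp h).1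
      exact hv (Subsingleton.elim _ _)
    · exact h
  by_contra hcon
  push Not at hcon
  have h1 : Nat.card ↥(MulAction.fixedPoints ↥Q V) = 1 := by
    rw [Nat.card_eq_one_iff_unique]
    constructor
    · constructor
      intro x y
      have hx : (x : V) = 1 := by
        by_contra hx1
        obtain ⟨q, hq, hqx⟩ := hcon (x : V) hx1
        exact hqx (x.2 ⟨q, hq⟩)
      have hy : (y : V) = 1 := by
        by_contra hy1
        obtain ⟨q, hq, hqy⟩ := hcon (y : V) hy1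
        exact hqy (y.2 ⟨q, hq⟩)
      apply Subtype.ext
      rw [hx, hy]
    · refine ⟨⟨1, ?_⟩⟩
      intro s
      show (s : MulAut V) 1 = 1
      exact map_one _
  rw [h1] at hmod
  have h2 : (0 : ℕ) ≡ 1 [MOD p] := ((Nat.modEq_zero_iff_dvd).mpr hdvd).symm.trans hmod
  have h3 : p ∣ 1 := by
    have := (Nat.modEq_iff_dvd' (by omega : 0 ≤ 1)).mp h2
    simpa using this
  exact hp.out.one_lt.ne' (Nat.dvd_one.mp h3)

/-- in `ZMod (2^n)` with `n ≥ 2`, elements killed by `2` are even -/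
theorem exists_two_mul_of_two_mul_eq_zero {n : ℕ} (hn : 2 ≤ n) (i : ZMod (2 ^ n)) (hi : 2 * i = 0) :
    ∃ h : ZMod (2 ^ n), i = 2 * h := by
  have : NeZero (2 ^ n) := ⟨by positivity⟩
  have h1 : ((2 * i.val : ℕ) : ZMod (2 ^ n)) = 0 := by
    push_cast
    rw [ZMod.natCast_zmod_val, hi]
  rw [ZMod.natCast_eq_zero_iff] at h1
  have h2 : 2 ^ n = 2 * 2 ^ (n - 1) := by
    rw [← pow_succ']; congr 1; omega
  have h1' : 2 * 2 ^ (n - 1) ∣ 2 * i.val := h2 ▸ h1
  have h3 : 2 ^ (n - 1) ∣ i.val := Nat.dvd_of_mul_dvd_mul_left (by norm_num) h1'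
  have h4 : 2 ∣ i.val := (dvd_pow_self 2 (by omega : n - 1 ≠ 0)).trans h3
  obtain ⟨h', hh'⟩ := h4
  refine ⟨(h' : ZMod (2 ^ n)), ?_⟩
  rw [← ZMod.natCast_zmod_val i, hh']
  push_cast
  rfl

/-- in a homocyclic group of rank two and exponent at least `4`, involutions are squares -/
theorem exists_sq_of_homocyclic {D : Type*} [Group D] {n : ℕ} (hn : 2 ≤ n)
    (e : D ≃* Multiplicative (ZMod (2 ^ n)) × Multiplicative (ZMod (2 ^ n))) (x : D)
    (hx : x ^ 2 = 1) : ∃ u : D, x = u ^ 2 := by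
  have h1 : (e x) ^ 2 = 1 := by rw [← map_pow, hx, map_one]
  have h2 : 2 * Multiplicative.toAdd (e x).1 = 0 := by
    have := congrArg (fun y => Multiplicative.toAdd y.1) h1
    simpa [two_mul, pow_two] using this
  have h3 : 2 * Multiplicative.toAdd (e x).2 = 0 := by
    have := congrArg (fun y => Multiplicative.toAdd y.2) h1
    simpa [two_mul, pow_two] using this
  obtain ⟨a, ha⟩ := exists_two_mul_of_two_mul_eq_zero hn _ h2
  obtain ⟨b, hb⟩ := exists_two_mul_of_two_mul_eq_zero hn _ h3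
  refine ⟨e.symm (Multiplicative.ofAdd a, Multiplicative.ofAdd b), ?_⟩
  apply e.injective
  rw [map_pow, MulEquiv.apply_symm_apply]
  apply Prod.ext
  · apply Multiplicative.toAdd.injective
    simp only [Prod.pow_fst, toAdd_pow, toAdd_ofAdd]
    rw [ha]
    simp [two_mul]
  · apply Multiplicative.toAdd.injective
    simp only [Prod.pow_snd, toAdd_pow, toAdd_ofAdd]
    rw [hb]
    simp [two_mul]

/-- the subgroup `D ∪ d D` -/
def dExt {Ω : Type*} [Group Ω] (D : Subgroup Ω) (d : Ω) (h1 : ∀ x ∈ D, d⁻¹ * x * d ∈ D)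
    (h2 : d ^ 2 ∈ D) : Subgroup Ω where
  carrier := {x | x ∈ D ∨ d⁻¹ * x ∈ D}
  one_mem' := Or.inl D.one_mem
  mul_mem' := by
    rintro x y (hx | hx) (hy | hy)
    · exact Or.inl (D.mul_mem hx hy)
    · right
      have e1 : d⁻¹ * (x * y) = (d⁻¹ * x * d) * (d⁻¹ * y) := by group
      rw [e1]
      exact D.mul_mem (h1 x hx) hy
    · right
      have e1 : d⁻¹ * (x * y) = (d⁻¹ * x) * y := by group
      rw [e1]
      exact D.mul_mem hx hy
    · left
      have e1 : x * y = d ^ 2 * (d⁻¹ * (d⁻¹ * x) * d) * (d⁻¹ * y) := by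
        rw [pow_two]; group
      rw [e1]
      exact D.mul_mem (D.mul_mem h2 (h1 _ hx)) hy
  inv_mem' := by
    rintro x (hx | hx)
    · exact Or.inl (D.inv_mem hx)
    · right
      have e1 : d⁻¹ * x⁻¹ = (d⁻¹ * (d⁻¹ * x)⁻¹ * d) * (d ^ 2)⁻¹ := by
        rw [pow_two]; group
      rw [e1]
      exact D.mul_mem (h1 _ (D.inv_mem hx)) (D.inv_mem h2)

theorem mem_dExt {Ω : Type*} [Group Ω] {D : Subgroup Ω} {d : Ω} {h1 : ∀ x ∈ D, d⁻¹ * x * d ∈ D}
    {h2 : d ^ 2 ∈ D} {x : Ω} : x ∈ dExt D d h1 h2 ↔ x ∈ D ∨ d⁻¹ * x ∈ D := Iff.rfl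

/-- the case of a four-group acted on nontrivially -/
theorem dqs_of_klein {Ω : Type*} [Group Ω] (P : Subgroup Ω) [Finite P] (hPp : IsPGroup 2 ↥P)
    (hm : Cfsg.IsMetacyclic ↥P) (D : Subgroup Ω) (hDP : D ≤ P) (hD4 : Nat.card D = 4)
    (hD2 : ∀ x ∈ D, x ^ 2 = 1) {d : Ω} (hdP : d ∈ P) (hdD : ∀ x ∈ D, d * x * d⁻¹ ∈ D)
    (hd2 : d ^ 2 ∈ D) {k : Ω} (hk : k ∈ D) (hkd : d * k * d⁻¹ ≠ k) :
    (∃ m : ℕ, Nonempty (↥P ≃* DihedralGroup m)) ∨ (∃ m : ℕ, Nonempty (↥P ≃* QuaternionGroup m)) ∨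
      Cfsg.IsQuasiDihedral ↥P := by
  have hfinD : Finite ↥D := Finite.of_injective (Subgroup.inclusion hDP) (Subgroup.inclusion_injective _)
  have hinv : ∀ x ∈ D, x⁻¹ = x := by
    intro x hx
    rw [inv_eq_iff_mul_eq_one, ← pow_two]; exact hD2 x hx
  have hDc : ∀ x ∈ D, ∀ y ∈ D, x * y = y * x := by
    intro x hx y hy
    have h1 := hinv _ (D.mul_mem hx hy)
    rw [mul_inv_rev, hinv x hx, hinv y hy] at h1
    exact h1.symm
  obtain ⟨k', hk'def⟩ : ∃ k' : Ω, k' = d * k * d⁻¹ := ⟨_, rfl⟩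
  have hk' : k' ∈ D := by rw [hk'def]; exact hdD k hk
  obtain ⟨z, hzdef⟩ : ∃ z : Ω, z = k * k' := ⟨_, rfl⟩
  have hz : z ∈ D := by rw [hzdef]; exact D.mul_mem hk hk'
  have hz1 : z ≠ 1 := by
    rw [hzdef]
    intro h
    apply hkd
    rw [← hk'def]
    have h2 : k' = k⁻¹ := (eq_inv_of_mul_eq_one_right h)
    rw [h2, hinv k hk]
  have hdk' : d * k' * d⁻¹ = k := by
    have h1 : d * k' * d⁻¹ = d ^ 2 * k * (d ^ 2)⁻¹ := by rw [hk'def, pow_two]; group
    rw [h1, hDc _ hd2 k hk]; group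
  have hdz : d * z * d⁻¹ = z := by
    have h1 : d * z * d⁻¹ = (d * k * d⁻¹) * (d * k' * d⁻¹) := by rw [hzdef]; group
    rw [h1, hdk', ← hk'def, hzdef, hDc k' hk' k hk]
  -- the fixed points of `d` on `D`
  obtain ⟨C, hCdef⟩ : ∃ C : Subgroup Ω, C = D ⊓ Subgroup.centralizer {d} := ⟨_, rfl⟩
  have hCD : C ≤ D := by rw [hCdef]; exact inf_le_left
  have hmemC : ∀ x, x ∈ C ↔ x ∈ D ∧ d * x = x * d := by
    intro x
    rw [hCdef, Subgroup.mem_inf, Subgroup.mem_centralizer_iff]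
    constructor
    · rintro ⟨h1, h2⟩
      exact ⟨h1, h2 d rfl⟩
    · rintro ⟨h1, h2⟩
      refine ⟨h1, fun y hy => ?_⟩
      rw [Set.mem_singleton_iff] at hy
      rw [hy]; exact h2
  have hzC : z ∈ C := by
    rw [hmemC]
    refine ⟨hz, ?_⟩
    calc d * z = (d * z * d⁻¹) * d := by group
      _ = z * d := by rw [hdz]
  have hkC : k ∉ C := by
    rw [hmemC]
    rintro ⟨-, h⟩
    apply hkd
    rw [h]; group
  have hd2C : d ^ 2 ∈ C := by
    rw [hmemC]
    exact ⟨hd2, by rw [pow_two]; group⟩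
  have hcardC : Nat.card C = 2 := by
    have hdvd : Nat.card C ∣ 2 ^ 2 := by
      have := Subgroup.card_dvd_of_le hCD
      rw [hD4] at this
      exact this
    obtain ⟨j, hj, hjc⟩ := (Nat.dvd_prime_pow Nat.prime_two).mp hdvd
    have hj2 : j ≠ 2 := by
      rintro rfl
      apply hkC
      have : C = D := Subgroup.eq_of_le_of_card_ge hCD (by rw [hjc, hD4]; norm_num)
      rw [this]; exact hk
    have hj0 : j ≠ 0 := by
      rintro rfl
      rw [pow_zero] at hjc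
      have hbot : C = ⊥ := Subgroup.card_eq_one.mp hjc
      rw [hbot, Subgroup.mem_bot] at hzC
      exact hz1 hzC
    have hj1 : j = 1 := by omega
    rw [hjc, hj1, pow_one]
  have hPm : ∀ x ∈ D, x ∈ P := fun x hx => hDP hx
  have hkk : k * k = 1 := by rw [← pow_two]; exact hD2 k hk
  have hk'k' : k' * k' = 1 := by rw [← pow_two]; exact hD2 k' hk'
  have hzz : z * z = 1 := by rw [← pow_two]; exact hD2 z hz
  rcases Cfsg.Agent.Lib.Helper1.MaxClassTwo.eq_one_or_eq_of_card_two hcardC hd2C hzC hz1 with hdd | hdd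
  · -- `d² = 1`: the pair `(d k, d)`
    have hdd' : d * d = 1 := by rw [← pow_two]; exact hdd
    have hdinv : d⁻¹ = d := by rw [inv_eq_iff_mul_eq_one]; exact hdd'
    have hvv : (d * k) * (d * k) = z := by
      calc (d * k) * (d * k) = (d * k * d⁻¹) * (d * d) * k := by group
        _ = k' * k := by rw [← hk'def, hdd', mul_one]
        _ = z := by rw [hzdef, hDc k' hk' k hk]
    refine dqs_of_pair hPp hm (v := ⟨d * k, P.mul_mem hdP (hPm k hk)⟩) (w := ⟨d, hdP⟩) ?_ ?_ ?_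
      (Or.inl ?_)
    · apply Subtype.ext
      show (d * k) ^ 4 = 1
      calc (d * k) ^ 4 = ((d * k) ^ 2) ^ 2 := by rw [← pow_mul]
        _ = 1 := by rw [pow_two (d * k), hvv, pow_two, hzz]
    · intro h
      have h1 := congrArg Subtype.val h
      apply hz1
      rw [← hvv, ← pow_two]
      exact h1
    · apply Subtype.ext
      show d * (d * k) * d⁻¹ = (d * k)⁻¹
      rw [mul_inv_rev, hinv k hk, ← mul_assoc, hdd', one_mul]
    · apply Subtype.ext
      show d ^ 2 = 1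
      exact hdd
  · -- `d² = z`: the pair `(d, k)`
    have hdd' : d * d = z := by rw [← pow_two]; exact hdd
    refine dqs_of_pair hPp hm (v := ⟨d, hdP⟩) (w := ⟨k, hPm k hk⟩) ?_ ?_ ?_ (Or.inl ?_)
    · apply Subtype.ext
      show d ^ 4 = 1
      calc d ^ 4 = (d ^ 2) ^ 2 := by rw [← pow_mul]
        _ = 1 := by rw [hdd, pow_two, hzz]
    · intro h
      have h1 := congrArg Subtype.val h
      apply hz1
      rw [← hdd]
      exact h1
    · apply Subtype.ext
      show k * d * k⁻¹ = d⁻¹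
      rw [eq_inv_iff_mul_eq_one]
      calc k * d * k⁻¹ * d = k * (d * k⁻¹ * d⁻¹) * (d * d) := by group
        _ = k * k' * z := by rw [hinv k hk, ← hk'def, hdd']
        _ = 1 := by rw [← hzdef, hzz]
    · apply Subtype.ext
      show k ^ 2 = 1
      exact hD2 k hk

/-- the case of a homocyclic group of exponent at least `4`: the action is trivial modulo squares -/
theorem conj_sq_of_homocyclic {Ω : Type*} [Group Ω] (P : Subgroup Ω) [Finite P]
    (hPp : IsPGroup 2 ↥P) (hm : Cfsg.IsMetacyclic ↥P) (D : Subgroup Ω) (hDP : D ≤ P)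
    (hDc : ∀ x ∈ D, ∀ y ∈ D, x * y = y * x) (hsq : ∀ x ∈ D, x ^ 2 = 1 → ∃ u ∈ D, x = u ^ 2)
    {d : Ω} (hdP : d ∈ P) (hdD : ∀ x ∈ D, d * x * d⁻¹ ∈ D) (hdD' : ∀ x ∈ D, d⁻¹ * x * d ∈ D)
    (hd2 : d ^ 2 ∈ D) (hdnD : d ∉ D) :
    ∀ y ∈ D, ∃ u ∈ D, y⁻¹ * (d * y * d⁻¹) = u ^ 2 := by
  obtain ⟨T, hTdef⟩ : ∃ T : Subgroup Ω, T = dExt D d hdD' hd2 := ⟨_, rfl⟩
  have hmemT : ∀ x, x ∈ T ↔ x ∈ D ∨ d⁻¹ * x ∈ D := by
    intro x; rw [hTdef]; exact mem_dExt
  have hTP : T ≤ P := by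
    intro x hx
    rcases (hmemT x).mp hx with h | h
    · exact hDP h
    · have e1 : x = d * (d⁻¹ * x) := by group
      rw [e1]
      exact P.mul_mem hdP (hDP h)
  have hDT : D ≤ T := fun x hx => (hmemT x).mpr (Or.inl hx)
  have hdT : d ∈ T := (hmemT d).mpr (Or.inr (by rw [inv_mul_cancel]; exact D.one_mem))
  have hfinT : Finite ↥T := Finite.of_injective (Subgroup.inclusion hTP) (Subgroup.inclusion_injective _)
  have hTp : IsPGroup 2 ↥T := hPp.of_injective (Subgroup.inclusion hTP) (Subgroup.inclusion_injective _)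
  have hTm : Cfsg.IsMetacyclic ↥T :=
    Cfsg.Agent.Lib.Helper10.isMetacyclic_of_injective (Subgroup.inclusion hTP)
      (Subgroup.inclusion_injective _) hm
  obtain ⟨N, hNn, hNc, hQc⟩ := hTm
  intro y hy
  have key := conj_mem_sq hTp N hNc hQc (D.subgroupOf T)
    (fun x hx y hy => Subtype.ext (hDc _ (Subgroup.mem_subgroupOf.mp hx) _
      (Subgroup.mem_subgroupOf.mp hy)))
    (fun g y hy => by
      rw [Subgroup.mem_subgroupOf] at hy ⊢
      show (g : Ω) * y * (g : Ω)⁻¹ ∈ D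
      rcases (hmemT g).mp g.2 with h | h
      · exact D.mul_mem (D.mul_mem h hy) (D.inv_mem h)
      · have e1 : (g : Ω) * y * (g : Ω)⁻¹ =
            d * ((d⁻¹ * (g : Ω)) * y * (d⁻¹ * (g : Ω))⁻¹) * d⁻¹ := by group
        rw [e1]
        exact hdD _ (D.mul_mem (D.mul_mem h hy) (D.inv_mem h)))
    (t := ⟨d, hdT⟩)
    (fun h => hdnD (Subgroup.mem_subgroupOf.mp h))
    (by
      rw [Subgroup.mem_subgroupOf]
      exact hd2)
    (fun x => by
      rcases (hmemT x).mp x.2 with h | h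
      · exact Or.inl (Subgroup.mem_subgroupOf.mpr h)
      · exact Or.inr (Subgroup.mem_subgroupOf.mpr h))
    (fun x hx hx2 => by
      obtain ⟨u, hu, hxu⟩ := hsq x (Subgroup.mem_subgroupOf.mp hx)
        (by simpa using congrArg Subtype.val hx2)
      exact ⟨⟨u, hDT hu⟩, Subgroup.mem_subgroupOf.mpr hu, Subtype.ext hxu⟩)
    ⟨y, hDT hy⟩ (Subgroup.mem_subgroupOf.mpr hy)
  obtain ⟨u, hu, hyu⟩ := key
  exact ⟨u, Subgroup.mem_subgroupOf.mp hu, congrArg Subtype.val hyu⟩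

/-! ### The fusion-theoretic argument -/

section fusion

variable {Ω : Type*} [Group Ω] {S : Subgroup Ω} [Finite S] {p : ℕ} [Fact p.Prime]
  {F : FusionSystem S} {P : Subgroup Ω} {R : Subgroup Ω}

/-- elements of `A₀` acting trivially on the Frattini quotient of `P ∩ R` lie in `O_p(Aut_F(R))` -/
theorem mem_pCore_of_ker (hS : IsPGroup p S) (hP : F.StronglyClosed P) (hRS : R ≤ S)
    (c : F.autGroup R) (hc0 : c ∈ chainStabilizer F R (chain0 P) 1 (hinv0 hP hRS))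
    (hπ : piHom F hP hRS c = 1) : c ∈ pCore p (F.autGroup R) := by
  have hA0n := chainStabilizer_normal F R (chain0 P) 1 (hinv0 hP hRS)
  have hKn : (chainStabilizer F R (chain0 P) 1 (hinv0 hP hRS) ⊓ (piHom F hP hRS).ker).Normal :=
    Subgroup.normal_inf_normal _ _
  have hKp : IsPGroup p
      ↥(chainStabilizer F R (chain0 P) 1 (hinv0 hP hRS) ⊓ (piHom F hP hRS).ker) := by
    rintro ⟨α, hα⟩
    obtain ⟨k, hk⟩ := pow_eq_one_of_ker hS hP hRS α hα.1 hα.2
    exact ⟨k, Subtype.ext hk⟩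
  exact Cfsg.Agent.Lib.Helper1.le_pCore hKn hKp ⟨hc0, hπ⟩

end fusion

section two

variable {Ω : Type*} [Group Ω] {S : Subgroup Ω} [Finite S]
  {F : FusionSystem S} {P : Subgroup Ω} {R : Subgroup Ω}

/-- two non-commuting `2`-elements on the Frattini quotient force an automorphism of odd order -/
theorem not_isPGroup_mulAut (hS : IsPGroup 2 S) (hP : F.StronglyClosed P)
    (hm : Cfsg.IsMetacyclic ↥P) (hRS : R ≤ S) (u₁ u₂ : F.autGroup R) {k : ℕ}
    (hk₁ : u₁ ^ 2 ^ k = 1) (hk₂ : u₂ ^ 2 ^ k = 1)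
    (hne : piHom F hP hRS u₁ * piHom F hP hRS u₂ ≠ piHom F hP hRS u₂ * piHom F hP hRS u₁) :
    ¬ IsPGroup 2 (MulAut ↥(P.subgroupOf R)) := by
  intro hpg
  have hfin : Finite ↥(P.subgroupOf R) := finite_sub hRS
  have hNp : IsPGroup 2 ↥(P.subgroupOf R) := isPGroup_sub hS hRS
  have hNm : Cfsg.IsMetacyclic ↥(P.subgroupOf R) := isMetacyclic_sub hm
  have hcommV := quot_comm (p := 2) (P := P) hS hRS
  have hexpV := quot_exp (p := 2) (P := P) hS hRS
  have hcardV : Nat.card (↥(P.subgroupOf R) ⧸ frattini ↥(P.subgroupOf R)) ≤ 2 * 2 :=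
    Cfsg.Agent.S1896.card_le_of_isMetacyclic
      (Cfsg.Agent.S1896.isMetacyclic_quotient hNm (frattini ↥(P.subgroupOf R))) (by norm_num) hexpV
  have hV : IsPGroup 2 (↥(P.subgroupOf R) ⧸ frattini ↥(P.subgroupOf R)) :=
    fun g => ⟨1, by rw [pow_one]; exact hexpV g⟩
  have hQ : IsPGroup 2 (Cfsg.H5.APS.frattiniAut ↥(P.subgroupOf R)).range :=
    hpg.of_surjective (Cfsg.H5.APS.frattiniAut ↥(P.subgroupOf R)).rangeRestrict
      (Cfsg.H5.APS.frattiniAut ↥(P.subgroupOf R)).rangeRestrict_surjective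
  have hneV : ∃ v : ↥(P.subgroupOf R) ⧸ frattini ↥(P.subgroupOf R), v ≠ 1 := by
    by_contra hcon
    push Not at hcon
    apply hne
    ext v
    rw [hcon v, map_one, map_one]
  obtain ⟨e, he1, he⟩ := exists_common_fixed hV hneV _ hQ
  have hmem : ∀ u : F.autGroup R, piHom F hP hRS u ∈
      (Cfsg.H5.APS.frattiniAut ↥(P.subgroupOf R)).range := fun u => ⟨resHom F hP hRS u, rfl⟩
  exact hne (commute_of_common_fixed hcommV hexpV hcardV (piHom F hP hRS u₁) (piHom F hP hRS u₂)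
    (a := k) (b := k) (by rw [← map_pow, hk₁, map_one]) (by rw [← map_pow, hk₂, map_one]) he1
    (he _ (hmem u₁)) (he _ (hmem u₂)))

/-- the case `P ∩ R ≅ Q₈` -/
theorem dqs_of_quaternion (hS : IsPGroup 2 S) (hPS : P ≤ S) (hm : Cfsg.IsMetacyclic ↥P)
    (e : ↥(P.subgroupOf R) ≃* QuaternionGroup 2) :
    (∃ m : ℕ, Nonempty (↥P ≃* DihedralGroup m)) ∨ (∃ m : ℕ, Nonempty (↥P ≃* QuaternionGroup m)) ∨
      Cfsg.IsQuasiDihedral ↥P := by
  have hfinP : Finite ↥P := Finite.of_injective (Subgroup.inclusion hPS) (Subgroup.inclusion_injective _)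
  have hPp : IsPGroup 2 ↥P := hS.of_injective (Subgroup.inclusion hPS) (Subgroup.inclusion_injective _)
  obtain ⟨f, hf⟩ : ∃ f : QuaternionGroup 2 →* ↥P, f = (subToP P R).comp e.symm.toMonoidHom := ⟨_, rfl⟩
  have hfinj : Function.Injective f := by
    rw [hf]
    exact (subToP_injective P R).comp e.symm.injective
  refine dqs_of_pair hPp hm (v := f (QuaternionGroup.a 1)) (w := f (QuaternionGroup.xa 0)) ?_ ?_ ?_
    (Or.inr ?_)
  · rw [← map_pow]
    have : (QuaternionGroup.a 1 : QuaternionGroup 2) ^ 4 = 1 := by decide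
    rw [this, map_one]
  · rw [← map_pow]
    intro h
    have h1 : (QuaternionGroup.a 1 : QuaternionGroup 2) ^ 2 = 1 := hfinj (by rw [h, map_one])
    revert h1
    decide
  · rw [← map_inv, ← map_mul, ← map_inv, ← map_mul]
    congr 1
  · rw [← map_pow, ← map_pow]
    congr 1

theorem pow_card_zmod_mult (M : ℕ) (x : Multiplicative (ZMod M)) : x ^ M = 1 := by
  apply Multiplicative.toAdd.injective
  rw [toAdd_pow, toAdd_one, nsmul_eq_mul, ZMod.natCast_self, zero_mul]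

/-- **Main step for `p = 2`.** -/
theorem mem_of_sq_mem (hS : IsPGroup 2 S) (hP : F.StronglyClosed P) (hm : Cfsg.IsMetacyclic ↥P)
    (hnd : ¬ ((∃ m : ℕ, Nonempty (↥P ≃* DihedralGroup m)) ∨
      (∃ m : ℕ, Nonempty (↥P ≃* QuaternionGroup m)) ∨ Cfsg.IsQuasiDihedral ↥P))
    (hc : F.IsCentric R) (hr : F.IsRadical 2 R) {d : Ω} (hdP : d ∈ P)
    (hdN : d ∈ Subgroup.normalizer (R : Set Ω)) (hd2 : d ^ 2 ∈ R) : d ∈ R := by
  have hRS : R ≤ S := hc.1
  by_contra hdR
  have hdS : d ∈ S := hP.1 hdP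
  have hdNS : d ∈ normalizerIn S R := ⟨hdS, hdN⟩
  have hcA : conjAutHom S R ⟨d, hdNS⟩ ∈ F.autGroup R :=
    autInducedBy_le_autGroup F hRS (by rw [← conjAutHom_range]; exact ⟨_, rfl⟩)
  obtain ⟨c, hcdef⟩ : ∃ c : F.autGroup R, c = ⟨conjAutHom S R ⟨d, hdNS⟩, hcA⟩ := ⟨_, rfl⟩
  have hcval : ∀ x : R, (((c : MulAut R) x : R) : Ω) = d * x * d⁻¹ := by
    intro x; rw [hcdef]; rfl
  have hc0 : c ∈ chainStabilizer F R (chain0 P) 1 (hinv0 hP hRS) := by
    rw [mem_A0 hP hRS]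
    intro x
    have h1 : ((x⁻¹ * (c : MulAut R) x : R) : Ω) = ((x : Ω)⁻¹ * d * (x : Ω)⁻¹⁻¹) * d⁻¹ := by
      rw [Subgroup.coe_mul, Subgroup.coe_inv, hcval]; group
    rw [h1]
    exact P.mul_mem (stronglyClosed_conj_mem hP (S.inv_mem (hRS x.2)) hdP) (P.inv_mem hdP)
  obtain ⟨k, hk⟩ : ∃ k : ℕ, c ^ 2 ^ k = 1 := by
    have hNS : IsPGroup 2 (normalizerIn S R) :=
      hS.of_injective (Subgroup.inclusion (normalizerIn_le_S S R)) (Subgroup.inclusion_injective _)
    obtain ⟨k, hk⟩ := hNS ⟨d, hdNS⟩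
    refine ⟨k, Subtype.ext ?_⟩
    rw [Subgroup.coe_pow, hcdef]
    show (conjAutHom S R ⟨d, hdNS⟩) ^ 2 ^ k = 1
    rw [← map_pow, hk, map_one]
  have hcore : ∀ γ : F.autGroup R, γ ∈ pCore 2 (F.autGroup R) → (γ : MulAut R) ∈ Inn R := by
    intro γ hγ
    rw [← hr.2]
    exact ⟨γ, hγ, rfl⟩
  have hfinal : c ∈ pCore 2 (F.autGroup R) → False := by
    intro h
    apply hdR
    apply mem_of_conjAutHom_mem_inn hc hdNS
    have h1 := hcore c h
    rw [hcdef] at h1
    exact h1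
  by_cases hπc : piHom F hP hRS c = 1
  · exact hfinal (mem_pCore_of_ker hS hP hRS c hc0 hπc)
  rcases mem_pCore_or_exists hS hP hRS c hc0 hk with h | ⟨u₁, u₂, -, -, hk₁, hk₂, hne⟩
  · exact hfinal h
  have hAut := not_isPGroup_mulAut hS hP hm hRS u₁ u₂ hk₁ hk₂ hne
  have hfin : Finite ↥(P.subgroupOf R) := finite_sub hRS
  have hNp : IsPGroup 2 ↥(P.subgroupOf R) := isPGroup_sub hS hRS
  have hNm : Cfsg.IsMetacyclic ↥(P.subgroupOf R) := isMetacyclic_sub hm
  have hfinP : Finite ↥P := Finite.of_injective (Subgroup.inclusion hP.1) (Subgroup.inclusion_injective _)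
  have hPp : IsPGroup 2 ↥P := hS.of_injective (Subgroup.inclusion hP.1) (Subgroup.inclusion_injective _)
  rcases Cfsg.Agent.S1896.result hNp hNm hAut with ⟨⟨e⟩⟩ | ⟨n, ⟨e⟩⟩
  · exact hnd (dqs_of_quaternion hS hP.1 hm e)
  -- the homocyclic case
  have hNcomm : ∀ x y : P.subgroupOf R, x * y = y * x := by
    intro x y
    apply e.injective
    rw [map_mul, map_mul, mul_comm]
  -- lifting elements of `P ⊓ R`
  have hlift : ∀ x ∈ P ⊓ R, ∃ x' : P.subgroupOf R, ((x' : R) : Ω) = x := fun x hx =>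
    ⟨⟨⟨x, hx.2⟩, Subgroup.mem_subgroupOf.mpr hx.1⟩, rfl⟩
  have hmemD : ∀ x' : P.subgroupOf R, ((x' : R) : Ω) ∈ P ⊓ R := fun x' =>
    ⟨Subgroup.mem_subgroupOf.mp x'.2, (x' : R).2⟩
  have hDc : ∀ x ∈ P ⊓ R, ∀ y ∈ P ⊓ R, x * y = y * x := by
    intro x hx y hy
    obtain ⟨x', rfl⟩ := hlift x hx
    obtain ⟨y', rfl⟩ := hlift y hy
    exact congrArg (fun z : P.subgroupOf R => ((z : R) : Ω)) (hNcomm x' y')
  have hdD : ∀ x ∈ P ⊓ R, d * x * d⁻¹ ∈ P ⊓ R := fun x hx =>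
    ⟨stronglyClosed_conj_mem hP hdS hx.1, conj_mem_of_mem_normalizerIn hdNS hx.2⟩
  have hdD' : ∀ x ∈ P ⊓ R, d⁻¹ * x * d ∈ P ⊓ R := by
    intro x hx
    have hdNS' : d⁻¹ ∈ normalizerIn S R := (normalizerIn S R).inv_mem hdNS
    have h1 := stronglyClosed_conj_mem hP (S.inv_mem hdS) hx.1
    have h2 := conj_mem_of_mem_normalizerIn hdNS' hx.2
    rw [inv_inv] at h1 h2
    exact ⟨h1, h2⟩
  have hd2D : d ^ 2 ∈ P ⊓ R := ⟨P.pow_mem hdP 2, hd2⟩
  have hdnD : d ∉ P ⊓ R := fun h => hdR h.2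
  -- `d` acts nontrivially
  obtain ⟨x₀, hx₀⟩ : ∃ x₀ : P.subgroupOf R, resHom F hP hRS c x₀ ≠ x₀ := by
    by_contra hcon
    push Not at hcon
    apply hπc
    ext q
    obtain ⟨x, rfl⟩ := QuotientGroup.mk_surjective q
    rw [piHom_mk, hcon x, MulAut.one_apply]
  have hx₀' : d * ((x₀ : R) : Ω) * d⁻¹ ≠ ((x₀ : R) : Ω) := by
    intro h
    apply hx₀
    apply Subtype.ext
    apply Subtype.ext
    rw [resHom_apply, hcval]
    exact h
  by_cases hn2 : 2 ≤ n
  · -- exponent at least `4`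
    have hsq : ∀ x ∈ P ⊓ R, x ^ 2 = 1 → ∃ u ∈ P ⊓ R, x = u ^ 2 := by
      intro x hx hx2
      obtain ⟨x', rfl⟩ := hlift x hx
      have hx2' : x' ^ 2 = 1 := Subtype.ext (Subtype.ext hx2)
      obtain ⟨u, hu⟩ := exists_sq_of_homocyclic hn2 e x' hx2'
      refine ⟨((u : R) : Ω), hmemD u, ?_⟩
      rw [hu]; rfl
    have key := conj_sq_of_homocyclic P hPp hm (P ⊓ R) inf_le_left hDc hsq hdP hdD hdD' hd2D hdnD
    apply hπc
    ext q
    obtain ⟨x, rfl⟩ := QuotientGroup.mk_surjective q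
    rw [piHom_mk, MulAut.one_apply]
    symm
    rw [QuotientGroup.eq]
    obtain ⟨u, hu, hxu⟩ := key _ (hmemD x)
    obtain ⟨u', rfl⟩ := hlift u hu
    have h1 : x⁻¹ * resHom F hP hRS c x = u' ^ 2 := by
      apply Subtype.ext
      apply Subtype.ext
      rw [Subgroup.coe_mul, Subgroup.coe_mul, Subgroup.coe_inv, Subgroup.coe_inv, resHom_apply, hcval,
        hxu]
      rfl
    rw [h1]
    exact Cfsg.Agent.Lib.Helper1.IsPGroup.pow_mem_frattini hNp u'
  · -- exponent at most `2`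
    have hn1 : n = 0 ∨ n = 1 := by omega
    have hcardN : Nat.card ↥(P.subgroupOf R) = 2 ^ n * 2 ^ n := by
      rw [Nat.card_congr e.toEquiv, Nat.card_prod, Nat.card_congr Multiplicative.toAdd, Nat.card_zmod]
    have hexpN : ∀ x : P.subgroupOf R, x ^ 2 ^ n = 1 := by
      intro x
      apply e.injective
      rw [map_pow, map_one]
      apply Prod.ext
      · exact pow_card_zmod_mult _ _
      · exact pow_card_zmod_mult _ _
    rcases hn1 with rfl | rfl
    · -- trivial group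
      rw [pow_zero, mul_one] at hcardN
      have hsub : Subsingleton ↥(P.subgroupOf R) := (Nat.card_eq_one_iff_unique.mp hcardN).1
      exact hx₀ (Subsingleton.elim _ _)
    · -- four-group
      have hcardD : Nat.card ↥(P ⊓ R) = 4 := by
        rw [← show 2 ^ 1 * 2 ^ 1 = 4 by norm_num, ← hcardN]
        apply Nat.card_congr
        refine ⟨fun x => ⟨⟨x.1, x.2.2⟩, Subgroup.mem_subgroupOf.mpr x.2.1⟩,
          fun x' => ⟨((x' : R) : Ω), hmemD x'⟩, fun x => rfl, fun x' => rfl⟩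
      have hD2 : ∀ x ∈ P ⊓ R, x ^ 2 = 1 := by
        intro x hx
        obtain ⟨x', rfl⟩ := hlift x hx
        have h1 := hexpN x'
        rw [pow_one] at h1
        exact congrArg (fun z : P.subgroupOf R => ((z : R) : Ω)) h1
      exact hnd (dqs_of_klein P hPp hm (P ⊓ R) inf_le_left hcardD hD2 hdP hdD hd2D (hmemD x₀) hx₀')

/-- **Theorem.** A strongly closed metacyclic subgroup of a saturated fusion system at the prime `2`
which is not dihedral, generalized quaternion or semidihedral is normal in the system. -/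
theorem isNormal_of_metacyclic_two (hS : IsPGroup 2 S) (hF : F.IsSaturated 2)
    (hP : F.StronglyClosed P) (hm : Cfsg.IsMetacyclic ↥P)
    (hnd : ¬ ((∃ m : ℕ, Nonempty (↥P ≃* DihedralGroup m)) ∨
      (∃ m : ℕ, Nonempty (↥P ≃* QuaternionGroup m)) ∨ Cfsg.IsQuasiDihedral ↥P)) :
    F.IsNormal P := by
  apply isNormal_of_le_frc hS hF hP
  intro R _ _ hc hr
  have hRS : R ≤ S := hc.1
  apply le_of_inf_normalizer_le hS hRS hP.1 (fun s hs d hd => stronglyClosed_conj_mem hP hs hd)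
  intro d hdP hdN
  obtain ⟨k, hk⟩ : ∃ k : ℕ, d ^ 2 ^ k = 1 := by
    obtain ⟨k, hk⟩ := hS ⟨d, hP.1 hdP⟩
    exact ⟨k, congrArg Subtype.val hk⟩
  have key : ∀ j ≤ k, d ^ 2 ^ (k - j) ∈ R := by
    intro j
    induction j with
    | zero =>
      intro _
      rw [Nat.sub_zero, hk]
      exact R.one_mem
    | succ j ih =>
      intro hj
      apply mem_of_sq_mem hS hP hm hnd hc hr (P.pow_mem hdP _) (Subgroup.pow_mem _ hdN _)
      rw [← pow_mul, ← pow_succ]
      have h1 : k - (j + 1) + 1 = k - j := by omega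
      rw [h1]
      exact ih (by omega)
  have h2 := key k le_rfl
  simpa using h2

end two

end Cfsg.H5.MetaTwo
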