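import Mathlib
import Cfsg.Prelude
import Cfsg.Agent.H5.NPST5
import Cfsg.Agent.H26.GroupFusionSat
import Cfsg.Agent.H26.FusionNormal

/-!
# helper5 library: `p`-stable group fusion systems

* `nps_of_fusion_stable`: if the fusion system `F_P(G)` is `p`-stable (quadratic automorphisms of
  fully normalized subgroups lie in `O_p(Aut_F(Q))`), then `G` is `p`-stable in the normalizer form;
* `isNormal_of_controls`: if `N_G(Q)` controls strong fusion in `P` then `Q` is normal in `F_P(G)`.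
-/

set_option autoImplicit false
set_option linter.unusedSectionVars false
set_option linter.style.haveILetI false

namespace Cfsg.H5.NPST

open scoped commutatorElement
open Cfsg.H5.ZJ Cfsg.H5.PSt Cfsg.H5.NPSQ Cfsg.Agent.Lib.Helper13 Cfsg.Agent.H26

variable {G : Type*} [Group G]

/-- `InOp` is invariant under conjugation -/
theorem inOp_conj [Finite G] {p : ℕ} {Q : Subgroup G} {g : G} (h : G)
    (hin : InOp p (Q.map (MulAut.conj h).toMonoidHom) (h * g * h⁻¹)) : InOp p Q g := by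
  obtain ⟨L, hCL, hLN, hNL, hpow, hgL⟩ := hin
  have hcen : ∀ c : G, c ∈ Subgroup.centralizer (Q : Set G) ↔
      h * c * h⁻¹ ∈ Subgroup.centralizer ((Q.map (MulAut.conj h).toMonoidHom : Subgroup G) : Set G) := by
    intro c
    rw [Subgroup.mem_centralizer_iff, Subgroup.mem_centralizer_iff]
    constructor
    · intro hc y hy
      rw [SetLike.mem_coe, mem_map_conj_iff] at hy
      have := hc _ hy
      calc y * (h * c * h⁻¹) = h * ((h⁻¹ * y * h) * c) * h⁻¹ := by group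
        _ = h * (c * (h⁻¹ * y * h)) * h⁻¹ := by rw [this]
        _ = h * c * h⁻¹ * y := by group
    · intro hc y hy
      have := hc _ (conj_mem_map_conj Q h hy)
      calc y * c = h⁻¹ * ((h * y * h⁻¹) * (h * c * h⁻¹)) * h := by group
        _ = h⁻¹ * ((h * c * h⁻¹) * (h * y * h⁻¹)) * h := by rw [this]
        _ = c * y := by group
  have hnor : ∀ n : G, n ∈ Subgroup.normalizer (Q : Set G) ↔
      h * n * h⁻¹ ∈ Subgroup.normalizer ((Q.map (MulAut.conj h).toMonoidHom : Subgroup G) : Set G) := by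
    intro n
    rw [← map_conj_eq_self_iff_mem_normalizer, ← map_conj_eq_self_iff_mem_normalizer,
      ← map_conj_mul]
    have e : h * n * h⁻¹ * h = h * n := by group
    rw [e, map_conj_mul]
    constructor
    · intro hn; rw [hn]
    · intro hn
      exact Subgroup.map_injective (MulAut.conj h).injective hn
  refine ⟨L.map (MulAut.conj h⁻¹).toMonoidHom, ?_, ?_, ?_, ?_, ?_⟩
  · intro c hc
    rw [mem_map_conj_iff, inv_inv]
    exact hCL ((hcen c).1 hc)
  · intro l hl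
    rw [mem_map_conj_iff, inv_inv] at hl
    exact (hnor l).2 (hLN hl)
  · intro n hn
    have h1 := hNL ((hnor n).1 hn)
    apply mem_normalizer_of_conj_mem'
    intro l hl
    rw [mem_map_conj_iff, inv_inv] at hl ⊢
    have := conj_mem_of_mem_normalizer h1 hl
    have e : h * (n * l * n⁻¹) * h⁻¹ = h * n * h⁻¹ * (h * l * h⁻¹) * (h * n * h⁻¹)⁻¹ := by group
    rw [e]; exact this
  · intro l hl
    rw [mem_map_conj_iff, inv_inv] at hl
    obtain ⟨k, hk⟩ := hpow _ hl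
    refine ⟨k, ?_⟩
    rw [hcen]
    have e : h * l ^ p ^ k * h⁻¹ = (h * l * h⁻¹) ^ p ^ k := by rw [conj_pow]
    rw [e]; exact hk
  · rw [mem_map_conj_iff, inv_inv]; exact hgL

section

variable [Finite G] {p : ℕ} [Fact p.Prime]

/-- every `p`-subgroup has a conjugate in `P` that is fully normalized in `F_P(G)` -/
theorem exists_fullyNormalized_conj (P : Sylow p G) {Q : Subgroup G} (hQ : IsPGroup p Q) :
    ∃ h : G, (Cfsg.groupFusionSystem (P : Subgroup G)).IsFullyNormalized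
      (Q.map (MulAut.conj h).toMonoidHom) := by
  obtain ⟨s, hs⟩ : ∃ s : Set G, s = {h : G | Q.map (MulAut.conj h).toMonoidHom ≤ (P : Subgroup G)} :=
    ⟨_, rfl⟩
  have hmem : ∀ h : G, h ∈ s ↔ Q.map (MulAut.conj h).toMonoidHom ≤ (P : Subgroup G) := by
    intro h; rw [hs]; exact Iff.rfl
  have hne : s.Nonempty := by
    obtain ⟨h, -, hh⟩ := exists_conj_le_of_relIndex ⊤ (P : Subgroup G) Q P.isPGroup'
      (by rw [Subgroup.relIndex_top_right]; exact P.not_dvd_index) le_top hQ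
    refine ⟨h, ?_⟩
    rw [hmem, map_conj_le_iff]; exact hh
  obtain ⟨h, hhs, hmax⟩ := Set.exists_max_image s
    (fun h => Nat.card (Cfsg.FusionSystem.normalizerIn (P : Subgroup G)
      (Q.map (MulAut.conj h).toMonoidHom))) (Set.toFinite s) hne
  rw [hmem] at hhs
  refine ⟨h, hhs, ?_⟩
  rintro Q'' ⟨φ, ⟨-, hφP, k, hk⟩, rfl⟩
  have hrange : φ.range = Q.map (MulAut.conj (k * h)).toMonoidHom := by
    rw [map_conj_mul]
    ext y
    constructor
    · rintro ⟨x, rfl⟩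
      rw [hk x]
      exact conj_mem_map_conj _ k x.2
    · intro hy
      rw [mem_map_conj_iff] at hy
      refine ⟨⟨k⁻¹ * y * k, hy⟩, ?_⟩
      rw [hk]; show k * (k⁻¹ * y * k) * k⁻¹ = y; group
  rw [hrange]
  apply hmax
  rw [hmem, ← hrange]
  rintro _ ⟨x, rfl⟩
  exact hφP x

/-- **a `p`-stable group fusion system comes from a group that is `p`-stable in the normalizer
form** -/
theorem nps_of_fusion_stable (P : Sylow p G)
    (hst : ∀ Q : Subgroup G, (Cfsg.groupFusionSystem (P : Subgroup G)).IsFullyNormalized Q →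
      ∀ χ : MulAut ↥Q, χ ∈ (Cfsg.groupFusionSystem (P : Subgroup G)).autGroup Q →
      (∀ a : ↥Q, (χ a⁻¹) * a * (χ a⁻¹) * (χ (χ a)) = 1) →
      χ ∈ ((Cfsg.pCore p ↥((Cfsg.groupFusionSystem (P : Subgroup G)).autGroup Q)).map
        ((Cfsg.groupFusionSystem (P : Subgroup G)).autGroup Q).subtype : Subgroup (MulAut ↥Q))) :
    Cfsg.IsNormalizerPStable p G := by
  apply Cfsg.H5.NPS.nps_of_inOp
  intro Q₀ hQ₀ g₀ hg₀ hq₀
  obtain ⟨h, hfn⟩ := exists_fullyNormalized_conj P hQ₀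
  apply inOp_conj h
  obtain ⟨Q, hQ⟩ : ∃ Q : Subgroup G, Q = Q₀.map (MulAut.conj h).toMonoidHom := ⟨_, rfl⟩
  obtain ⟨g, hg⟩ : ∃ g : G, g = h * g₀ * h⁻¹ := ⟨_, rfl⟩
  rw [← hQ] at hfn ⊢
  rw [← hg]
  have hgN : g ∈ Subgroup.normalizer (Q : Set G) := by
    rw [hg, hQ, ← map_conj_eq_self_iff_mem_normalizer, ← map_conj_mul]
    have e : h * g₀ * h⁻¹ * h = h * g₀ := by group
    rw [e, map_conj_mul, (map_conj_eq_self_iff_mem_normalizer Q₀ g₀).2 hg₀]
  have hq : ⁅⁅Q, Subgroup.zpowers g⁆, Subgroup.zpowers g⁆ = ⊥ := by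
    have hz : (Subgroup.zpowers g₀).map (MulAut.conj h).toMonoidHom = Subgroup.zpowers g := by
      rw [MonoidHom.map_zpowers, hg]; rfl
    rw [hQ, ← hz, ← Subgroup.map_commutator, ← Subgroup.map_commutator, hq₀, Subgroup.map_bot]
  have hQP : Q ≤ (P : Subgroup G) := hfn.1
  -- the automorphism group
  have hA : (Cfsg.groupFusionSystem (P : Subgroup G)).autGroup Q =
      (Subgroup.normalizerMonoidHom Q).range := by
    rw [groupFusion_autGroup_eq hQP, autInducedBy_top_eq_range]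
  obtain ⟨A, hAdef⟩ : ∃ A : Subgroup (MulAut ↥Q),
      A = (Cfsg.groupFusionSystem (P : Subgroup G)).autGroup Q := ⟨_, rfl⟩
  have hst' := hst Q hfn
  rw [← hAdef] at hst' hA
  obtain ⟨ν, hν⟩ : ∃ ν : ↥(Subgroup.normalizer (Q : Set G)) →* MulAut ↥Q,
      ν = Subgroup.normalizerMonoidHom Q := ⟨_, rfl⟩
  rw [← hν] at hA
  have hνapp : ∀ (n : ↥(Subgroup.normalizer (Q : Set G))) (a : ↥Q),
      ((ν n a : ↥Q) : G) = (n : G) * (a : G) * (n : G)⁻¹ := by
    intro n a; rw [hν]; exact Subgroup.normalizerMonoidHom_apply_apply_coe Q n a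
  have hker : ∀ n : ↥(Subgroup.normalizer (Q : Set G)), ν n = 1 →
      (n : G) ∈ Subgroup.centralizer (Q : Set G) := by
    intro n hn
    have h1 : n ∈ ν.ker := hn
    rw [hν, Subgroup.normalizerMonoidHom_ker, Subgroup.mem_subgroupOf] at h1
    exact h1
  have hker' : ∀ n : ↥(Subgroup.normalizer (Q : Set G)),
      (n : G) ∈ Subgroup.centralizer (Q : Set G) → ν n = 1 := by
    intro n hn
    have h1 : n ∈ ν.ker := by
      rw [hν, Subgroup.normalizerMonoidHom_ker, Subgroup.mem_subgroupOf]; exact hn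
    exact h1
  obtain ⟨M, hM⟩ : ∃ M : Subgroup (MulAut ↥Q), M = (Cfsg.pCore p ↥A).map A.subtype := ⟨_, rfl⟩
  rw [← hM] at hst'
  -- `M` is normalized by `A` and is a `p`-group
  have hMnorm : ∀ a ∈ A, ∀ m ∈ M, a * m * a⁻¹ ∈ M := by
    intro a ha m hm
    rw [hM] at hm ⊢
    obtain ⟨m', hm', rfl⟩ := hm
    haveI := Cfsg.H5.pCore_normal p ↥A
    exact ⟨⟨a, ha⟩ * m' * ⟨a, ha⟩⁻¹,
      (Cfsg.H5.pCore_normal p ↥A).conj_mem m' hm' ⟨a, ha⟩, rfl⟩
  have hMp : ∀ m ∈ M, ∃ k : ℕ, m ^ p ^ k = 1 := by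
    intro m hm
    rw [hM] at hm
    obtain ⟨m', hm', rfl⟩ := hm
    obtain ⟨k, hk⟩ := Cfsg.H5.pCore_isPGroup p ↥A ⟨m', hm'⟩
    refine ⟨k, ?_⟩
    have := congrArg (fun t : ↥(Cfsg.pCore p ↥A) => ((t : ↥A) : MulAut ↥Q)) hk
    simpa using this
  have hνA : ∀ n, ν n ∈ A := fun n => by rw [hA]; exact ⟨n, rfl⟩
  obtain ⟨L', hL'⟩ : ∃ L' : Subgroup ↥(Subgroup.normalizer (Q : Set G)), L' = M.comap ν := ⟨_, rfl⟩
  refine ⟨L'.map (Subgroup.normalizer (Q : Set G)).subtype, ?_, Subgroup.map_subtype_le _, ?_, ?_,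
    ?_⟩
  · intro c hc
    refine ⟨⟨c, Subgroup.centralizer_le_normalizer _ hc⟩, ?_, rfl⟩
    rw [hL', SetLike.mem_coe, Subgroup.mem_comap, hker' _ hc]
    exact Subgroup.one_mem _
  · intro n hn
    apply mem_normalizer_of_conj_mem'
    rintro _ ⟨l, hl, rfl⟩
    refine ⟨⟨n, hn⟩ * l * ⟨n, hn⟩⁻¹, ?_, rfl⟩
    rw [hL', SetLike.mem_coe, Subgroup.mem_comap] at hl ⊢
    rw [map_mul, map_mul, map_inv]
    exact hMnorm _ (hνA _) _ hl
  · rintro _ ⟨l, hl, rfl⟩
    rw [hL', SetLike.mem_coe, Subgroup.mem_comap] at hl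
    obtain ⟨k, hk⟩ := hMp _ hl
    refine ⟨k, ?_⟩
    have := hker (l ^ p ^ k) (by rw [map_pow, hk])
    simpa using this
  · refine ⟨⟨g, hgN⟩, ?_, rfl⟩
    rw [hL', SetLike.mem_coe, Subgroup.mem_comap]
    apply hst' _ (hνA _)
    intro a
    apply Subtype.ext
    have hqe := quad_elementwise hq (Subgroup.mem_zpowers g) a.2
    obtain ⟨c, hc⟩ : ∃ c : G, c = g * (a : G) * g⁻¹ * (a : G)⁻¹ := ⟨_, rfl⟩
    rw [← hc] at hqe
    have hgc : g * c * g⁻¹ = c := by
      have := mul_inv_eq_one.1 hqe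
      exact this
    rw [Subgroup.coe_mul, Subgroup.coe_mul, Subgroup.coe_mul, hνapp, hνapp, hνapp, Subgroup.coe_one,
      Subgroup.coe_inv]
    show g * (a : G)⁻¹ * g⁻¹ * (a : G) * (g * (a : G)⁻¹ * g⁻¹) * (g * (g * (a : G) * g⁻¹) * g⁻¹) = 1
    have e1 : g * (g * (a : G) * g⁻¹) * g⁻¹ = (g * c * g⁻¹) * (g * (a : G) * g⁻¹) := by
      rw [hc]; group
    rw [e1, hgc, hc]; group

/-- if `N_G(Q)` controls strong fusion in `P` then `Q` is normal in `F_P(G)` -/
theorem isNormal_of_controls (S : Sylow p G) (Q : Subgroup G) (hQS : Q ≤ (S : Subgroup G))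
    (hctl : ∀ (A : Subgroup G) (g : G), A ≤ (S : Subgroup G) →
      (∀ a ∈ A, g * a * g⁻¹ ∈ (S : Subgroup G)) →
      ∃ m ∈ Subgroup.normalizer (Q : Set G), ∀ a ∈ A, m * a * m⁻¹ = g * a * g⁻¹) :
    (Cfsg.groupFusionSystem (S : Subgroup G)).IsNormal Q := by
  refine ⟨hQS, ?_⟩
  rintro P' φ ⟨hP', hφS, g₀, hg₀⟩
  obtain ⟨g, hgN, hga⟩ := hctl P' g₀ hP' (fun a ha => by rw [← hg₀ ⟨a, ha⟩]; exact hφS _)
  have hg : ∀ x : ↥P', φ x = g * (x : G) * g⁻¹ := fun x => by rw [hg₀ x, hga x x.2]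
  have hPR : P' ⊔ Q ≤ (S : Subgroup G) := sup_le hP' hQS
  have hval : ∀ x : ↥(P' ⊔ Q), g * (x : G) * g⁻¹ ∈ (S : Subgroup G) := by
    have hle : P' ⊔ Q ≤ (S : Subgroup G).comap (MulAut.conj g).toMonoidHom := by
      rw [sup_le_iff]
      constructor
      · intro x hx
        show g * x * g⁻¹ ∈ (S : Subgroup G)
        rw [← hg ⟨x, hx⟩]; exact hφS _
      · intro x hx
        exact hQS (conj_mem_of_mem_normalizer hgN hx)
    intro x
    exact hle x.2
  refine ⟨Cfsg.conjHom (P' ⊔ Q) g, ⟨hPR, hval, g, fun x => rfl⟩, ?_, ?_⟩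
  · intro x
    rw [hg x]; rfl
  · ext y
    rw [mem_map_subgroupOf]
    constructor
    · rintro ⟨x, hx, rfl⟩
      exact conj_mem_of_mem_normalizer hgN hx
    · intro hy
      have hy' : g⁻¹ * y * g ∈ Q := conj_inv_mem_of_mem_normalizer hgN hy
      refine ⟨⟨g⁻¹ * y * g, (le_sup_right : Q ≤ P' ⊔ Q) hy'⟩, hy', ?_⟩
      show g * (g⁻¹ * y * g) * g⁻¹ = y
      group

end

end Cfsg.H5.NPST
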