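import Mathlib
import Cfsg.Prelude
import Cfsg.Agent.H5.NPST6

/-!
# helper5 library: a criterion for normality in a group fusion system

A subgroup `Q ≤ P` that is strongly closed and has a central series (relative to `Q`) of strongly
closed subgroups is normal in the fusion system: `N_G(Q)` controls strong fusion in `P`.
-/

set_option autoImplicit false
set_option linter.unusedSectionVars false
set_option linter.style.haveILetI false

namespace Cfsg.H5.NPST

open scoped commutatorElement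
open Cfsg.H5.ZJ Cfsg.H5.NPSQ Cfsg.Agent.Lib.Helper13 Cfsg.Agent.Lib.Helper18.FusionCR

variable {G : Type*} [Group G]

/-- a series of strongly closed subgroups, central relative to `Q` -/
def Ser (P Q : Subgroup G) : Prop :=
  ∃ D : ℕ → Subgroup G, D 0 = Q ∧ (∃ c : ℕ, D c = ⊥) ∧ (∀ j, Cfsg.IsStronglyClosed (D j) P) ∧
    (∀ j, D j ≤ Q) ∧ ∀ j, ⁅Q, D j⁆ ≤ D (j + 1)

theorem ser_bot (P : Subgroup G) : Ser P ⊥ := by
  refine ⟨fun _ => ⊥, rfl, ⟨0, rfl⟩, ?_, fun _ => le_rfl, ?_⟩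
  · intro j
    refine ⟨bot_le, ?_⟩
    intro x hx g _
    rw [Subgroup.mem_bot] at hx
    rw [hx]; simp
  · intro j
    rw [Subgroup.commutator_le]
    intro a ha b hb
    rw [Subgroup.mem_bot] at ha hb
    rw [ha, hb]; simp

theorem Ser.stronglyClosed {P Q : Subgroup G} (h : Ser P Q) : Cfsg.IsStronglyClosed Q P := by
  obtain ⟨D, hD0, -, hsc, -, -⟩ := h
  rw [← hD0]; exact hsc 0

/-- the chain in `U` attached to a series -/
def serChain (U : Subgroup G) (D : ℕ → Subgroup G) : ℕ → Subgroup G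
  | 0 => U
  | j + 1 => U ⊓ D j

section

variable [Finite G] {p : ℕ} [Fact p.Prime]

/-- **the criterion** -/
theorem Ser.controls (P : Sylow p G) {Q : Subgroup G} (h : Ser (P : Subgroup G) Q) :
    ∀ (A : Subgroup G) (g : G), A ≤ (P : Subgroup G) → (∀ a ∈ A, g * a * g⁻¹ ∈ (P : Subgroup G)) →
      ∃ m ∈ Subgroup.normalizer (Q : Set G), ∀ a ∈ A, m * a * m⁻¹ = g * a * g⁻¹ := by
  have hQsc := h.stronglyClosed
  obtain ⟨D, hD0, ⟨c, hDc⟩, hsc, hDQ, hcomm⟩ := h
  have hQP : Q ≤ (P : Subgroup G) := hQsc.1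
  have hPQ : (P : Subgroup G) ≤ Subgroup.normalizer (Q : Set G) := by
    intro y hy
    apply mem_normalizer_of_conj_mem'
    intro t ht
    exact hQsc.2 t ht y (Subgroup.mul_mem _ (Subgroup.mul_mem _ hy (hQP ht)) (Subgroup.inv_mem _ hy))
  apply agp P
  intro U hUP hFN hCR x hx
  have hUp : IsPGroup p U := P.isPGroup'.to_le hUP
  suffices hQU : Q ≤ U by
    refine ⟨x, ?_, fun u _ => rfl⟩
    apply mem_normalizer_of_conj_mem'
    intro t ht
    exact hQsc.2 t ht x (hUP (conj_mem_of_mem_normalizer hx (hQU ht)))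
  -- the chain
  have hC0 : serChain U D 0 = U := rfl
  have hC1 : ∀ j, serChain U D (j + 1) = U ⊓ D j := fun _ => rfl
  have hCU : ∀ j, serChain U D j ≤ U := by
    intro j
    match j with
    | 0 => exact le_rfl
    | j + 1 => rw [hC1]; exact inf_le_left
  have hCc : serChain U D (c + 1) = ⊥ := by rw [hC1, hDc, inf_bot_eq]
  have hinv : ∀ y ∈ Subgroup.normalizer (U : Set G), ∀ j, ∀ u ∈ serChain U D j,
      y * u * y⁻¹ ∈ serChain U D j := by
    intro y hy j u hu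
    match j with
    | 0 => exact conj_mem_of_mem_normalizer hy hu
    | j + 1 =>
      rw [hC1] at hu ⊢
      have h1 : y * u * y⁻¹ ∈ U := conj_mem_of_mem_normalizer hy hu.1
      exact ⟨h1, (hsc j).2 u hu.2 y (hUP h1)⟩
  have hK := isPOver_chainStab hUp (serChain U D) hC0 hCU hCc hinv
  have hQN : Q ⊓ Subgroup.normalizer (U : Set G) ≤ U := by
    intro y hy
    obtain ⟨hyQ, hyN⟩ := Subgroup.mem_inf.1 hy
    apply hCR _ hK
    refine Subgroup.mem_inf.2 ⟨hQP hyQ, ?_⟩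
    rw [mem_chainStab]
    refine ⟨hyN, ?_⟩
    intro j u hu
    have hyN' : y⁻¹ ∈ Subgroup.normalizer (U : Set G) := Subgroup.inv_mem _ hyN
    match j with
    | 0 =>
      have huU : u ∈ U := hu
      have h1 : y * u * y⁻¹ ∈ U := conj_mem_of_mem_normalizer hyN huU
      have h2 : y⁻¹ * u * y ∈ U := conj_inv_mem_of_mem_normalizer hyN huU
      refine ⟨⟨h1, h2⟩, ?_, ?_⟩
      · rw [hC1, hD0]
        refine ⟨U.mul_mem h1 (U.inv_mem huU), ?_⟩
        have h3 : u * y⁻¹ * u⁻¹ ∈ Q :=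
          conj_mem_of_mem_normalizer (hPQ (hUP huU)) (Q.inv_mem hyQ)
        have e : y * u * y⁻¹ * u⁻¹ = y * (u * y⁻¹ * u⁻¹) := by group
        rw [e]; exact Q.mul_mem hyQ h3
      · rw [hC1, hD0]
        refine ⟨U.mul_mem h2 (U.inv_mem huU), ?_⟩
        have h3 : u * y * u⁻¹ ∈ Q := conj_mem_of_mem_normalizer (hPQ (hUP huU)) hyQ
        have e : y⁻¹ * u * y * u⁻¹ = y⁻¹ * (u * y * u⁻¹) := by group
        rw [e]; exact Q.mul_mem (Q.inv_mem hyQ) h3
    | j + 1 =>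
      rw [hC1] at hu
      have h1 : y * u * y⁻¹ ∈ U := conj_mem_of_mem_normalizer hyN hu.1
      have h2 : y⁻¹ * u * y ∈ U := conj_inv_mem_of_mem_normalizer hyN hu.1
      have h1' : y * u * y⁻¹ ∈ D j := (hsc j).2 u hu.2 y (hUP h1)
      have h2' : y⁻¹ * u * y ∈ D j := by
        have := (hsc j).2 u hu.2 y⁻¹ (by rw [inv_inv]; exact hUP h2)
        rwa [inv_inv] at this
      refine ⟨⟨by rw [hC1]; exact ⟨h1, h1'⟩, by rw [hC1]; exact ⟨h2, h2'⟩⟩, ?_, ?_⟩
      · rw [hC1]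
        refine ⟨U.mul_mem h1 (U.inv_mem hu.1), ?_⟩
        have : ⁅y, u⁆ ∈ ⁅Q, D j⁆ := Subgroup.commutator_mem_commutator hyQ hu.2
        exact hcomm j this
      · rw [hC1]
        refine ⟨U.mul_mem h2 (U.inv_mem hu.1), ?_⟩
        have : ⁅y⁻¹, u⁆ ∈ ⁅Q, D j⁆ := Subgroup.commutator_mem_commutator (Q.inv_mem hyQ) hu.2
        have e : ⁅y⁻¹, u⁆ = y⁻¹ * u * y * u⁻¹ := by simp [commutatorElement_def]
        rw [← e]; exact hcomm j this
  -- normalizer growth
  by_contra hQU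
  have hlt : U < U ⊔ Q := by
    refine lt_of_le_of_ne le_sup_left ?_
    intro heq
    apply hQU
    rw [heq]; exact le_sup_right
  have hUQp : IsPGroup p (U ⊔ Q : Subgroup G) := P.isPGroup'.to_le (sup_le hUP hQP)
  have h2 := lt_inf_normalizer_of_lt (U ⊔ Q) U hUQp hlt
  obtain ⟨w, hw, hwU⟩ := SetLike.exists_of_lt h2
  obtain ⟨hw1, hw2⟩ := Subgroup.mem_inf.1 hw
  have hmem : w ∈ ((U ⊔ Q : Subgroup G) : Set G) := hw1
  rw [Subgroup.coe_mul_of_left_le_normalizer_right U Q (hUP.trans hPQ)] at hmem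
  obtain ⟨u, hu, z, hz, rfl⟩ := hmem
  apply hwU
  refine U.mul_mem hu (hQN ⟨hz, ?_⟩)
  have e : z = u⁻¹ * (u * z) := by group
  rw [e]
  exact Subgroup.mul_mem _ (Subgroup.inv_mem _ (Subgroup.le_normalizer hu)) hw2

end

end Cfsg.H5.NPST
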