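import Mathlib
import Cfsg.Prelude
import Cfsg.Agent.H5.NPST7

/-!
# helper5 library: lifting `Z(J(-))` through a central `p`-subgroup

For a finite group `X`, `p`-stable in the normalizer form (`p` odd), with Sylow `p`-subgroup `D`
and a central `p`-subgroup `Z < D`: the preimage `V` of `Z(J(D/Z))` is canonical, abelian modulo
`Z`, strictly larger than `Z`, and `N_X(V)` controls strong fusion in `D`.
-/

set_option autoImplicit false
set_option linter.unusedSectionVars false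
set_option linter.style.haveILetI false

namespace Cfsg.H5.NPST

open scoped commutatorElement
open Cfsg.H5.ZJ Cfsg.H5.NPSQ Cfsg.Agent.Lib.Helper13 Cfsg.Agent.Lib.Helper18.FusionCR

universe u

theorem exists_central_lift {p : ℕ} [Fact p.Prime] (hp2 : p ≠ 2) {X : Type u} [Group X] [Finite X]
    (hnps : Cfsg.IsNormalizerPStable p X) (D : Sylow p X) (Y : Subgroup X)
    (hZc : Y ≤ Subgroup.center X) (hZp : IsPGroup p Y) (hDZ : ¬ (D : Subgroup X) ≤ Y) :
    ∃ V : Subgroup X, Y ≤ V ∧ V ≤ (D : Subgroup X) ∧ ¬ V ≤ Y ∧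
      (∀ a ∈ V, ∀ b ∈ V, ⁅a, b⁆ ∈ Y) ∧
      (∀ (A : Subgroup X) (g : X), A ≤ (D : Subgroup X) →
        (∀ a ∈ A, g * a * g⁻¹ ∈ (D : Subgroup X)) →
        ∃ m ∈ Subgroup.normalizer (V : Set X), ∀ a ∈ A, m * a * m⁻¹ = g * a * g⁻¹) ∧
      ∀ f : X ≃* X, Y.map f.toMonoidHom = Y →
        (D : Subgroup X).map f.toMonoidHom = (D : Subgroup X) → ∀ v ∈ V, f v ∈ V := by
  haveI hZn : Y.Normal := by
    constructor
    intro z hz g
    have := Subgroup.mem_center_iff.1 (hZc hz) g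
    have e : g * z * g⁻¹ = z := by rw [this]; group
    rw [e]; exact hz
  have hcen : ∀ n : X, (orderOf n).Coprime p → n ∈ Subgroup.centralizer (Y : Set X) := by
    intro n _
    rw [Subgroup.mem_centralizer_iff]
    intro z hz
    exact (Subgroup.mem_center_iff.1 (hZc hz) n).symm
  have hnpsb := nps_quotient_pgroup hp2 hnps Y hZp hcen
  have hctlb := ctl_of_nps hp2 hnpsb
  have hsurj := QuotientGroup.mk'_surjective Y
  obtain ⟨Db, hDb⟩ : ∃ Db : Sylow p (X ⧸ Y), Db = D.mapSurjective hsurj := ⟨_, rfl⟩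
  have hcoe : (Db : Subgroup (X ⧸ Y)) = (D : Subgroup X).map (QuotientGroup.mk' Y) := by
    rw [hDb, Sylow.coe_mapSurjective]
  obtain ⟨Vb, hVb⟩ : ∃ Vb : Subgroup (X ⧸ Y), Vb = Z 0 (Db : Subgroup (X ⧸ Y)) := ⟨_, rfl⟩
  have hDV : (D : Subgroup X).map (QuotientGroup.mk' Y) ≤
      Subgroup.normalizer (Vb : Set (X ⧸ Y)) := by
    rw [← hcoe, hVb]
    exact Subgroup.le_normalizer.trans (normalizer_le_normalizer_Z _)
  have hlift := Cfsg.Agent.Lib.Helper18.FusionLift.central_lift Y hZc hZp D Vb hDV (by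
    intro A g hA hAg
    rw [hVb]
    exact hctlb Db A g (by rw [hcoe]; exact hA) (by rw [hcoe]; exact hAg))
  have hZD : Y ≤ (D : Subgroup X) := hZp.le_sylow_of_normal D
  have hVbD : Vb ≤ (D : Subgroup X).map (QuotientGroup.mk' Y) := by
    rw [hVb, ← hcoe]; exact Z_le
  refine ⟨Vb.comap (QuotientGroup.mk' Y), ?_, ?_, ?_, ?_, hlift, ?_⟩
  · intro z hz
    rw [Subgroup.mem_comap]
    have : QuotientGroup.mk' Y z = 1 := (QuotientGroup.eq_one_iff z).2 hz
    rw [this]; exact Subgroup.one_mem _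
  · intro x hx
    rw [Subgroup.mem_comap] at hx
    obtain ⟨d, hd, hdx⟩ := hVbD hx
    have h1 : d⁻¹ * x ∈ Y := by
      rw [← QuotientGroup.eq_one_iff]
      have e : ((d⁻¹ * x : X) : X ⧸ Y) = (QuotientGroup.mk' Y d)⁻¹ * QuotientGroup.mk' Y x := by
        simp
      rw [e, hdx]; group
    have e : x = d * (d⁻¹ * x) := by group
    rw [e]; exact Subgroup.mul_mem _ hd (hZD h1)
  · intro hle
    have hVbbot : Vb = ⊥ := by
      rw [eq_bot_iff]
      intro y hy
      obtain ⟨x, rfl⟩ := hsurj y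
      rw [Subgroup.mem_bot]
      exact (QuotientGroup.eq_one_iff x).2 (hle (by rw [Subgroup.mem_comap]; exact hy))
    have hDbne : (Db : Subgroup (X ⧸ Y)) ≠ ⊥ := by
      intro hbot
      apply hDZ
      intro d hd
      have : QuotientGroup.mk' Y d ∈ (Db : Subgroup (X ⧸ Y)) := by
        rw [hcoe]; exact Subgroup.mem_map_of_mem _ hd
      rw [hbot, Subgroup.mem_bot] at this
      exact (QuotientGroup.eq_one_iff d).1 this
    exact Cfsg.H5.GT.Z_ne_bot (dvd_zero p) Db.isPGroup' hDbne (hVb ▸ hVbbot)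
  · intro a ha b hb
    rw [Subgroup.mem_comap] at ha hb
    rw [← QuotientGroup.eq_one_iff]
    have hcomm : QuotientGroup.mk' Y a * QuotientGroup.mk' Y b =
        QuotientGroup.mk' Y b * QuotientGroup.mk' Y a := by
      rw [hVb] at ha hb
      exact (good_Zc 0 _).1 _ ha _ hb
    have e : ((⁅a, b⁆ : X) : X ⧸ Y) = ⁅QuotientGroup.mk' Y a, QuotientGroup.mk' Y b⁆ := by
      simp [commutatorElement_def]
    rw [e, commutatorElement_eq_one_iff_mul_comm]
    exact hcomm
  · intro f hfZ hfD v hv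
    rw [Subgroup.mem_comap] at hv ⊢
    have h1 := Z_map (e := 0) (Db : Subgroup (X ⧸ Y)) (QuotientGroup.congr Y Y f hfZ)
    have h2 : (Db : Subgroup (X ⧸ Y)).map (QuotientGroup.congr Y Y f hfZ).toMonoidHom =
        (Db : Subgroup (X ⧸ Y)) := by
      rw [hcoe]
      conv_rhs => rw [← hfD]
      rw [Subgroup.map_map, Subgroup.map_map]
      congr 1
    rw [h2, ← hVb] at h1
    rw [← h1]
    exact ⟨QuotientGroup.mk' Y v, hv, rfl⟩

end Cfsg.H5.NPST
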