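import Mathlib
import Cfsg.Prelude
import Cfsg.Agent.H5.NPST8

/-!
# helper5 library: the step lemma and constrainedness

If `Q ≤ P` has a series of strongly closed subgroups (`Ser`) and `C_P(Q) ≰ Q`, then a strictly
larger subgroup has such a series.  Hence a maximal one is centric, and the fusion system of a
group that is `p`-stable in the normalizer form (`p` odd) is constrained.
-/

set_option autoImplicit false
set_option linter.unusedSectionVars false
set_option linter.style.haveILetI false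

namespace Cfsg.H5.NPST

open scoped commutatorElement
open Cfsg.H5.ZJ Cfsg.H5.NPSQ Cfsg.Agent.Lib.Helper13 Cfsg.Agent.Lib.Helper18.FusionCR

variable {G : Type*} [Group G]

/-- conjugation by a normalizing element preserves `R.subgroupOf C` if it normalizes `R` -/
theorem map_normalizerHom_subgroupOf (C R : Subgroup G)
    (n : ↥(Subgroup.normalizer (C : Set G))) (hn : (n : G) ∈ Subgroup.normalizer (R : Set G)) :
    (R.subgroupOf C).map (Subgroup.normalizerMonoidHom C n).toMonoidHom = R.subgroupOf C := by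
  ext x
  constructor
  · rintro ⟨y, hy, rfl⟩
    rw [SetLike.mem_coe, Subgroup.mem_subgroupOf] at hy
    rw [Subgroup.mem_subgroupOf, MulEquiv.coe_toMonoidHom,
      Subgroup.normalizerMonoidHom_apply_apply_coe]
    exact conj_mem_of_mem_normalizer hn hy
  · intro hx
    rw [Subgroup.mem_subgroupOf] at hx
    refine ⟨(Subgroup.normalizerMonoidHom C n⁻¹) x, ?_, ?_⟩
    · rw [SetLike.mem_coe, Subgroup.mem_subgroupOf, Subgroup.normalizerMonoidHom_apply_apply_coe]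
      have := conj_inv_mem_of_mem_normalizer hn hx
      simpa using this
    · apply Subtype.ext
      rw [MulEquiv.coe_toMonoidHom, Subgroup.normalizerMonoidHom_apply_apply_coe,
        Subgroup.normalizerMonoidHom_apply_apply_coe]
      simp only [Subgroup.coe_inv]
      group

/-- prepend a term to a chain -/
def shiftChain (R : Subgroup G) (D : ℕ → Subgroup G) : ℕ → Subgroup G
  | 0 => R
  | j + 1 => D j

section

variable [Finite G] {p : ℕ} [Fact p.Prime]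

/-- **the step lemma** -/
theorem Ser.step (hp2 : p ≠ 2) (hnps : Cfsg.IsNormalizerPStable p G) (P : Sylow p G)
    {Q : Subgroup G} (h : Ser (P : Subgroup G) Q)
    (hC : ¬ (P : Subgroup G) ⊓ Subgroup.centralizer (Q : Set G) ≤ Q) :
    ∃ Q' : Subgroup G, Q < Q' ∧ Ser (P : Subgroup G) Q' := by
  have hQsc := h.stronglyClosed
  have hctlQ := h.controls P
  obtain ⟨D, hD0, ⟨c, hDc⟩, hsc, hDQ, hcomm⟩ := h
  have hQP : Q ≤ (P : Subgroup G) := hQsc.1
  have hPQ : (P : Subgroup G) ≤ Subgroup.normalizer (Q : Set G) := by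
    intro y hy
    apply mem_normalizer_of_conj_mem'
    intro t ht
    exact hQsc.2 t ht y (Subgroup.mul_mem _ (Subgroup.mul_mem _ hy (hQP ht)) (Subgroup.inv_mem _ hy))
  obtain ⟨C, hCdef⟩ : ∃ C : Subgroup G, C = Subgroup.centralizer (Q : Set G) := ⟨_, rfl⟩
  rw [← hCdef] at hC
  have hCN : C ≤ Subgroup.normalizer (Q : Set G) := by
    rw [hCdef]; exact Subgroup.centralizer_le_normalizer _
  have hNC : Subgroup.normalizer (Q : Set G) ≤ Subgroup.normalizer (C : Set G) := by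
    rw [hCdef]; exact normalizer_le_normalizer_centralizer Q
  have hCQ : ∀ c ∈ C, ∀ q ∈ Q, q * c = c * q := by
    intro c hc q hq
    rw [hCdef] at hc
    exact Subgroup.mem_centralizer_iff.1 hc q hq
  have hFN : IsFN p (P : Subgroup G) Q := by
    unfold IsFN
    rw [inf_eq_left.2 hPQ]
    exact fun hdvd => P.not_dvd_index (dvd_trans hdvd (Subgroup.relIndex_dvd_index_of_le hPQ))
  have hidx : ¬ p ∣ ((P : Subgroup G) ⊓ C).relIndex C := not_dvd_relIndex_of_normal P hFN hCN hNC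
  have hDp : IsPGroup p (((P : Subgroup G) ⊓ C).subgroupOf C) :=
    (P.isPGroup'.to_le inf_le_left).comap_subtype
  obtain ⟨DX, hDX⟩ : ∃ DX : Sylow p ↥C,
      (DX : Subgroup ↥C) = ((P : Subgroup G) ⊓ C).subgroupOf C := ⟨hDp.toSylow hidx, rfl⟩
  obtain ⟨Y, hY⟩ : ∃ Y : Subgroup ↥C, Y = Q.subgroupOf C := ⟨_, rfl⟩
  have hYc : Y ≤ Subgroup.center ↥C := by
    intro y hy
    rw [hY, Subgroup.mem_subgroupOf] at hy
    rw [Subgroup.mem_center_iff]
    intro c
    apply Subtype.ext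
    have := hCQ (c : G) c.2 (y : G) hy
    simpa using this.symm
  have hYp : IsPGroup p Y := by
    rw [hY]; exact (P.isPGroup'.to_le hQP).comap_subtype
  have hDY : ¬ (DX : Subgroup ↥C) ≤ Y := by
    intro hle
    apply hC
    intro x hx
    have h1 : (⟨x, hx.2⟩ : ↥C) ∈ (DX : Subgroup ↥C) := by
      rw [hDX, Subgroup.mem_subgroupOf]; exact hx
    have h2 := hle h1
    rw [hY, Subgroup.mem_subgroupOf] at h2
    exact h2
  obtain ⟨VX, hYV, hVD, hVY, hVab, hVctl, hVinv⟩ :=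
    exists_central_lift hp2 (Cfsg.H5.NPS.nps_subgroup hnps C) DX Y hYc hYp hDY
  obtain ⟨V, hV⟩ : ∃ V : Subgroup G, V = VX.map C.subtype := ⟨_, rfl⟩
  have hmemV : ∀ v : G, v ∈ V ↔ ∃ hv : v ∈ C, (⟨v, hv⟩ : ↥C) ∈ VX := by
    intro v
    rw [hV]
    constructor
    · rintro ⟨x, hx, rfl⟩
      exact ⟨x.2, hx⟩
    · rintro ⟨hv, hx⟩
      exact ⟨⟨v, hv⟩, hx, rfl⟩
  have hVPC : V ≤ (P : Subgroup G) ⊓ C := by
    intro v hv
    obtain ⟨hvC, hvx⟩ := (hmemV v).1 hv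
    have := hVD hvx
    rw [hDX, Subgroup.mem_subgroupOf] at this
    exact this
  have hVP : V ≤ (P : Subgroup G) := hVPC.trans inf_le_left
  have hVC : V ≤ C := hVPC.trans inf_le_right
  have hVQ : ¬ V ≤ Q := by
    intro hle
    apply hVY
    intro x hx
    rw [hY, Subgroup.mem_subgroupOf]
    exact hle ((hmemV _).2 ⟨x.2, hx⟩)
  have hVcomm : ∀ a ∈ V, ∀ b ∈ V, ⁅a, b⁆ ∈ Q := by
    intro a ha b hb
    obtain ⟨haC, hax⟩ := (hmemV a).1 ha
    obtain ⟨hbC, hbx⟩ := (hmemV b).1 hb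
    have := hVab _ hax _ hbx
    rw [hY, Subgroup.mem_subgroupOf] at this
    exact this
  -- invariance
  have hVinv' : ∀ n ∈ Subgroup.normalizer (Q : Set G) ⊓
      Subgroup.normalizer (((P : Subgroup G) ⊓ C : Subgroup G) : Set G), ∀ v ∈ V, n * v * n⁻¹ ∈ V := by
    intro n hn v hv
    obtain ⟨hnQ, hnPC⟩ := Subgroup.mem_inf.1 hn
    obtain ⟨hvC, hvx⟩ := (hmemV v).1 hv
    have hnC : n ∈ Subgroup.normalizer (C : Set G) := hNC hnQ
    have h1 := hVinv (Subgroup.normalizerMonoidHom C ⟨n, hnC⟩)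
      (by rw [hY]; exact map_normalizerHom_subgroupOf C Q ⟨n, hnC⟩ hnQ)
      (by rw [hDX]; exact map_normalizerHom_subgroupOf C _ ⟨n, hnC⟩ hnPC) _ hvx
    rw [hmemV]
    refine ⟨conj_mem_of_mem_normalizer hnC hvC, ?_⟩
    have e : (⟨n * v * n⁻¹, conj_mem_of_mem_normalizer hnC hvC⟩ : ↥C) =
        (Subgroup.normalizerMonoidHom C ⟨n, hnC⟩) ⟨v, hvC⟩ := by
      apply Subtype.ext
      rw [Subgroup.normalizerMonoidHom_apply_apply_coe]
    rw [e]; exact h1
  -- strong closure of `V` under `N(Q)`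
  have hVsc : ∀ v ∈ V, ∀ h ∈ Subgroup.normalizer (Q : Set G),
      h * v * h⁻¹ ∈ (P : Subgroup G) → h * v * h⁻¹ ∈ V := by
    intro v hv h hh hP
    obtain ⟨k, hk, y, hy, rfl⟩ := frattini_normal P hFN hCN hNC hh
    have hw : y * v * y⁻¹ ∈ V := hVinv' y hy v hv
    obtain ⟨hwC, hwx⟩ := (hmemV _).1 hw
    have e : k * y * v * (k * y)⁻¹ = k * (y * v * y⁻¹) * k⁻¹ := by group
    rw [e] at hP ⊢
    have hkwC : k * (y * v * y⁻¹) * k⁻¹ ∈ C := C.mul_mem (C.mul_mem hk hwC) (C.inv_mem hk)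
    obtain ⟨w', hw'⟩ : ∃ w' : ↥C, w' = ⟨y * v * y⁻¹, hwC⟩ := ⟨_, rfl⟩
    rw [← hw'] at hwx
    have hgw : (⟨k, hk⟩ : ↥C) * w' * (⟨k, hk⟩ : ↥C)⁻¹ ∈ (DX : Subgroup ↥C) := by
      rw [hDX, Subgroup.mem_subgroupOf, hw']
      exact ⟨hP, hkwC⟩
    obtain ⟨m, hm, hma⟩ := hVctl (Subgroup.zpowers w') ⟨k, hk⟩
      (Subgroup.zpowers_le.2 (hVD hwx)) (by
        intro a ha
        obtain ⟨i, rfl⟩ := Subgroup.mem_zpowers_iff.1 ha
        rw [← conj_zpow]
        exact Subgroup.zpow_mem _ hgw i)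
    have h2 := hma w' (Subgroup.mem_zpowers w')
    have h3 : m * w' * m⁻¹ ∈ VX := conj_mem_of_mem_normalizer hm hwx
    rw [h2] at h3
    rw [hmemV]
    refine ⟨hkwC, ?_⟩
    have e2 : (⟨k * (y * v * y⁻¹) * k⁻¹, hkwC⟩ : ↥C) = (⟨k, hk⟩ : ↥C) * w' * (⟨k, hk⟩ : ↥C)⁻¹ := by
      rw [hw']; rfl
    rw [e2]; exact h3
  -- decomposition of `Q ⊔ V`
  have hVN : V ≤ Subgroup.normalizer (Q : Set G) := hVP.trans hPQ
  have hdec : ∀ x ∈ Q ⊔ V, ∃ q ∈ Q, ∃ v ∈ V, x = q * v := by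
    intro x hx
    have hmem : x ∈ ((Q ⊔ V : Subgroup G) : Set G) := hx
    rw [Subgroup.coe_mul_of_right_le_normalizer_left Q V hVN] at hmem
    obtain ⟨q, hq, v, hv, rfl⟩ := hmem
    exact ⟨q, hq, v, hv, rfl⟩
  have hQVP : Q ⊔ V ≤ (P : Subgroup G) := sup_le hQP hVP
  have hQVN : Q ⊔ V ≤ Subgroup.normalizer (Q : Set G) := hQVP.trans hPQ
  -- strong closure of `Q ⊔ V`
  have hQVsc : Cfsg.IsStronglyClosed (Q ⊔ V) (P : Subgroup G) := by
    refine ⟨hQVP, ?_⟩
    intro x hx g hg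
    obtain ⟨m, hm, hma⟩ := hctlQ (Subgroup.zpowers x) g (Subgroup.zpowers_le.2 (hQVP hx)) (by
      intro a ha
      obtain ⟨i, rfl⟩ := Subgroup.mem_zpowers_iff.1 ha
      rw [← conj_zpow]
      exact Subgroup.zpow_mem _ hg i)
    have h1 := hma x (Subgroup.mem_zpowers x)
    rw [← h1] at hg ⊢
    obtain ⟨q, hq, v, hv, rfl⟩ := hdec x hx
    have hmq : m * q * m⁻¹ ∈ Q := conj_mem_of_mem_normalizer hm hq
    have e : m * (q * v) * m⁻¹ = (m * q * m⁻¹) * (m * v * m⁻¹) := by group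
    rw [e] at hg ⊢
    have hmv : m * v * m⁻¹ ∈ (P : Subgroup G) := by
      have e2 : m * v * m⁻¹ = (m * q * m⁻¹)⁻¹ * ((m * q * m⁻¹) * (m * v * m⁻¹)) := by group
      rw [e2]
      exact Subgroup.mul_mem _ (Subgroup.inv_mem _ (hQP hmq)) hg
    exact Subgroup.mul_mem _ (le_sup_left (b := V) hmq)
      (le_sup_right (a := Q) (hVsc v hv m hm hmv))
  -- commutators
  have hvb : ∀ v ∈ V, ∀ b ∈ Q ⊔ V, ⁅v, b⁆ ∈ Q := by
    intro v hv b hb
    obtain ⟨q', hq', v', hv', rfl⟩ := hdec b hb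
    have h1 : v * q' = q' * v := (hCQ v (hVC hv) q' hq').symm
    have h2 := hVcomm v hv v' hv'
    have e : ⁅v, q' * v'⁆ = q' * ⁅v, v'⁆ * q'⁻¹ := by
      simp only [commutatorElement_def]
      calc v * (q' * v') * v⁻¹ * (q' * v')⁻¹ = (v * q') * v' * v⁻¹ * v'⁻¹ * q'⁻¹ := by group
        _ = (q' * v) * v' * v⁻¹ * v'⁻¹ * q'⁻¹ := by rw [h1]
        _ = q' * (v * v' * v⁻¹ * v'⁻¹) * q'⁻¹ := by group
    rw [e]
    exact Q.mul_mem (Q.mul_mem hq' h2) (Q.inv_mem hq')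
  have hab : ∀ a ∈ Q ⊔ V, ∀ b ∈ Q ⊔ V, ⁅a, b⁆ ∈ Q := by
    intro a ha b hb
    obtain ⟨q, hq, v, hv, rfl⟩ := hdec a ha
    have h1 := hvb v hv b hb
    have h2 : b * q⁻¹ * b⁻¹ ∈ Q := conj_mem_of_mem_normalizer (hQVN hb) (Q.inv_mem hq)
    have e : ⁅q * v, b⁆ = q * ⁅v, b⁆ * q⁻¹ * (q * (b * q⁻¹ * b⁻¹)) := by
      simp only [commutatorElement_def]; group
    rw [e]
    exact Q.mul_mem (Q.mul_mem (Q.mul_mem hq h1) (Q.inv_mem hq)) (Q.mul_mem hq h2)
  have hcomm' : ∀ j, ∀ a ∈ Q ⊔ V, ∀ b ∈ D j, ⁅a, b⁆ ∈ D (j + 1) := by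
    intro j a ha b hb
    obtain ⟨q, hq, v, hv, rfl⟩ := hdec a ha
    have hbQ : b ∈ Q := hDQ j hb
    have h1 : v * b = b * v := (hCQ v (hVC hv) b hbQ).symm
    have e : ⁅q * v, b⁆ = ⁅q, b⁆ := by
      simp only [commutatorElement_def]
      calc q * v * b * (q * v)⁻¹ * b⁻¹ = q * (v * b) * v⁻¹ * q⁻¹ * b⁻¹ := by group
        _ = q * (b * v) * v⁻¹ * q⁻¹ * b⁻¹ := by rw [h1]
        _ = q * b * q⁻¹ * b⁻¹ := by group
    rw [e]
    exact hcomm j (Subgroup.commutator_mem_commutator hq hb)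
  refine ⟨Q ⊔ V, ?_, shiftChain (Q ⊔ V) D, rfl, ⟨c + 1, hDc⟩, ?_, ?_, ?_⟩
  · refine lt_of_le_of_ne le_sup_left ?_
    intro heq
    apply hVQ
    rw [heq]; exact le_sup_right
  · intro j
    match j with
    | 0 => exact hQVsc
    | j + 1 => exact hsc j
  · intro j
    match j with
    | 0 => exact le_rfl
    | j + 1 => exact (hDQ j).trans le_sup_left
  · intro j
    rw [Subgroup.commutator_le]
    match j with
    | 0 =>
      intro a ha b hb
      show ⁅a, b⁆ ∈ D 0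
      rw [hD0]
      exact hab a ha b hb
    | j + 1 =>
      intro a ha b hb
      exact hcomm' j a ha b hb

/-- a maximal subgroup with a series is centric -/
theorem exists_centric_ser (hp2 : p ≠ 2) (hnps : Cfsg.IsNormalizerPStable p G) (P : Sylow p G) :
    ∃ Q : Subgroup G, Ser (P : Subgroup G) Q ∧
      (P : Subgroup G) ⊓ Subgroup.centralizer (Q : Set G) ≤ Q := by
  obtain ⟨s, hs⟩ : ∃ s : Set (Subgroup G), s = {Q | Ser (P : Subgroup G) Q} := ⟨_, rfl⟩
  have hmem : ∀ Q, Q ∈ s ↔ Ser (P : Subgroup G) Q := by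
    intro Q; rw [hs]; exact Iff.rfl
  obtain ⟨Q, hQs, hmax⟩ := Set.exists_max_image s (fun Q : Subgroup G => Nat.card Q)
    (Set.toFinite s) ⟨⊥, (hmem ⊥).2 (ser_bot _)⟩
  rw [hmem] at hQs
  refine ⟨Q, hQs, ?_⟩
  by_contra hC
  obtain ⟨Q', hlt, hQ'⟩ := hQs.step hp2 hnps P hC
  have h1 := hmax Q' ((hmem Q').2 hQ')
  have h2 := card_lt_card_of_lt hlt
  exact absurd h1 (not_le.2 h2)

/-- **the fusion system of a group that is `p`-stable in the normalizer form (`p` odd) is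
constrained** (given saturation) -/
theorem exists_normal_centric (hp2 : p ≠ 2) (hnps : Cfsg.IsNormalizerPStable p G) (P : Sylow p G) :
    ∃ Q : Subgroup G, (Cfsg.groupFusionSystem (P : Subgroup G)).IsNormal Q ∧
      (Cfsg.groupFusionSystem (P : Subgroup G)).IsCentric Q := by
  obtain ⟨Q, hser, hcen⟩ := exists_centric_ser hp2 hnps P
  have hsc := hser.stronglyClosed
  refine ⟨Q, isNormal_of_controls P Q hsc.1 (hser.controls P), hsc.1, ?_⟩
  rintro Q'' ⟨φ, ⟨-, hφP, k, hk⟩, rfl⟩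
  have hle : φ.range ≤ Q := by
    rintro _ ⟨x, rfl⟩
    have h1 := hφP x
    rw [hk x] at h1 ⊢
    exact hsc.2 x x.2 k h1
  have hinj : Function.Injective φ := by
    intro a b hab
    rw [hk a, hk b] at hab
    exact Subtype.ext (mul_left_cancel (mul_right_cancel hab))
  have hcard : Nat.card Q ≤ Nat.card φ.range :=
    (Nat.card_congr (MonoidHom.ofInjective hinj).toEquiv).le
  have hrange : φ.range = Q := Subgroup.eq_of_le_of_card_ge hle hcard
  rw [hrange]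
  exact hcen

end

end Cfsg.H5.NPST
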