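import Mathlib
import Cfsg.Prelude.Def_Perm

set_option autoImplicit false

namespace Cfsg.H5

open Cfsg

variable {F : Type*} [NearField F]

theorem nf_zero_mul (a : F) : (0 : F) * a = 0 := by
  have h := NearField.right_distrib (0 : F) 0 a
  rw [add_zero] at h
  have : (0 : F) * a + 0 = 0 * a + 0 * a := by rw [add_zero]; exact h
  exact (add_left_cancel this).symm

theorem nf_neg_mul (x a : F) : (-x) * a = -(x * a) := by
  have h := NearField.right_distrib (-x) x a
  rw [neg_add_cancel, nf_zero_mul] at h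
  exact eq_neg_of_add_eq_zero_left h.symm

theorem nf_add_mul (x y a : F) : (x + y) * a = x * a + y * a := NearField.right_distrib x y a

theorem nf_sub_mul (x y a : F) : (x + -y) * a = x * a + -(y * a) := by
  rw [nf_add_mul, nf_neg_mul]

theorem nf_mul_ne_zero {a b : F} (ha : a ≠ 0) (hb : b ≠ 0) : a * b ≠ 0 := by
  intro h
  obtain ⟨c, -, hc⟩ := NearField.exists_inv a ha
  have : c * (a * b) = b := by rw [← mul_assoc, hc, one_mul]
  rw [h, NearField.mul_zero] at this
  exact hb this.symm

theorem nf_exists_mul_eq {x : F} (hx : x ≠ 0) (y : F) : ∃ a : F, x * a = y := by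
  obtain ⟨c, hc, -⟩ := NearField.exists_inv x hx
  exact ⟨c * y, by rw [← mul_assoc, hc, one_mul]⟩

theorem nf_nsmul_mul (n : ℕ) (x a : F) : (n • x) * a = n • (x * a) := by
  induction n with
  | zero => rw [zero_nsmul, zero_nsmul, nf_zero_mul]
  | succ n ih => rw [succ_nsmul, succ_nsmul, nf_add_mul, ih]

/-- The affine map `x ↦ x * a + b` of a near-field, as a permutation. -/
noncomputable def nfAffine (a b : F) (ha : a ≠ 0) : Equiv.Perm F :=
  let c := Classical.choose (NearField.exists_inv a ha)
  have hc : a * c = 1 ∧ c * a = 1 := Classical.choose_spec (NearField.exists_inv a ha)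
  { toFun := fun x => x * a + b
    invFun := fun y => (y + -b) * c
    left_inv := by
      intro x
      show (x * a + b + -b) * c = x
      rw [add_neg_cancel_right, mul_assoc, hc.1, mul_one]
    right_inv := by
      intro y
      show (y + -b) * c * a + b = y
      rw [mul_assoc, hc.2, mul_one, neg_add_cancel_right] }

theorem nfAffine_apply (a b : F) (ha : a ≠ 0) (x : F) : nfAffine a b ha x = x * a + b := rfl

/-- The affine group of a near-field. -/
noncomputable def nfAffineGroup (F : Type*) [NearField F] : Subgroup (Equiv.Perm F) where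
  carrier := {σ | ∃ a b : F, a ≠ 0 ∧ ∀ x : F, σ x = x * a + b}
  one_mem' := ⟨1, 0, (NearField.zero_ne_one).symm, fun x => by simp⟩
  mul_mem' := by
    rintro σ τ ⟨a, b, ha, hσ⟩ ⟨c, d, hc, hτ⟩
    refine ⟨c * a, d * a + b, nf_mul_ne_zero hc ha, fun x => ?_⟩
    rw [Equiv.Perm.coe_mul, Function.comp_apply, hτ, hσ, nf_add_mul, mul_assoc, add_assoc]
  inv_mem' := by
    rintro σ ⟨a, b, ha, hσ⟩
    obtain ⟨c, hac, hca⟩ := NearField.exists_inv a ha
    have hc : c ≠ 0 := by
      intro h
      rw [h, NearField.mul_zero] at hac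
      exact NearField.zero_ne_one hac
    refine ⟨c, (-b) * c, hc, fun x => ?_⟩
    apply σ.injective
    rw [Equiv.Perm.inv_def, Equiv.apply_symm_apply, hσ, ← nf_add_mul, mul_assoc, hca, mul_one,
      neg_add_cancel_right]

theorem mem_nfAffineGroup {σ : Equiv.Perm F} :
    σ ∈ nfAffineGroup F ↔ ∃ a b : F, a ≠ 0 ∧ ∀ x : F, σ x = x * a + b := Iff.rfl

end Cfsg.H5
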