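import Mathlib
import Cfsg.Agent.H5.SmallOrdBasic

/-!
# Sylow data at primes `p ‖ |G|` of a non-abelian simple group (helper5, for S4274)

For a prime `p` dividing `|G|` exactly once, `IsSD G p k e c` records: `k = n_p`,
`|C(P)| = p c`, `|N(P)| = p e c` for every Sylow `p`-subgroup `P`, with `1 < e ∣ p - 1`.

Rules proved here:
* `IsSD.adj` (A): `q ∣ c_p → p ∣ c_q` (an element of order `pq` is seen from both sides);
* `IsSD.norm_dvd` (B): if `q ∣ c_p` and `C(P)` has a unique Sylow `q`-subgroup for numerical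
  reasons, then `|N(P)| ∣ |N(Q)|`.
-/

set_option autoImplicit false
set_option linter.unusedSectionVars false

namespace Cfsg.H5.SylowTuple

open scoped Nat
open Cfsg.H5.SmallOrd

variable {G : Type*} [Group G] [Finite G]

/-- Sylow data of `G` at a prime `p` dividing `|G|` exactly once. -/
structure IsSD (G : Type*) [Group G] (p : ℕ) [Fact p.Prime] (k e c : ℕ) : Prop where
  card_sylow : Nat.card (Sylow p G) = k
  not_dvd : ¬ p ∣ k * (e * c)
  one_lt : 1 < e
  e_dvd : e ∣ p - 1
  card_P : ∀ P : Sylow p G, Nat.card (P : Subgroup G) = p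
  card_C : ∀ P : Sylow p G,
    Nat.card (Subgroup.centralizer ((P : Subgroup G) : Set G)) = p * c
  card_N : ∀ P : Sylow p G,
    Nat.card (Subgroup.normalizer ((P : Subgroup G) : Set G)) = p * (e * c)
  card_G : Nat.card G = p * (k * (e * c))

/-- conjugation invariance of the order of the centralizer -/
theorem card_centralizer_map_conj (g : G) (S : Subgroup G) :
    Nat.card (Subgroup.centralizer ((S.map (MulAut.conj g).toMonoidHom : Subgroup G) : Set G)) =
      Nat.card (Subgroup.centralizer (S : Set G)) := by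
  have h : Subgroup.centralizer ((S.map (MulAut.conj g).toMonoidHom : Subgroup G) : Set G) =
      (Subgroup.centralizer (S : Set G)).map (MulAut.conj g).toMonoidHom := by
    ext x
    rw [Subgroup.mem_map, Subgroup.mem_centralizer_iff]
    constructor
    · intro hx
      refine ⟨g⁻¹ * x * g, ?_, by simp [MulAut.conj_apply, mul_assoc]⟩
      rw [Subgroup.mem_centralizer_iff]
      intro s hs
      have h1 := hx (g * s * g⁻¹) (by
        rw [SetLike.mem_coe, Subgroup.mem_map]
        exact ⟨s, hs, by simp [MulAut.conj_apply]⟩)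
      have h2 : s * (g⁻¹ * x * g) = g⁻¹ * (g * s * g⁻¹ * x) * g := by group
      have h3 : g⁻¹ * x * g * s = g⁻¹ * (x * (g * s * g⁻¹)) * g := by group
      rw [h2, h3, h1]
    · rintro ⟨z, hz, rfl⟩ y hy
      rw [SetLike.mem_coe, Subgroup.mem_map] at hy
      obtain ⟨s, hs, rfl⟩ := hy
      rw [Subgroup.mem_centralizer_iff] at hz
      have := hz s hs
      simp only [MulEquiv.coe_toMonoidHom, MulAut.conj_apply]
      have h2 : g * s * g⁻¹ * (g * z * g⁻¹) = g * (s * z) * g⁻¹ := by group
      have h3 : g * z * g⁻¹ * (g * s * g⁻¹) = g * (z * s) * g⁻¹ := by group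
      rw [h2, h3, this]
  rw [h]
  exact (Nat.card_congr ((MulAut.conj g).subgroupMap _).toEquiv).symm

theorem map_conj_sylow' (p : ℕ) [Fact p.Prime] (g : G) (R : Sylow p G) :
    (R : Subgroup G).map (MulAut.conj g).toMonoidHom = ((g • R : Sylow p G) : Subgroup G) := by
  ext x
  rw [Sylow.coe_subgroup_smul, Subgroup.mem_pointwise_smul_iff_inv_smul_mem, Subgroup.mem_map]
  constructor
  · rintro ⟨y, hy, rfl⟩
    simpa [MulAut.smul_def, MulAut.conj_apply, mul_assoc] using hy
  · intro h
    refine ⟨g⁻¹ * x * g, ?_, by simp [MulAut.conj_apply, mul_assoc]⟩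
    simpa [MulAut.smul_def, MulAut.conj_apply, mul_assoc] using h

/-- Existence of Sylow data in a non-abelian simple group. -/
theorem exists_isSD [IsSimpleGroup G] (hG : ¬ IsMulCommutative G) (p : ℕ) [hp : Fact p.Prime]
    (m : ℕ) (hm1 : 1 < m) (hm : ¬ p ∣ m) (hcard : Nat.card G = p * m) :
    ∃ k e c : ℕ, IsSD G p k e c ∧ k * (e * c) = m ∧ k ∣ m ∧ k % p = 1 ∧ 1 < k ∧
      2 * (p * m) ∣ k ! := by
  have hcard' : Nat.card G = p ^ 1 * m := by rw [pow_one]; exact hcard
  obtain ⟨h1, h2, h3, h4⟩ := sylow_num hG p 1 m one_pos hm1 hm hcard'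
  obtain ⟨P₀⟩ : Nonempty (Sylow p G) := inferInstance
  obtain ⟨e, c, he1, hedvd, hkec, hC, hN⟩ := sylow_prime_data hG p m hm1 hm hcard P₀
  refine ⟨Nat.card (Sylow p G), e, c, ?_, hkec, h1, h2, h3, by rw [← hcard]; exact h4⟩
  have hPc : ∀ P : Sylow p G, Nat.card (P : Subgroup G) = p := by
    intro P
    have := sylow_card p 1 m hm hcard' P
    rwa [pow_one] at this
  refine ⟨rfl, by rw [hkec]; exact hm, he1, hedvd, hPc, ?_, ?_, by rw [hkec]; exact hcard⟩
  · intro P
    obtain ⟨g, rfl⟩ := MulAction.exists_smul_eq G P₀ P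
    rw [← map_conj_sylow', card_centralizer_map_conj]
    exact hC
  · intro P
    have hidx : Nat.card (Sylow p G) = (Subgroup.normalizer ((P : Subgroup G) : Set G)).index :=
      Sylow.card_eq_index_normalizer P
    have htot := Subgroup.card_mul_index (Subgroup.normalizer ((P : Subgroup G) : Set G))
    rw [← hidx, hcard, ← hkec] at htot
    have hkpos : 0 < Nat.card (Sylow p G) := Nat.card_pos
    apply Nat.eq_of_mul_eq_mul_right hkpos
    rw [htot]
    ring

section rules

variable {p q k e c k' e' c' : ℕ} [hp : Fact p.Prime] [hq : Fact q.Prime]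

theorem IsSD.not_dvd_c (h1 : IsSD G p k e c) : ¬ p ∣ c := by
  intro h
  exact h1.not_dvd (Dvd.dvd.mul_left (Dvd.dvd.mul_left h e) k)

/-- a Sylow subgroup of prime order is generated by any of its elements of that order -/
theorem IsSD.exists_sylow_eq_zpowers (h2 : IsSD G q k' e' c') (y : G) (hy : orderOf y = q) :
    ∃ Q : Sylow q G, (Q : Subgroup G) = Subgroup.zpowers y := by
  have hcz : Nat.card (Subgroup.zpowers y) = q := by rw [Nat.card_zpowers, hy]
  have hpg : IsPGroup q (Subgroup.zpowers y) :=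
    IsPGroup.of_card (n := 1) (by rw [hcz, pow_one])
  obtain ⟨Q, hQ⟩ := hpg.exists_le_sylow
  refine ⟨Q, (Subgroup.eq_of_le_of_card_ge hQ ?_).symm⟩
  rw [hcz, h2.card_P Q]

/-- Rule A: adjacency is symmetric. -/
theorem IsSD.adj (h1 : IsSD G p k e c) (h2 : IsSD G q k' e' c') (hpq : p ≠ q) (hqc : q ∣ c) :
    p ∣ c' := by
  obtain ⟨P⟩ : Nonempty (Sylow p G) := inferInstance
  have hqH : q ∣ Nat.card (Subgroup.centralizer ((P : Subgroup G) : Set G)) := by
    rw [h1.card_C P]
    exact Dvd.dvd.mul_left hqc p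
  obtain ⟨y, hy⟩ := exists_prime_orderOf_dvd_card' q hqH
  have hy' : orderOf (y : G) = q := by rw [Subgroup.orderOf_coe]; exact hy
  obtain ⟨Q, hQ⟩ := h2.exists_sylow_eq_zpowers (y : G) hy'
  have hle : (P : Subgroup G) ≤ Subgroup.centralizer ((Q : Subgroup G) : Set G) := by
    intro x hx
    rw [Subgroup.mem_centralizer_iff]
    intro z hz
    rw [SetLike.mem_coe, hQ, Subgroup.mem_zpowers_iff] at hz
    obtain ⟨i, rfl⟩ := hz
    have hyc := y.2
    rw [Subgroup.mem_centralizer_iff] at hyc
    have hcomm : Commute (y : G) x := (hyc x hx).symm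
    exact (hcomm.zpow_left i).eq
  have hdvd := Subgroup.card_dvd_of_le hle
  rw [h1.card_P P, h2.card_C Q] at hdvd
  rcases (Nat.Prime.dvd_mul hp.out).mp hdvd with h | h
  · exact absurd ((Nat.prime_dvd_prime_iff_eq hp.out hq.out).mp h) hpq
  · exact h

/-- every element of `q`-power... here: of order dividing `q`, lies in the unique Sylow `q` -/
theorem mem_of_subsingleton_sylow {H : Type*} [Group H] [Finite H] (q : ℕ) [Fact q.Prime]
    (hss : Subsingleton (Sylow q H)) (Q : Sylow q H) (w : H) (hw : w ^ q = 1) :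
    w ∈ (Q : Subgroup H) := by
  have hpg : IsPGroup q (Subgroup.zpowers w) := by
    rintro ⟨g, hg⟩
    refine ⟨1, ?_⟩
    rw [Subgroup.mem_zpowers_iff] at hg
    obtain ⟨i, rfl⟩ := hg
    apply Subtype.ext
    simp only [pow_one, SubmonoidClass.mk_pow, OneMemClass.coe_one]
    rw [← zpow_natCast, ← zpow_mul, mul_comm, zpow_mul, zpow_natCast, hw, one_zpow]
  obtain ⟨Q', hQ'⟩ := hpg.exists_le_sylow
  have : Q' = Q := Subsingleton.elim _ _
  rw [← this]
  exact hQ' (Subgroup.mem_zpowers w)

/-- A subgroup `H` of order `p q c₁` (`q ∤ p c₁`) with a central subgroup of order `p` and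
numerically unique Sylow `q`-subgroup: that subgroup contains all elements of order dividing `q`. -/
theorem exists_unique_sylow_image (H P : Subgroup G) (hPH : P ≤ H)
    (hcentral : ∀ x ∈ P, ∀ z ∈ H, x * z = z * x) (hPc : Nat.card P = p) (c₁ : ℕ)
    (hHc : Nat.card H = p * (q * c₁)) (hqpc : ¬ q ∣ p * c₁) (hpq : p ≠ q)
    (hu : ∀ j : ℕ, j ∣ c₁ → j % q = 1 → j = 1) :
    ∃ Q' : Subgroup G, Nat.card Q' = q ∧ Q' ≤ H ∧ ∀ w ∈ H, w ^ q = 1 → w ∈ Q' := by
  have hq0 : 0 < q := hq.out.pos
  have hHc' : Nat.card H = q ^ 1 * (p * c₁) := by rw [hHc]; ring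
  obtain ⟨Q⟩ : Nonempty (Sylow q H) := inferInstance
  have hQc : Nat.card (Q : Subgroup H) = q := by
    have := sylow_card q 1 (p * c₁) hqpc hHc' Q
    rwa [pow_one] at this
  have hPn : P.subgroupOf H ≤ Subgroup.normalizer ((Q : Subgroup H) : Set H) := by
    intro x hx
    rw [Subgroup.mem_subgroupOf] at hx
    rw [Subgroup.mem_normalizer_iff]
    intro z
    have hxz : x * z = z * x := by
      apply Subtype.ext
      simpa using hcentral x hx z z.2
    have : x * z * x⁻¹ = z := by rw [hxz, mul_inv_cancel_right]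
    rw [this]
  have hPsc : Nat.card (P.subgroupOf H) = p := by
    rw [Nat.card_congr (Subgroup.subgroupOfEquivOfLe hPH).toEquiv]
    exact hPc
  have hd1 : p ∣ Nat.card (Subgroup.normalizer ((Q : Subgroup H) : Set H)) := by
    have := Subgroup.card_dvd_of_le hPn
    rwa [hPsc] at this
  have hd2 : q ∣ Nat.card (Subgroup.normalizer ((Q : Subgroup H) : Set H)) := by
    have := Subgroup.card_dvd_of_le (Subgroup.le_normalizer (H := (Q : Subgroup H)))
    rwa [hQc] at this
  have hcop : Nat.Coprime p q := (Nat.coprime_primes hp.out hq.out).mpr hpq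
  obtain ⟨ν, hν⟩ := hcop.mul_dvd_of_dvd_of_dvd hd1 hd2
  have hidx : Nat.card (Sylow q H) =
      (Subgroup.normalizer ((Q : Subgroup H) : Set H)).index :=
    Sylow.card_eq_index_normalizer Q
  have htot := Subgroup.card_mul_index (Subgroup.normalizer ((Q : Subgroup H) : Set H))
  rw [← hidx, hν, hHc] at htot
  have hdvd : Nat.card (Sylow q H) ∣ c₁ := by
    refine ⟨ν, ?_⟩
    have hpq0 : 0 < p * q := Nat.mul_pos hp.out.pos hq0
    apply Nat.eq_of_mul_eq_mul_left hpq0
    have h5 : p * q * c₁ = p * (q * c₁) := by ring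
    rw [h5, ← htot]; ring
  have hmod : Nat.card (Sylow q H) % q = 1 := by
    have := card_sylow_modEq_one q H
    unfold Nat.ModEq at this
    rw [this, Nat.mod_eq_of_lt hq.out.one_lt]
  have hone := hu _ hdvd hmod
  have hss : Subsingleton (Sylow q H) := (Nat.card_eq_one_iff_unique.mp hone).1
  refine ⟨(Q : Subgroup H).map H.subtype, ?_, ?_, ?_⟩
  · rw [Subgroup.card_map_of_injective (Subgroup.subtype_injective _)]
    exact hQc
  · exact Subgroup.map_subtype_le _
  · intro w hw hwq
    rw [Subgroup.mem_map]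
    refine ⟨⟨w, hw⟩, ?_, rfl⟩
    apply mem_of_subsingleton_sylow q hss Q
    apply Subtype.ext
    simpa using hwq

/-- Rule B: if `q ∣ c_p` and the centralizer of a Sylow `p`-subgroup has a unique Sylow
`q`-subgroup for numerical reasons, then `|N(P)|` divides `|N(Q)|`. -/
theorem IsSD.norm_dvd (h1 : IsSD G p k e c) (h2 : IsSD G q k' e' c') (hpq : p ≠ q)
    (hqc : q ∣ c) (hu : ∀ j : ℕ, j ∣ c / q → j % q = 1 → j = 1) :
    p * (e * c) ∣ q * (e' * c') := by
  obtain ⟨P⟩ : Nonempty (Sylow p G) := inferInstance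
  obtain ⟨c₁, rfl⟩ := hqc
  have hq0 : 0 < q := hq.out.pos
  rw [Nat.mul_div_cancel_left _ hq0] at hu
  -- `q ∤ p c₁`
  have hqpc : ¬ q ∣ p * c₁ := by
    intro h
    have hHG : Nat.card (Subgroup.centralizer ((P : Subgroup G) : Set G)) ∣ Nat.card G :=
      Subgroup.card_subgroup_dvd_card _
    rw [h1.card_C P, h2.card_G] at hHG
    have h3 : q * (p * c₁) ∣ q * (k' * (e' * c')) := by
      have : p * (q * c₁) = q * (p * c₁) := by ring
      rwa [this] at hHG
    have h4 := Nat.dvd_of_mul_dvd_mul_left hq0 h3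
    exact h2.not_dvd (h.trans h4)
  have hPH : (P : Subgroup G) ≤ Subgroup.centralizer ((P : Subgroup G) : Set G) := by
    have hcyc : IsCyclic (P : Subgroup G) := by
      have : Fact (Nat.card (P : Subgroup G)).Prime := ⟨by rw [h1.card_P P]; exact hp.out⟩
      exact isCyclic_of_prime_card rfl
    have hcomm : IsMulCommutative (P : Subgroup G) := IsCyclic.isMulCommutative
    exact Subgroup.le_centralizer (P : Subgroup G)
  have hcentral : ∀ x ∈ (P : Subgroup G),
      ∀ z ∈ Subgroup.centralizer ((P : Subgroup G) : Set G), x * z = z * x := by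
    intro x hx z hz
    rw [Subgroup.mem_centralizer_iff] at hz
    exact hz x hx
  obtain ⟨Q', hQ'c, hQ'H, hQ'all⟩ := exists_unique_sylow_image
    (Subgroup.centralizer ((P : Subgroup G) : Set G)) (P : Subgroup G) hPH hcentral
    (h1.card_P P) c₁ (h1.card_C P) hqpc hpq hu
  have hpgQ' : IsPGroup q Q' := IsPGroup.of_card (n := 1) (by rw [hQ'c, pow_one])
  obtain ⟨Q₂, hQ₂⟩ := hpgQ'.exists_le_sylow
  have hQ₂eq : Q' = (Q₂ : Subgroup G) :=
    Subgroup.eq_of_le_of_card_ge hQ₂ (by rw [hQ'c, h2.card_P Q₂])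
  -- `N(P)` normalizes it
  have hconj : ∀ g ∈ Subgroup.normalizer ((P : Subgroup G) : Set G), ∀ x ∈ Q',
      g * x * g⁻¹ ∈ Q' := by
    intro g hg x hx
    apply hQ'all
    · have hzc := hQ'H hx
      rw [Subgroup.mem_centralizer_iff] at hzc ⊢
      intro s hs
      have hs' : g⁻¹ * s * g ∈ (P : Subgroup G) := by
        have := (Subgroup.mem_normalizer_iff'' (H := (P : Subgroup G))).mp hg s
        exact this.mp hs
      have := hzc _ hs'
      have e1 : s * (g * x * g⁻¹) = g * ((g⁻¹ * s * g) * x) * g⁻¹ := by group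
      have e2 : g * x * g⁻¹ * s = g * (x * (g⁻¹ * s * g)) * g⁻¹ := by group
      rw [e1, e2, this]
    · rw [conj_pow]
      have hxq : x ^ q = 1 := by
        have : (⟨x, hx⟩ : Q') ^ Nat.card Q' = 1 := pow_card_eq_one'
        rw [hQ'c] at this
        have := congrArg Subtype.val this
        simpa using this
      rw [hxq, mul_one, mul_inv_cancel]
  have hNle : Subgroup.normalizer ((P : Subgroup G) : Set G) ≤
      Subgroup.normalizer ((Q₂ : Subgroup G) : Set G) := by
    intro g hg
    rw [Subgroup.mem_normalizer_iff, ← hQ₂eq]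
    intro x
    constructor
    · exact hconj g hg x
    · intro hx
      have := hconj g⁻¹ (inv_mem hg) _ hx
      simpa [mul_assoc] using this
  have hdvd := Subgroup.card_dvd_of_le hNle
  rw [h1.card_N P, h2.card_N Q₂] at hdvd
  exact hdvd

end rules

end Cfsg.H5.SylowTuple
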