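import Mathlib
import Cfsg.Agent.H5.SylowTuple

/-!
# Rule C for Sylow data: counting elements of order divisible by `p` (helper5, for S4274)

For `p ‖ |G|` with Sylow data `(k, e, c)`, at least `k (p - 1) c` elements of `G` have order
divisible by `p`; for non-adjacent primes these sets are disjoint.
-/

set_option autoImplicit false
set_option linter.unusedSectionVars false

namespace Cfsg.H5.SylowTuple

open scoped Nat
open Cfsg.H5.SmallOrd

variable {G : Type*} [Group G] [Fintype G] [DecidableEq G]

/-- elements of order divisible by `p` -/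
noncomputable def Aset (G : Type*) [Group G] [Fintype G] (p : ℕ) : Finset G :=
  Finset.univ.filter (fun g => p ∣ orderOf g)

theorem mem_Aset {p : ℕ} {g : G} : g ∈ Aset G p ↔ p ∣ orderOf g := by
  unfold Aset
  simp

section onePrime

variable {p k e c : ℕ} [hp : Fact p.Prime]

/-- An element of order `p` centralizing a Sylow `p`-subgroup generates it. -/
theorem IsSD.sylow_eq_zpowers (h1 : IsSD G p k e c) (P : Sylow p G) (y : G)
    (hy : orderOf y = p) (hyc : y ∈ Subgroup.centralizer ((P : Subgroup G) : Set G)) :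
    (P : Subgroup G) = Subgroup.zpowers y := by
  obtain ⟨R, hR⟩ := h1.exists_sylow_eq_zpowers y hy
  have hle : (P : Subgroup G) ≤ Subgroup.normalizer ((R : Subgroup G) : Set G) := by
    intro x hx
    rw [Subgroup.mem_centralizer_iff] at hyc
    have hcomm : Commute x y := hyc x hx
    rw [Subgroup.mem_normalizer_iff, hR]
    intro z
    constructor
    · intro hz
      rw [Subgroup.mem_zpowers_iff] at hz ⊢
      obtain ⟨i, rfl⟩ := hz
      refine ⟨i, ?_⟩
      have : Commute x (y ^ i) := hcomm.zpow_right i
      rw [this.eq, mul_inv_cancel_right]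
    · intro hz
      rw [Subgroup.mem_zpowers_iff] at hz ⊢
      obtain ⟨i, hi⟩ := hz
      refine ⟨i, ?_⟩
      have hc2 : Commute x (y ^ i) := hcomm.zpow_right i
      have h5 : z = x⁻¹ * (x * z * x⁻¹) * x := by group
      rw [h5, ← hi, mul_assoc, ← hc2.eq, inv_mul_cancel_left]
  have h2 : (P : Subgroup G) ⊓ Subgroup.normalizer ((R : Subgroup G) : Set G) =
      (P : Subgroup G) ⊓ (R : Subgroup G) := P.isPGroup'.inf_normalizer_sylow R
  rw [inf_eq_left.mpr hle] at h2
  have h3 : (P : Subgroup G) ≤ (R : Subgroup G) := by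
    rw [h2]; exact inf_le_right
  have h4 : (P : Subgroup G) = (R : Subgroup G) :=
    Subgroup.eq_of_le_of_card_ge h3 (by rw [h1.card_P P, h1.card_P R])
  rw [h4, hR]

/-- the set of elements of `C(P)` of order divisible by `p` -/
noncomputable def Tset (p : ℕ) [Fact p.Prime] (P : Sylow p G) : Finset G :=
  @Finset.filter G
    (fun g => g ∈ Subgroup.centralizer ((P : Subgroup G) : Set G) ∧ p ∣ orderOf g)
    (Classical.decPred _) Finset.univ

theorem mem_Tset {P : Sylow p G} {g : G} :
    g ∈ Tset p P ↔ g ∈ Subgroup.centralizer ((P : Subgroup G) : Set G) ∧ p ∣ orderOf g := by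
  unfold Tset
  rw [@Finset.mem_filter _ _ (Classical.decPred _)]
  simp

theorem card_filter_mem (H : Subgroup G) [DecidablePred (fun g : G => g ∈ H)] :
    (Finset.univ.filter (fun g : G => g ∈ H)).card = Nat.card H := by
  classical
  rw [Nat.card_eq_fintype_card]
  exact (Fintype.card_of_subtype _ (by simp)).symm

theorem Tset_subset (P : Sylow p G) : Tset p P ⊆ Aset G p := by
  intro g hg
  rw [mem_Tset] at hg
  exact mem_Aset.mpr hg.2

theorem IsSD.Tset_disjoint (h1 : IsSD G p k e c) (P P' : Sylow p G) (hne : P ≠ P') :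
    Disjoint (Tset p P) (Tset p P') := by
  rw [Finset.disjoint_left]
  intro g hg hg'
  rw [mem_Tset] at hg hg'
  obtain ⟨hgc, hgp⟩ := hg
  obtain ⟨hgc', -⟩ := hg'
  have ho : orderOf g ≠ 0 := (orderOf_pos g).ne'
  have hy : orderOf (g ^ (orderOf g / p)) = p := orderOf_pow_orderOf_div ho hgp
  have e1 := h1.sylow_eq_zpowers P _ hy (Subgroup.pow_mem _ hgc _)
  have e2 := h1.sylow_eq_zpowers P' _ hy (Subgroup.pow_mem _ hgc' _)
  exact hne (Sylow.ext (e1.trans e2.symm))

theorem IsSD.card_Tset_ge (h1 : IsSD G p k e c) (P : Sylow p G) :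
    (p - 1) * c ≤ (Tset p P).card := by
  classical
  have hcop : Nat.Coprime p c := (Nat.Prime.coprime_iff_not_dvd hp.out).mpr h1.not_dvd_c
  -- the finsets
  have hHcard : (Finset.univ.filter
      (fun g : G => g ∈ Subgroup.centralizer ((P : Subgroup G) : Set G))).card = p * c := by
    rw [card_filter_mem, h1.card_C P]
  have hPcard : (Finset.univ.filter (fun g : G => g ∈ (P : Subgroup G))).card = p := by
    rw [card_filter_mem, h1.card_P P]
  -- elements of `C(P)` killed by `c`
  have hScard : (Finset.univ.filter (fun g : G =>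
      g ∈ Subgroup.centralizer ((P : Subgroup G) : Set G) ∧ g ^ c = 1)).card ≤ c := by
    have hinj : ((Finset.univ.filter (fun g : G => g ∈ (P : Subgroup G))) ×ˢ
        (Finset.univ.filter (fun g : G =>
          g ∈ Subgroup.centralizer ((P : Subgroup G) : Set G) ∧ g ^ c = 1))).card ≤
        (Finset.univ.filter
          (fun g : G => g ∈ Subgroup.centralizer ((P : Subgroup G) : Set G))).card := by
      apply Finset.card_le_card_of_injOn (fun x => x.1 * x.2)
      · intro x hx
        rw [Finset.mem_coe, Finset.mem_product, Finset.mem_filter, Finset.mem_filter] at hx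
        rw [Finset.mem_coe, Finset.mem_filter]
        refine ⟨Finset.mem_univ _, Subgroup.mul_mem _ ?_ hx.2.2.1⟩
        have hcyc : IsCyclic (P : Subgroup G) := by
          have : Fact (Nat.card (P : Subgroup G)).Prime := ⟨by rw [h1.card_P P]; exact hp.out⟩
          exact isCyclic_of_prime_card rfl
        have hcomm : IsMulCommutative (P : Subgroup G) := IsCyclic.isMulCommutative
        exact Subgroup.le_centralizer (P : Subgroup G) hx.1.2
      · intro x hx y hy hxy
        rw [Finset.mem_coe, Finset.mem_product, Finset.mem_filter, Finset.mem_filter] at hx hy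
        obtain ⟨⟨-, hx1⟩, -, hx2, hx3⟩ := hx
        obtain ⟨⟨-, hy1⟩, -, hy2, hy3⟩ := hy
        have hxy : x.1 * x.2 = y.1 * y.2 := hxy
        have cx : Commute x.1 x.2 := by
          rw [Subgroup.mem_centralizer_iff] at hx2
          exact hx2 _ hx1
        have cy : Commute y.1 y.2 := by
          rw [Subgroup.mem_centralizer_iff] at hy2
          exact hy2 _ hy1
        have hpow : x.1 ^ c = y.1 ^ c := by
          have h5 : (x.1 * x.2) ^ c = (y.1 * y.2) ^ c := by rw [hxy]
          rwa [cx.mul_pow, cy.mul_pow, hx3, hy3, mul_one, mul_one] at h5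
        have hcopP : (Nat.card (P : Subgroup G)).Coprime c := by rw [h1.card_P P]; exact hcop
        have h6 : (⟨x.1, hx1⟩ : (P : Subgroup G)) = ⟨y.1, hy1⟩ := by
          apply (powCoprime hcopP).injective
          apply Subtype.ext
          simpa [powCoprime] using hpow
        have h7 : x.1 = y.1 := congrArg Subtype.val h6
        have h8 : x.2 = y.2 := by
          rw [h7] at hxy
          exact mul_left_cancel hxy
        exact Prod.ext h7 h8
    rw [Finset.card_product, hPcard, hHcard] at hinj
    exact Nat.le_of_mul_le_mul_left hinj hp.out.pos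
  -- `C(P) ⊆ S ∪ T`
  have hsub : (Finset.univ.filter
      (fun g : G => g ∈ Subgroup.centralizer ((P : Subgroup G) : Set G))) ⊆
      (Finset.univ.filter (fun g : G =>
        g ∈ Subgroup.centralizer ((P : Subgroup G) : Set G) ∧ g ^ c = 1)) ∪ Tset p P := by
    intro g hg
    rw [Finset.mem_filter] at hg
    rw [Finset.mem_union]
    by_cases hgc : g ^ c = 1
    · left
      rw [Finset.mem_filter]
      exact ⟨Finset.mem_univ _, hg.2, hgc⟩
    · right
      rw [mem_Tset]
      refine ⟨hg.2, ?_⟩
      by_contra hnd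
      apply hgc
      have hod : orderOf g ∣ p * c := by
        rw [← h1.card_C P]
        have := orderOf_dvd_natCard (⟨g, hg.2⟩ : Subgroup.centralizer ((P : Subgroup G) : Set G))
        rwa [Subgroup.orderOf_mk] at this
      have hcop2 : Nat.Coprime (orderOf g) p :=
        ((Nat.Prime.coprime_iff_not_dvd hp.out).mpr hnd).symm
      exact orderOf_dvd_iff_pow_eq_one.mp (hcop2.dvd_of_dvd_mul_left hod)
  have h9 := (Finset.card_le_card hsub).trans (Finset.card_union_le _ _)
  rw [hHcard] at h9
  have h10 : p * c = (p - 1) * c + c := by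
    have := hp.out.pos
    obtain ⟨r, rfl⟩ : ∃ r, p = r + 1 := ⟨p - 1, by omega⟩
    simp [Nat.succ_mul]
  omega

theorem IsSD.card_Aset_ge (h1 : IsSD G p k e c) : k * ((p - 1) * c) ≤ (Aset G p).card := by
  classical
  have : Fintype (Sylow p G) := Fintype.ofFinite _
  have hsub : (Finset.univ : Finset (Sylow p G)).biUnion (fun P => Tset p P) ⊆ Aset G p := by
    intro g hg
    rw [Finset.mem_biUnion] at hg
    obtain ⟨P, -, hP⟩ := hg
    exact Tset_subset P hP
  have hcard := Finset.card_biUnion (s := (Finset.univ : Finset (Sylow p G)))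
    (t := fun P => Tset p P)
    (fun P _ P' _ hne => h1.Tset_disjoint P P' hne)
  have h2 := Finset.card_nsmul_le_sum (Finset.univ : Finset (Sylow p G))
    (fun P => (Tset p P).card) ((p - 1) * c) (fun P _ => h1.card_Tset_ge P)
  rw [Finset.card_univ, ← Nat.card_eq_fintype_card, h1.card_sylow, smul_eq_mul] at h2
  calc k * ((p - 1) * c) ≤ _ := h2
    _ = _ := hcard.symm
    _ ≤ _ := Finset.card_le_card hsub

end onePrime

/-- Non-adjacent primes have disjoint `Aset`s. -/
theorem IsSD.Aset_disjoint {p q k e c : ℕ} [hp : Fact p.Prime] [hq : Fact q.Prime]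
    (h1 : IsSD G p k e c) (hpq : p ≠ q) (hqc : ¬ q ∣ c) :
    Disjoint (Aset G p) (Aset G q) := by
  rw [Finset.disjoint_left]
  intro g hg hg'
  rw [mem_Aset] at hg hg'
  apply hqc
  have ho : orderOf g ≠ 0 := (orderOf_pos g).ne'
  have hy : orderOf (g ^ (orderOf g / p)) = p := orderOf_pow_orderOf_div ho hg
  have hz : orderOf (g ^ (orderOf g / q)) = q := orderOf_pow_orderOf_div ho hg'
  obtain ⟨P, hP⟩ := h1.exists_sylow_eq_zpowers _ hy
  have hzc : g ^ (orderOf g / q) ∈ Subgroup.centralizer ((P : Subgroup G) : Set G) := by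
    rw [Subgroup.mem_centralizer_iff]
    intro x hx
    rw [SetLike.mem_coe, hP, Subgroup.mem_zpowers_iff] at hx
    obtain ⟨i, rfl⟩ := hx
    have : Commute (g ^ (orderOf g / p)) (g ^ (orderOf g / q)) :=
      (Commute.refl g).pow_pow _ _
    exact (this.zpow_left i).eq
  have hdvd : q ∣ Nat.card (Subgroup.centralizer ((P : Subgroup G) : Set G)) := by
    have := orderOf_dvd_natCard
      (⟨_, hzc⟩ : Subgroup.centralizer ((P : Subgroup G) : Set G))
    rwa [Subgroup.orderOf_mk, hz] at this
  rw [h1.card_C P] at hdvd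
  rcases (Nat.Prime.dvd_mul hq.out).mp hdvd with h | h
  · exact absurd ((Nat.prime_dvd_prime_iff_eq hq.out hp.out).mp h).symm hpq
  · exact h

end Cfsg.H5.SylowTuple
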