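import Mathlib
import Cfsg.Agent.H5.SylowTuple
import Cfsg.Agent.S0989
import Cfsg.Agent.S0990

/-!
# Rule D for Sylow data: `n_p = p + 1` forces `2 |N(P)| ∣ p (p - 1)` (helper5, for S4274)

A non-abelian simple group with `p + 1` Sylow `p`-subgroups embeds in `A_{p+1}`, where the
normalizer of a Sylow `p`-subgroup has order `p (p - 1) / 2` (S0989, S0990, S0991).
-/

set_option autoImplicit false
set_option linter.unusedSectionVars false

namespace Cfsg.H5.SylowTuple

open scoped Nat
open Cfsg.H5.SmallOrd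

variable {G : Type*} [Group G] [Finite G]

theorem not_sq_dvd_succ_factorial {p : ℕ} (hp : p.Prime) : ¬ p ^ 2 ∣ (p + 1)! := by
  intro h
  have h1 : (p + 1)! = p * ((p + 1) * (p - 1)!) := by
    rw [Nat.factorial_succ]
    have : p ! = p * (p - 1)! := by
      obtain ⟨r, rfl⟩ : ∃ r, p = r + 1 := ⟨p - 1, by have := hp.pos; omega⟩
      rw [Nat.factorial_succ]; simp
    rw [this]; ring
  rw [h1, pow_two] at h
  have h2 := Nat.dvd_of_mul_dvd_mul_left hp.pos h
  rcases (Nat.Prime.dvd_mul hp).mp h2 with h3 | h3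
  · have : p ∣ 1 := (Nat.dvd_add_right (dvd_refl p)).mp h3
    exact hp.one_lt.ne' (Nat.dvd_one.mp this)
  · have := (hp.dvd_factorial).mp h3
    have := hp.pos
    omega

/-- Rule D: `n_p = p + 1` forces `2 e c ∣ p - 1`. -/
theorem IsSD.succ_dvd [IsSimpleGroup G] (hG : ¬ IsMulCommutative G) {p k e c : ℕ}
    [hp : Fact p.Prime] (h1 : IsSD G p k e c) (hk : k = p + 1) : 2 * (e * c) ∣ p - 1 := by
  have hp2 : p ≠ 2 := by
    rintro rfl
    have := Nat.le_of_dvd (by norm_num) h1.e_dvd
    have := h1.one_lt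
    omega
  obtain ⟨P⟩ : Nonempty (Sylow p G) := inferInstance
  have hidx : Nat.card (Sylow p G) = (Subgroup.normalizer ((P : Subgroup G) : Set G)).index :=
    Sylow.card_eq_index_normalizer P
  rw [h1.card_sylow, hk] at hidx
  have hNtop : Subgroup.normalizer ((P : Subgroup G) : Set G) ≠ ⊤ := by
    intro ht
    rw [ht, Subgroup.index_top] at hidx
    have := hp.out.pos
    omega
  obtain ⟨f, hf⟩ := Cfsg.Agent.S0991.result hG _ hNtop
  have hcardα : Fintype.card (Fin (Subgroup.normalizer ((P : Subgroup G) : Set G)).index) =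
      p + 1 := by rw [Fintype.card_fin, ← hidx]
  generalize (Subgroup.normalizer ((P : Subgroup G) : Set G)).index = d at f hf hcardα
  -- the image of `P` in `Perm (Fin d)`
  have hinj2 : Function.Injective (alternatingGroup (Fin d)).subtype :=
    Subgroup.subtype_injective _
  have hP₂c : Nat.card (((P : Subgroup G).map f).map (alternatingGroup (Fin d)).subtype) = p := by
    rw [Subgroup.card_map_of_injective hinj2, Subgroup.card_map_of_injective hf]
    exact h1.card_P P
  have hpg : IsPGroup p (((P : Subgroup G).map f).map (alternatingGroup (Fin d)).subtype) :=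
    IsPGroup.of_card (n := 1) (by rw [hP₂c, pow_one])
  obtain ⟨S, hS⟩ := hpg.exists_le_sylow
  have hSc : Nat.card (S : Subgroup (Equiv.Perm (Fin d))) = p := by
    obtain ⟨a, ha⟩ := IsPGroup.iff_card.mp S.isPGroup'
    have hdvd1 : p ∣ Nat.card (S : Subgroup (Equiv.Perm (Fin d))) := by
      have := Subgroup.card_dvd_of_le hS
      rwa [hP₂c] at this
    have hdvd2 : Nat.card (S : Subgroup (Equiv.Perm (Fin d))) ∣ (p + 1)! := by
      have := Subgroup.card_subgroup_dvd_card (S : Subgroup (Equiv.Perm (Fin d)))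
      rw [Nat.card_perm] at this
      have h2 : Nat.card (Fin d) = p + 1 := by rw [Nat.card_eq_fintype_card, hcardα]
      rwa [h2] at this
    rw [ha] at hdvd1 hdvd2 ⊢
    rcases Nat.lt_or_ge a 2 with h | h
    · interval_cases a
      · rw [pow_zero] at hdvd1
        exact absurd (Nat.dvd_one.mp hdvd1) hp.out.one_lt.ne'
      · rw [pow_one]
    · exact absurd ((pow_dvd_pow p h).trans hdvd2) (not_sq_dvd_succ_factorial hp.out)
  have hSeq : ((P : Subgroup G).map f).map (alternatingGroup (Fin d)).subtype =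
      (S : Subgroup (Equiv.Perm (Fin d))) :=
    Subgroup.eq_of_le_of_card_ge hS (by rw [hP₂c, hSc])
  have h90 := (Cfsg.Agent.S0990.result (α := Fin d) (by rw [hcardα]; have := hp.out.pos; omega) p hp2 S).2
  have h89 := Cfsg.Agent.S0989.result (α := Fin d) p (Or.inr hcardα) S
  have hsub : (S : Subgroup (Equiv.Perm (Fin d))).subgroupOf (alternatingGroup (Fin d)) =
      (P : Subgroup G).map f := by
    rw [← hSeq]
    exact Subgroup.comap_map_eq_self_of_injective hinj2 _
  rw [hsub, h89] at h90
  have hle := Subgroup.le_normalizer_map (H := (P : Subgroup G)) f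
  have hdvd := Subgroup.card_dvd_of_le hle
  rw [Subgroup.card_map_of_injective hf, h1.card_N P] at hdvd
  obtain ⟨t, ht⟩ := hdvd
  rw [ht] at h90
  have hpos := hp.out.pos
  have : p * (2 * (e * c) * t) = p * (p - 1) := by rw [← h90]; ring
  have := Nat.eq_of_mul_eq_mul_left hpos this
  exact ⟨t, this.symm⟩

end Cfsg.H5.SylowTuple
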