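import Mathlib
import Cfsg.Agent.H5.SylowTuple
import Cfsg.Agent.H5.SylowTupleC
import Cfsg.Agent.H5.SylowTupleD

/-!
# A kernel-checked search over Sylow data tuples (helper5, for S4274)

`tuple_kill`: a non-abelian simple group of order `n` yields, for every prime `p ‖ n` in a given
list, Sylow data `(k, e, c)` in the finite candidate list `triples n p`; the tuple of data
survives the rules A (adjacency), B (normalizer containment), C (counting), D (`n_p = p + 1`).
If the Boolean `search` finds no surviving tuple, no such group exists.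
-/

set_option autoImplicit false
set_option linter.unusedSectionVars false

namespace Cfsg.H5.SylowTuple

open scoped Nat
open Cfsg.H5.SmallOrd

/-- `(p, k, e, c)` -/
abbrev Dat := ℕ × ℕ × ℕ × ℕ

/-- true Sylow data of `G` -/
def IsSD' (G : Type*) [Group G] (x : Dat) : Prop :=
  ∃ hp : Fact x.1.Prime, @IsSD G _ x.1 hp x.2.1 x.2.2.1 x.2.2.2

/-! ### candidate triples -/

def kOk (n p k : ℕ) : Bool :=
  decide (k ∣ n / p) && decide (k % p = 1) && decide (1 < k) &&
    (decide (40 < k) || decide (2 * n ∣ k !))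

def eOk (n p k e : ℕ) : Bool :=
  decide (1 < e) && decide (e ∣ p - 1) && decide (k * e ∣ n / p) &&
    (!(decide (k = p + 1)) || decide (2 * (e * (n / p / (k * e))) ∣ p - 1))

def triples (n p : ℕ) : List (ℕ × ℕ × ℕ) :=
  (List.range (n / p + 1)).flatMap fun k =>
    if kOk n p k then
      ((List.range p).filter (eOk n p k)).map fun e => (k, e, n / p / (k * e))
    else []

theorem mem_triples {n p k e : ℕ} (hk : kOk n p k = true) (he : eOk n p k e = true)
    (hkle : k ≤ n / p) (hep : e < p) : (k, e, n / p / (k * e)) ∈ triples n p := by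
  unfold triples
  rw [List.mem_flatMap]
  refine ⟨k, List.mem_range.mpr (by omega), ?_⟩
  rw [if_pos hk, List.mem_map]
  exact ⟨e, List.mem_filter.mpr ⟨List.mem_range.mpr hep, he⟩, rfl⟩

/-! ### pair rules -/

def uniq (q r : ℕ) : Bool :=
  (List.range (r + 1)).all fun j => !(decide (j ∣ r) && decide (j % q = 1)) || decide (j = 1)

theorem uniq_sound {q r : ℕ} (hr : 0 < r) (h : uniq q r = true) :
    ∀ j : ℕ, j ∣ r → j % q = 1 → j = 1 := by
  intro j hj hm
  unfold uniq at h
  rw [List.all_eq_true] at h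
  have := h j (List.mem_range.mpr (by have := Nat.le_of_dvd hr hj; omega))
  simpa [hj, hm] using this

def adjOk (x y : Dat) : Bool := !(decide (y.1 ∣ x.2.2.2)) || decide (x.1 ∣ y.2.2.2)

def normOk (x y : Dat) : Bool :=
  !(decide (y.1 ∣ x.2.2.2)) || !(uniq y.1 (x.2.2.2 / y.1)) ||
    decide (x.1 * (x.2.2.1 * x.2.2.2) ∣ y.1 * (y.2.2.1 * y.2.2.2))

def pairOk (x y : Dat) : Bool := adjOk x y && adjOk y x && normOk x y && normOk y x

/-! ### counting rule -/

def wt (x : Dat) : ℕ := x.2.1 * ((x.1 - 1) * x.2.2.2)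

def nonadj : List Dat → Bool
  | [] => true
  | x :: l => (l.all fun y => decide (x.1 ≠ y.1) && !(decide (y.1 ∣ x.2.2.2))) && nonadj l

def countOk (n : ℕ) (I : List Dat) : Bool := !(nonadj I) || decide ((I.map wt).sum < n)

def subs {α : Type} : List α → List (List α)
  | [] => [[]]
  | a :: l => subs l ++ (subs l).map (fun I => a :: I)

theorem mem_of_mem_subs {α : Type} : ∀ (l I : List α), I ∈ subs l → ∀ x ∈ I, x ∈ l := by
  intro l
  induction l with
  | nil =>
    intro I hI x hx
    simp only [subs, List.mem_singleton] at hI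
    rw [hI] at hx
    exact absurd hx (List.not_mem_nil)
  | cons a l ih =>
    intro I hI x hx
    simp only [subs, List.mem_append, List.mem_map] at hI
    rcases hI with hI | ⟨J, hJ, rfl⟩
    · exact List.mem_cons_of_mem _ (ih I hI x hx)
    · rcases List.mem_cons.mp hx with rfl | hx
      · exact List.mem_cons_self
      · exact List.mem_cons_of_mem _ (ih J hJ x hx)

def finalOk (n : ℕ) (acc : List Dat) : Bool := (subs acc).all (countOk n)

/-! ### the search -/

def search (n : ℕ) : List (ℕ × List (ℕ × ℕ × ℕ)) → List Dat → Bool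
  | [], acc => finalOk n acc
  | (p, ts) :: rest, acc =>
    ts.any fun t => (acc.all fun y => pairOk (p, t) y) && search n rest ((p, t) :: acc)

/-! ### soundness -/

variable {G : Type*} [Group G] [Finite G]

theorem adjOk_of {x y : Dat} (hx : IsSD' G x) (hy : IsSD' G y) : adjOk x y = true := by
  obtain ⟨hp, h1⟩ := hx
  obtain ⟨hq, h2⟩ := hy
  unfold adjOk
  by_cases hd : y.1 ∣ x.2.2.2
  · have hne : x.1 ≠ y.1 := by
      intro h
      rw [← h] at hd
      exact h1.not_dvd_c hd
    have := h1.adj h2 hne hd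
    simp [hd, this]
  · simp [hd]

theorem normOk_of {x y : Dat} (hx : IsSD' G x) (hy : IsSD' G y) : normOk x y = true := by
  obtain ⟨hp, h1⟩ := hx
  obtain ⟨hq, h2⟩ := hy
  unfold normOk
  by_cases hd : y.1 ∣ x.2.2.2
  · have hne : x.1 ≠ y.1 := by
      intro h
      rw [← h] at hd
      exact h1.not_dvd_c hd
    by_cases hu : uniq y.1 (x.2.2.2 / y.1) = true
    · have hc0 : 0 < x.2.2.2 := by
        rcases Nat.eq_zero_or_pos x.2.2.2 with h0 | h0
        · exact absurd (h0 ▸ dvd_zero x.1) h1.not_dvd_c
        · exact h0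
      have hr : 0 < x.2.2.2 / y.1 :=
        Nat.div_pos (Nat.le_of_dvd hc0 hd) hq.out.pos
      have := h1.norm_dvd h2 hne hd (uniq_sound hr hu)
      simp [this]
    · simp [hu]
  · simp [hd]

theorem pairOk_of {x y : Dat} (hx : IsSD' G x) (hy : IsSD' G y) : pairOk x y = true := by
  unfold pairOk
  rw [adjOk_of hx hy, adjOk_of hy hx, normOk_of hx hy, normOk_of hy hx]
  rfl

section count

open Classical in
/-- union of the `Aset`s of a list of data -/
noncomputable def Uset (G : Type*) [Group G] [Fintype G] : List Dat → Finset G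
  | [] => ∅
  | x :: l => Aset G x.1 ∪ Uset G l

theorem sum_wt_le [Fintype G] (I : List Dat) (hI : ∀ x ∈ I, IsSD' G x)
    (hna : nonadj I = true) : (I.map wt).sum ≤ (Uset G I).card := by
  classical
  induction I with
  | nil => simp
  | cons x l ih =>
    have hxl : ∀ y ∈ l, IsSD' G y := fun y hy => hI y (List.mem_cons_of_mem _ hy)
    simp only [nonadj, Bool.and_eq_true, List.all_eq_true, decide_eq_true_eq, Bool.not_eq_true',
      decide_eq_false_iff_not] at hna
    obtain ⟨hx1, hx2⟩ := hna
    have ih' := ih hxl hx2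
    obtain ⟨hp, h1⟩ := hI x List.mem_cons_self
    have hdisj : ∀ (l' : List Dat), (∀ y ∈ l', y ∈ l) → Disjoint (Aset G x.1) (Uset G l') := by
      intro l'
      induction l' with
      | nil => intro _; simp [Uset]
      | cons y l'' ih2 =>
        intro hsub
        simp only [Uset]
        rw [Finset.disjoint_union_right]
        refine ⟨?_, ih2 (fun z hz => hsub z (List.mem_cons_of_mem _ hz))⟩
        have hyl := hsub y List.mem_cons_self
        obtain ⟨hq, h2⟩ := hxl y hyl
        obtain ⟨hne, hnd⟩ := hx1 y hyl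
        exact h1.Aset_disjoint hne hnd
    simp only [List.map_cons, List.sum_cons, Uset]
    rw [Finset.card_union_of_disjoint (hdisj l (fun y hy => hy))]
    have h3 : wt x ≤ (Aset G x.1).card := h1.card_Aset_ge
    omega

theorem Uset_ne_one [Fintype G] (I : List Dat) (hI : ∀ x ∈ I, IsSD' G x) :
    ∀ g ∈ Uset G I, g ≠ 1 := by
  classical
  induction I with
  | nil => simp [Uset]
  | cons x l ih =>
    intro g hg
    simp only [Uset, Finset.mem_union] at hg
    rcases hg with hg | hg
    · rw [mem_Aset] at hg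
      rintro rfl
      rw [orderOf_one] at hg
      obtain ⟨hp, -⟩ := hI x List.mem_cons_self
      exact hp.out.one_lt.ne' (Nat.dvd_one.mp hg)
    · exact ih (fun y hy => hI y (List.mem_cons_of_mem _ hy)) g hg

theorem sum_wt_lt (n : ℕ) (hn : Nat.card G = n) (I : List Dat) (hI : ∀ x ∈ I, IsSD' G x)
    (hna : nonadj I = true) : (I.map wt).sum < n := by
  classical
  have : Fintype G := Fintype.ofFinite G
  have h1 := sum_wt_le I hI hna
  have hsub : Uset G I ⊆ (Finset.univ : Finset G).erase 1 := fun g hg =>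
    Finset.mem_erase.mpr ⟨Uset_ne_one I hI g hg, Finset.mem_univ _⟩
  have h2 := Finset.card_le_card hsub
  rw [Finset.card_erase_of_mem (Finset.mem_univ _), Finset.card_univ,
    ← Nat.card_eq_fintype_card, hn] at h2
  have hpos : 0 < n := by rw [← hn]; exact Nat.card_pos
  omega

end count

theorem finalOk_of (n : ℕ) (hn : Nat.card G = n) (acc : List Dat)
    (hacc : ∀ x ∈ acc, IsSD' G x) : finalOk n acc = true := by
  unfold finalOk
  rw [List.all_eq_true]
  intro I hI
  unfold countOk
  by_cases hna : nonadj I = true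
  · have := sum_wt_lt n hn I (fun x hx => hacc x (mem_of_mem_subs acc I hI x hx)) hna
    simp [this]
  · simp [hna]

theorem search_sound (n : ℕ) (hn : Nat.card G = n) :
    ∀ (Ts : List (ℕ × List (ℕ × ℕ × ℕ))) (acc : List Dat), (∀ x ∈ acc, IsSD' G x) →
      (∀ pt ∈ Ts, ∃ t ∈ pt.2, IsSD' G (pt.1, t)) → search n Ts acc = true := by
  intro Ts
  induction Ts with
  | nil =>
    intro acc hacc _
    exact finalOk_of n hn acc hacc
  | cons pt rest ih =>
    intro acc hacc hTs
    obtain ⟨p, ts⟩ := pt
    obtain ⟨t, ht, hsd⟩ := hTs (p, ts) List.mem_cons_self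
    simp only [search]
    rw [List.any_eq_true]
    refine ⟨t, ht, ?_⟩
    rw [Bool.and_eq_true, List.all_eq_true]
    refine ⟨fun y hy => pairOk_of hsd (hacc y hy), ?_⟩
    apply ih
    · intro x hx
      rcases List.mem_cons.mp hx with rfl | hx
      · exact hsd
      · exact hacc x hx
    · intro pt hpt
      exact hTs pt (List.mem_cons_of_mem _ hpt)

/-- the check that `Ts` lists primes `p ‖ n` with their complete candidate lists -/
def tsOk (n : ℕ) (Ts : List (ℕ × List (ℕ × ℕ × ℕ))) : Bool :=
  Ts.all fun pt => decide (pt.1.Prime) && decide (pt.1 ∣ n) && !(decide (pt.1 ∣ n / pt.1)) &&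
    decide (1 < n / pt.1) && decide (triples n pt.1 = pt.2)

theorem exists_mem_triples [IsSimpleGroup G] (hG : ¬ IsMulCommutative G) (n p : ℕ)
    (hn : Nat.card G = n) (hp : p.Prime) (hpn : p ∣ n) (hpm : ¬ p ∣ n / p) (hm1 : 1 < n / p) :
    ∃ t ∈ triples n p, IsSD' G (p, t) := by
  have hpf : Fact p.Prime := ⟨hp⟩
  have hcard : Nat.card G = p * (n / p) := by rw [hn, Nat.mul_div_cancel' hpn]
  obtain ⟨k, e, c, hsd, hkec, hkm, hkp, hk1, hfac⟩ := exists_isSD hG p (n / p) hm1 hpm hcard
  have hm0 : 0 < n / p := by omega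
  have hke0 : 0 < k * e := by
    rcases Nat.eq_zero_or_pos (k * e) with h | h
    · rw [← mul_assoc, h, zero_mul] at hkec; omega
    · exact h
  have hc : n / p / (k * e) = c := by
    rw [← hkec, ← mul_assoc, Nat.mul_div_cancel_left _ hke0]
  refine ⟨(k, e, c), ?_, ⟨hpf, hsd⟩⟩
  rw [← hc]
  apply mem_triples
  · unfold kOk
    have h2n : 2 * n ∣ k ! := by rwa [Nat.mul_div_cancel' hpn] at hfac
    simp [hkm, hkp, hk1, h2n]
  · unfold eOk
    have hked : k * e ∣ n / p := ⟨c, by rw [← hkec]; ring⟩
    have hD : k = p + 1 → 2 * (e * (n / p / (k * e))) ∣ p - 1 := by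
      intro hk
      rw [hc]
      exact hsd.succ_dvd hG hk
    by_cases hk : k = p + 1
    · simp [hsd.one_lt, hsd.e_dvd, hked, hD hk]
    · simp [hsd.one_lt, hsd.e_dvd, hked, hk]
  · exact Nat.le_of_dvd hm0 hkm
  · have := Nat.le_of_dvd (by have := hp.two_le; omega) hsd.e_dvd
    have := hp.two_le
    omega

/-- **Sylow tuple certificate**: no non-abelian simple group of order `n`. -/
theorem tuple_kill [IsSimpleGroup G] (hG : ¬ IsMulCommutative G) (n : ℕ)
    (Ts : List (ℕ × List (ℕ × ℕ × ℕ))) (hTs : tsOk n Ts = true)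
    (cert : search n Ts [] = false) : Nat.card G ≠ n := by
  intro hn
  have h := search_sound (G := G) n hn Ts [] (fun x hx => absurd hx List.not_mem_nil) ?_
  · rw [h] at cert
    exact absurd cert (by decide)
  · intro pt hpt
    unfold tsOk at hTs
    rw [List.all_eq_true] at hTs
    have h1 := hTs pt hpt
    simp only [Bool.and_eq_true, decide_eq_true_eq, Bool.not_eq_true', decide_eq_false_iff_not]
      at h1
    obtain ⟨⟨⟨⟨hp, hpn⟩, hpm⟩, hm1⟩, htr⟩ := h1
    rw [← htr]
    exact exists_mem_triples hG n pt.1 hn hp hpn hpm hm1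

end Cfsg.H5.SylowTuple
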