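import Mathlib
import Cfsg.Agent.H5.SylowTupleS

/-!
# No non-abelian simple groups of certain orders dividing 175560 (Sylow tuple certificates)
(helper5, for S4274; generated by a script, every certificate is checked by the kernel)
-/

set_option autoImplicit false
set_option maxRecDepth 1000000

namespace Cfsg.H5.Ord175560

open Cfsg.H5.SylowTuple

universe u

variable {G : Type u} [Group G] [Finite G]

theorem no_228 [IsSimpleGroup G] (hG : ¬ IsMulCommutative G) : Nat.card G ≠ 228 :=
  tuple_kill hG 228 [(19, [])]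
    (by decide +kernel) (by decide +kernel)

theorem no_285 [IsSimpleGroup G] (hG : ¬ IsMulCommutative G) : Nat.card G ≠ 285 :=
  tuple_kill hG 285 [(3, [])]
    (by decide +kernel) (by decide +kernel)

theorem no_380 [IsSimpleGroup G] (hG : ¬ IsMulCommutative G) : Nat.card G ≠ 380 :=
  tuple_kill hG 380 [(5, [])]
    (by decide +kernel) (by decide +kernel)

theorem no_399 [IsSimpleGroup G] (hG : ¬ IsMulCommutative G) : Nat.card G ≠ 399 :=
  tuple_kill hG 399 [(3, [])]
    (by decide +kernel) (by decide +kernel)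

theorem no_456 [IsSimpleGroup G] (hG : ¬ IsMulCommutative G) : Nat.card G ≠ 456 :=
  tuple_kill hG 456 [(19, [])]
    (by decide +kernel) (by decide +kernel)

theorem no_532 [IsSimpleGroup G] (hG : ¬ IsMulCommutative G) : Nat.card G ≠ 532 :=
  tuple_kill hG 532 [(7, [])]
    (by decide +kernel) (by decide +kernel)

theorem no_627 [IsSimpleGroup G] (hG : ¬ IsMulCommutative G) : Nat.card G ≠ 627 :=
  tuple_kill hG 627 [(3, [])]
    (by decide +kernel) (by decide +kernel)

theorem no_665 [IsSimpleGroup G] (hG : ¬ IsMulCommutative G) : Nat.card G ≠ 665 :=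
  tuple_kill hG 665 [(5, [])]
    (by decide +kernel) (by decide +kernel)

theorem no_760 [IsSimpleGroup G] (hG : ¬ IsMulCommutative G) : Nat.card G ≠ 760 :=
  tuple_kill hG 760 [(19, [])]
    (by decide +kernel) (by decide +kernel)

theorem no_836 [IsSimpleGroup G] (hG : ¬ IsMulCommutative G) : Nat.card G ≠ 836 :=
  tuple_kill hG 836 [(11, [])]
    (by decide +kernel) (by decide +kernel)

theorem no_1045 [IsSimpleGroup G] (hG : ¬ IsMulCommutative G) : Nat.card G ≠ 1045 :=
  tuple_kill hG 1045 [(5, [])]
    (by decide +kernel) (by decide +kernel)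

theorem no_1064 [IsSimpleGroup G] (hG : ¬ IsMulCommutative G) : Nat.card G ≠ 1064 :=
  tuple_kill hG 1064 [(7, [])]
    (by decide +kernel) (by decide +kernel)

theorem no_1140 [IsSimpleGroup G] (hG : ¬ IsMulCommutative G) : Nat.card G ≠ 1140 :=
  tuple_kill hG 1140 [(5, [])]
    (by decide +kernel) (by decide +kernel)

theorem no_1463 [IsSimpleGroup G] (hG : ¬ IsMulCommutative G) : Nat.card G ≠ 1463 :=
  tuple_kill hG 1463 [(7, [])]
    (by decide +kernel) (by decide +kernel)

theorem no_1596 [IsSimpleGroup G] (hG : ¬ IsMulCommutative G) : Nat.card G ≠ 1596 :=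
  tuple_kill hG 1596 [(19, [])]
    (by decide +kernel) (by decide +kernel)

theorem no_1672 [IsSimpleGroup G] (hG : ¬ IsMulCommutative G) : Nat.card G ≠ 1672 :=
  tuple_kill hG 1672 [(11, [])]
    (by decide +kernel) (by decide +kernel)

theorem no_1995 [IsSimpleGroup G] (hG : ¬ IsMulCommutative G) : Nat.card G ≠ 1995 :=
  tuple_kill hG 1995 [(3, [])]
    (by decide +kernel) (by decide +kernel)

theorem no_2280 [IsSimpleGroup G] (hG : ¬ IsMulCommutative G) : Nat.card G ≠ 2280 :=
  tuple_kill hG 2280 [(19, [])]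
    (by decide +kernel) (by decide +kernel)

theorem no_2508 [IsSimpleGroup G] (hG : ¬ IsMulCommutative G) : Nat.card G ≠ 2508 :=
  tuple_kill hG 2508 [(11, [])]
    (by decide +kernel) (by decide +kernel)

theorem no_2660 [IsSimpleGroup G] (hG : ¬ IsMulCommutative G) : Nat.card G ≠ 2660 :=
  tuple_kill hG 2660 [(19, [])]
    (by decide +kernel) (by decide +kernel)

theorem no_3135 [IsSimpleGroup G] (hG : ¬ IsMulCommutative G) : Nat.card G ≠ 3135 :=
  tuple_kill hG 3135 [(3, [])]
    (by decide +kernel) (by decide +kernel)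

theorem no_3192 [IsSimpleGroup G] (hG : ¬ IsMulCommutative G) : Nat.card G ≠ 3192 :=
  tuple_kill hG 3192 [(19, [])]
    (by decide +kernel) (by decide +kernel)

theorem no_4180 [IsSimpleGroup G] (hG : ¬ IsMulCommutative G) : Nat.card G ≠ 4180 :=
  tuple_kill hG 4180 [(5, [])]
    (by decide +kernel) (by decide +kernel)

theorem no_4389 [IsSimpleGroup G] (hG : ¬ IsMulCommutative G) : Nat.card G ≠ 4389 :=
  tuple_kill hG 4389 [(3, [])]
    (by decide +kernel) (by decide +kernel)

theorem no_5016 [IsSimpleGroup G] (hG : ¬ IsMulCommutative G) : Nat.card G ≠ 5016 :=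
  tuple_kill hG 5016 [(11, [])]
    (by decide +kernel) (by decide +kernel)

theorem no_5320 [IsSimpleGroup G] (hG : ¬ IsMulCommutative G) : Nat.card G ≠ 5320 :=
  tuple_kill hG 5320 [(19, [])]
    (by decide +kernel) (by decide +kernel)

theorem no_7315 [IsSimpleGroup G] (hG : ¬ IsMulCommutative G) : Nat.card G ≠ 7315 :=
  tuple_kill hG 7315 [(5, [])]
    (by decide +kernel) (by decide +kernel)

theorem no_8360 [IsSimpleGroup G] (hG : ¬ IsMulCommutative G) : Nat.card G ≠ 8360 :=
  tuple_kill hG 8360 [(11, [])]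
    (by decide +kernel) (by decide +kernel)

theorem no_12540 [IsSimpleGroup G] (hG : ¬ IsMulCommutative G) : Nat.card G ≠ 12540 :=
  tuple_kill hG 12540 [(11, [])]
    (by decide +kernel) (by decide +kernel)

theorem no_21945 [IsSimpleGroup G] (hG : ¬ IsMulCommutative G) : Nat.card G ≠ 21945 :=
  tuple_kill hG 21945 [(3, [])]
    (by decide +kernel) (by decide +kernel)

theorem no_25080 [IsSimpleGroup G] (hG : ¬ IsMulCommutative G) : Nat.card G ≠ 25080 :=
  tuple_kill hG 25080 [(11, [])]
    (by decide +kernel) (by decide +kernel)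

end Cfsg.H5.Ord175560
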