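import Mathlib
import Cfsg.Agent.H5.SylowTupleS

/-!
# No non-abelian simple groups of certain orders dividing 175560 (Sylow tuple certificates)
(helper5, for S4274; generated by a script, every certificate is checked by the kernel)
-/

set_option autoImplicit false
set_option maxRecDepth 1000000

namespace Cfsg.H5.Ord175560

open Cfsg.H5.SylowTuple

universe u

variable {G : Type u} [Group G] [Finite G]

theorem no_15960 [IsSimpleGroup G] (hG : ¬ IsMulCommutative G) : Nat.card G ≠ 15960 :=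
  tuple_kill hG 15960 [(19, [(210, 2, 2)]), (7, [(57, 2, 20), (190, 2, 6), (190, 3, 4), (190, 6, 2)]), (5, [(21, 2, 76), (21, 4, 38), (76, 2, 21), (266, 2, 6), (266, 4, 3), (1596, 2, 1)]), (3, [(19, 2, 140), (28, 2, 95), (70, 2, 38), (76, 2, 35), (133, 2, 20), (190, 2, 14), (532, 2, 5), (1330, 2, 2)])]
    (by decide +kernel) (by decide +kernel)

theorem no_17556 [IsSimpleGroup G] (hG : ¬ IsMulCommutative G) : Nat.card G ≠ 17556 :=
  tuple_kill hG 17556 [(11, [(133, 2, 6)]), (19, [(77, 2, 6), (77, 3, 4), (77, 6, 2)]), (7, [(22, 2, 57), (22, 3, 38), (22, 6, 19), (57, 2, 22), (1254, 2, 1)]), (3, [(19, 2, 154), (22, 2, 133), (133, 2, 22), (154, 2, 19), (418, 2, 7), (2926, 2, 1)])]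
    (by decide +kernel) (by decide +kernel)

theorem no_29260 [IsSimpleGroup G] (hG : ¬ IsMulCommutative G) : Nat.card G ≠ 29260 :=
  tuple_kill hG 29260 [(19, [(77, 2, 10)]), (5, [(266, 2, 11), (2926, 2, 1)]), (7, [(22, 2, 95), (190, 2, 11)]), (11, [(133, 2, 10), (133, 5, 4), (133, 10, 2)])]
    (by decide +kernel) (by decide +kernel)

theorem no_7980 [IsSimpleGroup G] (hG : ¬ IsMulCommutative G) : Nat.card G ≠ 7980 :=
  tuple_kill hG 7980 [(19, [(210, 2, 1)]), (5, [(21, 2, 38), (21, 4, 19), (266, 2, 3)]), (7, [(57, 2, 10), (190, 2, 3), (190, 3, 2), (190, 6, 1)]), (3, [(19, 2, 70), (70, 2, 19), (133, 2, 10), (190, 2, 7), (1330, 2, 1)])]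
    (by decide +kernel) (by decide +kernel)

theorem no_11704 [IsSimpleGroup G] (hG : ¬ IsMulCommutative G) : Nat.card G ≠ 11704 :=
  tuple_kill hG 11704 [(7, [(22, 2, 38)]), (11, [(133, 2, 4)]), (19, [(77, 2, 4)])]
    (by decide +kernel) (by decide +kernel)

theorem no_5852 [IsSimpleGroup G] (hG : ¬ IsMulCommutative G) : Nat.card G ≠ 5852 :=
  tuple_kill hG 5852 [(7, [(22, 2, 19)]), (11, [(133, 2, 2)]), (19, [(77, 2, 2)])]
    (by decide +kernel) (by decide +kernel)

end Cfsg.H5.Ord175560
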