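import Mathlib
import Cfsg.Agent.H5.SylowTupleS

/-!
# No non-abelian simple groups of certain orders dividing 175560 (Sylow tuple certificates)
(helper5, for S4274; generated by a script, every certificate is checked by the kernel)
-/

set_option autoImplicit false
set_option maxRecDepth 1000000

namespace Cfsg.H5.Ord175560

open Cfsg.H5.SylowTuple

universe u

variable {G : Type u} [Group G] [Finite G]

theorem no_87780 [IsSimpleGroup G] (hG : ¬ IsMulCommutative G) : Nat.card G ≠ 87780 :=
  tuple_kill hG 87780 [(11, [(133, 2, 30), (133, 5, 12), (133, 10, 6), (210, 2, 19), (1596, 5, 1)]), (19, [(77, 2, 30), (77, 3, 20), (77, 6, 10), (210, 2, 11), (1540, 3, 1)]), (5, [(21, 2, 418), (21, 4, 209), (66, 2, 133), (231, 2, 38), (231, 4, 19), (266, 2, 33), (2926, 2, 3)]), (7, [(22, 2, 285), (22, 3, 190), (22, 6, 95), (57, 2, 110), (190, 2, 33), (190, 3, 22), (190, 6, 11), (330, 2, 19), (1254, 2, 5), (4180, 3, 1)]), (3, [(19, 2, 770), (22, 2, 665), (55, 2, 266), (70, 2, 209), (133, 2, 110), (154, 2, 95), (190, 2, 77),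 (385, 2, 38), (418, 2, 35), (1045, 2, 14), (1330, 2, 11), (2926, 2, 5), (7315, 2, 2)])]
    (by decide +kernel) (by decide +kernel)

end Cfsg.H5.Ord175560
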