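import Mathlib
import Cfsg.Agent.H5.SylowTupleS

/-!
# No non-abelian simple groups of certain orders dividing 175560 (Sylow tuple certificates)
(helper5, for S4274; generated by a script, every certificate is checked by the kernel)
-/

set_option autoImplicit false
set_option maxRecDepth 1000000

namespace Cfsg.H5.Ord175560

open Cfsg.H5.SylowTuple

universe u

variable {G : Type u} [Group G] [Finite G]

theorem no_58520 [IsSimpleGroup G] (hG : ¬ IsMulCommutative G) : Nat.card G ≠ 58520 :=
  tuple_kill hG 58520 [(19, [(77, 2, 20), (1540, 2, 1)]), (7, [(22, 2, 190), (190, 2, 22), (4180, 2, 1)]), (11, [(56, 5, 19), (133, 2, 20), (133, 5, 8), (133, 10, 4)]), (5, [(76, 2, 77), (266, 2, 22), (266, 4, 11), (836, 2, 7), (2926, 2, 2), (2926, 4, 1)])]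
    (by decide +kernel) (by decide +kernel)

theorem no_35112 [IsSimpleGroup G] (hG : ¬ IsMulCommutative G) : Nat.card G ≠ 35112 :=
  tuple_kill hG 35112 [(11, [(133, 2, 12), (1596, 2, 1)]), (19, [(77, 2, 12), (77, 3, 8), (77, 6, 4)]), (7, [(22, 2, 114), (22, 3, 76), (22, 6, 38), (57, 2, 44), (1254, 2, 2)]), (3, [(19, 2, 308), (22, 2, 266), (28, 2, 209), (76, 2, 77), (133, 2, 44), (154, 2, 38), (418, 2, 14), (532, 2, 11), (2926, 2, 2)])]
    (by decide +kernel) (by decide +kernel)

end Cfsg.H5.Ord175560
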