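import Mathlib
import Cfsg.Agent.H5.Ord175560A1
import Cfsg.Agent.H5.Ord175560A2
import Cfsg.Agent.H5.Ord175560A3
import Cfsg.Agent.H5.Ord175560A4
import Cfsg.Agent.Lib.Helper2.BurnsidePQ

/-!
# No non-abelian simple group of order `19 m`, `m ∣ 9240`, `m ≠ 9240` (helper5, for S4274)
-/

set_option autoImplicit false
set_option maxRecDepth 1000000
set_option maxHeartbeats 1600000

namespace Cfsg.H5.Ord175560

open Cfsg.H5.SmallOrd Cfsg.Agent.Lib.Helper2

universe u

theorem divisors_9240_cert : (List.range 9241).all (fun m => !(decide (m ∣ 9240)) ||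
    decide (m ∈ [1, 2, 3, 4, 5, 6, 7, 8, 10, 11, 12, 14, 15, 20, 21, 22, 24, 28, 30, 33, 35, 40, 42, 44, 55, 56, 60, 66, 70, 77, 84, 88, 105, 110, 120, 132, 140, 154, 165, 168, 210, 220, 231, 264, 280, 308, 330, 385, 420, 440, 462, 616, 660, 770, 840, 924, 1155, 1320, 1540, 1848, 2310, 3080, 4620, 9240])) = true := by
  decide +kernel

theorem mem_divisors_9240 (m : ℕ) (hm : m ∣ 9240) :
    m ∈ [1, 2, 3, 4, 5, 6, 7, 8, 10, 11, 12, 14, 15, 20, 21, 22, 24, 28, 30, 33, 35, 40, 42, 44, 55, 56, 60, 66, 70, 77, 84, 88, 105, 110, 120, 132, 140, 154, 165, 168, 210, 220, 231, 264, 280, 308, 330, 385, 420, 440, 462, 616, 660, 770, 840, 924, 1155, 1320, 1540, 1848, 2310, 3080, 4620, 9240] := by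
  have h := divisors_9240_cert
  rw [List.all_eq_true] at h
  have h2 := h m (List.mem_range.mpr (Nat.lt_succ_of_le (Nat.le_of_dvd (by norm_num) hm)))
  simpa [hm] using h2

theorem no_simple_19 {G : Type u} [Group G] [Finite G] [IsSimpleGroup G]
    (hG : ¬ IsMulCommutative G) (m : ℕ) (hm : m ∣ 9240) (hne : m ≠ 9240) :
    Nat.card G ≠ 19 * m := by
  have hns := Cfsg.Agent.S0493.not_isSolvable (not_isCyclic_of_not_comm hG)
  intro hcard
  have hmem := mem_divisors_9240 m hm
  simp only [List.mem_cons, List.not_mem_nil, or_false] at hmem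
  rcases hmem with rfl | rfl | rfl | rfl | rfl | rfl | rfl | rfl | rfl | rfl | rfl | rfl | rfl | rfl | rfl | rfl | rfl | rfl | rfl | rfl | rfl | rfl | rfl | rfl | rfl | rfl | rfl | rfl | rfl | rfl | rfl | rfl | rfl | rfl | rfl | rfl | rfl | rfl | rfl | rfl | rfl | rfl | rfl | rfl | rfl | rfl | rfl | rfl | rfl | rfl | rfl | rfl | rfl | rfl | rfl | rfl | rfl | rfl | rfl | rfl | rfl | rfl | rfl | rfl
  · exact absurd (isSolvable_of_card_eq_prime_pow_mul_prime_pow 19 3 (by norm_num) (by norm_num) _ G hcard ⟨1, 0, by norm_num⟩) hns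
  · exact absurd (isSolvable_of_card_eq_prime_pow_mul_prime_pow 2 19 (by norm_num) (by norm_num) _ G hcard ⟨1, 1, by norm_num⟩) hns
  · exact absurd (isSolvable_of_card_eq_prime_pow_mul_prime_pow 3 19 (by norm_num) (by norm_num) _ G hcard ⟨1, 1, by norm_num⟩) hns
  · exact absurd (isSolvable_of_card_eq_prime_pow_mul_prime_pow 2 19 (by norm_num) (by norm_num) _ G hcard ⟨2, 1, by norm_num⟩) hns
  · exact absurd (isSolvable_of_card_eq_prime_pow_mul_prime_pow 5 19 (by norm_num) (by norm_num) _ G hcard ⟨1, 1, by norm_num⟩) hns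
  · exact absurd hcard (Cfsg.Agent.S0493.not_card_two_mul_odd 57 (by decide) (by norm_num))
  · exact absurd (isSolvable_of_card_eq_prime_pow_mul_prime_pow 7 19 (by norm_num) (by norm_num) _ G hcard ⟨1, 1, by norm_num⟩) hns
  · exact absurd (isSolvable_of_card_eq_prime_pow_mul_prime_pow 2 19 (by norm_num) (by norm_num) _ G hcard ⟨3, 1, by norm_num⟩) hns
  · exact absurd hcard (Cfsg.Agent.S0493.not_card_two_mul_odd 95 (by decide) (by norm_num))
  · exact absurd (isSolvable_of_card_eq_prime_pow_mul_prime_pow 11 19 (by norm_num) (by norm_num) _ G hcard ⟨1, 1, by norm_num⟩) hns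
  · exact no_228 hG hcard
  · exact absurd hcard (Cfsg.Agent.S0493.not_card_two_mul_odd 133 (by decide) (by norm_num))
  · exact no_285 hG hcard
  · exact no_380 hG hcard
  · exact no_399 hG hcard
  · exact absurd hcard (Cfsg.Agent.S0493.not_card_two_mul_odd 209 (by decide) (by norm_num))
  · exact no_456 hG hcard
  · exact no_532 hG hcard
  · exact absurd hcard (Cfsg.Agent.S0493.not_card_two_mul_odd 285 (by decide) (by norm_num))
  · exact no_627 hG hcard
  · exact no_665 hG hcard
  · exact no_760 hG hcard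
  · exact absurd hcard (Cfsg.Agent.S0493.not_card_two_mul_odd 399 (by decide) (by norm_num))
  · exact no_836 hG hcard
  · exact no_1045 hG hcard
  · exact no_1064 hG hcard
  · exact no_1140 hG hcard
  · exact absurd hcard (Cfsg.Agent.S0493.not_card_two_mul_odd 627 (by decide) (by norm_num))
  · exact absurd hcard (Cfsg.Agent.S0493.not_card_two_mul_odd 665 (by decide) (by norm_num))
  · exact no_1463 hG hcard
  · exact no_1596 hG hcard
  · exact no_1672 hG hcard
  · exact no_1995 hG hcard
  · exact absurd hcard (Cfsg.Agent.S0493.not_card_two_mul_odd 1045 (by decide) (by norm_num))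
  · exact no_2280 hG hcard
  · exact no_2508 hG hcard
  · exact no_2660 hG hcard
  · exact absurd hcard (Cfsg.Agent.S0493.not_card_two_mul_odd 1463 (by decide) (by norm_num))
  · exact no_3135 hG hcard
  · exact no_3192 hG hcard
  · exact absurd hcard (Cfsg.Agent.S0493.not_card_two_mul_odd 1995 (by decide) (by norm_num))
  · exact no_4180 hG hcard
  · exact no_4389 hG hcard
  · exact no_5016 hG hcard
  · exact no_5320 hG hcard
  · exact no_5852 hG hcard
  · exact absurd hcard (Cfsg.Agent.S0493.not_card_two_mul_odd 3135 (by decide) (by norm_num))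
  · exact no_7315 hG hcard
  · exact no_7980 hG hcard
  · exact no_8360 hG hcard
  · exact absurd hcard (Cfsg.Agent.S0493.not_card_two_mul_odd 4389 (by decide) (by norm_num))
  · exact no_11704 hG hcard
  · exact no_12540 hG hcard
  · exact absurd hcard (Cfsg.Agent.S0493.not_card_two_mul_odd 7315 (by decide) (by norm_num))
  · exact no_15960 hG hcard
  · exact no_17556 hG hcard
  · exact no_21945 hG hcard
  · exact no_25080 hG hcard
  · exact no_29260 hG hcard
  · exact no_35112 hG hcard
  · exact absurd hcard (Cfsg.Agent.S0493.not_card_two_mul_odd 21945 (by decide) (by norm_num))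
  · exact no_58520 hG hcard
  · exact no_87780 hG hcard
  · exact hne rfl

end Cfsg.H5.Ord175560
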