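import Mathlib
import Cfsg.Agent.H5.Ord175560B

/-!
# Groups of order dividing 175560: simple of order 175560 or a normal Sylow 19-subgroup
(helper5, for S4274)

Strong induction over the divisors `d` of `175560 = 2³·3·5·7·11·19` with `19 ∣ d`, using that no
non-abelian simple group has order `d < 175560` (`no_simple_19`).
-/

set_option autoImplicit false
set_option linter.unusedSectionVars false
set_option maxHeartbeats 800000

namespace Cfsg.H5.Ord175560

open Cfsg.H5.SmallOrd
open scoped Nat

universe u

instance fact_prime_19 : Fact (Nat.Prime 19) := ⟨by norm_num⟩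

/-- the property proved by induction -/
def Good (G : Type u) [Group G] : Prop :=
  (IsSimpleGroup G ∧ Nat.card G = 175560) ∨ ∀ P : Sylow 19 G, (P : Subgroup G).Normal

section basics

variable {G : Type u} [Group G] [Finite G]

theorem not_sq19_dvd (hd : Nat.card G ∣ 175560) : ¬ 19 * 19 ∣ Nat.card G := by
  intro h
  have := h.trans hd
  omega

theorem card_sylow19 (hd : Nat.card G ∣ 175560) (h19 : 19 ∣ Nat.card G) (P : Sylow 19 G) :
    Nat.card (P : Subgroup G) = 19 := by
  obtain ⟨m, hm⟩ := h19
  have hm' : ¬ 19 ∣ m := by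
    rintro ⟨j, rfl⟩
    apply not_sq19_dvd hd
    rw [hm]
    exact ⟨j, by ring⟩
  have := sylow_card 19 1 m hm' (by rw [pow_one]; exact hm) P
  rwa [pow_one] at this

theorem card_le (hd : Nat.card G ∣ 175560) : Nat.card G ≤ 175560 :=
  Nat.le_of_dvd (by norm_num) hd

theorem card_lt_of_ne_top (K : Subgroup G) (hK : K ≠ ⊤) : Nat.card K < Nat.card G := by
  have h1 := Subgroup.card_mul_index K
  have h2 : K.index ≠ 1 := fun h => hK (Subgroup.index_eq_one.mp h)
  have h3 : K.index ≠ 0 := Subgroup.index_ne_zero_of_finite
  have h4 : 0 < Nat.card K := Nat.card_pos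
  have : 2 ≤ K.index := by omega
  nlinarith

theorem sylow_eq_of_subtype_eq {p : ℕ} [Fact p.Prime] (K : Subgroup G) (P R : Sylow p G)
    (hP : (P : Subgroup G) ≤ K) (hR : (R : Subgroup G) ≤ K)
    (h : P.subtype hP = R.subtype hR) : P = R := by
  have h2 : ((P.subtype hP : Sylow p K) : Subgroup K) = ((R.subtype hR : Sylow p K) : Subgroup K) :=
    congrArg _ h
  rw [Sylow.coe_subtype, Sylow.coe_subtype] at h2
  apply Sylow.ext
  have h3 := congrArg (Subgroup.map K.subtype) h2
  rw [Subgroup.subgroupOf_map_subtype, Subgroup.subgroupOf_map_subtype,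
    inf_eq_left.mpr hP, inf_eq_left.mpr hR] at h3
  exact h3

/-- Step A: a proper normal subgroup of order divisible by 19 (and the induction hypothesis). -/
theorem normal_of_normal (hd : Nat.card G ∣ 175560) (h19 : 19 ∣ Nat.card G)
    (ih : ∀ (H : Type u) [Group H] [Finite H], Nat.card H < Nat.card G → Nat.card H ∣ 175560 →
      19 ∣ Nat.card H → Good H)
    (K : Subgroup G) [hKn : K.Normal] (hK : K ≠ ⊤) (h19K : 19 ∣ Nat.card K) :
    ∀ P : Sylow 19 G, (P : Subgroup G).Normal := by
  have hKlt := card_lt_of_ne_top K hK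
  have hKd : Nat.card K ∣ 175560 := (Subgroup.card_subgroup_dvd_card K).trans hd
  rcases ih K hKlt hKd h19K with ⟨-, hc⟩ | hnorm
  · have := card_le hd
    omega
  · have hss : Subsingleton (Sylow 19 K) := by
      constructor
      intro Q Q'
      obtain ⟨g, rfl⟩ := MulAction.exists_smul_eq K Q Q'
      have := hnorm Q
      exact (Sylow.smul_eq_of_normal).symm
    -- every Sylow 19-subgroup lies in `K`
    obtain ⟨y, hy⟩ := exists_prime_orderOf_dvd_card' 19 h19K
    have hy' : orderOf (y : G) = 19 := by rw [Subgroup.orderOf_coe]; exact hy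
    have hcz : Nat.card (Subgroup.zpowers (y : G)) = 19 := by rw [Nat.card_zpowers, hy']
    have hpg : IsPGroup 19 (Subgroup.zpowers (y : G)) :=
      IsPGroup.of_card (n := 1) (by rw [hcz, pow_one])
    obtain ⟨P₀, hP₀⟩ := hpg.exists_le_sylow
    have hP₀eq : Subgroup.zpowers (y : G) = (P₀ : Subgroup G) :=
      Subgroup.eq_of_le_of_card_ge hP₀ (by rw [hcz, card_sylow19 hd h19 P₀])
    have hP₀K : (P₀ : Subgroup G) ≤ K := by
      rw [← hP₀eq, Subgroup.zpowers_le]
      exact y.2
    have hle : ∀ P : Sylow 19 G, (P : Subgroup G) ≤ K := by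
      intro P
      obtain ⟨g, rfl⟩ := MulAction.exists_smul_eq G P₀ P
      rw [← Cfsg.H5.SylowTuple.map_conj_sylow']
      intro x hx
      rw [Subgroup.mem_map] at hx
      obtain ⟨z, hz, rfl⟩ := hx
      simp only [MulEquiv.coe_toMonoidHom, MulAut.conj_apply]
      exact hKn.conj_mem z (hP₀K hz) g
    have hssG : Subsingleton (Sylow 19 G) := by
      constructor
      intro P P'
      exact sylow_eq_of_subtype_eq K P P' (hle P) (hle P') (Subsingleton.elim _ _)
    intro P
    exact P.normal_of_subsingleton

end basics

theorem prime_dvd_9240 {r : ℕ} (hr : r.Prime) (h : r ∣ 9240) :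
    r = 2 ∨ r = 3 ∨ r = 5 ∨ r = 7 ∨ r = 11 := by
  have h1 : (9240 : ℕ) = 2 ^ 3 * 3 * 5 * 7 * 11 := by norm_num
  rw [h1] at h
  rcases (Nat.Prime.dvd_mul hr).mp h with h | h
  · rcases (Nat.Prime.dvd_mul hr).mp h with h | h
    · rcases (Nat.Prime.dvd_mul hr).mp h with h | h
      · rcases (Nat.Prime.dvd_mul hr).mp h with h | h
        · left
          exact (Nat.prime_dvd_prime_iff_eq hr Nat.prime_two).mp (hr.dvd_of_dvd_pow h)
        · right; left
          exact (Nat.prime_dvd_prime_iff_eq hr Nat.prime_three).mp h
      · right; right; left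
        exact (Nat.prime_dvd_prime_iff_eq hr Nat.prime_five).mp h
    · right; right; right; left
      exact (Nat.prime_dvd_prime_iff_eq hr (by norm_num)).mp h
  · right; right; right; right
    exact (Nat.prime_dvd_prime_iff_eq hr (by norm_num)).mp h

/-- prime powers dividing `9240` are less than `19` -/
theorem prime_pow_dvd_9240_lt {r a : ℕ} (hr : r.Prime) (h : r ^ a ∣ 9240) : r ^ a < 19 := by
  rcases Nat.eq_zero_or_pos a with rfl | ha
  · norm_num
  · have hr' := prime_dvd_9240 hr ((dvd_pow_self r ha.ne').trans h)
    have key : ∀ (q b : ℕ), q = r → ¬ q ^ (b + 1) ∣ 9240 → q ^ b < 19 → r ^ a < 19 := by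
      intro q b hq hnd hlt
      subst hq
      have : a ≤ b := by
        by_contra hlt'
        exact hnd ((pow_dvd_pow q (by omega)).trans h)
      exact lt_of_le_of_lt (Nat.pow_le_pow_right hr.pos this) hlt
    rcases hr' with rfl | rfl | rfl | rfl | rfl
    · exact key 2 3 rfl (by norm_num) (by norm_num)
    · exact key 3 1 rfl (by norm_num) (by norm_num)
    · exact key 5 1 rfl (by norm_num) (by norm_num)
    · exact key 7 1 rfl (by norm_num) (by norm_num)
    · exact key 11 1 rfl (by norm_num) (by norm_num)

section index19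

variable {G : Type u} [Group G] [Finite G]

/-- elements of order prime to 19 lie in a normal subgroup of index 19 -/
theorem mem_of_index19 (K : Subgroup G) [K.Normal] (hK : K.index = 19) (x : G)
    (hx : (orderOf x).Coprime 19) : x ∈ K := by
  rw [← QuotientGroup.eq_one_iff]
  have h1 : orderOf ((QuotientGroup.mk' K) x) ∣ orderOf x := orderOf_map_dvd _ x
  have h2 : orderOf ((QuotientGroup.mk' K) x) ∣ 19 := by
    rw [← hK, Subgroup.index_eq_card]
    exact orderOf_dvd_natCard _
  have h3 : orderOf ((QuotientGroup.mk' K) x) = 1 :=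
    Nat.eq_one_of_dvd_coprimes hx h1 h2
  exact orderOf_eq_one_iff.mp h3

/-- In a group with a normal subgroup of index 19 (and `19² ∤ |G|`), a Sylow 19-subgroup
normalizes some Sylow `r`-subgroup for every prime `r ≠ 19`. -/
theorem exists_normalized_sylow (h19sq : ¬ 19 * 19 ∣ Nat.card G) (K : Subgroup G) [K.Normal]
    (hK : K.index = 19) (P : Sylow 19 G) (r : ℕ) [hr : Fact r.Prime] (hr19 : r ≠ 19) :
    ∃ R : Sylow r G, (P : Subgroup G) ≤ Subgroup.normalizer ((R : Subgroup G) : Set G) := by
  have hcop : Nat.Coprime r 19 := (Nat.coprime_primes hr.out (by norm_num)).mpr hr19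
  -- every Sylow r-subgroup lies in K
  have hle : ∀ R : Sylow r G, (R : Subgroup G) ≤ K := by
    intro R x hx
    apply mem_of_index19 K hK
    obtain ⟨j, hj⟩ := R.isPGroup' ⟨x, hx⟩
    have hj' : x ^ r ^ j = 1 := by
      have := congrArg Subtype.val hj
      simpa using this
    exact Nat.Coprime.coprime_dvd_left (orderOf_dvd_of_pow_eq_one hj') (hcop.pow_left j)
  -- 19 does not divide the number of Sylow r-subgroups
  have hnd : ¬ 19 ∣ Nat.card (Sylow r G) := by
    obtain ⟨R⟩ : Nonempty (Sylow r G) := inferInstance
    have hfr : Subgroup.normalizer ((R : Subgroup G) : Set G) ⊔ K = ⊤ :=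
      Sylow.normalizer_sup_eq_top' R (hle R)
    have h19N : 19 ∣ Nat.card (Subgroup.normalizer ((R : Subgroup G) : Set G)) := by
      by_contra hnd
      have hNK : Subgroup.normalizer ((R : Subgroup G) : Set G) ≤ K := by
        intro x hx
        apply mem_of_index19 K hK
        have h1 : orderOf x ∣ Nat.card (Subgroup.normalizer ((R : Subgroup G) : Set G)) :=
          Subgroup.orderOf_dvd_natCard _ hx
        have h2 : Nat.Coprime (Nat.card (Subgroup.normalizer ((R : Subgroup G) : Set G))) 19 :=
          ((Nat.Prime.coprime_iff_not_dvd (by norm_num)).mpr hnd).symm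
        exact Nat.Coprime.coprime_dvd_left h1 h2
      rw [sup_eq_right.mpr hNK] at hfr
      rw [hfr, Subgroup.index_top] at hK
      omega
    intro h19n
    have hidx : Nat.card (Sylow r G) = (Subgroup.normalizer ((R : Subgroup G) : Set G)).index :=
      Sylow.card_eq_index_normalizer R
    have htot := Subgroup.card_mul_index (Subgroup.normalizer ((R : Subgroup G) : Set G))
    rw [← hidx] at htot
    apply h19sq
    rw [← htot]
    exact Nat.mul_dvd_mul h19N h19n
  obtain ⟨R, hR⟩ := P.isPGroup'.nonempty_fixed_point_of_prime_not_dvd_card (Sylow r G) hnd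
  refine ⟨R, fun x hx => ?_⟩
  rw [MulAction.mem_fixedPoints] at hR
  have := hR ⟨x, hx⟩
  rw [Subgroup.smul_def] at this
  exact Sylow.smul_eq_iff_mem_normalizer.mp this

/-- A subgroup of order 19 normalizing a subgroup of order less than 19 centralizes it. -/
theorem le_centralizer_of_card_lt (P R : Subgroup G) (hP : Nat.card P = 19)
    (hR : Nat.card R < 19) (hle : P ≤ Subgroup.normalizer (R : Set G)) :
    P ≤ Subgroup.centralizer (R : Set G) := by
  intro x hx
  have hxN : x ∈ Subgroup.normalizer (R : Set G) := hle hx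
  have hker : (⟨x, hxN⟩ : Subgroup.normalizer (R : Set G)) ∈ R.normalizerMonoidHom.ker := by
    rw [MonoidHom.mem_ker]
    have h1 : orderOf (R.normalizerMonoidHom ⟨x, hxN⟩) ∣ 19 := by
      have h2 := orderOf_map_dvd R.normalizerMonoidHom (⟨x, hxN⟩ : Subgroup.normalizer (R : Set G))
      have h3 : orderOf (⟨x, hxN⟩ : Subgroup.normalizer (R : Set G)) = orderOf x :=
        Subgroup.orderOf_mk x hxN
      rw [h3] at h2
      have h4 : orderOf x ∣ 19 := by
        rw [← hP]
        exact Subgroup.orderOf_dvd_natCard _ hx
      exact h2.trans h4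
    have h5 : orderOf (R.normalizerMonoidHom ⟨x, hxN⟩) ∣ (Nat.card R)! := by
      have h6 : orderOf (R.normalizerMonoidHom ⟨x, hxN⟩) ∣ Nat.card (MulAut R) :=
        orderOf_dvd_natCard _
      have h7 : Nat.card (MulAut R) ∣ Nat.card (Equiv.Perm R) :=
        Subgroup.card_dvd_of_injective (MulAut.toPerm R) (fun a b hab => by
          apply MulEquiv.ext
          intro z
          have h10 := congrArg (fun σ : Equiv.Perm R => σ z) hab
          exact h10)
      rw [Nat.card_perm] at h7
      exact h6.trans h7
    have h8 : ¬ 19 ∣ (Nat.card R)! := by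
      rw [Nat.Prime.dvd_factorial (by norm_num)]
      omega
    have h9 : orderOf (R.normalizerMonoidHom ⟨x, hxN⟩) = 1 := by
      rcases (Nat.dvd_prime (by norm_num)).mp h1 with h | h
      · exact h
      · rw [h] at h5
        exact absurd h5 h8
    exact orderOf_eq_one_iff.mp h9
  rw [Subgroup.normalizerMonoidHom_ker, Subgroup.mem_subgroupOf] at hker
  exact hker

/-- Step C: a normal subgroup of index 19. -/
theorem normal_of_index19 (hd : Nat.card G ∣ 175560) (h19 : 19 ∣ Nat.card G)
    (K : Subgroup G) [K.Normal] (hK : K.index = 19) :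
    ∀ P : Sylow 19 G, (P : Subgroup G).Normal := by
  intro P
  have h19sq := not_sq19_dvd hd
  have hPc := card_sylow19 hd h19 P
  have hG0 : Nat.card G ≠ 0 := Nat.card_pos.ne'
  -- `|G|` divides `|C(P)|`
  have hdvd : Nat.card G ∣ Nat.card (Subgroup.centralizer ((P : Subgroup G) : Set G)) := by
    rw [← Nat.factorization_prime_le_iff_dvd hG0 Nat.card_pos.ne']
    intro r hr
    have hrf : Fact r.Prime := ⟨hr⟩
    rw [← Nat.Prime.pow_dvd_iff_le_factorization hr Nat.card_pos.ne']
    by_cases hr19 : r = 19
    · subst hr19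
      have hPC : (P : Subgroup G) ≤ Subgroup.centralizer ((P : Subgroup G) : Set G) := by
        have hcyc : IsCyclic (P : Subgroup G) := by
          have : Fact (Nat.card (P : Subgroup G)).Prime := ⟨by rw [hPc]; norm_num⟩
          exact isCyclic_of_prime_card rfl
        have hcomm : IsMulCommutative (P : Subgroup G) := IsCyclic.isMulCommutative
        exact Subgroup.le_centralizer (P : Subgroup G)
      have := Subgroup.card_dvd_of_le hPC
      rwa [P.card_eq_multiplicity] at this
    · obtain ⟨R, hR⟩ := exists_normalized_sylow h19sq K hK P r hr19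
      have hRlt : Nat.card (R : Subgroup G) < 19 := by
        obtain ⟨a, ha⟩ := IsPGroup.iff_card.mp R.isPGroup'
        rw [ha]
        apply prime_pow_dvd_9240_lt hr
        have h1 : r ^ a ∣ 175560 := by
          rw [← ha]
          exact (Subgroup.card_subgroup_dvd_card _).trans hd
        have h2 : (175560 : ℕ) = 9240 * 19 := by norm_num
        rw [h2] at h1
        have hcop : Nat.Coprime (r ^ a) 19 :=
          ((Nat.coprime_primes hr (by norm_num)).mpr hr19).pow_left a
        exact hcop.dvd_of_dvd_mul_right h1
      have hcen := le_centralizer_of_card_lt (P : Subgroup G) (R : Subgroup G) hPc hRlt hR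
      -- so `R ≤ C(P)`
      have hRC : (R : Subgroup G) ≤ Subgroup.centralizer ((P : Subgroup G) : Set G) := by
        intro z hz
        rw [Subgroup.mem_centralizer_iff]
        intro x hx
        have := hcen hx
        rw [Subgroup.mem_centralizer_iff] at this
        exact (this z hz).symm
      have := Subgroup.card_dvd_of_le hRC
      rwa [R.card_eq_multiplicity] at this
  have htop : Subgroup.centralizer ((P : Subgroup G) : Set G) = ⊤ := by
    apply Subgroup.eq_top_of_card_eq
    exact Nat.dvd_antisymm (Subgroup.card_subgroup_dvd_card _) hdvd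
  have hNtop : Subgroup.normalizer ((P : Subgroup G) : Set G) = ⊤ := by
    rw [eq_top_iff, ← htop]
    exact Subgroup.centralizer_le_normalizer _
  exact Subgroup.normalizer_eq_top_iff.mp hNtop

end index19

/-- The main induction. -/
theorem good_all : ∀ (d : ℕ) (G : Type u) [Group G] [Finite G], Nat.card G = d → d ∣ 175560 →
    19 ∣ d → Good G := by
  intro d
  induction d using Nat.strong_induction_on with
  | _ d ih =>
  intro G _ _ hcard hd h19
  have hdG : Nat.card G ∣ 175560 := by rw [hcard]; exact hd
  have h19G : 19 ∣ Nat.card G := by rw [hcard]; exact h19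
  have ih' : ∀ (H : Type u) [Group H] [Finite H], Nat.card H < Nat.card G →
      Nat.card H ∣ 175560 → 19 ∣ Nat.card H → Good H := by
    intro H _ _ h1 h2 h3
    exact ih (Nat.card H) (by rw [← hcard]; exact h1) H rfl h2 h3
  by_cases hs : IsSimpleGroup G
  · by_cases hN : d = 175560
    · left
      exact ⟨hs, hcard.trans hN⟩
    · right
      by_cases hcomm : IsMulCommutative G
      · intro P
        refine ⟨fun n hn g => ?_⟩
        have : g * n = n * g := hcomm.is_comm.comm g n
        rw [this, mul_inv_cancel_right]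
        exact hn
      · exfalso
        obtain ⟨m, rfl⟩ := h19
        have hm : m ∣ 9240 := by
          have h2 : (175560 : ℕ) = 19 * 9240 := by norm_num
          rw [h2] at hd
          exact Nat.dvd_of_mul_dvd_mul_left (by norm_num) hd
        have hne : m ≠ 9240 := by
          rintro rfl
          exact hN (by norm_num)
        exact no_simple_19 hcomm m hm hne hcard
  · right
    have hnt : Nontrivial G := by
      apply (Finite.one_lt_card_iff_nontrivial).mp
      have := Nat.le_of_dvd Nat.card_pos h19G
      omega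
    obtain ⟨K, hKn, hKbot, hKtop⟩ : ∃ K : Subgroup G, K.Normal ∧ K ≠ ⊥ ∧ K ≠ ⊤ := by
      by_contra hcon
      apply hs
      refine { toNontrivial := hnt, eq_bot_or_eq_top_of_normal := fun K hK => ?_ }
      by_cases h : K = ⊥
      · left; exact h
      · right
        by_contra h2
        exact hcon ⟨K, hK, h, h2⟩
    by_cases h19K : 19 ∣ Nat.card K
    · exact normal_of_normal hdG h19G ih' K hKtop h19K
    · -- pass to the quotient
      have hKpos : 0 < Nat.card K := Nat.card_pos
      have hK1 : Nat.card K ≠ 1 := fun h => hKbot (Subgroup.card_eq_one.mp h)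
      have htot := Subgroup.card_mul_index K
      have hqcard : Nat.card (G ⧸ K) = K.index := (Subgroup.index_eq_card K).symm
      have hqlt : Nat.card (G ⧸ K) < Nat.card G := by
        rw [hqcard]
        have hi0 : 0 < K.index := Nat.pos_of_ne_zero Subgroup.index_ne_zero_of_finite
        have : 2 ≤ Nat.card K := by omega
        nlinarith
      have hqd : Nat.card (G ⧸ K) ∣ 175560 := by
        rw [hqcard]
        exact (Dvd.intro_left _ htot).trans hdG
      have hq19 : 19 ∣ Nat.card (G ⧸ K) := by
        rw [hqcard]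
        rw [← htot] at h19G
        rcases (Nat.Prime.dvd_mul (by norm_num)).mp h19G with h | h
        · exact absurd h h19K
        · exact h
      rcases ih' (G ⧸ K) hqlt hqd hq19 with ⟨-, hc⟩ | hqn
      · have := card_le hdG
        omega
      · obtain ⟨Q⟩ : Nonempty (Sylow 19 (G ⧸ K)) := inferInstance
        have hQn : (Q : Subgroup (G ⧸ K)).Normal := hqn Q
        have hLn : ((Q : Subgroup (G ⧸ K)).comap (QuotientGroup.mk' K)).Normal :=
          hQn.comap _
        have hsurj : Function.Surjective (QuotientGroup.mk' K) := QuotientGroup.mk'_surjective K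
        have h19L : 19 ∣ Nat.card ((Q : Subgroup (G ⧸ K)).comap (QuotientGroup.mk' K)) := by
          have h1 : 19 ∣ Nat.card (Q : Subgroup (G ⧸ K)) := Q.dvd_card_of_dvd_card hq19
          have h2 := Subgroup.card_dvd_of_surjective
            ((QuotientGroup.mk' K).subgroupComap (Q : Subgroup (G ⧸ K)))
            ((QuotientGroup.mk' K).subgroupComap_surjective_of_surjective _ hsurj)
          exact h1.trans h2
        by_cases hLtop : (Q : Subgroup (G ⧸ K)).comap (QuotientGroup.mk' K) = ⊤
        · -- `Q = ⊤`, so `K` has index 19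
          have hQtop : (Q : Subgroup (G ⧸ K)) = ⊤ := by
            rw [eq_top_iff]
            intro y _
            obtain ⟨x, rfl⟩ := hsurj y
            have : x ∈ (Q : Subgroup (G ⧸ K)).comap (QuotientGroup.mk' K) := by
              rw [hLtop]; exact Subgroup.mem_top x
            exact this
          have hQc := card_sylow19 hqd hq19 Q
          rw [hQtop, Subgroup.card_top, hqcard] at hQc
          exact normal_of_index19 hdG h19G K hQc
        · exact normal_of_normal hdG h19G ih' _ hLtop h19L

/-- **S4274**: a group of order `175560` is simple or has a normal Sylow 19-subgroup. -/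
theorem simple_or_normal_sylow19 {G : Type u} [Group G] [Finite G] (hG : Nat.card G = 175560) :
    IsSimpleGroup G ∨ ∀ P : Sylow 19 G, (P : Subgroup G).Normal := by
  rcases good_all 175560 G hG dvd_rfl (by norm_num) with ⟨hs, -⟩ | h
  · exact Or.inl hs
  · exact Or.inr h

end Cfsg.H5.Ord175560
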