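import Mathlib

set_option autoImplicit false

namespace Cfsg.H5

/-- A finite `p`-group acting linearly on a vector space in characteristic `p` fixes a nonzero
vector in every nonzero invariant subspace. -/
theorem exists_fixed_vector_of_isPGroup {p : ℕ} [hp : Fact p.Prime] {P : Type*} [Group P] [Finite P]
    (hP : IsPGroup p P) {K : Type*} [Field K] [CharP K p] {V : Type*} [AddCommGroup V] [Module K V]
    (ρ : P →* (V →ₗ[K] V)) (W : Submodule K V) (hW : ∀ g, ∀ w ∈ W, ρ g w ∈ W) (hne : W ≠ ⊥) :
    ∃ u ∈ W, u ≠ 0 ∧ ∀ g, ρ g u = u := by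
  classical
  obtain ⟨w, hwW, hw0⟩ := (Submodule.ne_bot_iff W).mp hne
  -- `p • v = 0` for every `v`
  have hpv : ∀ v : V, p • v = 0 := by
    intro v
    rw [← Nat.cast_smul_eq_nsmul K, CharP.cast_eq_zero K p, zero_smul]
  set S : Set V := Set.range (fun g : P => ρ g w) with hS
  have hSfin : S.Finite := Set.finite_range _
  set U : AddSubgroup V := AddSubgroup.closure S with hU
  have hwU : w ∈ U := by
    apply AddSubgroup.subset_closure
    exact ⟨1, by simp⟩
  have hUW : ∀ u ∈ U, u ∈ W := by
    intro u hu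
    induction hu using AddSubgroup.closure_induction with
    | mem x hx =>
      obtain ⟨g, rfl⟩ := hx
      exact hW g w hwW
    | zero => exact W.zero_mem
    | add x y _ _ hx hy => exact W.add_mem hx hy
    | neg x _ hx => exact W.neg_mem hx
  -- `U` is invariant
  have hUinv : ∀ g : P, ∀ u ∈ U, ρ g u ∈ U := by
    intro g u hu
    have h1 : ρ g u ∈ U.map (ρ g).toAddMonoidHom := ⟨u, hu, rfl⟩
    rw [hU, AddMonoidHom.map_closure] at h1
    refine (AddSubgroup.closure_mono ?_) h1
    rintro _ ⟨_, ⟨h, rfl⟩, rfl⟩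
    refine ⟨g * h, ?_⟩
    show ρ (g * h) w = ρ g (ρ h w)
    rw [map_mul]; rfl
  -- `U` is finite
  have hUfg : AddGroup.FG U := by
    rw [AddGroup.fg_iff_addSubgroup_fg, AddSubgroup.fg_iff]
    exact ⟨S, rfl, hSfin⟩
  have hUtors : IsAddTorsion U := by
    intro u
    rw [isOfFinAddOrder_iff_nsmul_eq_zero]
    refine ⟨p, hp.out.pos, ?_⟩
    apply Subtype.ext
    rw [AddSubgroup.coe_nsmul, hpv]
    rfl
  have hUfin : Finite U := AddCommGroup.finite_of_fg_isAddTorsion U hUtors
  -- the action of `P` on `U`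
  letI : MulAction P U :=
    { smul := fun g u => ⟨ρ g u, hUinv g u u.2⟩
      one_smul := by
        intro u
        apply Subtype.ext
        show ρ 1 (u : V) = u
        rw [map_one]; rfl
      mul_smul := by
        intro g h u
        apply Subtype.ext
        show ρ (g * h) (u : V) = ρ g (ρ h u)
        rw [map_mul]; rfl }
  have hsmul : ∀ (g : P) (u : U), ((g • u : U) : V) = ρ g u := fun _ _ => rfl
  -- `p` divides the order of `U`
  have hdvd : p ∣ Nat.card U := by
    have h1 : addOrderOf (⟨w, hwU⟩ : U) = p := by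
      apply addOrderOf_eq_prime
      · apply Subtype.ext
        rw [AddSubgroup.coe_nsmul, hpv]; rfl
      · intro h
        exact hw0 (congrArg Subtype.val h)
    rw [← h1]
    exact addOrderOf_dvd_natCard _
  have h0 : (0 : U) ∈ MulAction.fixedPoints P U := by
    intro g
    apply Subtype.ext
    rw [hsmul]
    simp
  obtain ⟨b, hb, hb0⟩ := hP.exists_fixed_point_of_prime_dvd_card_of_fixed_point U hdvd h0
  refine ⟨b, hUW b b.2, ?_, ?_⟩
  · intro h
    apply hb0
    apply Subtype.ext
    exact h.symm
  · intro g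
    have := hb g
    rw [← hsmul, this]

end Cfsg.H5
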