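import Mathlib
import Cfsg.Agent.H5.PSolvable2

/-!
# Simple criteria for `p`-solvability
-/

set_option autoImplicit false
set_option linter.style.haveILetI false

namespace Cfsg.H5

variable {G : Type*} [Group G]

/-- a group with a normal `p'`-subgroup of `p`-power index is `p`-solvable -/
theorem isPSolvable_of_normal_coprime {p : ℕ} (N : Subgroup G) [hN : N.Normal]
    (hNc : (Nat.card N).Coprime p) (hidx : ∃ m : ℕ, N.index = p ^ m) : Cfsg.IsPSolvable p G := by
  refine ⟨2, ![⊥, N, ⊤], rfl, rfl, ?_, ?_, ?_⟩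
  · rw [Fin.monotone_iff_le_succ]
    intro i
    fin_cases i
    · exact bot_le
    · exact le_top
  · intro i
    fin_cases i
    · exact Subgroup.normal_bot
    · exact hN
    · exact Subgroup.normal_top
  · intro i
    fin_cases i
    · right
      change ((⊥ : Subgroup G).relIndex N).Coprime p
      rw [Subgroup.relIndex_bot_left]
      exact hNc
    · left
      obtain ⟨m, hm⟩ := hidx
      refine ⟨m, ?_⟩
      change N.relIndex ⊤ = p ^ m
      rw [Subgroup.relIndex_top_right]
      exact hm

/-- `N.relIndex H = N.relIndex (H ⊔ N)` when `H` normalizes `N` -/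
theorem relIndex_eq_relIndex_sup_of_le_normalizer (H N : Subgroup G)
    (hLE : H ≤ Subgroup.normalizer (N : Set G)) : N.relIndex H = N.relIndex (H ⊔ N) := by
  haveI := Subgroup.normal_subgroupOf_of_le_normalizer hLE
  haveI := Subgroup.normal_subgroupOf_sup_of_le_normalizer hLE
  exact Nat.card_congr (QuotientGroup.quotientInfEquivProdNormalizerQuotient H N hLE).toEquiv

/-- `Q ⊔ ⟨a⟩` is `p`-solvable when `a` is a `p`-element of order dividing `p` normalizing the
`p'`-subgroup `Q` -/
theorem isPSolvable_sup_zpowers {p : ℕ} [hp : Fact p.Prime] (Q : Subgroup G) (a : G)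
    (hQ : (Nat.card Q).Coprime p) (ha : a ^ p = 1)
    (haQ : a ∈ Subgroup.normalizer (Q : Set G)) (X : Subgroup G)
    (hX : X = Q ⊔ Subgroup.zpowers a) : Cfsg.IsPSolvable p X := by
  have hQX : Q ≤ X := by rw [hX]; exact le_sup_left
  have hXN : X ≤ Subgroup.normalizer (Q : Set G) := by
    rw [hX]
    exact sup_le Subgroup.le_normalizer (Subgroup.zpowers_le.2 haQ)
  haveI hN : (Q.subgroupOf X).Normal := Subgroup.normal_subgroupOf_of_le_normalizer hXN
  have hNc : (Nat.card (Q.subgroupOf X)).Coprime p := by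
    rw [Nat.card_congr (Subgroup.subgroupOfEquivOfLe hQX).toEquiv]
    exact hQ
  have hidx : ∃ m : ℕ, (Q.subgroupOf X).index = p ^ m := by
    have h1 : Q.relIndex X = Q.relIndex (Subgroup.zpowers a) := by
      rw [hX, sup_comm]
      exact (relIndex_eq_relIndex_sup_of_le_normalizer (Subgroup.zpowers a) Q
        (Subgroup.zpowers_le.2 haQ)).symm
    have h2 : Q.relIndex (Subgroup.zpowers a) ∣ p := by
      refine (Subgroup.relIndex_dvd_card _ _).trans ?_
      rw [Nat.card_zpowers]
      exact orderOf_dvd_of_pow_eq_one ha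
    rcases (Nat.dvd_prime hp.out).1 h2 with h | h
    · exact ⟨0, by rw [pow_zero]; exact h1.trans h⟩
    · exact ⟨1, by rw [pow_one]; exact h1.trans h⟩
  exact isPSolvable_of_normal_coprime (Q.subgroupOf X) hNc hidx

end Cfsg.H5
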