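import Mathlib
import Cfsg.Agent.H5.QdSection
import Cfsg.Agent.Lib.Helper27.Involves
import Cfsg.Agent.Lib.Helper27.FusionSat

/-!
# helper5 library: recognition of `Qd(p)` sections from a `p`-subgroup with an `SL(2,p)`-action on
a quotient `F_p²`

* `involves_qd_of_pgroup`: as `Cfsg.H5.Qd.involves_qd_of_natural` but for an arbitrary `p`-subgroup
  `V₁` (not necessarily elementary abelian) with an additive map onto `F_p²`.
* `IsGDat p X U f`: group datum (`U` a `p`-subgroup, `f : U → F_p²` additive and onto, and every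
  `M ∈ SL(2,p)` induced by some element normalizing `U`).
* `involves_of_isGDat`, `exists_isGDat_of_involves`: `X` involves `Qd(p)` iff it has a group datum.
-/

set_option autoImplicit false
set_option linter.style.haveILetI false

namespace Cfsg.H5.QdR

open Matrix Cfsg.Agent.Lib.Helper16 Cfsg.H5.Qd
open scoped Matrix

section Construction

variable {p : ℕ} [hp : Fact p.Prime] {X : Type*} [Group X]

/-- the construction of the section `Qd(p)` from a complemented natural module -/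
theorem involves_qd_of_split' (V₁ H₁ : Subgroup X)
    (hHV : H₁ ≤ Subgroup.normalizer (V₁ : Set X))
    (θ₁ : ↥H₁ →* SpecialLinearGroup (Fin 2) (ZMod p)) (hθ₁ : Function.Surjective θ₁)
    (f : X → (Fin 2 → ZMod p))
    (hfmul : ∀ x ∈ V₁, ∀ y ∈ V₁, f (x * y) = f x + f y)
    (hfsurj : ∀ w, ∃ v ∈ V₁, f v = w)
    (hequiv : ∀ (h : ↥H₁), ∀ v ∈ V₁, f ((h : X) * v * (h : X)⁻¹) =
      (θ₁ h : Matrix (Fin 2) (Fin 2) (ZMod p)) *ᵥ f v)
    (hI : ∀ h : ↥H₁, (h : X) ∈ V₁ → f (h : X) = 0) :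
    Cfsg.Involves ↥(Cfsg.qd p) X := by
  classical
  have hf1 : f 1 = 0 := by
    have h1 := hfmul 1 V₁.one_mem 1 V₁.one_mem
    rw [mul_one] at h1
    have h2 : f 1 + 0 = f 1 + f 1 := by rw [add_zero]; exact h1
    exact (add_left_cancel h2).symm
  have hfinv : ∀ v ∈ V₁, f v⁻¹ = -f v := by
    intro v hv
    have h1 := hfmul v hv v⁻¹ (V₁.inv_mem hv)
    rw [mul_inv_cancel, hf1] at h1
    exact eq_neg_of_add_eq_zero_right h1.symm
  have hconj : ∀ (h : ↥H₁), ∀ v ∈ V₁, (h : X) * v * (h : X)⁻¹ ∈ V₁ := fun h v hv =>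
    (Subgroup.mem_normalizer_iff.1 (hHV h.2) v).1 hv
  have hθI : ∀ h : ↥H₁, (h : X) ∈ V₁ → θ₁ h = 1 := by
    intro h hh
    apply Subtype.ext
    rw [Matrix.SpecialLinearGroup.coe_one]
    apply eq_one_of_mulVec_eq_zmod
    intro w
    obtain ⟨v, hv, rfl⟩ := hfsurj w
    rw [← hequiv h v hv, hfmul _ (mul_mem hh hv) _ (inv_mem hh), hfmul _ hh _ hv, hfinv _ hh]
    abel
  -- decompositions
  have hdec : ∀ x : ↥(V₁ ⊔ H₁), ∃ v ∈ V₁, ∃ h ∈ H₁, v * h = (x : X) := by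
    intro x
    have h1 : (x : X) ∈ ((V₁ ⊔ H₁ : Subgroup X) : Set X) := x.2
    rw [Subgroup.coe_mul_of_right_le_normalizer_left V₁ H₁ hHV] at h1
    exact Set.mem_mul.1 h1
  have hWD : ∀ v ∈ V₁, ∀ (h : X) (hh : h ∈ H₁), ∀ v' ∈ V₁, ∀ (h' : X) (hh' : h' ∈ H₁),
      v * h = v' * h' → f v = f v' ∧ θ₁ ⟨h, hh⟩ = θ₁ ⟨h', hh'⟩ := by
    intro v hv h hh v' hv' h' hh' heq
    have hy : v'⁻¹ * v = h' * h⁻¹ := by
      have : v = v' * h' * h⁻¹ := by rw [← heq, mul_inv_cancel_right]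
      rw [this]; group
    have hyV : v'⁻¹ * v ∈ V₁ := mul_mem (inv_mem hv') hv
    have hyH : h' * h⁻¹ ∈ H₁ := mul_mem hh' (inv_mem hh)
    have hyV' : ((⟨h' * h⁻¹, hyH⟩ : ↥H₁) : X) ∈ V₁ := by
      show h' * h⁻¹ ∈ V₁
      rw [← hy]; exact hyV
    constructor
    · have h1 := hI ⟨h' * h⁻¹, hyH⟩ hyV'
      have h2 : f (v'⁻¹ * v) = 0 := by rw [hy]; exact h1
      rw [hfmul _ (inv_mem hv') _ hv, hfinv v' hv'] at h2
      exact (neg_add_eq_zero.1 h2).symm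
    · have h1 := hθI ⟨h' * h⁻¹, hyH⟩ hyV'
      have h2 : (⟨h' * h⁻¹, hyH⟩ : ↥H₁) = ⟨h', hh'⟩ * ⟨h, hh⟩⁻¹ := rfl
      rw [h2, map_mul, map_inv, mul_inv_eq_one] at h1
      exact h1.symm
  -- the map
  let Ψ₀ : ↥(V₁ ⊔ H₁) → affSL3 (ZMod p) := fun x =>
    affMk (θ₁ ⟨(hdec x).choose_spec.2.choose, (hdec x).choose_spec.2.choose_spec.1⟩)
      (f (hdec x).choose)
  have hΨ₀ : ∀ (x : ↥(V₁ ⊔ H₁)), ∀ v ∈ V₁, ∀ (h : X) (hh : h ∈ H₁), v * h = (x : X) →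
      Ψ₀ x = affMk (θ₁ ⟨h, hh⟩) (f v) := by
    intro x v hv h hh hx
    have hspec := (hdec x).choose_spec
    have hspec2 := hspec.2.choose_spec
    obtain ⟨e1, e2⟩ := hWD _ hspec.1 _ hspec2.1 v hv h hh (hspec2.2.trans hx.symm)
    show affMk (θ₁ ⟨(hdec x).choose_spec.2.choose, _⟩) (f (hdec x).choose) = _
    rw [e1, e2]
  have hΨmul : ∀ x y : ↥(V₁ ⊔ H₁), Ψ₀ (x * y) = Ψ₀ x * Ψ₀ y := by
    intro x y
    obtain ⟨v, hv, h, hh, hx⟩ := hdec x
    obtain ⟨v', hv', h', hh', hy⟩ := hdec y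
    have hc : h * v' * h⁻¹ ∈ V₁ := hconj ⟨h, hh⟩ v' hv'
    have hxy : (v * (h * v' * h⁻¹)) * (h * h') = ((x * y : ↥(V₁ ⊔ H₁)) : X) := by
      rw [Subgroup.coe_mul, ← hx, ← hy]; group
    rw [hΨ₀ (x * y) _ (mul_mem hv hc) _ (mul_mem hh hh') hxy, hΨ₀ x v hv h hh hx,
      hΨ₀ y v' hv' h' hh' hy, affMk_mul, hfmul v hv _ hc, hequiv ⟨h, hh⟩ v' hv', add_comm]
    have hm : (⟨h * h', mul_mem hh hh'⟩ : ↥H₁) = ⟨h, hh⟩ * ⟨h', hh'⟩ := rfl
    rw [hm, map_mul]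
  let Ψ : ↥(V₁ ⊔ H₁) →* affSL3 (ZMod p) := MonoidHom.mk' Ψ₀ hΨmul
  have hΨsurj : Function.Surjective Ψ := by
    intro M
    obtain ⟨h, hh⟩ := hθ₁ (affLin M)
    obtain ⟨v, hv, hfv⟩ := hfsurj (affTr M)
    have hx : v * (h : X) ∈ V₁ ⊔ H₁ :=
      mul_mem (Subgroup.mem_sup_left hv) (Subgroup.mem_sup_right h.2)
    refine ⟨⟨v * (h : X), hx⟩, ?_⟩
    show Ψ₀ ⟨v * (h : X), hx⟩ = M
    rw [hΨ₀ ⟨v * (h : X), hx⟩ v hv (h : X) h.2 rfl, hfv]
    have : (⟨(h : X), h.2⟩ : ↥H₁) = h := rfl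
    rw [this, hh, affMk_eta]
  -- the section
  have hker : (Ψ.ker.map (V₁ ⊔ H₁).subtype).subgroupOf (V₁ ⊔ H₁) = Ψ.ker :=
    Subgroup.comap_map_eq_self_of_injective (V₁ ⊔ H₁).subtype_injective Ψ.ker
  have hL : ((Ψ.ker.map (V₁ ⊔ H₁).subtype).subgroupOf (V₁ ⊔ H₁)).Normal := by
    rw [hker]
    infer_instance
  refine ⟨V₁ ⊔ H₁, Ψ.ker.map (V₁ ⊔ H₁).subtype, hL, ?_⟩
  exact ⟨((QuotientGroup.quotientMulEquivOfEq hker).trans
    (QuotientGroup.quotientKerEquivOfSurjective Ψ hΨsurj)).trans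
    (MulEquiv.subgroupCongr (qd_eq_affSL3 p).symm)⟩


end Construction

section Natural

variable {p : ℕ} [hp : Fact p.Prime] {X : Type*} [Group X]

/-- **a natural module gives a section `Qd(p)`** -/
theorem involves_qd_of_pgroup [Finite X] (hp2 : p ≠ 2) (V₁ H : Subgroup X)
    (hVp : IsPGroup p V₁)
    (hHV : H ≤ Subgroup.normalizer (V₁ : Set X))
    (θ : ↥H →* SpecialLinearGroup (Fin 2) (ZMod p)) (hθ : Function.Surjective θ)
    (f : X → (Fin 2 → ZMod p))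
    (hfmul : ∀ x ∈ V₁, ∀ y ∈ V₁, f (x * y) = f x + f y)
    (hfsurj : ∀ w, ∃ v ∈ V₁, f v = w)
    (hequiv : ∀ (h : ↥H), ∀ v ∈ V₁, f ((h : X) * v * (h : X)⁻¹) =
      (θ h : Matrix (Fin 2) (Fin 2) (ZMod p)) *ᵥ f v) :
    Cfsg.Involves ↥(Cfsg.qd p) X := by
  obtain ⟨H₁, t, hsurj, hθt, h2pow⟩ := frattini_part θ hθ
  have hle : H₁.map H.subtype ≤ H := Subgroup.map_subtype_le H₁
  have hincl : ∀ x : ↥(H₁.map H.subtype), Subgroup.inclusion hle x ∈ H₁ := by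
    rintro ⟨_, h, hh, rfl⟩
    have : Subgroup.inclusion hle ⟨H.subtype h, h, hh, rfl⟩ = h := Subtype.ext rfl
    rw [this]; exact hh
  have h2 : (2 : ZMod p) ≠ 0 := Cfsg.H5.SL2.two_ne_zero_of_char (K := ZMod p) hp.out hp2
  refine involves_qd_of_split' V₁ (H₁.map H.subtype) (hle.trans hHV)
    (θ.comp (Subgroup.inclusion hle)) ?_ f hfmul hfsurj ?_ ?_
  · intro g
    obtain ⟨h, hh, hθh⟩ := hsurj g
    refine ⟨⟨(h : X), h, hh, rfl⟩, ?_⟩
    rw [MonoidHom.comp_apply]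
    have : Subgroup.inclusion hle ⟨(h : X), h, hh, rfl⟩ = h := Subtype.ext rfl
    rw [this, hθh]
  · intro x v hv
    exact hequiv (Subgroup.inclusion hle x) v hv
  · intro x hxV
    obtain ⟨k, hk⟩ := h2pow (Subgroup.inclusion hle x) (hincl x)
    have hk' : ((x : X) * (t : X) * (x : X)⁻¹ * (t : X)⁻¹) ^ (2 ^ k) = 1 := by
      have := congrArg (fun y : ↥H => (y : X)) hk
      simpa using this
    have htx : (t : X) * (x : X)⁻¹ * (t : X)⁻¹ ∈ V₁ :=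
      (Subgroup.mem_normalizer_iff.1 (hHV t.2) _).1 (inv_mem hxV)
    have hcV : (x : X) * (t : X) * (x : X)⁻¹ * (t : X)⁻¹ ∈ V₁ := by
      have e : (x : X) * (t : X) * (x : X)⁻¹ * (t : X)⁻¹ =
          (x : X) * ((t : X) * (x : X)⁻¹ * (t : X)⁻¹) := by group
      rw [e]; exact mul_mem hxV htx
    have hc1 : (x : X) * (t : X) * (x : X)⁻¹ * (t : X)⁻¹ = 1 := by
      rw [← orderOf_eq_one_iff]
      obtain ⟨j, hj⟩ := hVp ⟨_, hcV⟩
      have hj' : ((x : X) * (t : X) * (x : X)⁻¹ * (t : X)⁻¹) ^ p ^ j = 1 := by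
        have := congrArg Subtype.val hj
        simpa using this
      have d1 : orderOf ((x : X) * (t : X) * (x : X)⁻¹ * (t : X)⁻¹) ∣ p ^ j :=
        orderOf_dvd_of_pow_eq_one hj'
      have d2 : orderOf ((x : X) * (t : X) * (x : X)⁻¹ * (t : X)⁻¹) ∣ 2 ^ k :=
        orderOf_dvd_of_pow_eq_one hk'
      have hcop : Nat.Coprime (p ^ j) (2 ^ k) :=
        Nat.Coprime.pow j k ((Nat.coprime_primes hp.out Nat.prime_two).2 hp2)
      exact Nat.eq_one_of_dvd_coprimes hcop d1 d2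
    have hcomm : (t : X) * (x : X) * (t : X)⁻¹ = (x : X) := by
      have e : (x : X) * (t : X) = (t : X) * (x : X) := by
        calc (x : X) * (t : X) = ((x : X) * (t : X) * (x : X)⁻¹ * (t : X)⁻¹) * ((t : X) * (x : X)) := by
              group
          _ = (t : X) * (x : X) := by rw [hc1, one_mul]
      rw [← e, mul_inv_cancel_right]
    have h3 := hequiv t (x : X) hxV
    rw [hcomm, hθt, Matrix.SpecialLinearGroup.coe_neg, Matrix.SpecialLinearGroup.coe_one,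
      Matrix.neg_mulVec, Matrix.one_mulVec] at h3
    ext i
    have h4 := congrFun h3 i
    rw [Pi.neg_apply] at h4
    have h5 : (2 : ZMod p) * f (x : X) i = 0 := by linear_combination h4
    exact (mul_eq_zero.1 h5).resolve_left h2


end Natural

end Cfsg.H5.QdR
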