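import Mathlib
import Cfsg.Agent.H5.QdRecog

/-!
# helper5 library: group data for `Qd(p)`

`IsGDat p X U f`: `U` is a `p`-subgroup of `X`, `f` is additive on `U` and maps `U` onto `F_p²`, and
every `M ∈ SL(2,p)` is induced (through `f`) by conjugation with some element mapping `U` into `U`.

* `involves_of_isGDat` : a group datum gives a section `Qd(p)` (`p` odd, `X` finite);
* `exists_isGDat_of_involves` : a section `Qd(p)` gives a group datum inside a given Sylow subgroup;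
* `IsGDat.conj` : conjugates of group data.
-/

set_option autoImplicit false
set_option linter.style.haveILetI false

namespace Cfsg.H5.QdR

open Matrix Cfsg.Agent.Lib.Helper16 Cfsg.Agent.Lib.Helper27
open scoped Matrix

variable {p : ℕ} {X : Type*} [Group X]

/-- group datum for `Qd(p)` -/
def IsGDat (p : ℕ) (X : Type*) [Group X] (U : Subgroup X) (f : X → (Fin 2 → ZMod p)) : Prop :=
  IsPGroup p U ∧ (∀ x ∈ U, ∀ y ∈ U, f (x * y) = f x + f y) ∧ (∀ w, ∃ u ∈ U, f u = w) ∧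
  ∀ M : SpecialLinearGroup (Fin 2) (ZMod p), ∃ n : X, (∀ u ∈ U, n * u * n⁻¹ ∈ U) ∧
    ∀ u ∈ U, f (n * u * n⁻¹) = (M : Matrix (Fin 2) (Fin 2) (ZMod p)) *ᵥ f u

theorem mat_eq_of_mulVec_eq {M M' : Matrix (Fin 2) (Fin 2) (ZMod p)}
    (h : ∀ v, M *ᵥ v = M' *ᵥ v) : M = M' := by
  apply Matrix.toLin'.injective
  apply LinearMap.ext
  intro v
  rw [Matrix.toLin'_apply, Matrix.toLin'_apply, h]

theorem IsGDat.conj {U : Subgroup X} {f : X → (Fin 2 → ZMod p)} (h : IsGDat p X U f) (g : X) :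
    IsGDat p X (U.map (MulAut.conj g).toMonoidHom) (fun x => f (g⁻¹ * x * g)) := by
  obtain ⟨hUp, hmul, hsurj, hM⟩ := h
  have hmem : ∀ x, x ∈ U.map (MulAut.conj g).toMonoidHom ↔ g⁻¹ * x * g ∈ U := by
    intro x
    constructor
    · rintro ⟨u, hu, rfl⟩
      show g⁻¹ * (g * u * g⁻¹) * g ∈ U
      have : g⁻¹ * (g * u * g⁻¹) * g = u := by group
      rw [this]; exact hu
    · intro hx
      refine ⟨g⁻¹ * x * g, hx, ?_⟩
      show g * (g⁻¹ * x * g) * g⁻¹ = x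
      group
  refine ⟨hUp.map _, ?_, ?_, ?_⟩
  · intro x hx y hy
    show f (g⁻¹ * (x * y) * g) = _
    have : g⁻¹ * (x * y) * g = (g⁻¹ * x * g) * (g⁻¹ * y * g) := by group
    rw [this]
    exact hmul _ ((hmem x).mp hx) _ ((hmem y).mp hy)
  · intro w
    obtain ⟨u, hu, rfl⟩ := hsurj w
    refine ⟨g * u * g⁻¹, ⟨u, hu, rfl⟩, ?_⟩
    show f (g⁻¹ * (g * u * g⁻¹) * g) = f u
    congr 1
    group
  · intro M
    obtain ⟨n, hn, hnf⟩ := hM M
    refine ⟨g * n * g⁻¹, ?_, ?_⟩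
    · intro x hx
      rw [hmem] at hx ⊢
      have : g⁻¹ * (g * n * g⁻¹ * x * (g * n * g⁻¹)⁻¹) * g = n * (g⁻¹ * x * g) * n⁻¹ := by group
      rw [this]
      exact hn _ hx
    · intro x hx
      rw [hmem] at hx
      show f (g⁻¹ * (g * n * g⁻¹ * x * (g * n * g⁻¹)⁻¹) * g) = _
      have : g⁻¹ * (g * n * g⁻¹ * x * (g * n * g⁻¹)⁻¹) * g = n * (g⁻¹ * x * g) * n⁻¹ := by group
      rw [this]
      exact hnf _ hx

section Recognition

variable [hp : Fact p.Prime]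

/-- **a group datum gives a section `Qd(p)`** -/
theorem involves_of_isGDat [Finite X] (hp2 : p ≠ 2) {U : Subgroup X} {f : X → (Fin 2 → ZMod p)}
    (h : IsGDat p X U f) : Cfsg.Involves ↥(Cfsg.qd p) X := by
  obtain ⟨hUp, hmul, hsurj, hM⟩ := h
  have hf1 : f 1 = 0 := by
    have h1 := hmul 1 U.one_mem 1 U.one_mem
    rw [mul_one] at h1
    have h2 : f 1 + 0 = f 1 + f 1 := by rw [add_zero]; exact h1
    exact (add_left_cancel h2).symm
  -- the group of elements inducing an element of `SL(2,p)`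
  let Λ : Subgroup X :=
    { carrier := {n | n ∈ Subgroup.normalizer (U : Set X) ∧
        ∃ M : SpecialLinearGroup (Fin 2) (ZMod p), ∀ u ∈ U,
          f (n * u * n⁻¹) = (M : Matrix (Fin 2) (Fin 2) (ZMod p)) *ᵥ f u}
      mul_mem' := by
        rintro a b ⟨ha, M, hMa⟩ ⟨hb, M', hMb⟩
        refine ⟨Subgroup.mul_mem _ ha hb, M * M', fun u hu => ?_⟩
        have hbu : b * u * b⁻¹ ∈ U := (Subgroup.mem_normalizer_iff.mp hb u).mp hu
        have : a * b * u * (a * b)⁻¹ = a * (b * u * b⁻¹) * a⁻¹ := by group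
        rw [this, hMa _ hbu, hMb u hu, Matrix.SpecialLinearGroup.coe_mul, Matrix.mulVec_mulVec]
      one_mem' := by
        refine ⟨Subgroup.one_mem _, 1, fun u hu => ?_⟩
        rw [one_mul, inv_one, mul_one, Matrix.SpecialLinearGroup.coe_one, Matrix.one_mulVec]
      inv_mem' := by
        rintro a ⟨ha, M, hMa⟩
        refine ⟨Subgroup.inv_mem _ ha, M⁻¹, fun u hu => ?_⟩
        have hau : a⁻¹ * u * a⁻¹⁻¹ ∈ U :=
          (Subgroup.mem_normalizer_iff.mp (Subgroup.inv_mem _ ha) u).mp hu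
        have h1 := hMa _ hau
        have : a * (a⁻¹ * u * a⁻¹⁻¹) * a⁻¹ = u := by group
        rw [this] at h1
        rw [h1, Matrix.mulVec_mulVec, ← Matrix.SpecialLinearGroup.coe_mul, inv_mul_cancel,
          Matrix.SpecialLinearGroup.coe_one, Matrix.one_mulVec] }
  have hΛmem : ∀ n, n ∈ Λ ↔ n ∈ Subgroup.normalizer (U : Set X) ∧
      ∃ M : SpecialLinearGroup (Fin 2) (ZMod p), ∀ u ∈ U,
        f (n * u * n⁻¹) = (M : Matrix (Fin 2) (Fin 2) (ZMod p)) *ᵥ f u := fun n => Iff.rfl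
  have huniq : ∀ (n : X) (M M' : SpecialLinearGroup (Fin 2) (ZMod p)),
      (∀ u ∈ U, f (n * u * n⁻¹) = (M : Matrix (Fin 2) (Fin 2) (ZMod p)) *ᵥ f u) →
      (∀ u ∈ U, f (n * u * n⁻¹) = (M' : Matrix (Fin 2) (Fin 2) (ZMod p)) *ᵥ f u) → M = M' := by
    intro n M M' h1 h2
    apply Subtype.ext
    apply mat_eq_of_mulVec_eq
    intro w
    obtain ⟨u, hu, rfl⟩ := hsurj w
    rw [← h1 u hu, ← h2 u hu]
  let θ₀ : ↥Λ → SpecialLinearGroup (Fin 2) (ZMod p) := fun n => ((hΛmem n).mp n.2).2.choose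
  have hθ₀ : ∀ (n : ↥Λ), ∀ u ∈ U, f ((n : X) * u * (n : X)⁻¹) =
      (θ₀ n : Matrix (Fin 2) (Fin 2) (ZMod p)) *ᵥ f u := fun n => ((hΛmem n).mp n.2).2.choose_spec
  have hθmul : ∀ a b : ↥Λ, θ₀ (a * b) = θ₀ a * θ₀ b := by
    intro a b
    apply huniq ((a * b : ↥Λ) : X) _ _ (hθ₀ (a * b))
    intro u hu
    have hbu : (b : X) * u * (b : X)⁻¹ ∈ U :=
      (Subgroup.mem_normalizer_iff.mp ((hΛmem b).mp b.2).1 u).mp hu
    have : ((a * b : ↥Λ) : X) * u * ((a * b : ↥Λ) : X)⁻¹ =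
        (a : X) * ((b : X) * u * (b : X)⁻¹) * (a : X)⁻¹ := by
      rw [Subgroup.coe_mul]; group
    rw [this, hθ₀ a _ hbu, hθ₀ b u hu, Matrix.SpecialLinearGroup.coe_mul, Matrix.mulVec_mulVec]
  let θ : ↥Λ →* SpecialLinearGroup (Fin 2) (ZMod p) := MonoidHom.mk' θ₀ hθmul
  have hθsurj : Function.Surjective θ := by
    intro M
    obtain ⟨n, hn, hnf⟩ := hM M
    have hnN : n ∈ Subgroup.normalizer (U : Set X) := mem_normalizer_of_conj_mem hn
    refine ⟨⟨n, hnN, M, hnf⟩, ?_⟩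
    exact huniq n _ _ (hθ₀ ⟨n, hnN, M, hnf⟩) hnf
  exact involves_qd_of_pgroup hp2 U Λ hUp (fun n hn => ((hΛmem n).mp hn).1) θ hθsurj f hmul hsurj
    (fun h v hv => hθ₀ h v hv)

end Recognition

section Converse

variable [hp : Fact p.Prime]

omit hp in
open scoped Pointwise in
theorem sylow_mem_smul_iff (Q : Sylow p X) (g x : X) : x ∈ g • Q ↔ g⁻¹ * x * g ∈ Q := by
  have h1 : x ∈ g • Q ↔ x ∈ ((g • Q : Sylow p X) : Subgroup X) := Iff.rfl
  rw [h1, Sylow.coe_subgroup_smul, Subgroup.mem_pointwise_smul_iff_inv_smul_mem, MulAut.smul_def,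
    MulAut.inv_apply, MulAut.conj_symm_apply]
  exact Iff.rfl

/-- a section `Qd(p)` gives a group datum (Frattini argument in the section) -/
theorem exists_isGDat_of_involves' [Finite X] (h : Cfsg.Involves ↥(Cfsg.qd p) X) :
    ∃ (U : Subgroup X) (f : X → (Fin 2 → ZMod p)), IsGDat p X U f := by
  classical
  obtain ⟨K, ψ₀, hψ₀⟩ := involves_iff.mp h
  obtain ⟨ψ, hψ⟩ : ∃ ψ : ↥K →* affSL3 (ZMod p), Function.Surjective ψ :=
    ⟨(MulEquiv.subgroupCongr (qd_eq_affSL3 p)).toMonoidHom.comp ψ₀,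
      (MulEquiv.subgroupCongr (qd_eq_affSL3 p)).surjective.comp hψ₀⟩
  obtain ⟨K₁, hK₁⟩ : ∃ K₁ : Subgroup ↥K, K₁ = (affLin.comp ψ).ker := ⟨_, rfl⟩
  have hK₁n : K₁.Normal := by rw [hK₁]; infer_instance
  have hK₁mem : ∀ k : ↥K, k ∈ K₁ ↔ affLin (ψ k) = 1 := by
    intro k; rw [hK₁]; exact MonoidHom.mem_ker
  obtain ⟨R₀⟩ : Nonempty (Sylow p ↥K₁) := inferInstance
  obtain ⟨R, hR⟩ : ∃ R : Subgroup ↥K, R = (R₀ : Subgroup ↥K₁).map K₁.subtype := ⟨_, rfl⟩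
  have hRK₁ : R ≤ K₁ := by rw [hR]; exact Subgroup.map_subtype_le _
  have hRp : IsPGroup p R := by rw [hR]; exact R₀.isPGroup'.map _
  have hfrat : Subgroup.normalizer (R : Set ↥K) ⊔ K₁ = ⊤ := by
    rw [hR]; exact Sylow.normalizer_sup_eq_top R₀
  -- `R` maps onto the translations
  have hRsurj : ∀ w : Fin 2 → ZMod p, ∃ r ∈ R, ψ r = affMk 1 w := by
    obtain ⟨ψ₁, hψ₁⟩ : ∃ ψ₁ : ↥K₁ →* ↥(affV (ZMod p)), ∀ k, ((ψ₁ k : ↥(affV (ZMod p))) :
        affSL3 (ZMod p)) = ψ (k : ↥K) :=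
      ⟨(ψ.comp K₁.subtype).codRestrict (affV (ZMod p))
        (fun k => (mem_affV _).mpr ((hK₁mem k).mp k.2)), fun k => rfl⟩
    have hψ₁s : Function.Surjective ψ₁ := by
      intro v
      obtain ⟨k, hk⟩ := hψ (v : affSL3 (ZMod p))
      have hkK₁ : k ∈ K₁ := by
        rw [hK₁mem, hk]
        exact (mem_affV _).mp v.2
      refine ⟨⟨k, hkK₁⟩, ?_⟩
      apply Subtype.ext
      rw [hψ₁]
      exact hk
    have htop : (R₀ : Subgroup ↥K₁).map ψ₁ = ⊤ := by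
      have h1 : ((R₀.mapSurjective hψ₁s : Sylow p ↥(affV (ZMod p))) : Subgroup ↥(affV (ZMod p))) =
          (R₀ : Subgroup ↥K₁).map ψ₁ := rfl
      rw [← h1]
      have h2 : IsPGroup p (⊤ : Subgroup ↥(affV (ZMod p))) :=
        (affV_isPGroup (F := ZMod p) p).to_subgroup _
      exact ((R₀.mapSurjective hψ₁s).is_maximal' h2 le_top).symm ▸ rfl
    intro w
    have hv : affMk (1 : SpecialLinearGroup (Fin 2) (ZMod p)) w ∈ affV (ZMod p) := by
      rw [mem_affV, affLin_affMk]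
    have hmem : (⟨_, hv⟩ : ↥(affV (ZMod p))) ∈ (R₀ : Subgroup ↥K₁).map ψ₁ := by
      rw [htop]; exact Subgroup.mem_top _
    obtain ⟨r₀, hr₀, hr₀v⟩ := hmem
    refine ⟨(r₀ : ↥K), ?_, ?_⟩
    · rw [hR]
      exact ⟨r₀, hr₀, rfl⟩
    · rw [← hψ₁, hr₀v]
  -- the datum
  obtain ⟨f, hf⟩ : ∃ f : X → (Fin 2 → ZMod p), ∀ k : ↥K, f (k : X) = affTr (ψ k) := by
    refine ⟨fun x => if hx : x ∈ K then affTr (ψ ⟨x, hx⟩) else 0, fun k => ?_⟩
    show (if hx : (k : X) ∈ K then affTr (ψ ⟨(k : X), hx⟩) else 0) = _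
    rw [dif_pos k.2]
  refine ⟨R.map K.subtype, f, hRp.map _, ?_, ?_, ?_⟩
  · rintro _ ⟨r, hr, rfl⟩ _ ⟨r', hr', rfl⟩
    have h1 : (K.subtype r : X) * (K.subtype r' : X) = ((r * r' : ↥K) : X) := rfl
    have h2 : (K.subtype r : X) = (r : X) := rfl
    have h3 : (K.subtype r' : X) = (r' : X) := rfl
    rw [h1, hf, h2, h3, hf, hf, map_mul, affTr_mul, (hK₁mem r).mp (hRK₁ hr),
      Matrix.SpecialLinearGroup.coe_one, Matrix.one_mulVec, add_comm]
  · intro w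
    obtain ⟨r, hr, hrw⟩ := hRsurj w
    refine ⟨(r : X), ⟨r, hr, rfl⟩, ?_⟩
    rw [hf, hrw, affTr_affMk]
  · intro M
    obtain ⟨k, hk⟩ := hψ (affMk M 0)
    have hk' : k ∈ ((Subgroup.normalizer (R : Set ↥K) ⊔ K₁ : Subgroup ↥K) : Set ↥K) := by
      rw [hfrat]; trivial
    rw [Subgroup.mul_normal] at hk'
    obtain ⟨n, hn, k₁, hk₁, rfl⟩ := Set.mem_mul.1 hk'
    have hnM : affLin (ψ n) = M := by
      have h1 : affLin (ψ (n * k₁)) = M := by rw [hk, affLin_affMk]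
      rw [map_mul, map_mul, (hK₁mem k₁).mp hk₁, mul_one] at h1
      exact h1
    refine ⟨(n : X), ?_, ?_⟩
    · rintro _ ⟨r, hr, rfl⟩
      have h1 : n * r * n⁻¹ ∈ R := (Subgroup.mem_normalizer_iff.mp hn r).mp hr
      exact ⟨n * r * n⁻¹, h1, rfl⟩
    · rintro _ ⟨r, hr, rfl⟩
      have h1 : (n : X) * (K.subtype r : X) * (n : X)⁻¹ = ((n * r * n⁻¹ : ↥K) : X) := rfl
      have h2 : (K.subtype r : X) = (r : X) := rfl
      rw [h1, hf, h2, hf, map_mul, map_mul, map_inv, affTr_conj _ _ ((hK₁mem r).mp (hRK₁ hr)), hnM]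

/-- a section `Qd(p)` gives a group datum inside a given Sylow `p`-subgroup -/
theorem exists_isGDat_of_involves [Finite X] (P : Sylow p X) (h : Cfsg.Involves ↥(Cfsg.qd p) X) :
    ∃ (U : Subgroup X) (f : X → (Fin 2 → ZMod p)), U ≤ P ∧ IsGDat p X U f := by
  obtain ⟨U, f, hUf⟩ := exists_isGDat_of_involves' h
  obtain ⟨Q, hQ⟩ := hUf.1.exists_le_sylow
  obtain ⟨g, hg⟩ := MulAction.exists_smul_eq X Q P
  refine ⟨_, _, ?_, hUf.conj g⟩
  rintro _ ⟨u, hu, rfl⟩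
  show g * u * g⁻¹ ∈ P
  rw [← hg, sylow_mem_smul_iff]
  have : g⁻¹ * (g * u * g⁻¹) * g = u := by group
  rw [this]
  exact hQ hu

end Converse

end Cfsg.H5.QdR
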