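import Mathlib
import Cfsg.Agent.H5.QdGDat
import Cfsg.Agent.Lib.Helper27.FusionRealizedSub
import Cfsg.Agent.H26.SubgroupNormal

/-!
# helper5 library: `Qd(p)`-data in fusion systems

`IsDat p F U f`: `U ≤ S`, `f` additive on `U` and mapping `U` onto `F_p²`, and every
`M ∈ SL(2,p)` is induced (through `f`) by an `F`-automorphism of `U`.

* `IsDat.toGDat` : a datum in a system realized by `ι : S →* L` gives a group datum in `L`;
* `IsDat.ofGDat` : a group datum inside `ι(S)` gives a datum in the realized system;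
* `IsDat.mono` : data pass to larger systems.
-/

set_option autoImplicit false
set_option linter.style.haveILetI false

namespace Cfsg.H5.QdF

open Matrix Cfsg Cfsg.FusionSystem Cfsg.Agent.Lib.Helper27 Cfsg.Agent.H26 Cfsg.H5.QdR
open scoped Matrix

variable {Ω : Type*} [Group Ω] {S : Subgroup Ω}

/-- `Qd(p)`-datum in a fusion system -/
def IsDat (p : ℕ) (F : FusionSystem S) (U : Subgroup Ω) (f : Ω → (Fin 2 → ZMod p)) : Prop :=
  U ≤ S ∧ (∀ x ∈ U, ∀ y ∈ U, f (x * y) = f x + f y) ∧ (∀ w, ∃ u ∈ U, f u = w) ∧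
  ∀ M : SpecialLinearGroup (Fin 2) (ZMod p), ∃ φ ∈ F.Hom U, (∀ u : U, φ u ∈ U) ∧
    ∀ u : U, f (φ u) = (M : Matrix (Fin 2) (Fin 2) (ZMod p)) *ᵥ f u

theorem IsDat.mono {p : ℕ} {T : Subgroup Ω} {E : FusionSystem T} {F : FusionSystem S} (hTS : T ≤ S)
    (hle : ∀ P : Subgroup Ω, E.Hom P ⊆ F.Hom P) {U : Subgroup Ω} {f : Ω → (Fin 2 → ZMod p)}
    (h : IsDat p E U f) : IsDat p F U f := by
  obtain ⟨hU, hmul, hsurj, hM⟩ := h
  refine ⟨hU.trans hTS, hmul, hsurj, fun M => ?_⟩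
  obtain ⟨φ, hφ, h1, h2⟩ := hM M
  exact ⟨φ, hle U hφ, h1, h2⟩

section Realized

variable {L : Type*} [Group L] {ι : S →* L} {F : FusionSystem S} {p : ℕ}

/-- a datum in a realized system gives a group datum -/
theorem IsDat.toGDat (hS : IsPGroup p S) (hreal : F.IsRealizedBy ι) {U : Subgroup Ω}
    {f : Ω → (Fin 2 → ZMod p)} (h : IsDat p F U f) :
    ∃ f' : L → (Fin 2 → ZMod p), IsGDat p L ((U.subgroupOf S).map ι) f' := by
  classical
  obtain ⟨hU, hmul, hsurj, hM⟩ := h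
  obtain ⟨f', hf'⟩ : ∃ f' : L → (Fin 2 → ZMod p), ∀ s : S, f' (ι s) = f (s : Ω) := by
    refine ⟨fun y => if h : ∃ s : S, ι s = y then f (h.choose : Ω) else 0, fun s => ?_⟩
    have h : ∃ s' : S, ι s' = ι s := ⟨s, rfl⟩
    show (if h : ∃ s' : S, ι s' = ι s then f (h.choose : Ω) else 0) = _
    rw [dif_pos h, hreal.1 h.choose_spec]
  refine ⟨f', (hS.to_subgroup _).map _, ?_, ?_, ?_⟩
  · rintro _ ⟨s, hs, rfl⟩ _ ⟨s', hs', rfl⟩
    rw [← map_mul, hf', hf', hf']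
    exact hmul _ (Subgroup.mem_subgroupOf.mp hs) _ (Subgroup.mem_subgroupOf.mp hs')
  · intro w
    obtain ⟨u, hu, rfl⟩ := hsurj w
    exact ⟨ι ⟨u, hU hu⟩, ⟨⟨u, hU hu⟩, Subgroup.mem_subgroupOf.mpr hu, rfl⟩, hf' _⟩
  · intro M
    obtain ⟨φ, hφ, hφU, hφf⟩ := hM M
    have hφS : ∀ x : U, φ x ∈ S := fun x => hU (hφU x)
    obtain ⟨g, hg⟩ := (hreal.2 U hU φ hφS).mp hφ
    refine ⟨g, ?_, ?_⟩
    · rintro _ ⟨s, hs, rfl⟩
      have h1 := hg ⟨(s : Ω), Subgroup.mem_subgroupOf.mp hs⟩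
      have h2 : (⟨((⟨(s : Ω), Subgroup.mem_subgroupOf.mp hs⟩ : U) : Ω), hU (Subgroup.mem_subgroupOf.mp hs)⟩ : S) = s :=
        Subtype.ext rfl
      rw [h2] at h1
      rw [← h1]
      exact ⟨_, Subgroup.mem_subgroupOf.mpr (hφU _), rfl⟩
    · rintro _ ⟨s, hs, rfl⟩
      have h1 := hg ⟨(s : Ω), Subgroup.mem_subgroupOf.mp hs⟩
      have h2 : (⟨((⟨(s : Ω), Subgroup.mem_subgroupOf.mp hs⟩ : U) : Ω), hU (Subgroup.mem_subgroupOf.mp hs)⟩ : S) = s :=
        Subtype.ext rfl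
      rw [h2] at h1
      rw [← h1, hf', hf']
      exact hφf _

/-- a group datum inside `ι(S)` gives a datum in the realized system -/
theorem IsDat.ofGDat (hreal : F.IsRealizedBy ι) {U' : Subgroup L} {f' : L → (Fin 2 → ZMod p)}
    (hU' : U' ≤ ι.range) (h : IsGDat p L U' f') :
    IsDat p F (pullback ι U') (fun x => f' (ext1 ι x)) := by
  obtain ⟨-, hmul, hsurj, hM⟩ := h
  have hPS : pullback ι U' ≤ S := pullback_le ι U'
  refine ⟨hPS, ?_, ?_, ?_⟩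
  · intro x hx y hy
    obtain ⟨hxS, hxU⟩ := mem_pullback_iff.mp hx
    obtain ⟨hyS, hyU⟩ := mem_pullback_iff.mp hy
    show f' (ext1 ι (x * y)) = _
    rw [ext1_mul ι hxS hyS]
    exact hmul _ hxU _ hyU
  · intro w
    obtain ⟨u, hu, rfl⟩ := hsurj w
    obtain ⟨s, rfl⟩ := hU' hu
    refine ⟨(s : Ω), mem_pullback_iff.mpr ⟨s.2, by rw [ext1_coe]; exact hu⟩, ?_⟩
    show f' (ext1 ι (s : Ω)) = _
    rw [ext1_coe]
  · intro M
    obtain ⟨n, hn, hnf⟩ := hM M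
    have hh : ∀ x ∈ pullback ι U', n * ext1 ι x * n⁻¹ ∈ ι.range := fun x hx =>
      hU' (hn _ (mem_pullback_iff.mp hx).2)
    refine ⟨rconj hreal.1 n hPS hh, rconj_mem_hom hreal n hPS hh, fun u => ?_, fun u => ?_⟩
    · rw [mem_pullback_iff]
      refine ⟨rconj_mem hreal.1 n hPS hh u, ?_⟩
      rw [ext1_rconj]
      exact hn _ (mem_pullback_iff.mp u.2).2
    · show f' (ext1 ι (rconj hreal.1 n hPS hh u)) = _
      rw [ext1_rconj]
      exact hnf _ (mem_pullback_iff.mp u.2).2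

end Realized

end Cfsg.H5.QdF
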