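import Mathlib
import Cfsg.Agent.H5.QdFusDat
import Cfsg.Agent.Lib.Helper27.LG2Central

/-!
# helper5 library: climbing `Qd(p)`-data to fully normalized centric subgroups

`IsDatIn p F Q U f`: a datum `(U, f)` with `U ≤ Q ≤ S` in which every `M ∈ SL(2,p)` is induced by an
`F`-automorphism of `Q` stabilizing `U`.

`exists_centric_datIn`: in a saturated system a datum gives a fully normalized centric `Q` carrying
a datum `IsDatIn p F Q U' f'`, hence (`IsDatIn.toNsys`) a datum in the normalizer system of `Q`.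
-/

set_option autoImplicit false
set_option linter.style.haveILetI false

namespace Cfsg.H5.QdF

open Matrix Cfsg Cfsg.FusionSystem Cfsg.Agent.Lib.Helper27 Cfsg.Agent.H26 Cfsg.H5.QdR
open scoped Matrix

variable {Ω : Type*} [Group Ω] {S : Subgroup Ω} {p : ℕ}

/-- datum with automorphisms of a larger subgroup `Q` -/
def IsDatIn (p : ℕ) (F : FusionSystem S) (Q U : Subgroup Ω) (f : Ω → (Fin 2 → ZMod p)) : Prop :=
  U ≤ Q ∧ Q ≤ S ∧ (∀ x ∈ U, ∀ y ∈ U, f (x * y) = f x + f y) ∧ (∀ w, ∃ u ∈ U, f u = w) ∧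
  ∀ M : SpecialLinearGroup (Fin 2) (ZMod p), ∃ β : Q ≃* Q, IsIso F β ∧
    (∀ x : Q, (x : Ω) ∈ U → ((β x : Q) : Ω) ∈ U) ∧
    ∀ x : Q, (x : Ω) ∈ U → f ((β x : Q) : Ω) = (M : Matrix (Fin 2) (Fin 2) (ZMod p)) *ᵥ f (x : Ω)

theorem IsDat.toIn {F : FusionSystem S} {U : Subgroup Ω} [Finite U] {f : Ω → (Fin 2 → ZMod p)}
    (h : IsDat p F U f) : IsDatIn p F U U f := by
  obtain ⟨hU, hmul, hsurj, hM⟩ := h
  refine ⟨le_rfl, hU, hmul, hsurj, fun M => ?_⟩
  obtain ⟨φ, hφ, hφU, hφf⟩ := hM M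
  have hinj : Function.Injective (φ.codRestrict U hφU) := fun a b hab =>
    F.injective_of_mem hφ (congrArg Subtype.val hab)
  obtain ⟨β, hβ⟩ : ∃ β : U ≃* U, ∀ x : U, ((β x : U) : Ω) = φ x :=
    ⟨MulEquiv.ofBijective (φ.codRestrict U hφU) ⟨hinj, Finite.injective_iff_surjective.mp hinj⟩,
      fun x => rfl⟩
  refine ⟨β, ?_, fun x _ => (β x).2, fun x _ => ?_⟩
  · have h3 : U.subtype.comp β.toMonoidHom = φ := by
      ext x
      exact hβ x
    unfold IsIso
    rw [h3]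
    exact hφ
  · rw [hβ]
    exact hφf x

theorem IsDatIn.transport {F : FusionSystem S} {Q Q' U : Subgroup Ω} {f : Ω → (Fin 2 → ZMod p)}
    {e : Q ≃* Q'} (he : IsIso F e) (h : IsDatIn p F Q U f) :
    ∃ (U' : Subgroup Ω) (f' : Ω → (Fin 2 → ZMod p)), IsDatIn p F Q' U' f' := by
  classical
  obtain ⟨hUQ, hQS, hmul, hsurj, hM⟩ := h
  obtain ⟨U', hU'⟩ : ∃ U' : Subgroup Ω, U' = (U.subgroupOf Q).map (Q'.subtype.comp e.toMonoidHom) :=
    ⟨_, rfl⟩
  have hU'mem : ∀ y, y ∈ U' ↔ ∃ x : Q, (x : Ω) ∈ U ∧ ((e x : Q') : Ω) = y := by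
    intro y
    rw [hU']
    constructor
    · rintro ⟨x, hx, rfl⟩
      exact ⟨x, Subgroup.mem_subgroupOf.mp hx, rfl⟩
    · rintro ⟨x, hx, rfl⟩
      exact ⟨x, Subgroup.mem_subgroupOf.mpr hx, rfl⟩
  obtain ⟨f', hf'⟩ : ∃ f' : Ω → (Fin 2 → ZMod p), ∀ x : Q, f' ((e x : Q') : Ω) = f (x : Ω) := by
    refine ⟨fun y => if h : y ∈ Q' then f ((e.symm ⟨y, h⟩ : Q) : Ω) else 0, fun x => ?_⟩
    show (if h : ((e x : Q') : Ω) ∈ Q' then f ((e.symm ⟨((e x : Q') : Ω), h⟩ : Q) : Ω) else 0) = _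
    rw [dif_pos (e x).2]
    have : (⟨((e x : Q') : Ω), (e x).2⟩ : Q') = e x := Subtype.ext rfl
    rw [this, MulEquiv.symm_apply_apply]
  refine ⟨U', f', ?_, he.le_right, ?_, ?_, ?_⟩
  · intro y hy
    obtain ⟨x, -, rfl⟩ := (hU'mem y).mp hy
    exact (e x).2
  · intro y hy y' hy'
    obtain ⟨x, hx, rfl⟩ := (hU'mem y).mp hy
    obtain ⟨x', hx', rfl⟩ := (hU'mem y').mp hy'
    have h1 : ((e x : Q') : Ω) * ((e x' : Q') : Ω) = ((e (x * x') : Q') : Ω) := by
      rw [map_mul]; rfl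
    rw [h1, hf', hf', hf']
    exact hmul _ hx _ hx'
  · intro w
    obtain ⟨u, hu, rfl⟩ := hsurj w
    refine ⟨((e ⟨u, hUQ hu⟩ : Q') : Ω), (hU'mem _).mpr ⟨⟨u, hUQ hu⟩, hu, rfl⟩, ?_⟩
    rw [hf']
  · intro M
    obtain ⟨β, hβ, hβU, hβf⟩ := hM M
    refine ⟨e.symm.trans (β.trans e), he.symm.trans (hβ.trans he), ?_, ?_⟩
    · intro y hy
      obtain ⟨x, hx, hxy⟩ := (hU'mem _).mp hy
      have hxy' : e x = y := Subtype.ext hxy
      rw [(hU'mem _)]
      refine ⟨β x, hβU x hx, ?_⟩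
      rw [← hxy']
      show ((e (β x) : Q') : Ω) = ((e (β (e.symm (e x))) : Q') : Ω)
      rw [MulEquiv.symm_apply_apply]
    · intro y hy
      obtain ⟨x, hx, hxy⟩ := (hU'mem _).mp hy
      have hxy' : e x = y := Subtype.ext hxy
      rw [← hxy']
      have h1 : (((e.symm.trans (β.trans e)) (e x) : Q') : Ω) = ((e (β x) : Q') : Ω) := by
        show ((e (β (e.symm (e x))) : Q') : Ω) = _
        rw [MulEquiv.symm_apply_apply]
      rw [h1, hf', hf']
      exact hβf x hx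

theorem IsDatIn.toNsys {F : FusionSystem S} {Q U : Subgroup Ω} [Finite Q]
    {f : Ω → (Fin 2 → ZMod p)} (h : IsDatIn p F Q U f) {N : FusionSystem (normalizerIn S Q)}
    (hN : F.IsNormalizerSystem Q N) : IsDat p N U f := by
  obtain ⟨hUQ, hQS, hmul, hsurj, hM⟩ := h
  refine ⟨hUQ.trans (le_normalizerIn hQS), hmul, hsurj, fun M => ?_⟩
  obtain ⟨β, hβ, hβU, hβf⟩ := hM M
  have h1 : Q.subtype.comp β.toMonoidHom ∈ F.normalizerHom Q Q :=
    Cfsg.Agent.Lib.Helper27.LG2.mem_normalizerHom_of_preserves F le_rfl (le_normalizerIn hQS) hβ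
      (fun x _ => (β x).2)
  rw [← hN Q] at h1
  refine ⟨(Q.subtype.comp β.toMonoidHom).comp (Subgroup.inclusion hUQ), hom_restrict N hUQ h1,
    fun u => hβU _ u.2, fun u => hβf _ u.2⟩

section Saturated

variable [Finite S] [Fact p.Prime]

/-- for a fully centralized `U`, the subgroup `U C_S(U)` is centric -/
theorem isCentric_sup_centralizerIn {F : FusionSystem S} {U : Subgroup Ω}
    (hU : F.IsFullyCentralized U) : F.IsCentric (U ⊔ centralizerIn S U) := by
  have hUS : U ≤ S := hU.1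
  have hRS : U ⊔ centralizerIn S U ≤ S := sup_le hUS (centralizerIn_le_S S U)
  refine ⟨hRS, fun Q' hconj => ?_⟩
  obtain ⟨χ, hχ⟩ := (isConj_iff F).mp hconj
  have hQ'S : Q' ≤ S := hχ.le_right
  -- the image of `U`
  obtain ⟨U', hU'⟩ : ∃ U' : Subgroup Ω, U' = (U.subgroupOf (U ⊔ centralizerIn S U)).map
      (Q'.subtype.comp χ.toMonoidHom) := ⟨_, rfl⟩
  have hU'mem : ∀ y, y ∈ U' ↔ ∃ u : U, ((χ (Subgroup.inclusion le_sup_left u) : Q') : Ω) = y := by
    intro y
    rw [hU']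
    constructor
    · rintro ⟨x, hx, rfl⟩
      exact ⟨⟨x, Subgroup.mem_subgroupOf.mp hx⟩, rfl⟩
    · rintro ⟨u, rfl⟩
      exact ⟨Subgroup.inclusion le_sup_left u, Subgroup.mem_subgroupOf.mpr u.2, rfl⟩
  have hU'Q' : U' ≤ Q' := by
    intro y hy
    obtain ⟨u, rfl⟩ := (hU'mem y).mp hy
    exact (χ _).2
  -- `U'` is conjugate to `U`
  have hconjU : F.IsConj U U' := by
    refine ⟨(Q'.subtype.comp χ.toMonoidHom).comp (Subgroup.inclusion le_sup_left),
      hom_restrict F le_sup_left hχ, ?_⟩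
    ext y
    rw [hU'mem]
    constructor
    · rintro ⟨u, rfl⟩
      exact ⟨u, rfl⟩
    · rintro ⟨u, rfl⟩
      exact ⟨u, rfl⟩
  have hcard := hU.2 U' hconjU
  -- `χ` maps `C_S(U)` into `C_S(U')`
  have hmapC : ∀ c : centralizerIn S U,
      ((χ (Subgroup.inclusion le_sup_right c) : Q') : Ω) ∈ centralizerIn S U' := by
    intro c
    rw [mem_centralizerIn_iff]
    refine ⟨hQ'S (χ _).2, fun y hy => ?_⟩
    obtain ⟨u, rfl⟩ := (hU'mem y).mp hy
    have hc := (mem_centralizerIn_iff.mp c.2).2 u u.2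
    have h1 : Subgroup.inclusion (le_sup_left : U ≤ U ⊔ centralizerIn S U) u *
        Subgroup.inclusion (le_sup_right : centralizerIn S U ≤ U ⊔ centralizerIn S U) c =
        Subgroup.inclusion le_sup_right c * Subgroup.inclusion le_sup_left u :=
      Subtype.ext hc
    have h2 := congrArg (fun z => ((χ z : Q') : Ω)) h1
    simpa only [map_mul, Subgroup.coe_mul] using h2
  haveI : Finite ↥(centralizerIn S U') :=
    Finite.of_injective (Subgroup.inclusion (centralizerIn_le_S S U'))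
      (Subgroup.inclusion_injective _)
  haveI : Finite ↥(centralizerIn S U) :=
    Finite.of_injective (Subgroup.inclusion (centralizerIn_le_S S U))
      (Subgroup.inclusion_injective _)
  have hinj : Function.Injective (fun c : centralizerIn S U =>
      (⟨((χ (Subgroup.inclusion le_sup_right c) : Q') : Ω), hmapC c⟩ : centralizerIn S U')) := by
    intro c c' hcc
    have h1 : ((χ (Subgroup.inclusion le_sup_right c) : Q') : Ω) =
        ((χ (Subgroup.inclusion le_sup_right c') : Q') : Ω) :=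
      congrArg (fun z : centralizerIn S U' => (z : Ω)) hcc
    have h2 := χ.injective (Subtype.ext h1)
    exact Subtype.ext (congrArg (fun z : ↥(U ⊔ centralizerIn S U) => (z : Ω)) h2)
  have hbij : Function.Bijective (fun c : centralizerIn S U =>
      (⟨((χ (Subgroup.inclusion le_sup_right c) : Q') : Ω), hmapC c⟩ : centralizerIn S U')) := by
    rw [Nat.bijective_iff_injective_and_card]
    exact ⟨hinj, le_antisymm (Nat.card_le_card_of_injective _ hinj) hcard⟩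
  -- conclusion
  intro x hx
  have hx' : x ∈ centralizerIn S U' := centralizerIn_anti hU'Q' hx
  obtain ⟨c, hc⟩ := hbij.2 ⟨x, hx'⟩
  have : ((χ (Subgroup.inclusion le_sup_right c) : Q') : Ω) = x := congrArg Subtype.val hc
  rw [← this]
  exact (χ _).2

theorem IsDatIn.extend (hS : IsPGroup p S) {F : FusionSystem S} (hF : F.IsSaturated p)
    {V U : Subgroup Ω} (hV : F.IsFullyNormalized V) {f : Ω → (Fin 2 → ZMod p)}
    (h : IsDatIn p F V U f) : IsDatIn p F (V ⊔ centralizerIn S V) U f := by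
  obtain ⟨hUV, hVS, hmul, hsurj, hM⟩ := h
  have hRS : V ⊔ centralizerIn S V ≤ S := sup_le hVS (centralizerIn_le_S S V)
  haveI : Finite ↥(V ⊔ centralizerIn S V) :=
    Finite.of_injective (Subgroup.inclusion hRS) (Subgroup.inclusion_injective hRS)
  refine ⟨hUV.trans le_sup_left, hRS, hmul, hsurj, fun M => ?_⟩
  obtain ⟨β, hβ, hβU, hβf⟩ := hM M
  obtain ⟨ψ, hψ, hψV, hψN⟩ := Cfsg.Agent.Lib.Helper27.LG2.exists_ext_sup_centralizer hS hF hV
    (P := V) (α := β) le_rfl (le_normalizerIn hVS) hβ (fun x _ => (β x).2)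
  -- `ψ` maps `V C_S(V)` into itself
  have hψR : ∀ z : ↥(V ⊔ centralizerIn S V), ψ z ∈ V ⊔ centralizerIn S V := by
    intro z
    obtain ⟨-, -, -, ψ', -, hag, hmap⟩ := hψN
    have h2 : ∀ (hle : V ⊔ centralizerIn S V ≤ V ⊔ centralizerIn S V),
        Subgroup.inclusion hle z = z := fun _ => Subtype.ext rfl
    have h1 : ψ' (Subgroup.inclusion le_sup_left z) = ψ z := by
      rw [hag z, MonoidHom.comp_apply, h2]
    have h3 : ψ' (Subgroup.inclusion le_sup_left z) ∈ Subgroup.map ψ'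
        ((V ⊔ centralizerIn S V).subgroupOf (V ⊔ centralizerIn S V ⊔ (V ⊔ centralizerIn S V))) :=
      ⟨_, Subgroup.mem_subgroupOf.mpr z.2, rfl⟩
    rw [hmap, h1] at h3
    exact h3
  have hinj : Function.Injective (ψ.codRestrict (V ⊔ centralizerIn S V) hψR) := fun a b hab =>
    F.injective_of_mem hψ (congrArg Subtype.val hab)
  obtain ⟨β', hβ'⟩ : ∃ β' : ↥(V ⊔ centralizerIn S V) ≃* ↥(V ⊔ centralizerIn S V),
      ∀ z, ((β' z : ↥(V ⊔ centralizerIn S V)) : Ω) = ψ z :=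
    ⟨MulEquiv.ofBijective (ψ.codRestrict (V ⊔ centralizerIn S V) hψR)
      ⟨hinj, Finite.injective_iff_surjective.mp hinj⟩, fun z => rfl⟩
  have hβ'V : ∀ (z : ↥(V ⊔ centralizerIn S V)) (hz : (z : Ω) ∈ V),
      ((β' z : ↥(V ⊔ centralizerIn S V)) : Ω) = ((β ⟨z, hz⟩ : V) : Ω) := by
    intro z hz
    rw [hβ']
    have := hψV ⟨z, hz⟩
    exact this
  refine ⟨β', ?_, ?_, ?_⟩
  · have h3 : (V ⊔ centralizerIn S V).subtype.comp β'.toMonoidHom = ψ := by
      ext z
      exact hβ' z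
    unfold IsIso
    rw [h3]
    exact hψ
  · intro z hz
    rw [hβ'V z (hUV hz)]
    exact hβU _ hz
  · intro z hz
    rw [hβ'V z (hUV hz)]
    exact hβf _ hz

/-- **climbing**: a datum in a saturated system gives a datum at a fully normalized centric
subgroup. -/
theorem exists_centric_datIn (hS : IsPGroup p S) {F : FusionSystem S} (hF : F.IsSaturated p)
    {U : Subgroup Ω} {f : Ω → (Fin 2 → ZMod p)} (h : IsDat p F U f) :
    ∃ (Q U' : Subgroup Ω) (f' : Ω → (Fin 2 → ZMod p)),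
      F.IsFullyNormalized Q ∧ F.IsCentric Q ∧ IsDatIn p F Q U' f' := by
  have hUS : U ≤ S := h.1
  haveI : Finite ↥U := Finite.of_injective (Subgroup.inclusion hUS) (Subgroup.inclusion_injective hUS)
  obtain ⟨U₁, hconj₁, hfn₁⟩ := exists_fullyNormalized_conj F hUS
  obtain ⟨e₁, he₁⟩ := (isConj_iff F).mp hconj₁
  obtain ⟨U₁', f₁, h₁⟩ := h.toIn.transport he₁
  have h₂ := h₁.extend hS hF hfn₁
  have hcen : F.IsCentric (U₁ ⊔ centralizerIn S U₁) :=
    isCentric_sup_centralizerIn (fa_receptive_of_fullyNormalized hS hF hfn₁).2.2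
  obtain ⟨Q, hconj₂, hfn₂⟩ := exists_fullyNormalized_conj F hcen.1
  obtain ⟨e₂, he₂⟩ := (isConj_iff F).mp hconj₂
  obtain ⟨U₂, f₂, h₃⟩ := h₂.transport he₂
  exact ⟨Q, U₂, f₂, hfn₂, isCentric_of_isConj hcen hconj₂, h₃⟩

end Saturated

end Cfsg.H5.QdF
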