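import Mathlib
import Cfsg.Agent.H5.QdClimb
import Cfsg.Agent.Lib.Helper27.FusionOpNormalizer

/-!
# helper5 library: climbing `Qd(p)`-data to fully normalized centric radical subgroups

`exists_centric_radical_datIn`: in a saturated system a datum gives a fully normalized centric
radical `Q` carrying a datum `IsDatIn p F Q U' f'`.
-/

set_option autoImplicit false
set_option linter.style.haveILetI false

namespace Cfsg.H5.QdF

open Matrix Cfsg Cfsg.FusionSystem Cfsg.Agent.Lib.Helper27 Cfsg.Agent.H26 Cfsg.H5.QdR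
open scoped Matrix

variable {Ω : Type*} [Group Ω] {S : Subgroup Ω} {p : ℕ} [Finite S] [Fact p.Prime]

theorem IsDatIn.extendOp (hS : IsPGroup p S) {F : FusionSystem S} (hF : F.IsSaturated p)
    {Q U : Subgroup Ω} (hfn : F.IsFullyNormalized Q) {f : Ω → (Fin 2 → ZMod p)}
    (h : IsDatIn p F Q U f) : IsDatIn p F (opNormalizer F p Q) U f := by
  obtain ⟨hUQ, hQS, hmul, hsurj, hM⟩ := h
  have hle : Q ≤ opNormalizer F p Q := le_opNormalizer hS F hQS
  refine ⟨hUQ.trans hle, opNormalizer_le F p Q, hmul, hsurj, fun M => ?_⟩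
  obtain ⟨β, hβ, hβU, hβf⟩ := hM M
  obtain ⟨β₂, hβ₂, hβ₂β⟩ := exists_extension_opNormalizer hS hF hfn hβ
  have key : ∀ (z : ↥(opNormalizer F p Q)) (hz : (z : Ω) ∈ Q),
      ((β₂ z : ↥(opNormalizer F p Q)) : Ω) = ((β ⟨z, hz⟩ : Q) : Ω) := by
    intro z hz
    have h1 := hβ₂β ⟨z, hz⟩
    have h2 : (⟨((⟨(z : Ω), hz⟩ : Q) : Ω), le_opNormalizer hS F hfn.1 hz⟩ : ↥(opNormalizer F p Q)) = z :=
      Subtype.ext rfl
    rw [h2] at h1
    exact h1
  refine ⟨β₂, hβ₂, fun z hz => ?_, fun z hz => ?_⟩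
  · rw [key z (hUQ hz)]
    exact hβU _ hz
  · rw [key z (hUQ hz)]
    exact hβf _ hz

theorem exists_radical_aux (hS : IsPGroup p S) {F : FusionSystem S} (hF : F.IsSaturated p) :
    ∀ (n : ℕ) (Q U : Subgroup Ω) (f : Ω → (Fin 2 → ZMod p)), F.IsFullyNormalized Q →
      IsDatIn p F Q U f → Nat.card S - Nat.card Q = n →
      ∃ (Q' U' : Subgroup Ω) (f' : Ω → (Fin 2 → ZMod p)),
        F.IsFullyNormalized Q' ∧ F.IsCentric Q' ∧ F.IsRadical p Q' ∧ IsDatIn p F Q' U' f' := by
  intro n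
  induction n using Nat.strong_induction_on with
  | _ n ih =>
    intro Q U f hfn hD hn
    by_cases hcr : F.IsCentric Q ∧ F.IsRadical p Q
    · exact ⟨Q, U, f, hfn, hcr.1, hcr.2, hD⟩
    · obtain ⟨g, hg, hgQ⟩ := exists_mem_opNormalizer_not_mem hS hF hfn hcr
      have hQS : Q ≤ S := hfn.1
      have hle : Q ≤ opNormalizer F p Q := le_opNormalizer hS F hQS
      have hOS : opNormalizer F p Q ≤ S := opNormalizer_le F p Q
      haveI : Finite ↥(opNormalizer F p Q) :=
        Finite.of_injective (Subgroup.inclusion hOS) (Subgroup.inclusion_injective hOS)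
      have hlt : Q < opNormalizer F p Q := lt_of_le_of_ne hle (fun h => hgQ (h ▸ hg))
      have hcard : Nat.card Q < Nat.card (opNormalizer F p Q) := by
        refine lt_of_le_of_ne (Subgroup.card_le_of_le hle) (fun heq => hlt.ne ?_)
        exact Subgroup.eq_of_le_of_card_ge hle heq.ge
      have hD₁ := hD.extendOp hS hF hfn
      obtain ⟨Q₁, hconj, hfn₁⟩ := exists_fullyNormalized_conj F hOS
      obtain ⟨e, he⟩ := (isConj_iff F).mp hconj
      obtain ⟨U₁, f₁, hD₂⟩ := hD₁.transport he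
      have hQ₁S : Q₁ ≤ S := hfn₁.1
      have hcard₁ : Nat.card (opNormalizer F p Q) = Nat.card Q₁ := Nat.card_congr e.toEquiv
      have hcardS : Nat.card Q₁ ≤ Nat.card S := Subgroup.card_le_of_le hQ₁S
      have hlt' : Nat.card S - Nat.card Q₁ < n := by
        rw [← hn, ← hcard₁]
        have : Nat.card (opNormalizer F p Q) ≤ Nat.card S := hcard₁ ▸ hcardS
        omega
      exact ih _ hlt' Q₁ U₁ f₁ hfn₁ hD₂ rfl

/-- **climbing to a radical subgroup** -/
theorem exists_centric_radical_datIn (hS : IsPGroup p S) {F : FusionSystem S}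
    (hF : F.IsSaturated p) {U : Subgroup Ω} {f : Ω → (Fin 2 → ZMod p)} (h : IsDat p F U f) :
    ∃ (Q U' : Subgroup Ω) (f' : Ω → (Fin 2 → ZMod p)),
      F.IsFullyNormalized Q ∧ F.IsCentric Q ∧ F.IsRadical p Q ∧ IsDatIn p F Q U' f' := by
  have hUS : U ≤ S := h.1
  haveI : Finite ↥U := Finite.of_injective (Subgroup.inclusion hUS) (Subgroup.inclusion_injective hUS)
  obtain ⟨U₁, hconj₁, hfn₁⟩ := exists_fullyNormalized_conj F hUS
  obtain ⟨e₁, he₁⟩ := (isConj_iff F).mp hconj₁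
  obtain ⟨U₁', f₁, h₁⟩ := h.toIn.transport he₁
  exact exists_radical_aux hS hF _ U₁ U₁' f₁ hfn₁ h₁ rfl

end Cfsg.H5.QdF
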