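import Mathlib
import Cfsg.Agent.H5.QdGDat

/-!
# helper5 library: recognition of `Qd(2) = S₄` sections (the case `p = 2` of `QdRecog`)

For `p = 2` the Frattini argument uses a Sylow `3`-subgroup of the preimage of the subgroup of order
`3` of `SL(2,2)` instead of the central involution.

* `involves_qd_of_pgroup_two`, `involves_of_isGDat_two`;
* `involves_of_isGDat_all` : a group datum gives a section `Qd(p)`, for every prime `p`.
-/

set_option autoImplicit false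
set_option linter.style.haveILetI false

namespace Cfsg.H5.QdR

open Matrix Cfsg.Agent.Lib.Helper16 Cfsg.Agent.Lib.Helper27 Cfsg.H5.Qd
open scoped Matrix

/-- an element of order `3` of `SL(2,2)` -/
def c2 : SpecialLinearGroup (Fin 2) (ZMod 2) := ⟨!![0,1;1,1], by decide⟩

set_option maxRecDepth 100000 in
theorem c2_conj (g : SpecialLinearGroup (Fin 2) (ZMod 2)) :
    g * c2 * g⁻¹ = c2 ∨ g * c2 * g⁻¹ = c2 * c2 := by
  revert g
  decide

set_option maxRecDepth 100000 in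
theorem c2_pow_three : c2 ^ 3 = 1 := by decide

set_option maxRecDepth 100000 in
theorem c2_fix (v : Fin 2 → ZMod 2) :
    ((c2 : SpecialLinearGroup (Fin 2) (ZMod 2)) : Matrix (Fin 2) (Fin 2) (ZMod 2)) *ᵥ v = v → v = 0 := by
  revert v
  decide

set_option maxRecDepth 100000 in
theorem c2_sq_fix (v : Fin 2 → ZMod 2) :
    ((c2 * c2 : SpecialLinearGroup (Fin 2) (ZMod 2)) : Matrix (Fin 2) (Fin 2) (ZMod 2)) *ᵥ v = v →
      v = 0 := by
  revert v
  decide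

theorem c2_zpowers_normal : (Subgroup.zpowers c2).Normal := by
  refine ⟨fun n hn g => ?_⟩
  obtain ⟨k, rfl⟩ := Subgroup.mem_zpowers_iff.1 hn
  have h1 : g * c2 ^ k * g⁻¹ = (g * c2 * g⁻¹) ^ k := by
    have := map_zpow (MulAut.conj g) c2 k
    rw [MulAut.conj_apply, MulAut.conj_apply] at this
    exact this
  rw [h1]
  rcases c2_conj g with h | h
  · rw [h]; exact Subgroup.zpow_mem _ (Subgroup.mem_zpowers c2) k
  · rw [h]
    exact Subgroup.zpow_mem _ (Subgroup.mul_mem _ (Subgroup.mem_zpowers c2) (Subgroup.mem_zpowers c2)) k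

theorem c2_pow_of_not_dvd {m : ℕ} (hm : ¬ 3 ∣ m) : c2 ^ m = c2 ∨ c2 ^ m = c2 * c2 := by
  have h1 : c2 ^ m = c2 ^ (m % 3) := pow_eq_pow_mod m c2_pow_three
  have h2 : m % 3 < 3 := Nat.mod_lt _ (by norm_num)
  have h3 : m % 3 ≠ 0 := fun h => hm (Nat.dvd_of_mod_eq_zero h)
  rw [h1]
  interval_cases (m % 3)
  · exact absurd rfl h3
  · left; rw [pow_one]
  · right; rw [pow_two]

/-- the Frattini argument with a `3`-element -/
theorem frattini_part_three {H : Type*} [Group H] [Finite H]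
    (θ : H →* SpecialLinearGroup (Fin 2) (ZMod 2)) (hθ : Function.Surjective θ) :
    ∃ (H₁ : Subgroup H) (t : H), (∀ g, ∃ h ∈ H₁, θ h = g) ∧ (θ t = c2 ∨ θ t = c2 * c2) ∧
      ∀ h ∈ H₁, ∃ k : ℕ, (h * t * h⁻¹ * t⁻¹) ^ (3 ^ k) = 1 := by
  haveI : Fact (Nat.Prime 3) := ⟨Nat.prime_three⟩
  have hZn : (Subgroup.zpowers c2).Normal := c2_zpowers_normal
  obtain ⟨N₂, hN₂⟩ : ∃ N₂ : Subgroup H, N₂ = (Subgroup.zpowers c2).comap θ := ⟨_, rfl⟩
  have hN₂n : N₂.Normal := by rw [hN₂]; exact Subgroup.Normal.comap hZn θ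
  obtain ⟨t₀, ht₀⟩ := hθ c2
  obtain ⟨a, m, hm3, ham⟩ := Nat.exists_eq_pow_mul_and_not_dvd
    (orderOf_pos t₀).ne' 3 (by norm_num)
  obtain ⟨t, ht⟩ : ∃ t : H, t = t₀ ^ m := ⟨_, rfl⟩
  have hθt : θ t = c2 ∨ θ t = c2 * c2 := by
    rw [ht, map_pow, ht₀]
    exact c2_pow_of_not_dvd hm3
  have htpow : t ^ (3 ^ a) = 1 := by
    rw [ht, ← pow_mul, mul_comm, ← ham]
    exact pow_orderOf_eq_one t₀
  have htN : t ∈ N₂ := by
    rw [hN₂, Subgroup.mem_comap]
    rcases hθt with h | h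
    · rw [h]; exact Subgroup.mem_zpowers c2
    · rw [h]; exact Subgroup.mul_mem _ (Subgroup.mem_zpowers c2) (Subgroup.mem_zpowers c2)
  have hQ : IsPGroup 3 (Subgroup.zpowers (⟨t, htN⟩ : N₂)) := by
    apply Cfsg.H5.Dickson.isPGroup_zpowers (k := a)
    apply Subtype.ext
    rw [Subgroup.coe_pow, Subgroup.coe_one]
    exact htpow
  obtain ⟨T, hT⟩ := hQ.exists_le_sylow
  obtain ⟨T', hT'⟩ : ∃ T' : Subgroup H, T' = (T : Subgroup N₂).map N₂.subtype := ⟨_, rfl⟩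
  have htT' : t ∈ T' := by
    rw [hT']
    exact ⟨⟨t, htN⟩, hT (Subgroup.mem_zpowers _), rfl⟩
  have hT'p : IsPGroup 3 T' := by rw [hT']; exact T.2.map _
  have hfrat : Subgroup.normalizer (T' : Set H) ⊔ N₂ = ⊤ := by
    rw [hT']
    exact Sylow.normalizer_sup_eq_top T
  -- every element of `⟨c2⟩` is the image of a power of `t`
  have hpowt : ∀ y ∈ Subgroup.zpowers c2, ∃ j : ℤ, θ (t ^ j) = y := by
    intro y hy
    obtain ⟨k, rfl⟩ := Subgroup.mem_zpowers_iff.1 hy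
    rcases hθt with h | h
    · exact ⟨k, by rw [map_zpow, h]⟩
    · refine ⟨2 * k, ?_⟩
      rw [map_zpow, h, _root_.zpow_mul]
      congr 1
      have h4 : c2 * c2 * (c2 * c2) = c2 ^ 3 * c2 := by
        rw [pow_succ, pow_two]; simp only [mul_assoc]
      show (c2 * c2) ^ (2 : ℤ) = c2
      rw [zpow_two, h4, c2_pow_three, one_mul]
  refine ⟨Subgroup.normalizer (T' : Set H), t, ?_, hθt, ?_⟩
  · intro g
    obtain ⟨h₀, hh₀⟩ := hθ g
    have h1 : h₀ ∈ ((Subgroup.normalizer (T' : Set H) ⊔ N₂ : Subgroup H) : Set H) := by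
      rw [hfrat]; trivial
    rw [Subgroup.mul_normal] at h1
    obtain ⟨n, hn, x, hx, rfl⟩ := Set.mem_mul.1 h1
    have hx' : θ x ∈ Subgroup.zpowers c2 := by
      rw [SetLike.mem_coe, hN₂, Subgroup.mem_comap] at hx
      exact hx
    obtain ⟨j, hj⟩ := hpowt _ hx'
    refine ⟨n * t ^ j, mul_mem hn (Subgroup.zpow_mem _ (Subgroup.le_normalizer htT') j), ?_⟩
    rw [map_mul, hj, ← hh₀, map_mul]
  · intro h hh
    have h1 : h * t * h⁻¹ ∈ T' := (Subgroup.mem_normalizer_iff.1 hh t).1 htT'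
    have h2 : h * t * h⁻¹ * t⁻¹ ∈ T' := mul_mem h1 (inv_mem htT')
    obtain ⟨k, hk⟩ := hT'p ⟨_, h2⟩
    refine ⟨k, ?_⟩
    have := congrArg Subtype.val hk
    simpa using this

variable {X : Type*} [Group X]

/-- recognition of `Qd(2)` -/
theorem involves_qd_of_pgroup_two [Finite X] (V₁ H : Subgroup X)
    (hVp : IsPGroup 2 V₁)
    (hHV : H ≤ Subgroup.normalizer (V₁ : Set X))
    (θ : ↥H →* SpecialLinearGroup (Fin 2) (ZMod 2)) (hθ : Function.Surjective θ)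
    (f : X → (Fin 2 → ZMod 2))
    (hfmul : ∀ x ∈ V₁, ∀ y ∈ V₁, f (x * y) = f x + f y)
    (hfsurj : ∀ w, ∃ v ∈ V₁, f v = w)
    (hequiv : ∀ (h : ↥H), ∀ v ∈ V₁, f ((h : X) * v * (h : X)⁻¹) =
      (θ h : Matrix (Fin 2) (Fin 2) (ZMod 2)) *ᵥ f v) :
    Cfsg.Involves ↥(Cfsg.qd 2) X := by
  haveI : Fact (Nat.Prime 2) := ⟨Nat.prime_two⟩
  obtain ⟨H₁, t, hsurj, hθt, h3pow⟩ := frattini_part_three θ hθ
  have hle : H₁.map H.subtype ≤ H := Subgroup.map_subtype_le H₁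
  have hincl : ∀ x : ↥(H₁.map H.subtype), Subgroup.inclusion hle x ∈ H₁ := by
    rintro ⟨_, h, hh, rfl⟩
    have : Subgroup.inclusion hle ⟨H.subtype h, h, hh, rfl⟩ = h := Subtype.ext rfl
    rw [this]; exact hh
  refine involves_qd_of_split' (p := 2) V₁ (H₁.map H.subtype) (hle.trans hHV)
    (θ.comp (Subgroup.inclusion hle)) ?_ f hfmul hfsurj ?_ ?_
  · intro g
    obtain ⟨h, hh, hθh⟩ := hsurj g
    refine ⟨⟨(h : X), h, hh, rfl⟩, ?_⟩
    rw [MonoidHom.comp_apply]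
    have : Subgroup.inclusion hle ⟨(h : X), h, hh, rfl⟩ = h := Subtype.ext rfl
    rw [this, hθh]
  · intro x v hv
    exact hequiv (Subgroup.inclusion hle x) v hv
  · intro x hxV
    obtain ⟨k, hk⟩ := h3pow (Subgroup.inclusion hle x) (hincl x)
    have hk' : ((x : X) * (t : X) * (x : X)⁻¹ * (t : X)⁻¹) ^ (3 ^ k) = 1 := by
      have := congrArg (fun y : ↥H => (y : X)) hk
      simpa using this
    have htx : (t : X) * (x : X)⁻¹ * (t : X)⁻¹ ∈ V₁ :=
      (Subgroup.mem_normalizer_iff.1 (hHV t.2) _).1 (inv_mem hxV)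
    have hcV : (x : X) * (t : X) * (x : X)⁻¹ * (t : X)⁻¹ ∈ V₁ := by
      have e : (x : X) * (t : X) * (x : X)⁻¹ * (t : X)⁻¹ =
          (x : X) * ((t : X) * (x : X)⁻¹ * (t : X)⁻¹) := by group
      rw [e]; exact mul_mem hxV htx
    have hc1 : (x : X) * (t : X) * (x : X)⁻¹ * (t : X)⁻¹ = 1 := by
      rw [← orderOf_eq_one_iff]
      obtain ⟨j, hj⟩ := hVp ⟨_, hcV⟩
      have hj' : ((x : X) * (t : X) * (x : X)⁻¹ * (t : X)⁻¹) ^ 2 ^ j = 1 := by
        have := congrArg Subtype.val hj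
        simpa using this
      have d1 : orderOf ((x : X) * (t : X) * (x : X)⁻¹ * (t : X)⁻¹) ∣ 2 ^ j :=
        orderOf_dvd_of_pow_eq_one hj'
      have d2 : orderOf ((x : X) * (t : X) * (x : X)⁻¹ * (t : X)⁻¹) ∣ 3 ^ k :=
        orderOf_dvd_of_pow_eq_one hk'
      have hcop : Nat.Coprime (2 ^ j) (3 ^ k) :=
        Nat.Coprime.pow j k (by norm_num)
      exact Nat.eq_one_of_dvd_coprimes hcop d1 d2
    have hcomm : (t : X) * (x : X) * (t : X)⁻¹ = (x : X) := by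
      have e : (x : X) * (t : X) = (t : X) * (x : X) := by
        calc (x : X) * (t : X) = ((x : X) * (t : X) * (x : X)⁻¹ * (t : X)⁻¹) * ((t : X) * (x : X)) := by
              group
          _ = (t : X) * (x : X) := by rw [hc1, one_mul]
      rw [← e, mul_inv_cancel_right]
    have h3 := hequiv t (x : X) hxV
    rw [hcomm] at h3
    rcases hθt with h | h
    · rw [h] at h3
      exact c2_fix _ h3.symm
    · rw [h] at h3
      exact c2_sq_fix _ h3.symm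

/-- a group datum for `p = 2` gives a section `Qd(2)` -/
theorem involves_of_isGDat_two [Finite X] {U : Subgroup X} {f : X → (Fin 2 → ZMod 2)}
    (h : IsGDat 2 X U f) : Cfsg.Involves ↥(Cfsg.qd 2) X := by
  obtain ⟨hUp, hmul, hsurj, hM⟩ := h
  let Λ : Subgroup X :=
    { carrier := {n | n ∈ Subgroup.normalizer (U : Set X) ∧
        ∃ M : SpecialLinearGroup (Fin 2) (ZMod 2), ∀ u ∈ U,
          f (n * u * n⁻¹) = (M : Matrix (Fin 2) (Fin 2) (ZMod 2)) *ᵥ f u}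
      mul_mem' := by
        rintro a b ⟨ha, M, hMa⟩ ⟨hb, M', hMb⟩
        refine ⟨Subgroup.mul_mem _ ha hb, M * M', fun u hu => ?_⟩
        have hbu : b * u * b⁻¹ ∈ U := (Subgroup.mem_normalizer_iff.mp hb u).mp hu
        have : a * b * u * (a * b)⁻¹ = a * (b * u * b⁻¹) * a⁻¹ := by group
        rw [this, hMa _ hbu, hMb u hu, Matrix.SpecialLinearGroup.coe_mul, Matrix.mulVec_mulVec]
      one_mem' := by
        refine ⟨Subgroup.one_mem _, 1, fun u hu => ?_⟩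
        rw [one_mul, inv_one, mul_one, Matrix.SpecialLinearGroup.coe_one, Matrix.one_mulVec]
      inv_mem' := by
        rintro a ⟨ha, M, hMa⟩
        refine ⟨Subgroup.inv_mem _ ha, M⁻¹, fun u hu => ?_⟩
        have hau : a⁻¹ * u * a⁻¹⁻¹ ∈ U :=
          (Subgroup.mem_normalizer_iff.mp (Subgroup.inv_mem _ ha) u).mp hu
        have h1 := hMa _ hau
        have : a * (a⁻¹ * u * a⁻¹⁻¹) * a⁻¹ = u := by group
        rw [this] at h1
        rw [h1, Matrix.mulVec_mulVec, ← Matrix.SpecialLinearGroup.coe_mul, inv_mul_cancel,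
          Matrix.SpecialLinearGroup.coe_one, Matrix.one_mulVec] }
  have hΛmem : ∀ n, n ∈ Λ ↔ n ∈ Subgroup.normalizer (U : Set X) ∧
      ∃ M : SpecialLinearGroup (Fin 2) (ZMod 2), ∀ u ∈ U,
        f (n * u * n⁻¹) = (M : Matrix (Fin 2) (Fin 2) (ZMod 2)) *ᵥ f u := fun n => Iff.rfl
  have huniq : ∀ (n : X) (M M' : SpecialLinearGroup (Fin 2) (ZMod 2)),
      (∀ u ∈ U, f (n * u * n⁻¹) = (M : Matrix (Fin 2) (Fin 2) (ZMod 2)) *ᵥ f u) →
      (∀ u ∈ U, f (n * u * n⁻¹) = (M' : Matrix (Fin 2) (Fin 2) (ZMod 2)) *ᵥ f u) → M = M' := by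
    intro n M M' h1 h2
    apply Subtype.ext
    apply mat_eq_of_mulVec_eq
    intro w
    obtain ⟨u, hu, rfl⟩ := hsurj w
    rw [← h1 u hu, ← h2 u hu]
  let θ₀ : ↥Λ → SpecialLinearGroup (Fin 2) (ZMod 2) := fun n => ((hΛmem n).mp n.2).2.choose
  have hθ₀ : ∀ (n : ↥Λ), ∀ u ∈ U, f ((n : X) * u * (n : X)⁻¹) =
      (θ₀ n : Matrix (Fin 2) (Fin 2) (ZMod 2)) *ᵥ f u := fun n => ((hΛmem n).mp n.2).2.choose_spec
  have hθmul : ∀ a b : ↥Λ, θ₀ (a * b) = θ₀ a * θ₀ b := by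
    intro a b
    apply huniq ((a * b : ↥Λ) : X) _ _ (hθ₀ (a * b))
    intro u hu
    have hbu : (b : X) * u * (b : X)⁻¹ ∈ U :=
      (Subgroup.mem_normalizer_iff.mp ((hΛmem b).mp b.2).1 u).mp hu
    have : ((a * b : ↥Λ) : X) * u * ((a * b : ↥Λ) : X)⁻¹ =
        (a : X) * ((b : X) * u * (b : X)⁻¹) * (a : X)⁻¹ := by
      rw [Subgroup.coe_mul]; group
    rw [this, hθ₀ a _ hbu, hθ₀ b u hu, Matrix.SpecialLinearGroup.coe_mul, Matrix.mulVec_mulVec]
  let θ : ↥Λ →* SpecialLinearGroup (Fin 2) (ZMod 2) := MonoidHom.mk' θ₀ hθmul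
  have hθsurj : Function.Surjective θ := by
    intro M
    obtain ⟨n, hn, hnf⟩ := hM M
    have hnN : n ∈ Subgroup.normalizer (U : Set X) := mem_normalizer_of_conj_mem hn
    refine ⟨⟨n, hnN, M, hnf⟩, ?_⟩
    exact huniq n _ _ (hθ₀ ⟨n, hnN, M, hnf⟩) hnf
  exact involves_qd_of_pgroup_two U Λ hUp (fun n hn => ((hΛmem n).mp hn).1) θ hθsurj f hmul hsurj
    (fun h v hv => hθ₀ h v hv)

/-- **a group datum gives a section `Qd(p)`, for every prime `p`** -/
theorem involves_of_isGDat_all {p : ℕ} [hp : Fact p.Prime] [Finite X] {U : Subgroup X}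
    {f : X → (Fin 2 → ZMod p)} (h : IsGDat p X U f) : Cfsg.Involves ↥(Cfsg.qd p) X := by
  by_cases hp2 : p = 2
  · subst hp2
    exact involves_of_isGDat_two h
  · exact involves_of_isGDat hp2 h

end Cfsg.H5.QdR
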