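import Mathlib
import Cfsg.Agent.Lib.Helper1.Coprime

/-!
# Stabilizers of a two-step chain `1 ≤ W ≤ V`

`stabQuot V W`: the elements normalizing `W` and acting trivially on `V/W`.
`exists_quadratic_normal`: for `[V, E₁, E₂] = 1` there is a subgroup `Q` of exponent `p`,
normalized by `E₁ ⊔ E₂`, containing `[E₁, E₂]`.
-/

set_option autoImplicit false

namespace Cfsg.H5.QS

open Subgroup
open scoped commutatorElement
open Cfsg.Agent.Lib.Helper1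

variable {G : Type*} [Group G]

/-- elements normalizing `W` and acting trivially on `V/W` -/
def stabQuot (V W : Subgroup G) : Subgroup G where
  carrier := {g | g ∈ normalizer (W : Set G) ∧ ∀ v ∈ V, ⁅v, g⁆ ∈ W}
  one_mem' := ⟨Subgroup.one_mem _, fun v _ => by
    have : ⁅v, (1 : G)⁆ = 1 := by rw [commutatorElement_def]; group
    rw [this]; exact W.one_mem⟩
  mul_mem' := by
    rintro g h ⟨hg1, hg2⟩ ⟨hh1, hh2⟩
    refine ⟨mul_mem hg1 hh1, fun v hv => ?_⟩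
    have : ⁅v, g * h⁆ = ⁅v, g⁆ * (g * ⁅v, h⁆ * g⁻¹) := by
      simp only [commutatorElement_def]; group
    rw [this]
    exact W.mul_mem (hg2 v hv) ((mem_normalizer_iff.mp hg1 _).mp (hh2 v hv))
  inv_mem' := by
    rintro g ⟨hg1, hg2⟩
    refine ⟨inv_mem hg1, fun v hv => ?_⟩
    have : ⁅v, g⁻¹⁆ = g⁻¹ * (⁅v, g⁆)⁻¹ * (g⁻¹)⁻¹ := by
      simp only [commutatorElement_def]; group
    rw [this]
    exact (mem_normalizer_iff.mp (inv_mem hg1) _).mp (W.inv_mem (hg2 v hv))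

theorem mem_stabQuot {V W : Subgroup G} {g : G} :
    g ∈ stabQuot V W ↔ g ∈ normalizer (W : Set G) ∧ ∀ v ∈ V, ⁅v, g⁆ ∈ W := Iff.rfl

theorem conj_mem_stabQuot {V W : Subgroup G} {e g : G} (heV : e ∈ normalizer (V : Set G))
    (heW : e ∈ normalizer (W : Set G)) (hg : g ∈ stabQuot V W) :
    e * g * e⁻¹ ∈ stabQuot V W := by
  obtain ⟨hg1, hg2⟩ := mem_stabQuot.mp hg
  refine mem_stabQuot.mpr ⟨mul_mem (mul_mem heW hg1) (inv_mem heW), fun v hv => ?_⟩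
  have hv' : e⁻¹ * v * e ∈ V := by
    have := (mem_normalizer_iff.mp (inv_mem heV) v).mp hv
    simpa using this
  have : ⁅v, e * g * e⁻¹⁆ = e * ⁅e⁻¹ * v * e, g⁆ * e⁻¹ := by
    simp only [commutatorElement_def]; group
  rw [this]
  exact (mem_normalizer_iff.mp heW _).mp (hg2 _ hv')

theorem conj_mem_centralizer {W : Subgroup G} {e g : G} (heW : e ∈ normalizer (W : Set G))
    (hg : g ∈ centralizer (W : Set G)) : e * g * e⁻¹ ∈ centralizer (W : Set G) := by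
  rw [mem_centralizer_iff] at hg ⊢
  intro w hw
  have hw' : e⁻¹ * w * e ∈ W := by
    have := (mem_normalizer_iff.mp (inv_mem heW) w).mp hw
    simpa using this
  have h1 := hg _ hw'
  calc w * (e * g * e⁻¹) = e * ((e⁻¹ * w * e) * g) * e⁻¹ := by group
    _ = e * (g * (e⁻¹ * w * e)) * e⁻¹ := by rw [h1]
    _ = e * g * e⁻¹ * w := by group

/-- an element centralizing `W` and `V/W` has its `p`-th power centralizing `V` (exponent `p`) -/
theorem pow_mem_centralizer {V W : Subgroup G} {p : ℕ} (hWV : W ≤ V) (hVp : ∀ v ∈ V, v ^ p = 1)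
    {g : G} (hgC : g ∈ centralizer (W : Set G)) (hgT : g ∈ stabQuot V W) :
    g ^ p ∈ centralizer (V : Set G) := by
  rw [mem_centralizer_iff]
  intro v hv
  have hw : ⁅v, g⁆ ∈ W := (mem_stabQuot.mp hgT).2 v hv
  have hcomm : Commute ⁅v, g⁆ g := (mem_centralizer_iff.mp hgC) _ hw
  have h1 : v * g * v⁻¹ = ⁅v, g⁆ * g := by rw [commutatorElement_def]; group
  have h2 : v * g ^ p * v⁻¹ = g ^ p := by
    rw [← conj_pow, h1, hcomm.mul_pow, hVp _ (hWV hw), one_mul]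
  calc v * g ^ p = (v * g ^ p * v⁻¹) * v := by group
    _ = g ^ p * v := by rw [h2]

/-- `[V, E₁, E₂] = 1` in a faithful group: `[E₁, E₂]` lies in a subgroup of exponent `p`
normalized by `E₁ ⊔ E₂`. -/
theorem exists_quadratic_normal {p : ℕ} (V H E₁ E₂ : Subgroup G) (hVp : ∀ v ∈ V, v ^ p = 1)
    (hHV : H ≤ normalizer (V : Set G)) (hf : H ⊓ centralizer (V : Set G) = ⊥)
    (h₁ : E₁ ≤ H) (h₂ : E₂ ≤ H) (hc : ⁅⁅V, E₁⁆, E₂⁆ = ⊥) :
    ∃ Q : Subgroup G, Q ≤ E₁ ⊔ E₂ ∧ E₁ ⊔ E₂ ≤ normalizer (Q : Set G) ∧ ⁅E₁, E₂⁆ ≤ Q ∧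
      ∀ g ∈ Q, g ^ p = 1 := by
  obtain ⟨W, hW⟩ : ∃ W : Subgroup G, W = ⁅V, E₁⁆ := ⟨_, rfl⟩
  rw [← hW] at hc
  have hWV : W ≤ V := hW ▸ commutator_le_of_le_normalizer (h₁.trans hHV)
  have hE₁W : E₁ ≤ normalizer (W : Set G) := hW ▸ le_normalizer_commutator_right
  have hE₂C : E₂ ≤ centralizer (W : Set G) := by
    intro e he
    rw [mem_centralizer_iff]
    intro w hw
    have h1 := (Subgroup.commutator_eq_bot_iff_le_centralizer.mp hc) hw
    exact ((mem_centralizer_iff.mp h1) e he).symm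
  have hE₂W : E₂ ≤ normalizer (W : Set G) := hE₂C.trans (centralizer_le_normalizer _)
  have hE₁T : E₁ ≤ stabQuot V W := fun e he =>
    mem_stabQuot.mpr ⟨hE₁W he, fun v hv => hW ▸ commutator_mem_commutator hv he⟩
  have hEV : E₁ ⊔ E₂ ≤ normalizer (V : Set G) := sup_le (h₁.trans hHV) (h₂.trans hHV)
  have hEW : E₁ ⊔ E₂ ≤ normalizer (W : Set G) := sup_le hE₁W hE₂W
  refine ⟨(E₁ ⊔ E₂) ⊓ centralizer (W : Set G) ⊓ stabQuot V W, inf_le_left.trans inf_le_left,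
    ?_, ?_, ?_⟩
  · apply le_normalizer_of_forall_conj_mem
    intro e he n hn
    obtain ⟨hn12, hn3⟩ := Subgroup.mem_inf.mp hn
    obtain ⟨hn1, hn2⟩ := Subgroup.mem_inf.mp hn12
    exact Subgroup.mem_inf.mpr ⟨Subgroup.mem_inf.mpr
      ⟨mul_mem (mul_mem he hn1) (inv_mem he), conj_mem_centralizer (hEW he) hn2⟩,
      conj_mem_stabQuot (hEV he) (hEW he) hn3⟩
  · rw [Subgroup.commutator_le]
    intro e₁ he₁ e₂ he₂
    have he₁E : e₁ ∈ E₁ ⊔ E₂ := (le_sup_left : E₁ ≤ E₁ ⊔ E₂) he₁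
    have he₂E : e₂ ∈ E₁ ⊔ E₂ := (le_sup_right : E₂ ≤ E₁ ⊔ E₂) he₂
    refine Subgroup.mem_inf.mpr ⟨Subgroup.mem_inf.mpr ⟨?_, ?_⟩, ?_⟩
    · rw [commutatorElement_def]
      exact mul_mem (mul_mem (mul_mem he₁E he₂E) (inv_mem he₁E)) (inv_mem he₂E)
    · have : ⁅e₁, e₂⁆ = (e₁ * e₂ * e₁⁻¹) * e₂⁻¹ := by rw [commutatorElement_def]
      rw [this]
      exact mul_mem (conj_mem_centralizer (hE₁W he₁) (hE₂C he₂)) (inv_mem (hE₂C he₂))
    · have : ⁅e₁, e₂⁆ = e₁ * (e₂ * e₁⁻¹ * e₂⁻¹) := by rw [commutatorElement_def]; group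
      rw [this]
      exact mul_mem (hE₁T he₁)
        (conj_mem_stabQuot (hEV he₂E) (hE₂W he₂) (inv_mem (hE₁T he₁)))
  · intro g hg
    obtain ⟨hg12, hg3⟩ := Subgroup.mem_inf.mp hg
    obtain ⟨hg1, hg2⟩ := Subgroup.mem_inf.mp hg12
    have h1 : g ^ p ∈ centralizer (V : Set G) := pow_mem_centralizer hWV hVp hg2 hg3
    have h2 : g ^ p ∈ H := pow_mem ((sup_le h₁ h₂) hg1) p
    have h3 : g ^ p ∈ H ⊓ centralizer (V : Set G) := Subgroup.mem_inf.mpr ⟨h2, h1⟩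
    rw [hf, Subgroup.mem_bot] at h3
    exact h3

end Cfsg.H5.QS
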