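import Mathlib
import Cfsg.Agent.H5.Card

set_option autoImplicit false

/-!
# The Thompson / Timmesfeld replacement theorem

`V` is an abelian subgroup normalized by `A`, with `A` acting on `V` as an abelian group.
`fix V X = C_V(X)` and `mm V X = |X| |C_V(X)|`.
-/

namespace Cfsg.H5

open Subgroup
open scoped commutatorElement

variable {G : Type*} [Group G]

/-- fixed points of `X` on `V` -/
def fix (V X : Subgroup G) : Subgroup G := V ⊓ centralizer (X : Set G)

/-- the number `|X| |C_V(X)|` -/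
noncomputable def mm (V X : Subgroup G) : ℕ := Nat.card X * Nat.card (fix V X)

theorem fix_le (V X : Subgroup G) : fix V X ≤ V := inf_le_left

theorem fix_anti (V : Subgroup G) {X Y : Subgroup G} (h : X ≤ Y) : fix V Y ≤ fix V X :=
  inf_le_inf_left V (centralizer_le h)

theorem centralizer_sup (B C : Subgroup G) :
    centralizer ((B ⊔ C : Subgroup G) : Set G) = centralizer (B : Set G) ⊓ centralizer (C : Set G) := by
  apply le_antisymm
  · exact le_inf (centralizer_le (by exact_mod_cast (le_sup_left : B ≤ B ⊔ C)))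
      (centralizer_le (by exact_mod_cast (le_sup_right : C ≤ B ⊔ C)))
  · rw [le_centralizer_iff]
    apply sup_le
    · rw [← le_centralizer_iff]; exact inf_le_left
    · rw [← le_centralizer_iff]; exact inf_le_right

theorem fix_sup (V B C : Subgroup G) : fix V (B ⊔ C) = fix V B ⊓ fix V C := by
  unfold fix
  rw [centralizer_sup]
  ext x
  simp only [mem_inf]
  tauto

theorem fix_sup_le (V B C : Subgroup G) : fix V B ⊔ fix V C ≤ fix V (B ⊓ C) :=
  sup_le (fix_anti V inf_le_left) (fix_anti V inf_le_right)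

theorem card_mul_card_le [Finite G] (B C : Subgroup G) :
    Nat.card B * Nat.card C ≤ Nat.card ↥(B ⊔ C) * Nat.card ↥(B ⊓ C) := by
  have h1 : Nat.card ↥(B ⊓ C) * (B ⊓ C).relIndex B = Nat.card B :=
    card_mul_relIndex_of_le inf_le_left
  have h2 : Nat.card C * C.relIndex (B ⊔ C) = Nat.card ↥(B ⊔ C) :=
    card_mul_relIndex_of_le le_sup_right
  have h3 : (B ⊓ C).relIndex B ≤ C.relIndex (B ⊔ C) := by
    rw [inf_comm, Subgroup.inf_relIndex_right]
    exact Subgroup.relIndex_le_of_le_right le_sup_left Subgroup.FiniteIndex.index_ne_zero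
  rw [← h1, ← h2]
  calc Nat.card ↥(B ⊓ C) * (B ⊓ C).relIndex B * Nat.card C
      ≤ Nat.card ↥(B ⊓ C) * C.relIndex (B ⊔ C) * Nat.card C := by gcongr
    _ = Nat.card C * C.relIndex (B ⊔ C) * Nat.card ↥(B ⊓ C) := by ring

theorem card_fix_sup_mul [Finite G] (V : Subgroup G) [hV : IsMulCommutative V] (B C : Subgroup G) :
    Nat.card ↥(fix V B ⊔ fix V C) * Nat.card ↥(fix V (B ⊔ C)) =
      Nat.card (fix V B) * Nat.card (fix V C) := by
  rw [fix_sup]
  apply card_sup_mul_card_inf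
  apply le_normalizer_of_le_centralizer
  intro x hx
  rw [mem_centralizer_iff]
  intro y hy
  have hxV : x ∈ V := fix_le V B hx
  have hyV : y ∈ V := fix_le V C hy
  have := hV.is_comm.comm ⟨y, hyV⟩ ⟨x, hxV⟩
  exact congrArg Subtype.val this

theorem mm_pos [Finite G] (V X : Subgroup G) : 0 < mm V X :=
  Nat.mul_pos Nat.card_pos Nat.card_pos

/-- Chermak–Delgado type lemma: subgroups of `A` maximizing `mm` are closed under intersection,
and fixed points add up. -/
theorem mm_inf_of_max [Finite G] (V A : Subgroup G) [hV : IsMulCommutative V]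
    (hmax : ∀ X : Subgroup G, X ≤ A → mm V X ≤ mm V A) {B C : Subgroup G} (hB : B ≤ A) (hC : C ≤ A)
    (hmB : mm V B = mm V A) (hmC : mm V C = mm V A) :
    mm V (B ⊓ C) = mm V A ∧ fix V (B ⊓ C) = fix V B ⊔ fix V C := by
  set μ := mm V A with hμ
  have h1 := card_mul_card_le B C
  have h2 := card_fix_sup_mul V B C
  have h3 : Nat.card ↥(fix V B ⊔ fix V C) ≤ Nat.card ↥(fix V (B ⊓ C)) :=
    Subgroup.card_le_of_le (fix_sup_le V B C)
  have h4 : mm V (B ⊔ C) ≤ μ := hmax _ (sup_le hB hC)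
  have h5 : mm V (B ⊓ C) ≤ μ := hmax _ (inf_le_left.trans hB)
  have hμpos : 0 < μ := mm_pos V A
  unfold mm at hmB hmC h4 h5
  set b := Nat.card B
  set c := Nat.card C
  set s := Nat.card ↥(B ⊔ C)
  set i := Nat.card ↥(B ⊓ C)
  set fb := Nat.card (fix V B)
  set fc := Nat.card (fix V C)
  set fs := Nat.card ↥(fix V (B ⊔ C))
  set fi := Nat.card ↥(fix V (B ⊓ C))
  set j := Nat.card ↥(fix V B ⊔ fix V C)
  have hi : 0 < i := Nat.card_pos
  have hfs : 0 < fs := Nat.card_pos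
  have hs : 0 < s := Nat.card_pos
  -- μ² = b c fb fc ≤ s i j fs = (s fs)(i j) ≤ μ · i j ≤ μ · i fi ≤ μ²
  have e1 : μ * μ = (b * c) * (fb * fc) := by rw [← hmB]; nlinarith [hmB, hmC]
  have e2 : (b * c) * (fb * fc) ≤ (s * i) * (j * fs) := by
    rw [← h2]; exact Nat.mul_le_mul_right _ h1
  have e3 : (s * i) * (j * fs) = (s * fs) * (i * j) := by ring
  have e4 : (s * fs) * (i * j) ≤ μ * (i * j) := Nat.mul_le_mul_right _ h4
  have e5 : μ * (i * j) ≤ μ * (i * fi) := Nat.mul_le_mul_left _ (Nat.mul_le_mul_left _ h3)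
  have e6 : μ * (i * fi) ≤ μ * μ := Nat.mul_le_mul_left _ h5
  have e7 : μ * (i * fi) = μ * μ := le_antisymm e6 (by
    calc μ * μ = (b * c) * (fb * fc) := e1
      _ ≤ (s * i) * (j * fs) := e2
      _ = (s * fs) * (i * j) := e3
      _ ≤ μ * (i * j) := e4
      _ ≤ μ * (i * fi) := e5)
  have e8 : μ * (i * j) = μ * (i * fi) := le_antisymm e5 (by
    calc μ * (i * fi) ≤ μ * μ := e6
      _ = (b * c) * (fb * fc) := e1
      _ ≤ (s * i) * (j * fs) := e2
      _ = (s * fs) * (i * j) := e3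
      _ ≤ μ * (i * j) := e4)
  have e9 : i * fi = μ := Nat.eq_of_mul_eq_mul_left hμpos e7
  have e10 : j = fi := Nat.eq_of_mul_eq_mul_left hi (Nat.eq_of_mul_eq_mul_left hμpos e8)
  refine ⟨e9, ?_⟩
  exact (Subgroup.eq_of_le_of_card_ge (fix_sup_le V B C) (le_of_eq e10.symm)).symm

/-- the subgroup generated by the commutators `⁅u, a⁆`, `u ∈ T`, `a ∈ A` -/
def commSet (T : Set G) (A : Subgroup G) : Subgroup G :=
  closure {g | ∃ u ∈ T, ∃ a ∈ A, ⁅u, a⁆ = g}

theorem commSet_le {V A : Subgroup G} (hAV : A ≤ normalizer (V : Set G)) {T : Set G}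
    (hT : T ⊆ V) : commSet T A ≤ V := by
  unfold commSet
  rw [closure_le]
  rintro _ ⟨u, hu, a, ha, rfl⟩
  have huV : u ∈ V := hT hu
  have h1 : a * u⁻¹ * a⁻¹ ∈ V := by
    have := ((mem_set_normalizer_iff.mp (hAV ha)) u⁻¹).mp (V.inv_mem huV)
    exact this
  have : ⁅u, a⁆ = u * (a * u⁻¹ * a⁻¹) := by
    rw [commutatorElement_def]; group
  rw [SetLike.mem_coe, this]
  exact V.mul_mem huV h1

theorem commSet_union (S T : Set G) (A : Subgroup G) :
    commSet (S ∪ T) A = commSet S A ⊔ commSet T A := by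
  unfold commSet
  rw [← Subgroup.closure_union]
  congr 1
  ext g
  simp only [Set.mem_union, Set.mem_ofPred_eq]
  constructor
  · rintro ⟨u, hu | hu, a, ha, rfl⟩
    · exact Or.inl ⟨u, hu, a, ha, rfl⟩
    · exact Or.inr ⟨u, hu, a, ha, rfl⟩
  · rintro (⟨u, hu, a, ha, rfl⟩ | ⟨u, hu, a, ha, rfl⟩)
    · exact ⟨u, Or.inl hu, a, ha, rfl⟩
    · exact ⟨u, Or.inr hu, a, ha, rfl⟩

theorem commSet_empty (A : Subgroup G) : commSet (∅ : Set G) A = ⊥ := by
  unfold commSet
  rw [closure_eq_bot_iff]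
  rintro _ ⟨u, hu, _⟩
  exact absurd hu (Set.notMem_empty u)

theorem commSet_coe (U A : Subgroup G) : commSet (U : Set G) A = ⁅U, A⁆ := by
  unfold commSet
  rw [Subgroup.commutator_def]
  rfl

/-- The key computation: if `⁅u, g⁆` is centralized by `A`, then `g` centralizes every `⁅u, c⁆`. -/
theorem conj_comm_eq {V A : Subgroup G} (hV : IsMulCommutative V)
    (hAV : A ≤ normalizer (V : Set G)) (hab : ⁅A, A⁆ ≤ centralizer (V : Set G))
    {u g c : G} (hu : u ∈ V) (hg : g ∈ A) (hc : c ∈ A)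
    (hw : ⁅u, g⁆ ∈ centralizer (A : Set G)) : g * ⁅u, c⁆ * g⁻¹ = ⁅u, c⁆ := by
  have hcomm : ∀ x ∈ V, ∀ y ∈ V, x * y = y * x := fun x hx y hy =>
    congrArg Subtype.val (hV.is_comm.comm ⟨x, hx⟩ ⟨y, hy⟩)
  have hconj : ∀ x ∈ A, ∀ v ∈ V, x * v * x⁻¹ ∈ V := fun x hx v hv =>
    ((mem_set_normalizer_iff.mp (hAV hx)) v).mp hv
  set w := ⁅u, g⁆ with hwdef
  have hwV : w ∈ V := by
    have : w = u * (g * u⁻¹ * g⁻¹) := by rw [hwdef, commutatorElement_def]; group
    rw [this]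
    exact V.mul_mem hu (hconj g hg _ (V.inv_mem hu))
  -- `g u⁻¹ g⁻¹ = u⁻¹ w`
  have h1 : g * u⁻¹ * g⁻¹ = u⁻¹ * w := by rw [hwdef, commutatorElement_def]; group
  -- `g u g⁻¹ = w⁻¹ u`
  have h2 : g * u * g⁻¹ = w⁻¹ * u := by
    have : g * u * g⁻¹ = (g * u⁻¹ * g⁻¹)⁻¹ := by group
    rw [this, h1]; group
  -- `c w c⁻¹ = w`
  have h3 : c * w * c⁻¹ = w := by
    have := (mem_centralizer_iff.mp hw) c hc
    rw [this]; group
  -- `k = ⁅g, c⁆` centralizes `V`
  have hk : ⁅g, c⁆ ∈ centralizer (V : Set G) := hab (commutator_mem_commutator hg hc)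
  set k := ⁅g, c⁆ with hkdef
  have h4 : g * c = k * c * g := by rw [hkdef, commutatorElement_def]; group
  have hcu : c * u⁻¹ * c⁻¹ ∈ V := hconj c hc _ (V.inv_mem hu)
  have h5 : g * (c * u⁻¹ * c⁻¹) * g⁻¹ = (c * u⁻¹ * c⁻¹) * w := by
    have e1 : g * (c * u⁻¹ * c⁻¹) * g⁻¹ = k * (c * (g * u⁻¹ * g⁻¹) * c⁻¹) * k⁻¹ := by
      have : g * (c * u⁻¹ * c⁻¹) * g⁻¹ = (g * c) * u⁻¹ * (g * c)⁻¹ := by group
      rw [this, h4]; group
    rw [e1, h1]
    have e2 : c * (u⁻¹ * w) * c⁻¹ = (c * u⁻¹ * c⁻¹) * (c * w * c⁻¹) := by group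
    rw [e2, h3]
    have hmem : (c * u⁻¹ * c⁻¹) * w ∈ V := V.mul_mem hcu hwV
    have := (mem_centralizer_iff.mp hk) _ hmem
    rw [← this]; group
  have e3 : ⁅u, c⁆ = u * (c * u⁻¹ * c⁻¹) := by rw [commutatorElement_def]; group
  have e4 : g * ⁅u, c⁆ * g⁻¹ = (g * u * g⁻¹) * (g * (c * u⁻¹ * c⁻¹) * g⁻¹) := by
    rw [e3]; group
  rw [e4, h2, h5, e3]
  -- now a computation in the abelian group `V`
  have hwi : w⁻¹ ∈ V := V.inv_mem hwV
  calc w⁻¹ * u * (c * u⁻¹ * c⁻¹ * w) = w⁻¹ * (u * (c * u⁻¹ * c⁻¹) * w) := by group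
    _ = w⁻¹ * (w * (u * (c * u⁻¹ * c⁻¹))) := by
        rw [hcomm _ (V.mul_mem hu hcu) w hwV]
    _ = u * (c * u⁻¹ * c⁻¹) := by group

theorem comm_mul_right (u a g : G) : ⁅u, a⁆⁻¹ * ⁅u, a * g⁆ = a * ⁅u, g⁆ * a⁻¹ := by
  simp only [commutatorElement_def]; group

/-- Replacement for a single element `u ∈ V`. -/
theorem mm_single [Finite G] (V A : Subgroup G) [hV : IsMulCommutative V]
    (hAV : A ≤ normalizer (V : Set G)) (hab : ⁅A, A⁆ ≤ centralizer (V : Set G))
    (hmax : ∀ X : Subgroup G, X ≤ A → mm V X ≤ mm V A) {u : G} (hu : u ∈ V) :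
    mm V (A ⊓ centralizer (commSet {u} A : Set G)) = mm V A ∧
      fix V (A ⊓ centralizer (commSet {u} A : Set G)) = commSet {u} A ⊔ fix V A := by
  classical
  set Xu := commSet {u} A with hXu
  set Au := A ⊓ centralizer (Xu : Set G) with hAu
  have hXuV : Xu ≤ V := commSet_le hAV (by simpa using hu)
  have hmemX : ∀ a ∈ A, ⁅u, a⁆ ∈ Xu := fun a ha =>
    subset_closure ⟨u, rfl, a, ha, rfl⟩
  -- (b)
  have hle : Xu ⊔ fix V A ≤ fix V Au := by
    apply sup_le
    · apply le_inf hXuV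
      rw [le_centralizer_iff]
      exact inf_le_right
    · exact fix_anti V inf_le_left
  -- (a)
  have hinj : Au.relIndex A ≤ (fix V A).relIndex (Xu ⊔ fix V A) := by
    let φ : (↥A ⧸ Au.subgroupOf A) → (↥(Xu ⊔ fix V A) ⧸ (fix V A).subgroupOf (Xu ⊔ fix V A)) :=
      fun q => QuotientGroup.mk ⟨⁅u, ((Quotient.out q : ↥A) : G)⁆,
        (le_sup_left : Xu ≤ Xu ⊔ fix V A) (hmemX _ (Quotient.out q).2)⟩
    have hφ : Function.Injective φ := by
      intro q q' hqq
      have h1 := QuotientGroup.eq.mp hqq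
      set a : ↥A := Quotient.out q with ha
      set b : ↥A := Quotient.out q' with hb
      have h2 : (⁅u, (a : G)⁆)⁻¹ * ⁅u, (b : G)⁆ ∈ fix V A := h1
      have h3 : (⁅u, (a : G)⁆)⁻¹ * ⁅u, (b : G)⁆ ∈ centralizer (A : Set G) := h2.2
      set g : G := (a : G)⁻¹ * (b : G) with hg
      have hgA : g ∈ A := A.mul_mem (A.inv_mem a.2) b.2
      have hbg : (b : G) = (a : G) * g := by rw [hg]; group
      rw [hbg, comm_mul_right] at h3
      have h4 : ⁅u, g⁆ ∈ centralizer (A : Set G) := by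
        have e1 := (mem_centralizer_iff.mp h3) (a : G) a.2
        have e2 : ⁅u, g⁆ = (a : G) * ⁅u, g⁆ * (a : G)⁻¹ := by
          calc ⁅u, g⁆ = (a : G)⁻¹ * ((a : G) * ⁅u, g⁆ * (a : G)⁻¹ * (a : G)) := by group
            _ = (a : G)⁻¹ * ((a : G) * ((a : G) * ⁅u, g⁆ * (a : G)⁻¹)) := by rw [e1]
            _ = (a : G) * ⁅u, g⁆ * (a : G)⁻¹ := by group
        rw [e2]; exact h3
      have h5 : g ∈ centralizer (Xu : Set G) := by
        rw [hXu, commSet, centralizer_closure, mem_centralizer_iff]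
        rintro _ ⟨u', hu', c, hc, rfl⟩
        have hu'' : u' = u := hu'
        subst hu''
        have := conj_comm_eq hV hAV hab hu hgA hc h4
        calc ⁅u', c⁆ * g = (g * ⁅u', c⁆ * g⁻¹) * g := by rw [this]
          _ = g * ⁅u', c⁆ := by group
      have h6 : g ∈ Au := ⟨hgA, h5⟩
      have h7 : (QuotientGroup.mk a : ↥A ⧸ Au.subgroupOf A) = QuotientGroup.mk b := by
        rw [QuotientGroup.eq]
        exact h6
      have h8 : (QuotientGroup.mk a : ↥A ⧸ Au.subgroupOf A) = q := Quotient.out_eq' q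
      have h9 : (QuotientGroup.mk b : ↥A ⧸ Au.subgroupOf A) = q' := Quotient.out_eq' q'
      rw [← h8, ← h9, h7]
    exact Nat.card_le_card_of_injective φ hφ
  -- (c)
  have c1 : Nat.card Au * Au.relIndex A = Nat.card A := card_mul_relIndex_of_le inf_le_left
  have c2 : Nat.card (fix V A) * (fix V A).relIndex (Xu ⊔ fix V A) = Nat.card ↥(Xu ⊔ fix V A) :=
    card_mul_relIndex_of_le le_sup_right
  have c3 : Nat.card ↥(Xu ⊔ fix V A) ≤ Nat.card (fix V Au) := Subgroup.card_le_of_le hle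
  have c4 : mm V Au ≤ mm V A := hmax Au inf_le_left
  unfold mm at c4 ⊢
  set α := Nat.card A
  set αu := Nat.card Au
  set f := Nat.card (fix V A)
  set fu := Nat.card (fix V Au)
  set x := Nat.card ↥(Xu ⊔ fix V A)
  set r := Au.relIndex A
  set t := (fix V A).relIndex (Xu ⊔ fix V A)
  have hαu : 0 < αu := Nat.card_pos
  have d1 : α * f ≤ αu * x := by
    rw [← c1, ← c2]
    calc αu * r * f ≤ αu * t * f := by gcongr
      _ = αu * (f * t) := by ring
  have d2 : αu * x ≤ αu * fu := Nat.mul_le_mul_left _ c3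
  have d3 : αu * fu = α * f := le_antisymm c4 (d1.trans d2)
  have d4 : αu * x = αu * fu := le_antisymm d2 (by rw [d3]; exact d1)
  have d5 : x = fu := Nat.eq_of_mul_eq_mul_left hαu d4
  refine ⟨d3, ?_⟩
  exact (Subgroup.eq_of_le_of_card_ge hle (le_of_eq d5.symm)).symm

/-- Replacement for a set `T ⊆ V`. -/
theorem mm_set [Finite G] (V A : Subgroup G) [hV : IsMulCommutative V]
    (hAV : A ≤ normalizer (V : Set G)) (hab : ⁅A, A⁆ ≤ centralizer (V : Set G))
    (hmax : ∀ X : Subgroup G, X ≤ A → mm V X ≤ mm V A) (T : Set G) (hT : T ⊆ V) :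
    mm V (A ⊓ centralizer (commSet T A : Set G)) = mm V A ∧
      fix V (A ⊓ centralizer (commSet T A : Set G)) = commSet T A ⊔ fix V A := by
  have hfin : T.Finite := Set.toFinite T
  induction T, hfin using Set.Finite.induction_on with
  | empty =>
    rw [commSet_empty]
    have : centralizer (((⊥ : Subgroup G)) : Set G) = ⊤ := by
      rw [centralizer_eq_top_iff_subset]
      intro x hx
      have : x = 1 := hx
      rw [this]
      exact (center G).one_mem
    rw [this, inf_top_eq, bot_sup_eq]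
    exact ⟨rfl, rfl⟩
  | @insert a T ha hfin ih =>
    have hTV : T ⊆ V := fun x hx => hT (Set.mem_insert_of_mem a hx)
    have haV : a ∈ V := hT (Set.mem_insert a T)
    obtain ⟨ih1, ih2⟩ := ih hTV
    obtain ⟨s1, s2⟩ := mm_single V A hAV hab hmax haV
    have e1 : commSet (insert a T) A = commSet {a} A ⊔ commSet T A := by
      rw [← commSet_union]; rfl
    have e2 : A ⊓ centralizer ((commSet (insert a T) A : Subgroup G) : Set G) =
        (A ⊓ centralizer (commSet {a} A : Set G)) ⊓ (A ⊓ centralizer (commSet T A : Set G)) := by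
      rw [e1, centralizer_sup, inf_inf_distrib_left]
    obtain ⟨r1, r2⟩ := mm_inf_of_max V A hmax (inf_le_left : A ⊓ centralizer (commSet {a} A : Set G) ≤ A)
      (inf_le_left : A ⊓ centralizer (commSet T A : Set G) ≤ A) s1 ih1
    rw [e2]
    refine ⟨r1, ?_⟩
    rw [r2, s2, ih2, e1, sup_sup_sup_comm, sup_idem]

/-- The replacement theorem: if `A` maximizes `|X| |C_V(X)|` among its subgroups then so does
`C_A([U, A])`, whose fixed points are `[U, A] C_V(A)`. -/
theorem replacement [Finite G] (V A : Subgroup G) [hV : IsMulCommutative V]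
    (hAV : A ≤ normalizer (V : Set G)) (hab : ⁅A, A⁆ ≤ centralizer (V : Set G))
    (hmax : ∀ X : Subgroup G, X ≤ A → mm V X ≤ mm V A) (U : Subgroup G) (hU : U ≤ V) :
    mm V (A ⊓ centralizer ((⁅U, A⁆ : Subgroup G) : Set G)) = mm V A ∧
      fix V (A ⊓ centralizer ((⁅U, A⁆ : Subgroup G) : Set G)) = ⁅U, A⁆ ⊔ fix V A := by
  have := mm_set V A hAV hab hmax (U : Set G) hU
  rwa [commSet_coe] at this

end Cfsg.H5
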