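import Mathlib
import Cfsg.Agent.Lib.Helper20.Ord64A

/-!
# S1237 FO-Q1 (architect helper16): with a fixed-point-free automorphism of order 3,
every element commutes with all its conjugates.
-/

set_option autoImplicit false

namespace Cfsg.H5.S1237FOQ1

open Subgroup Cfsg.Agent.Lib.Helper20.Ord64

universe u

variable {T : Type u} [Group T] [Finite T] {ρ : MulAut T}

/-- `x` commutes with every conjugate of `ρ x`. -/
theorem comm_conj_rho (h : Fpf3 ρ) (x g : T) : x * (g * ρ x * g⁻¹) = g * ρ x * g⁻¹ * x := by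
  obtain ⟨w, hw⟩ := (Finite.injective_iff_surjective.mp h.inj_twist) g
  have hw' : w⁻¹ * ρ w = g := hw
  have h1 := h.comm1 (w * x * w⁻¹)
  have e : g * ρ x * g⁻¹ = w⁻¹ * ρ (w * x * w⁻¹) * w := by
    rw [← hw']
    simp only [map_mul, map_inv]
    group
  rw [e]
  have e2 : x = w⁻¹ * (w * x * w⁻¹) * w := by group
  calc x * (w⁻¹ * ρ (w * x * w⁻¹) * w)
      = w⁻¹ * ((w * x * w⁻¹) * ρ (w * x * w⁻¹)) * w := by group
    _ = w⁻¹ * (ρ (w * x * w⁻¹) * (w * x * w⁻¹)) * w := by rw [h1]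
    _ = w⁻¹ * ρ (w * x * w⁻¹) * w * x := by group

/-- `x` commutes with every conjugate of `ρ (ρ x)`. -/
theorem comm_conj_rho_rho (h : Fpf3 ρ) (x g : T) :
    x * (g * ρ (ρ x) * g⁻¹) = g * ρ (ρ x) * g⁻¹ * x := by
  have h1 := comm_conj_rho h (ρ (ρ x)) g⁻¹
  rw [h.cube, inv_inv] at h1
  -- h1 : ρ (ρ x) * (g⁻¹ * x * g) = g⁻¹ * x * g * ρ (ρ x)
  calc x * (g * ρ (ρ x) * g⁻¹)
      = g * ((g⁻¹ * x * g) * ρ (ρ x)) * g⁻¹ := by group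
    _ = g * (ρ (ρ x) * (g⁻¹ * x * g)) * g⁻¹ := by rw [h1]
    _ = g * ρ (ρ x) * g⁻¹ * x := by group

/-- **FO-Q1**, exact skeleton signature. -/
theorem comm_conj (h : Fpf3 ρ) (x g : T) : x * (g * x * g⁻¹) = g * x * g⁻¹ * x := by
  have h1 := comm_conj_rho h x g
  have h2 := comm_conj_rho_rho h x g
  have h3 := h.tri x
  -- x⁻¹ = ρ x * ρ (ρ x)
  have h4 : x⁻¹ = ρ x * ρ (ρ x) := by
    rw [inv_eq_iff_mul_eq_one, ← mul_assoc]; exact h3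
  have h5 : g * x⁻¹ * g⁻¹ = (g * ρ x * g⁻¹) * (g * ρ (ρ x) * g⁻¹) := by
    rw [h4]; group
  have h6 : x * (g * x⁻¹ * g⁻¹) = g * x⁻¹ * g⁻¹ * x := by
    rw [h5, ← mul_assoc, h1, mul_assoc, h2, ← mul_assoc]
  -- pass to inverses
  have h7 : g * x * g⁻¹ = (g * x⁻¹ * g⁻¹)⁻¹ := by group
  rw [h7]
  calc x * (g * x⁻¹ * g⁻¹)⁻¹
      = (g * x⁻¹ * g⁻¹)⁻¹ * ((g * x⁻¹ * g⁻¹) * x) * (g * x⁻¹ * g⁻¹)⁻¹ := by group
    _ = (g * x⁻¹ * g⁻¹)⁻¹ * (x * (g * x⁻¹ * g⁻¹)) * (g * x⁻¹ * g⁻¹)⁻¹ := by rw [h6]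
    _ = (g * x⁻¹ * g⁻¹)⁻¹ * x := by group

end Cfsg.H5.S1237FOQ1
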