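import Mathlib
import Cfsg.Agent.Lib.Helper20.Ord64A
import Cfsg.Agent.H5.S1237FOQ1

/-!
# S1237 FO-Q2 (architect helper16): a finite 2-group with a fixed-point-free automorphism of
order 3 has class at most 2.
-/

set_option autoImplicit false

namespace Cfsg.H5.S1237FOQ2

open Subgroup Cfsg.Agent.Lib.Helper20.Ord64

universe u

section Engel

open scoped commutatorElement

variable {T : Type u} [Group T]

/-- pure group theory: a 2-Engel group whose triple commutators are central involutions has
trivial triple commutators. -/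
theorem cm_cm_eq_one
    (hE : ∀ x g : T, x * (g * x * g⁻¹) = g * x * g⁻¹ * x)
    (hc : ∀ a b c g : T, cm (cm a b) c * g = g * cm (cm a b) c)
    (hs : ∀ a b c : T, cm (cm a b) c * cm (cm a b) c = 1) :
    ∀ a b c : T, cm (cm a b) c = 1 := by
  -- inverse of an involution
  have hinv : ∀ a b c : T, (cm (cm a b) c)⁻¹ = cm (cm a b) c := fun a b c =>
    inv_eq_of_mul_eq_one_left (hs a b c)
  -- linear in the third variable
  have L3 : ∀ a b c d : T, cm (cm a b) (c * d) = cm (cm a b) c * cm (cm a b) d := by
    intro a b c d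
    have e : cm (cm a b) (c * d) = cm (cm a b) c * (c * cm (cm a b) d * c⁻¹) := by
      unfold cm; group
    rw [e, ← hc a b d c, mul_inv_cancel_right]
  have L3one : ∀ a b : T, cm (cm a b) 1 = 1 := fun a b => cm_one_right _
  -- Engel consequences
  have E1 : ∀ a b : T, cm (cm a b) b = 1 := by
    intro a b
    rw [cm_eq_one_iff]
    have h1 := hE b a
    -- cm a b = (a b a⁻¹) b⁻¹
    have e : cm a b = (a * b * a⁻¹) * b⁻¹ := by unfold cm; group
    rw [e]
    calc a * b * a⁻¹ * b⁻¹ * b = a * b * a⁻¹ := by group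
      _ = b⁻¹ * (b * (a * b * a⁻¹)) := by group
      _ = b⁻¹ * (a * b * a⁻¹ * b) := by rw [h1]
      _ = b * (a * b * a⁻¹ * b⁻¹) := by
          have h2 : b * (a * b * a⁻¹) = a * b * a⁻¹ * b := h1
          have h3 : b⁻¹ * (a * b * a⁻¹) = a * b * a⁻¹ * b⁻¹ := by
            calc b⁻¹ * (a * b * a⁻¹) = b⁻¹ * (a * b * a⁻¹ * b) * b⁻¹ := by group
              _ = b⁻¹ * (b * (a * b * a⁻¹)) * b⁻¹ := by rw [h2]
              _ = a * b * a⁻¹ * b⁻¹ := by group
          calc b⁻¹ * (a * b * a⁻¹ * b) = (b⁻¹ * (a * b * a⁻¹)) * b := by group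
            _ = (a * b * a⁻¹ * b⁻¹) * b := by rw [h3]
            _ = b * (b⁻¹ * (a * b * a⁻¹)) := by group
            _ = b * (a * b * a⁻¹ * b⁻¹) := by rw [h3]
  have E1inv : ∀ a b : T, cm (cm a b) b⁻¹ = 1 := by
    intro a b
    have h1 := L3 a b b b⁻¹
    rw [mul_inv_cancel, L3one, E1, one_mul] at h1
    exact h1.symm
  -- symmetric in the first two variables
  have S12 : ∀ a b c : T, cm (cm b a) c = cm (cm a b) c := by
    intro a b c
    have e1 : cm b a = (cm a b)⁻¹ := (cm_inv a b).symm
    have e2 : cm ((cm a b)⁻¹) c = (cm a b)⁻¹ * (cm (cm a b) c)⁻¹ * cm a b := by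
      unfold cm; group
    rw [e1, e2, hinv, mul_assoc, hc a b c (cm a b), ← mul_assoc, inv_mul_cancel, one_mul]
  -- linear in the second variable
  have L2 : ∀ a b c d : T, cm (cm a (b * c)) d = cm (cm a b) d * cm (cm a c) d := by
    intro a b c d
    -- cm a (b c) = cm a b * (b * cm a c * b⁻¹)
    have e1 : cm a (b * c) = cm a b * (b * cm a c * b⁻¹) := by unfold cm; group
    -- b v b⁻¹ = (cm v b)⁻¹ * v
    have e2 : b * cm a c * b⁻¹ = (cm (cm a c) b)⁻¹ * cm a c := by unfold cm; group
    rw [e1, e2, hinv]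
    -- move the central element out
    have e3 : cm a b * (cm (cm a c) b * cm a c) = cm (cm a c) b * (cm a b * cm a c) := by
      rw [← mul_assoc, ← hc a c b (cm a b), mul_assoc]
    rw [e3]
    set n := cm (cm a c) b with hn
    set uu := cm a b with huu
    set vv := cm a c with hvv
    have hnc : ∀ g : T, n * g = g * n := fun g => hc a c b g
    have e4 : cm (n * (uu * vv)) d = cm (uu * vv) d := by
      have hninv : ∀ g : T, n⁻¹ * g = g * n⁻¹ := by
        intro g
        have := hnc g
        calc n⁻¹ * g = n⁻¹ * (g * n) * n⁻¹ := by group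
          _ = n⁻¹ * (n * g) * n⁻¹ := by rw [this]
          _ = g * n⁻¹ := by group
      unfold cm
      calc n * (uu * vv) * d * (n * (uu * vv))⁻¹ * d⁻¹
          = n * ((uu * vv) * d * (uu * vv)⁻¹) * n⁻¹ * d⁻¹ := by group
        _ = ((uu * vv) * d * (uu * vv)⁻¹) * n * n⁻¹ * d⁻¹ := by rw [hnc]
        _ = uu * vv * d * (uu * vv)⁻¹ * d⁻¹ := by group
    rw [e4]
    have e5 : cm (uu * vv) d = uu * cm vv d * uu⁻¹ * cm uu d := by unfold cm; group
    rw [e5, huu, hvv, ← hc a c d (cm a b), mul_inv_cancel_right, hc a c d]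
  -- symmetric in the last two variables
  have S23 : ∀ a b c : T, cm (cm a c) b = cm (cm a b) c := by
    intro a b c
    have h1 : cm (cm a (b * c)) (b * c) = 1 := E1 a (b * c)
    rw [L2, L3, L3, E1, E1, one_mul, mul_one] at h1
    -- h1 : f a b c * f a c b = 1
    have h2 : cm (cm a c) b = (cm (cm a b) c)⁻¹ := by
      rw [eq_inv_iff_mul_eq_one, hc a c b, h1]
    rw [h2, hinv]
  -- Hall–Witt
  intro a b c
  have HW := commutatorElement_commutatorElement_conj_mul a b c
  have d1 : ∀ x y : T, ⁅x, y⁆ = cm x y := fun x y => rfl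
  simp only [d1] at HW
  have k1 : ∀ a b c : T, cm (cm a b) (b * c * b⁻¹) = cm (cm a b) c := by
    intro a b c
    rw [L3, L3, E1, E1inv, one_mul, mul_one]
  rw [k1, k1, k1] at HW
  -- HW : f a b c * f b c a * f c a b = 1
  have s1 : cm (cm b c) a = cm (cm a b) c := by rw [S23 b a c, S12 a b c]
  have s2 : cm (cm c a) b = cm (cm a b) c := by rw [S12 a c b, S23 a b c]
  rw [s1, s2, hs, one_mul] at HW
  exact HW

end Engel

/-- the induction -/
theorem class_two_aux : ∀ n : ℕ, ∀ (T : Type u) [Group T] [Finite T] (ρ : MulAut T),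
    Nat.card T = n → IsPGroup 2 T → Fpf3 ρ → ∀ a b : T, cm a b ∈ center T := by
  intro n
  induction n using Nat.strong_induction_on with
  | _ n ih =>
    intro T _ _ ρ hn hT h a b
    haveI : Fact (Nat.Prime 2) := ⟨Nat.prime_two⟩
    by_cases hsub : Subsingleton T
    · have : cm a b = 1 := Subsingleton.elim _ _
      rw [this]; exact one_mem _
    rw [not_subsingleton_iff_nontrivial] at hsub
    -- an involution in the centre
    haveI := hT.center_nontrivial
    have hZ : IsPGroup 2 (center T) := hT.to_subgroup _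
    have h2 : 2 ∣ Nat.card (center T) := by
      obtain ⟨k, hk⟩ := IsPGroup.iff_card.mp hZ
      have hk1 : 1 < Nat.card (center T) := Finite.one_lt_card
      rw [hk] at hk1 ⊢
      have : k ≠ 0 := by
        rintro rfl
        simp at hk1
      exact dvd_pow_self 2 this
    obtain ⟨z, hz⟩ := exists_prime_orderOf_dvd_card' 2 h2
    have hz1 : (z : T) ≠ 1 := by
      intro h1
      have : z = 1 := Subtype.ext h1
      rw [this, orderOf_one] at hz
      omega
    have hz2 : (z : T) * (z : T) = 1 := by
      have := pow_orderOf_eq_one z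
      rw [hz, pow_two] at this
      exact congrArg Subtype.val this
    -- the subgroup N = Ω₁(Z(T))
    let N : Subgroup T :=
      { carrier := {x | x ∈ center T ∧ x * x = 1}
        mul_mem' := by
          rintro x y ⟨hx, hx2⟩ ⟨hy, hy2⟩
          refine ⟨mul_mem hx hy, ?_⟩
          have hc : y * x = x * y := (mem_center_iff.mp hx) y
          calc x * y * (x * y) = x * (y * x) * y := by group
            _ = x * (x * y) * y := by rw [hc]
            _ = (x * x) * (y * y) := by group
            _ = 1 := by rw [hx2, hy2, one_mul]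
        one_mem' := ⟨one_mem _, by rw [one_mul]⟩
        inv_mem' := by
          rintro x ⟨hx, hx2⟩
          refine ⟨inv_mem hx, ?_⟩
          have : x⁻¹ = x := inv_eq_of_mul_eq_one_left hx2
          rw [this, hx2] }
    have hNmem : ∀ x : T, x ∈ N ↔ x ∈ center T ∧ x * x = 1 := fun x => Iff.rfl
    have hzN : (z : T) ∈ N := ⟨z.2, hz2⟩
    haveI hNn : N.Normal := by
      refine ⟨fun x hx g => ?_⟩
      have hxc : x ∈ center T := hx.1
      have : g * x * g⁻¹ = x := by
        rw [(mem_center_iff.mp hxc) g, mul_inv_cancel_right]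
      rw [this]; exact hx
    have hNinv : ∀ x ∈ N, ρ x ∈ N := by
      rintro x ⟨hx, hx2⟩
      refine ⟨Fpf3.center_inv ρ x hx, ?_⟩
      rw [← map_mul, hx2, map_one]
    -- N.map ρ = N
    have hmap : N.map (ρ : T ≃* T) = N := by
      apply le_antisymm
      · rintro y ⟨x, hx, rfl⟩
        exact hNinv x hx
      · intro y hy
        refine ⟨ρ (ρ y), hNinv _ (hNinv _ hy), ?_⟩
        exact h.cube y
    let ρq : MulAut (T ⧸ N) := QuotientGroup.congr N N ρ hmap
    have hρq : ∀ t : T, ρq (QuotientGroup.mk t) = QuotientGroup.mk (ρ t) := fun t => rfl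
    have hq : Fpf3 ρq := by
      refine ⟨?_, ?_⟩
      · intro y
        induction y using QuotientGroup.induction_on with
        | H t => rw [hρq, hρq, hρq, h.cube]
      · intro y
        induction y using QuotientGroup.induction_on with
        | H t =>
          intro hfix
          rw [hρq] at hfix
          have h1 : ρ t * t⁻¹ ∈ N := by
            rw [← QuotientGroup.eq_one_iff, QuotientGroup.mk_mul, QuotientGroup.mk_inv, hfix,
              mul_inv_cancel]
          have h2 := h.mem_of_twist_mem N hNinv t h1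
          exact (QuotientGroup.eq_one_iff t).mpr h2
    -- the quotient is smaller
    have hcard : Nat.card (T ⧸ N) < n := by
      have h1 := Subgroup.card_eq_card_quotient_mul_card_subgroup N
      have h3 : 2 ≤ Nat.card N := by
        have : Nontrivial N := ⟨⟨⟨z, hzN⟩, 1, fun hh => hz1 (congrArg Subtype.val hh)⟩⟩
        exact Finite.one_lt_card
      have h4 : 0 < Nat.card (T ⧸ N) := Nat.card_pos
      rw [hn] at h1
      nlinarith
    have hIH := ih _ hcard (T ⧸ N) ρq rfl (hT.to_quotient N) hq
    -- triple commutators lie in N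
    have hmk : ∀ u v : T, (QuotientGroup.mk (cm u v) : T ⧸ N) =
        cm (QuotientGroup.mk u) (QuotientGroup.mk v) := by
      intro u v
      unfold cm
      simp
    have hN3 : ∀ a b c : T, cm (cm a b) c ∈ N := by
      intro a b c
      rw [← QuotientGroup.eq_one_iff, hmk, hmk, cm_eq_one_iff]
      exact ((mem_center_iff.mp (hIH (QuotientGroup.mk a) (QuotientGroup.mk b)))
        (QuotientGroup.mk c)).symm
    have key := cm_cm_eq_one (fun x g => Cfsg.H5.S1237FOQ1.comm_conj h x g)
      (fun a b c g => ((mem_center_iff.mp (hN3 a b c).1) g).symm)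
      (fun a b c => (hN3 a b c).2)
    rw [mem_center_iff]
    intro g
    have := key a b g
    rw [cm_eq_one_iff] at this
    exact this.symm

/-- **FO-Q2**, exact skeleton signature. -/
theorem class_two {T : Type u} [Group T] [Finite T] {ρ : MulAut T}
    (hT : IsPGroup 2 T) (h : Fpf3 ρ) : ∀ a b : T, cm a b ∈ center T :=
  class_two_aux (Nat.card T) T ρ rfl hT h

end Cfsg.H5.S1237FOQ2
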