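import Mathlib
import Cfsg.Agent.Lib.Helper20.Ord64A

/-!
# S1237 FO-Q4c (architect helper16): power formulas in groups of class 2.
-/

set_option autoImplicit false

namespace Cfsg.H5.S1237FOQ4c

open Subgroup Cfsg.Agent.Lib.Helper20.Ord64

universe u

variable {T : Type u} [Group T]

theorem cm_central (hcl : ∀ a b : T, cm a b ∈ center T) (a b g : T) : cm a b * g = g * cm a b :=
  ((mem_center_iff.mp (hcl a b)) g).symm

theorem cm_mul_left' (hcl : ∀ a b : T, cm a b ∈ center T) (u u' v : T) :
    cm (u * u') v = cm u v * cm u' v := by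
  have e : cm (u * u') v = u * cm u' v * u⁻¹ * cm u v := by unfold cm; group
  rw [e, ← cm_central hcl u' v u, mul_inv_cancel_right, cm_central hcl u' v]

theorem cm_mul_right' (hcl : ∀ a b : T, cm a b ∈ center T) (u v v' : T) :
    cm u (v * v') = cm u v * cm u v' := by
  have e : cm u (v * v') = cm u v * (v * cm u v' * v⁻¹) := by unfold cm; group
  rw [e, ← cm_central hcl u v' v, mul_inv_cancel_right]

theorem pow_mul_comm_class_two (hcl : ∀ a b : T, cm a b ∈ center T) (y g : T) (n : ℕ) :
    g ^ n * y = (cm g y) ^ n * (y * g ^ n) := by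
  induction n with
  | zero => simp
  | succ n ih =>
    have hκ : ∀ t : T, cm g y * t = t * cm g y := cm_central hcl g y
    calc g ^ (n + 1) * y = g ^ n * (g * y) := by rw [pow_succ]; group
      _ = g ^ n * (cm g y * (y * g)) := by rw [← mul_eq_cm_mul]
      _ = cm g y * (g ^ n * y) * g := by
          rw [← mul_assoc (g ^ n), ← hκ (g ^ n)]; group
      _ = cm g y * ((cm g y) ^ n * (y * g ^ n)) * g := by rw [ih]
      _ = (cm g y) ^ (n + 1) * (y * g ^ (n + 1)) := by
          rw [pow_succ' (cm g y) n, pow_succ g n]; group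

/-- **FO-Q4c**, exact skeleton signature (no finiteness needed). -/
theorem mul_pow_class_two (hcl : ∀ a b : T, cm a b ∈ center T) (y g : T) (n : ℕ) :
    (y * g) ^ n = y ^ n * g ^ n * (cm g y) ^ (n * (n - 1) / 2) := by
  induction n with
  | zero => simp
  | succ n ih =>
    have hκ : ∀ t : T, cm g y * t = t * cm g y := cm_central hcl g y
    have hκn : ∀ (k : ℕ) (t : T), (cm g y) ^ k * t = t * (cm g y) ^ k := by
      intro k t
      induction k with
      | zero => simp
      | succ k ihk =>
        rw [pow_succ, mul_assoc, hκ, ← mul_assoc, ihk, mul_assoc]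
    have hnum : (n + 1) * (n + 1 - 1) / 2 = n + n * (n - 1) / 2 := by
      have h2 : 2 ∣ n * (n - 1) := by
        rcases Nat.even_or_odd n with he | ho
        · exact Dvd.dvd.mul_right he.two_dvd _
        · rcases n with _ | m
          · simp
          · have : Even (m + 1 - 1) := by
              rw [Nat.add_sub_cancel]
              rcases ho with ⟨k, hk⟩
              exact ⟨k, by omega⟩
            exact Dvd.dvd.mul_left this.two_dvd _
      obtain ⟨q, hq⟩ := h2
      have h3 : (n + 1) * (n + 1 - 1) = 2 * (n + q) := by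
        rw [Nat.add_sub_cancel]
        have : (n + 1) * n = 2 * n + n * (n - 1) := by
          rcases n with _ | m
          · simp
          · rw [Nat.add_sub_cancel]; ring
        rw [this, hq]; ring
      rw [h3, hq, Nat.mul_div_cancel_left _ (by norm_num : 0 < 2),
        Nat.mul_div_cancel_left _ (by norm_num : 0 < 2)]
    rw [hnum]
    calc (y * g) ^ (n + 1) = (y * g) ^ n * (y * g) := pow_succ _ _
      _ = y ^ n * g ^ n * (cm g y) ^ (n * (n - 1) / 2) * (y * g) := by rw [ih]
      _ = y ^ n * (g ^ n * y) * g * (cm g y) ^ (n * (n - 1) / 2) := by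
          rw [mul_assoc (y ^ n * g ^ n), hκn]; group
      _ = y ^ n * ((cm g y) ^ n * (y * g ^ n)) * g * (cm g y) ^ (n * (n - 1) / 2) := by
          rw [pow_mul_comm_class_two hcl y g n]
      _ = y ^ n * ((y * g ^ n) * (cm g y) ^ n) * g * (cm g y) ^ (n * (n - 1) / 2) := by
          rw [hκn n (y * g ^ n)]
      _ = y ^ n * y * g ^ n * ((cm g y) ^ n * g) * (cm g y) ^ (n * (n - 1) / 2) := by group
      _ = y ^ n * y * g ^ n * (g * (cm g y) ^ n) * (cm g y) ^ (n * (n - 1) / 2) := by
          rw [hκn n g]
      _ = y ^ (n + 1) * g ^ (n + 1) * (cm g y) ^ (n + n * (n - 1) / 2) := by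
          rw [pow_succ y n, pow_succ g n, pow_add]; group

/-- **FO-Q4c'**, exact skeleton signature (no finiteness needed). -/
theorem cm_pow_left (hcl : ∀ a b : T, cm a b ∈ center T) (a b : T) (n : ℕ) :
    cm (a ^ n) b = (cm a b) ^ n ∧ cm a (b ^ n) = (cm a b) ^ n := by
  induction n with
  | zero => simp [cm_one_left, cm_one_right]
  | succ n ih =>
    refine ⟨?_, ?_⟩
    · rw [pow_succ, cm_mul_left' hcl, ih.1, pow_succ]
    · rw [pow_succ, cm_mul_right' hcl, ih.2, pow_succ]

end Cfsg.H5.S1237FOQ4c
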