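import Mathlib
import Cfsg.Agent.Lib.Helper20.Ord64A
import Cfsg.Agent.H5.S1237FOQ4c

/-!
# S1237 FO-Q3 (architect helper16): semilinearity of the commutator pairing.
-/

set_option autoImplicit false

namespace Cfsg.H5.S1237FOQ3

open Subgroup Cfsg.Agent.Lib.Helper20.Ord64 Cfsg.H5.S1237FOQ4c

universe u

variable {T : Type u} [Group T] [Finite T] {ρ : MulAut T}

/-- `cm a (ρ b) = cm (ρ a) b`. -/
theorem cm_rho_swap (h : Fpf3 ρ) (hcl : ∀ a b : T, cm a b ∈ center T) (a b : T) :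
    cm a (ρ b) = cm (ρ a) b := by
  have h1 : cm (a * b) (ρ (a * b)) = 1 := by
    rw [cm_eq_one_iff]; exact h.comm1 (a * b)
  have ha : cm a (ρ a) = 1 := by rw [cm_eq_one_iff]; exact h.comm1 a
  have hb : cm b (ρ b) = 1 := by rw [cm_eq_one_iff]; exact h.comm1 b
  rw [map_mul, cm_mul_left' hcl, cm_mul_right' hcl, cm_mul_right' hcl, ha, hb, one_mul,
    mul_one] at h1
  -- h1 : cm a (ρ b) * cm b (ρ a) = 1
  rw [← cm_inv b (ρ a)]
  exact eq_inv_of_mul_eq_one_left h1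

/-- **FO-Q3**, exact skeleton signature. -/
theorem cm_rho (h : Fpf3 ρ) (hcl : ∀ a b : T, cm a b ∈ center T) (a b : T) :
    cm (ρ a) b = ρ (ρ (cm a b)) ∧ cm a (ρ b) = ρ (ρ (cm a b)) := by
  have key : cm a (ρ b) = ρ (ρ (cm a b)) := by
    set κ := cm a b with hκ
    -- ρ κ = cm a (ρ ρ b)
    have h1 : ρ κ = cm a (ρ (ρ b)) := by
      rw [hκ, cm_map, ← cm_rho_swap h hcl a (ρ b)]
    -- ρ ρ b = (b * ρ b)⁻¹
    have h2 : ρ (ρ b) = (b * ρ b)⁻¹ := by
      rw [eq_inv_iff_mul_eq_one]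
      have := h.tri' b
      rw [mul_assoc, ← h.comm1 b] at this
      exact this
    -- cm a (v⁻¹) = (cm a v)⁻¹
    have h3 : ∀ v : T, cm a v⁻¹ = (cm a v)⁻¹ := by
      intro v
      have := cm_mul_right' hcl a v v⁻¹
      rw [mul_inv_cancel, cm_one_right] at this
      exact eq_inv_of_mul_eq_one_right this.symm
    rw [h2, h3, cm_mul_right' hcl, ← hκ] at h1
    -- h1 : ρ κ = (κ * cm a (ρ b))⁻¹
    have h4 : κ * cm a (ρ b) = (ρ κ)⁻¹ := by rw [h1, inv_inv]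
    have h5 : cm a (ρ b) = κ⁻¹ * (ρ κ)⁻¹ := by rw [← h4]; group
    -- tri for κ
    have h6 : ρ (ρ κ) = (κ * ρ κ)⁻¹ := by
      rw [eq_inv_iff_mul_eq_one]
      have := h.tri' κ
      rw [mul_assoc, ← h.comm1 κ] at this
      exact this
    rw [h5, h6, h.comm1 κ, mul_inv_rev]
  exact ⟨by rw [← cm_rho_swap h hcl a b]; exact key, key⟩

end Cfsg.H5.S1237FOQ3
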