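import Mathlib
import Cfsg.Agent.Lib.Helper16.S1237Defs
import Cfsg.Agent.Lib.Helper20.Ord64A
import Cfsg.Agent.H5.S1237FOQ3
import Cfsg.Agent.H5.S1237FOQ4c

/-!
# S1237 FO-Q5 (architect helper16): `Z = V` forces `|T| = 64`.
-/

set_option autoImplicit false

namespace Cfsg.H5.S1237FOQ5

open Subgroup Cfsg.Agent.Lib.Helper16.S1237 Cfsg.Agent.Lib.Helper20.Ord64
open Cfsg.H5.S1237FOQ4c Cfsg.H5.S1237FOQ3

universe u

variable {T : Type u} [Group T] [Finite T] {ρ : MulAut T}

/-- the centre of order 4 is `{1, z, ρ z, ρ² z}` -/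
theorem center_cases' (h : Fpf3 ρ) (hZ : Nat.card (center T) = 4) (z : T) (hz : z ∈ center T)
    (hz1 : z ≠ 1) (w : T) (hw : w ∈ center T) : w = 1 ∨ w = z ∨ w = ρ z ∨ w = ρ (ρ z) := by
  by_contra hcon
  push Not at hcon
  obtain ⟨hw1, hwz, hwr, hwrr⟩ := hcon
  have hrz : ρ z ∈ center T := Fpf3.center_inv ρ _ hz
  have hrrz : ρ (ρ z) ∈ center T := Fpf3.center_inv ρ _ hrz
  have hr1 : ρ z ≠ 1 := h.ne_one hz1
  have hrr1 : ρ (ρ z) ≠ 1 := h.ne_one hr1
  have hzr : z ≠ ρ z := fun h' => hz1 (h.fpf z h'.symm)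
  have hrrr : ρ z ≠ ρ (ρ z) := fun h' => hzr (ρ.injective h')
  have hzrr : z ≠ ρ (ρ z) := by
    intro h'
    apply hzr
    have := congrArg ρ h'
    rw [h.cube] at this
    exact this.symm
  let f : Fin 5 → center T := ![⟨1, one_mem _⟩, ⟨z, hz⟩, ⟨ρ z, hrz⟩, ⟨ρ (ρ z), hrrz⟩, ⟨w, hw⟩]
  have hf : Function.Injective f := by
    intro i j hij
    have hij' : (f i).1 = (f j).1 := congrArg Subtype.val hij
    fin_cases i <;> fin_cases j <;> simp [f] at hij' ⊢ <;> first
      | exact absurd hij' hz1 | exact absurd hij'.symm hz1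
      | exact absurd hij' hr1 | exact absurd hij'.symm hr1
      | exact absurd hij' hrr1 | exact absurd hij'.symm hrr1
      | exact absurd hij' hw1 | exact absurd hij'.symm hw1
      | exact absurd hij' hzr | exact absurd hij'.symm hzr
      | exact absurd hij' hzrr | exact absurd hij'.symm hzrr
      | exact absurd hij' hrrr | exact absurd hij'.symm hrrr
      | exact absurd hij' hwz | exact absurd hij'.symm hwz
      | exact absurd hij' hwr | exact absurd hij'.symm hwr
      | exact absurd hij' hwrr | exact absurd hij'.symm hwrr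
  have := Nat.card_le_card_of_injective f hf
  rw [hZ, Nat.card_eq_fintype_card, Fintype.card_fin] at this
  omega

/-- central elements square to one -/
theorem center_sq' (H : Hyp ρ) (hZ : Nat.card (center T) = 4) (z : T) (hz : z ∈ center T) :
    z * z = 1 := by
  let f : {x : T // x * x = 1} → center T := fun x => ⟨x.1, H.central x.1 x.2⟩
  have hf : Function.Injective f := by
    intro a b hab
    exact Subtype.ext (congrArg (fun t : center T => (t : T)) hab)
  have hbij : Function.Bijective f := by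
    rw [Nat.bijective_iff_injective_and_card]
    exact ⟨hf, by rw [H.card_inv, hZ]⟩
  obtain ⟨v, hv⟩ := hbij.2 ⟨z, hz⟩
  have : v.1 = z := congrArg (fun t : center T => (t : T)) hv
  rw [← this]; exact v.2

/-- **FO-Q5**, exact skeleton signature. -/
theorem card_eq_64 (H : Hyp ρ) (h : Fpf3 ρ) (hcl : ∀ a b : T, cm a b ∈ center T)
    (hnc : ¬ ∀ a b : T, a * b = b * a) (hZ : Nat.card (center T) = 4) : Nat.card T = 64 := by
  have hsqc : ∀ a b : T, cm a b * cm a b = 1 := fun a b => center_sq' H hZ _ (hcl a b)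
  push Not at hnc
  obtain ⟨x, y, hxy⟩ := hnc
  have hcxy : cm x y ≠ 1 := by
    intro h1; rw [cm_eq_one_iff] at h1; exact hxy h1
  have hxc : x ∉ center T := by
    intro hc
    exact hxy ((mem_center_iff.mp hc y).symm)
  have he1 : x * x ≠ 1 := fun h1 => hxc (H.central x h1)
  -- squares are central
  have hsq : ∀ t : T, t * t ∈ center T := by
    intro t
    rw [mem_center_iff]
    intro s
    have h1 : cm (t * t) s = 1 := by rw [cm_mul_left' hcl, hsqc]
    rw [cm_eq_one_iff] at h1
    exact h1.symm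
  have he : x * x ∈ center T := hsq x
  -- central elements have trivial commutators
  have hcmc : ∀ w : T, w ∈ center T → ∀ s : T, cm w s = 1 := by
    intro w hw s
    rw [cm_eq_one_iff]
    exact (mem_center_iff.mp hw s).symm
  -- the homomorphism t ↦ (cm t x, cm t y)
  let φ : T →* (center T) × (center T) :=
    { toFun := fun t => (⟨cm t x, hcl t x⟩, ⟨cm t y, hcl t y⟩)
      map_one' := by
        apply Prod.ext <;> apply Subtype.ext
        · exact cm_one_left x
        · exact cm_one_left y
      map_mul' := by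
        intro a b
        apply Prod.ext <;> apply Subtype.ext
        · exact cm_mul_left' hcl a b x
        · exact cm_mul_left' hcl a b y }
  have hφ : ∀ t : T, t ∈ φ.ker ↔ cm t x = 1 ∧ cm t y = 1 := by
    intro t
    rw [MonoidHom.mem_ker]
    constructor
    · intro ht
      have h1 := congrArg (fun p : (center T) × (center T) => (p.1 : T)) ht
      have h2 := congrArg (fun p : (center T) × (center T) => (p.2 : T)) ht
      exact ⟨h1, h2⟩
    · rintro ⟨h1, h2⟩
      apply Prod.ext <;> apply Subtype.ext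
      · exact h1
      · exact h2
  -- the kernel is central
  have hker : φ.ker ≤ center T := by
    intro z hz
    rw [hφ] at hz
    obtain ⟨hzx, hzy⟩ := hz
    by_contra hzc
    have hzz1 : z * z ≠ 1 := fun h1 => hzc (H.central z h1)
    -- the candidates
    have hcand : ∃ g : T, g * g = z * z ∧ cm z g = 1 ∧ cm g y ≠ 1 := by
      have hzrx : cm z (ρ x) = 1 := by
        rw [(cm_rho h hcl z x).2, hzx, map_one, map_one]
      have hzrrx : cm z (ρ (ρ x)) = 1 := by
        rw [(cm_rho h hcl z (ρ x)).2, hzrx, map_one, map_one]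
      have hrxy : cm (ρ x) y ≠ 1 := by
        rw [(cm_rho h hcl x y).1]
        exact h.ne_one (h.ne_one hcxy)
      have hrrxy : cm (ρ (ρ x)) y ≠ 1 := by
        rw [(cm_rho h hcl (ρ x) y).1]
        exact h.ne_one (h.ne_one hrxy)
      rcases center_cases' h hZ (x * x) he he1 (z * z) (hsq z) with h1 | h1 | h1 | h1
      · exact absurd h1 hzz1
      · exact ⟨x, h1.symm, hzx, hcxy⟩
      · refine ⟨ρ x, ?_, hzrx, hrxy⟩
        rw [h1, map_mul]
      · refine ⟨ρ (ρ x), ?_, hzrrx, hrrxy⟩
        rw [h1, map_mul, map_mul]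
    obtain ⟨g, hg2, hzg, hgy⟩ := hcand
    rw [cm_eq_one_iff] at hzg
    -- w = z g⁻¹ is an involution, hence central
    have hw2 : (z * g⁻¹) * (z * g⁻¹) = 1 := by
      have e1 : g⁻¹ * z = z * g⁻¹ := by
        calc g⁻¹ * z = g⁻¹ * (z * g) * g⁻¹ := by group
          _ = g⁻¹ * (g * z) * g⁻¹ := by rw [hzg]
          _ = z * g⁻¹ := by group
      calc (z * g⁻¹) * (z * g⁻¹) = z * (g⁻¹ * z) * g⁻¹ := by group
        _ = z * (z * g⁻¹) * g⁻¹ := by rw [e1]
        _ = (z * z) * (g * g)⁻¹ := by group
        _ = 1 := by rw [hg2, mul_inv_cancel]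
    have hwc : z * g⁻¹ ∈ center T := H.central _ hw2
    have e2 : z = (z * g⁻¹) * g := by group
    have h3 : cm z y = cm g y := by
      conv_lhs => rw [e2]
      rw [cm_mul_left' hcl, hcmc _ hwc, one_mul]
    rw [hzy] at h3
    exact hgy h3.symm
  -- upper bound
  have hle : Nat.card T ≤ 64 := by
    have h1 := Subgroup.card_mul_index φ.ker
    have h2 : φ.ker.index = Nat.card φ.range := Subgroup.index_ker φ
    have h3 : Nat.card φ.range ≤ 16 := by
      have := Subgroup.card_le_card_group φ.range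
      rw [Nat.card_prod, hZ] at this
      exact this
    have h4 : Nat.card φ.ker ≤ 4 := by
      have := Subgroup.card_le_of_le hker
      rw [hZ] at this
      exact this
    rw [h2] at h1
    calc Nat.card T = Nat.card φ.ker * Nat.card φ.range := h1.symm
      _ ≤ 4 * 16 := Nat.mul_le_mul h4 h3
      _ = 64 := by norm_num
  -- lower bound via the line of x
  have hLinv := h.lineOf_inv x
  have hLcomm := h.lineOf_comm x
  have hLgt : 4 < Nat.card (Fpf3.lineOf ρ x) := by
    rw [← hZ]
    by_contra hcon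
    push Not at hcon
    have := Subgroup.eq_of_le_of_card_ge (Fpf3.center_le_lineOf ρ x) hcon
    exact hxc (this ▸ Fpf3.mem_lineOf_self ρ x)
  have hLmod := h.card_mod_three (Fpf3.lineOf ρ x) hLinv
  have hTmod : Nat.card T % 3 = 1 := by
    have := h.card_mod_three (⊤ : Subgroup T) (fun m _ => mem_top _)
    rw [Subgroup.card_top] at this
    exact this
  obtain ⟨r, hr⟩ := IsPGroup.iff_card.mp H.pg
  have hLdvd : Nat.card (Fpf3.lineOf ρ x) ∣ 2 ^ r := by
    rw [← hr]; exact Subgroup.card_subgroup_dvd_card _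
  obtain ⟨k, hk, hk'⟩ := (Nat.dvd_prime_pow Nat.prime_two).1 hLdvd
  have hLne : Nat.card (Fpf3.lineOf ρ x) ≠ Nat.card T := by
    intro heq
    have htop := Subgroup.eq_top_of_card_eq _ heq
    apply hxy
    exact hLcomm x (htop ▸ mem_top x) y (htop ▸ mem_top y)
  have hLle : Nat.card (Fpf3.lineOf ρ x) ≤ Nat.card T := Subgroup.card_le_card_group _
  -- arithmetic
  have hr6 : r ≤ 6 := by
    by_contra hcon
    push Not at hcon
    have : 2 ^ 7 ≤ 2 ^ r := Nat.pow_le_pow_right (by norm_num) hcon
    rw [hr] at hle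
    omega
  have hk6 : k ≤ 6 := le_trans hk hr6
  rw [hk'] at hLgt hLmod hLne hLle
  rw [hr] at hTmod hLne hLle ⊢
  interval_cases r <;> interval_cases k <;> simp_all

end Cfsg.H5.S1237FOQ5
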