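import Mathlib
import Cfsg.Agent.Lib.Helper12.S1903Defs

/-!
# S1903 FO-B (architect helper12): the relations `Rel σ g` bound the order by 320.
-/

set_option autoImplicit false

namespace Cfsg.H5.S1903FOB

open Cfsg.Agent.Lib.Helper12.S1903

section General

variable {X : Type*} [Group X]

/-- adjoining an element normalizing a finite subgroup, with a power inside it -/
theorem card_sup_zpowers_le (K : Subgroup X) [Finite K] (x : X) (m : ℕ)
    (hm : 0 < m) (hn : ∀ k ∈ K, x * k * x⁻¹ ∈ K) (hxm : x ^ m ∈ K) :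
    Finite ↥(K ⊔ Subgroup.zpowers x) ∧
      Nat.card ↥(K ⊔ Subgroup.zpowers x) ≤ m * Nat.card K := by
  have hxN : x ∈ Subgroup.normalizer (K : Set X) :=
    Subgroup.mem_normalizer_fintype (S := (K : Set X)) (fun n hn' => hn n hn')
  have hle : Subgroup.zpowers x ≤ Subgroup.normalizer (K : Set X) := by
    rw [Subgroup.zpowers_le]; exact hxN
  have hset := Subgroup.coe_mul_of_right_le_normalizer_left K (Subgroup.zpowers x) hle
  have hmem : ∀ p : K × Fin m, (p.1 : X) * x ^ (p.2 : ℕ) ∈ K ⊔ Subgroup.zpowers x := fun p =>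
    mul_mem (Subgroup.mem_sup_left p.1.2)
      (Subgroup.mem_sup_right (Subgroup.pow_mem _ (Subgroup.mem_zpowers x) _))
  let f : K × Fin m → ↥(K ⊔ Subgroup.zpowers x) := fun p => ⟨_, hmem p⟩
  have hsurj : Function.Surjective f := by
    rintro ⟨y, hy⟩
    have hy' : y ∈ ((K ⊔ Subgroup.zpowers x : Subgroup X) : Set X) := hy
    rw [hset] at hy'
    obtain ⟨k, hk, z, hz, rfl⟩ := hy'
    obtain ⟨n, rfl⟩ := Subgroup.mem_zpowers_iff.mp hz
    have hm' : (0 : ℤ) < (m : ℤ) := by exact_mod_cast hm
    have hr0 : 0 ≤ n % (m : ℤ) := Int.emod_nonneg _ (ne_of_gt hm')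
    have hr1 : n % (m : ℤ) < m := Int.emod_lt_of_pos _ hm'
    obtain ⟨r, hr⟩ := Int.eq_ofNat_of_zero_le hr0
    have hrm : r < m := by
      have : (r : ℤ) < m := by rw [← hr]; exact hr1
      exact_mod_cast this
    have e : x ^ n = x ^ r * (x ^ m) ^ (n / (m : ℤ)) := by
      conv_lhs => rw [← Int.emod_add_mul_ediv n (m : ℤ), zpow_add, hr, zpow_mul]
      simp
    have hy2 : (x ^ m) ^ (n / (m : ℤ)) ∈ K := Subgroup.zpow_mem _ hxm _
    have hxr : x ^ r ∈ Subgroup.normalizer (K : Set X) := Subgroup.pow_mem _ hxN _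
    have hy3 : x ^ r * (x ^ m) ^ (n / (m : ℤ)) * (x ^ r)⁻¹ ∈ K :=
      (Subgroup.mem_normalizer_iff.mp hxr _).mp hy2
    refine ⟨(⟨k * (x ^ r * (x ^ m) ^ (n / (m : ℤ)) * (x ^ r)⁻¹), mul_mem hk hy3⟩, ⟨r, hrm⟩), ?_⟩
    apply Subtype.ext
    show k * (x ^ r * (x ^ m) ^ (n / (m : ℤ)) * (x ^ r)⁻¹) * x ^ r = k * x ^ n
    rw [e]; group
  have hfin : Finite ↥(K ⊔ Subgroup.zpowers x) := Finite.of_surjective f hsurj
  refine ⟨hfin, ?_⟩
  have := Nat.card_le_card_of_surjective f hsurj
  rw [Nat.card_prod, Nat.card_fin, mul_comm] at this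
  exact this

theorem conj_mem_closure {S : Set X} {x : X}
    (h : ∀ s ∈ S, x * s * x⁻¹ ∈ Subgroup.closure S) :
    ∀ k ∈ Subgroup.closure S, x * k * x⁻¹ ∈ Subgroup.closure S := by
  intro k hk
  induction hk using Subgroup.closure_induction with
  | mem s hs => exact h s hs
  | one => simp
  | mul a b _ _ ha hb =>
    have : x * (a * b) * x⁻¹ = (x * a * x⁻¹) * (x * b * x⁻¹) := by group
    rw [this]; exact mul_mem ha hb
  | inv a _ ha =>
    have : x * a⁻¹ * x⁻¹ = (x * a * x⁻¹)⁻¹ := by group
    rw [this]; exact inv_mem ha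

theorem closure_insert_eq (S : Set X) (x : X) :
    Subgroup.closure (insert x S) = Subgroup.closure S ⊔ Subgroup.zpowers x := by
  rw [Set.insert_eq, Subgroup.closure_union, Subgroup.zpowers_eq_closure, sup_comm]

/-- one step of the chain -/
theorem step {S : Set X} (x : X) (m : ℕ) (hm : 0 < m) (N : ℕ)
    (hS : Finite ↥(Subgroup.closure S) ∧ Nat.card ↥(Subgroup.closure S) ≤ N)
    (hn : ∀ s ∈ S, x * s * x⁻¹ ∈ Subgroup.closure S) (hxm : x ^ m ∈ Subgroup.closure S) :
    Finite ↥(Subgroup.closure (insert x S)) ∧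
      Nat.card ↥(Subgroup.closure (insert x S)) ≤ m * N := by
  have := hS.1
  rw [closure_insert_eq]
  obtain ⟨h1, h2⟩ := card_sup_zpowers_le (Subgroup.closure S) x m hm (conj_mem_closure hn) hxm
  exact ⟨h1, h2.trans (Nat.mul_le_mul_left _ hS.2)⟩

end General

/-- FO-B.  A group generated by `σ, g` satisfying `Rel σ g` has at most `320` elements. -/
theorem card_le_of_rel {X : Type*} [Group X] (σ g : X) (h : Rel σ g)
    (hgen : Subgroup.closure {σ, g} = ⊤) : Nat.card X ≤ 320 := by
  set z1 := c1 σ g with hz1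
  set z2 := c2 σ g with hz2
  set a := gi σ g 0 with ha
  set b := gi σ g 1 with hb
  set c := gi σ g 2 with hc
  set d := gi σ g 3 with hd
  have hag : a = g := gi_zero σ g
  -- the central elements commute with everything in sight
  have k1 : ∀ i, Commute z1 (gi σ g i) := fun i =>
    ((h.c1σ.pow_right i).mul_right h.c1g).mul_right (h.c1σ.pow_right i).inv_right
  have k2 : ∀ i, Commute z2 (gi σ g i) := fun i =>
    ((h.c2σ.pow_right i).mul_right h.c2g).mul_right (h.c2σ.pow_right i).inv_right
  have k12 : Commute z1 z2 := by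
    have : z2 = g * gi σ g 2 * g⁻¹ * (gi σ g 2)⁻¹ := rfl
    rw [this]
    exact ((h.c1g.mul_right (k1 2)).mul_right h.c1g.inv_right).mul_right (k1 2).inv_right
  -- conjugation fixes central elements
  have cz : ∀ (x z : X), Commute z x → x * z * x⁻¹ = z := by
    intro x z hzx
    rw [← hzx.eq, mul_inv_cancel_right]
  -- squares
  have sq : ∀ i, gi σ g i * gi σ g i = z1 * z2 := by
    intro i
    have e : gi σ g i * gi σ g i = σ ^ i * (g * g) * (σ ^ i)⁻¹ := by unfold gi; group
    rw [e, h.gsq]
    exact cz _ _ ((h.c1σ.pow_right i).mul_left (h.c2σ.pow_right i))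
  -- commutators
  have cab : a * b * a⁻¹ * b⁻¹ = z1 := by rw [hag]; rfl
  have cac : a * c * a⁻¹ * c⁻¹ = z2 := by rw [hag]; rfl
  have cad : a * d * a⁻¹ * d⁻¹ = z2 := by rw [hag]; exact h.c3
  have cbc : b * c * b⁻¹ * c⁻¹ = z1 := by
    have e : b * c * b⁻¹ * c⁻¹ = σ * z1 * σ⁻¹ := by
      rw [hb, hc, hz1]; unfold c1 gi; group
    rw [e]; exact cz _ _ h.c1σ
  have cbd : b * d * b⁻¹ * d⁻¹ = z2 := by
    have e : b * d * b⁻¹ * d⁻¹ = σ * z2 * σ⁻¹ := by
      rw [hb, hd, hz2]; unfold c2 gi; group
    rw [e]; exact cz _ _ h.c2σ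
  have ccd : c * d * c⁻¹ * d⁻¹ = z1 := by
    have e : c * d * c⁻¹ * d⁻¹ = σ ^ 2 * z1 * (σ ^ 2)⁻¹ := by
      rw [hc, hd, hz1]; unfold c1 gi; group
    rw [e]; exact cz _ _ (h.c1σ.pow_right 2)
  -- conjugates
  have cj : ∀ x y z : X, x * y * x⁻¹ * y⁻¹ = z → x * y * x⁻¹ = z * y := by
    intro x y z e
    rw [← e]; group
  -- action of σ
  have sa : σ * a * σ⁻¹ = b := by rw [ha, hb]; unfold gi; group
  have sb : σ * b * σ⁻¹ = c := by rw [hb, hc]; unfold gi; group
  have sc : σ * c * σ⁻¹ = d := by rw [hc, hd]; unfold gi; group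
  have sd : σ * d * σ⁻¹ = a * b * c * d := by
    have e : σ * d * σ⁻¹ = gi σ g 4 := by rw [hd]; unfold gi; group
    rw [e, h.r5, hag]
  -- the chain
  have h0 : Finite ↥(Subgroup.closure (∅ : Set X)) ∧
      Nat.card ↥(Subgroup.closure (∅ : Set X)) ≤ 1 := by
    rw [Subgroup.closure_empty]
    exact ⟨inferInstance, by simp⟩
  have h1 := step z2 2 (by norm_num) 1 h0 (by simp) (by rw [pow_two, h.c2sq]; exact one_mem _)
  have h2 := step z1 2 (by norm_num) _ h1
    (by
      intro s hs
      rw [Set.mem_insert_iff, Set.mem_empty_iff_false, or_false] at hs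
      subst hs
      rw [cz _ _ k12.symm]
      exact Subgroup.subset_closure (by simp))
    (by rw [pow_two, h.c1sq]; exact one_mem _)
  have h3 := step d 2 (by norm_num) _ h2
    (by
      intro s hs
      simp only [Set.mem_insert_iff, Set.mem_empty_iff_false, or_false] at hs
      rcases hs with rfl | rfl
      · rw [cz _ _ (k1 3)]; exact Subgroup.subset_closure (by simp)
      · rw [cz _ _ (k2 3)]; exact Subgroup.subset_closure (by simp))
    (by
      rw [pow_two, hd, sq 3]
      exact mul_mem (Subgroup.subset_closure (by simp)) (Subgroup.subset_closure (by simp)))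
  have h4 := step c 2 (by norm_num) _ h3
    (by
      intro s hs
      simp only [Set.mem_insert_iff, Set.mem_empty_iff_false, or_false] at hs
      rcases hs with rfl | rfl | rfl
      · rw [cj _ _ _ ccd]
        exact mul_mem (Subgroup.subset_closure (by simp)) (Subgroup.subset_closure (by simp))
      · rw [cz _ _ (k1 2)]; exact Subgroup.subset_closure (by simp)
      · rw [cz _ _ (k2 2)]; exact Subgroup.subset_closure (by simp))
    (by
      rw [pow_two, hc, sq 2]
      exact mul_mem (Subgroup.subset_closure (by simp)) (Subgroup.subset_closure (by simp)))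
  have h5 := step b 2 (by norm_num) _ h4
    (by
      intro s hs
      simp only [Set.mem_insert_iff, Set.mem_empty_iff_false, or_false] at hs
      rcases hs with rfl | rfl | rfl | rfl
      · rw [cj _ _ _ cbc]
        exact mul_mem (Subgroup.subset_closure (by simp)) (Subgroup.subset_closure (by simp))
      · rw [cj _ _ _ cbd]
        exact mul_mem (Subgroup.subset_closure (by simp)) (Subgroup.subset_closure (by simp))
      · rw [cz _ _ (k1 1)]; exact Subgroup.subset_closure (by simp)
      · rw [cz _ _ (k2 1)]; exact Subgroup.subset_closure (by simp))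
    (by
      rw [pow_two, hb, sq 1]
      exact mul_mem (Subgroup.subset_closure (by simp)) (Subgroup.subset_closure (by simp)))
  have h6 := step a 2 (by norm_num) _ h5
    (by
      intro s hs
      simp only [Set.mem_insert_iff, Set.mem_empty_iff_false, or_false] at hs
      rcases hs with rfl | rfl | rfl | rfl | rfl
      · rw [cj _ _ _ cab]
        exact mul_mem (Subgroup.subset_closure (by simp)) (Subgroup.subset_closure (by simp))
      · rw [cj _ _ _ cac]
        exact mul_mem (Subgroup.subset_closure (by simp)) (Subgroup.subset_closure (by simp))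
      · rw [cj _ _ _ cad]
        exact mul_mem (Subgroup.subset_closure (by simp)) (Subgroup.subset_closure (by simp))
      · rw [cz _ _ (k1 0)]; exact Subgroup.subset_closure (by simp)
      · rw [cz _ _ (k2 0)]; exact Subgroup.subset_closure (by simp))
    (by
      rw [pow_two, ha, sq 0]
      exact mul_mem (Subgroup.subset_closure (by simp)) (Subgroup.subset_closure (by simp)))
  have h7 := step σ 5 (by norm_num) _ h6
    (by
      intro s hs
      simp only [Set.mem_insert_iff, Set.mem_empty_iff_false, or_false] at hs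
      rcases hs with rfl | rfl | rfl | rfl | rfl | rfl
      · rw [sa]; exact Subgroup.subset_closure (by simp)
      · rw [sb]; exact Subgroup.subset_closure (by simp)
      · rw [sc]; exact Subgroup.subset_closure (by simp)
      · rw [sd]
        exact mul_mem (mul_mem (mul_mem (Subgroup.subset_closure (by simp))
          (Subgroup.subset_closure (by simp))) (Subgroup.subset_closure (by simp)))
          (Subgroup.subset_closure (by simp))
      · rw [cz _ _ h.c1σ]
        exact Subgroup.subset_closure (by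
          simp only [Set.mem_insert_iff, Set.mem_empty_iff_false, or_false]
          right; right; right; right; left; rfl)
      · rw [cz _ _ h.c2σ]
        exact Subgroup.subset_closure (by
          simp only [Set.mem_insert_iff, Set.mem_empty_iff_false, or_false]
          right; right; right; right; right; rfl))
    (by rw [h.s5]; exact one_mem _)
  have htop : Subgroup.closure (insert σ (insert a (insert b (insert c (insert d
      (insert z1 (insert z2 (∅ : Set X)))))))) = ⊤ := by
    rw [eq_top_iff, ← hgen, Subgroup.closure_le]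
    intro y hy
    rcases hy with rfl | hy
    · exact Subgroup.subset_closure (by simp)
    · rw [Set.mem_singleton_iff] at hy
      rw [hy, ← hag]
      exact Subgroup.subset_closure (by simp)
  rw [htop] at h7
  have h8 : Nat.card X = Nat.card ↥(⊤ : Subgroup X) := (Subgroup.card_top).symm
  rw [h8]
  exact h7.2.trans (by norm_num)

end Cfsg.H5.S1903FOB
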