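import Cfsg.Agent.Lib.Helper26.WC.WC4

/-!
# S2244 FO-3 (architect helper26): the three pairs of long roots of `G₂` in characteristic 2.
-/

set_option autoImplicit false
set_option linter.unusedSectionVars false

namespace Cfsg.H5.S2244FO3

open Cfsg Cfsg.Lie Matrix Cfsg.Agent.Lib.Helper8.Chev Cfsg.Agent.Lib.Helper26.ChevNsl
  Cfsg.Agent.Lib.Helper26.WC

theorem memG2 : chevG2 ∈ [chevG2, chevB2, chevD4, chevF4, chevE6, chevE7, chevE8] := by simp

section grp

variable {G : Type*} [Group G]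

/-- the commutator computation used for the pairs `(10, 11)` and `(6, 11)` -/
theorem comm_calc (g p q r : G) (h1 : g * p = p * g * r) (h2 : g * q = q * g) (h3 : g * r = r * g)
    (h4 : r * q = q * r) : (p * q)⁻¹ * (g * (p * q) * g⁻¹) = r := by
  have : g * (p * q) * g⁻¹ = p * q * r := by
    calc g * (p * q) * g⁻¹ = (g * p) * q * g⁻¹ := by group
      _ = p * g * r * q * g⁻¹ := by rw [h1]
      _ = p * (g * r) * q * g⁻¹ := by group
      _ = p * (r * g) * q * g⁻¹ := by rw [h3]
      _ = p * r * (g * q) * g⁻¹ := by group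
      _ = p * r * (q * g) * g⁻¹ := by rw [h2]
      _ = p * (r * q) := by group
      _ = p * (q * r) := by rw [h4]
      _ = p * q * r := by group
  rw [this]; group

end grp

section

variable {F : Type*} [Field F]

local notation "xx" => xEl (F := F) memG2
local notation "ww" => wEl (F := F) memG2

theorem nroots_eq : chevG2.nroots = 12 := rfl

/-- commuting root elements -/
theorem comm_of_nil {r s : ℕ} (hr : r < 12) (hs : s < 12) (h1 : s ≠ r) (h2 : s ≠ chevG2.neg r)
    (hL : chevG2.commTerms r s = []) (t u : F) : xx s u * xx r t = xx r t * xx s u := by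
  have := comm_rel_terms (F := F) memG2 (r := r) (s := s) hr hs h1 h2 hL t u
  rw [this]
  unfold termsWord
  rw [List.map_nil, wEl_nil, mul_one]

/-- root elements of the same root commute -/
theorem comm_same {r : ℕ} (hr : r < 12) (t u : F) : xx r u * xx r t = xx r t * xx r u := by
  rw [← xEl_add memG2 hr, ← xEl_add memG2 hr, add_comm]

/-- the subgroup of the words in the roots `≥ k` -/
def Wd (F : Type*) [Field F] (k : ℕ) : Subgroup ↥(chevG2.group F) where
  carrier := {g | ∃ w : List (ℕ × F), (∀ p ∈ w, k ≤ p.1 ∧ p.1 < 12) ∧ g = wEl memG2 w}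
  one_mem' := ⟨[], by simp, (wEl_nil memG2).symm⟩
  mul_mem' := by
    rintro _ _ ⟨w1, h1, rfl⟩ ⟨w2, h2, rfl⟩
    refine ⟨w1 ++ w2, ?_, (wEl_append memG2 w1 w2).symm⟩
    intro p hp
    rcases List.mem_append.mp hp with h | h
    · exact h1 p h
    · exact h2 p h
  inv_mem' := by
    rintro _ ⟨w, h, rfl⟩
    refine ⟨_, ?_, wEl_inv memG2 w⟩
    intro p hp
    rw [List.mem_map] at hp
    obtain ⟨q, hq, rfl⟩ := hp
    exact h q (List.mem_reverse.mp hq)

theorem mem_Wd {k : ℕ} {g : ↥(chevG2.group F)} :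
    g ∈ Wd F k ↔ ∃ w : List (ℕ × F), (∀ p ∈ w, k ≤ p.1 ∧ p.1 < 12) ∧ g = wEl memG2 w := Iff.rfl

theorem x_mem_Wd {k r : ℕ} (h1 : k ≤ r) (h2 : r < 12) (t : F) : xx r t ∈ Wd F k :=
  ⟨[(r, t)], by simpa using ⟨h1, h2⟩, (wEl_singleton memG2 r t).symm⟩

theorem w_mem_Wd {k : ℕ} (w : List (ℕ × F)) (hw : ∀ p ∈ w, k ≤ p.1 ∧ p.1 < 12) :
    ww w ∈ Wd F k := ⟨w, hw, rfl⟩

theorem Wd_mono {k k' : ℕ} (h : k ≤ k') : Wd F k' ≤ Wd F k := by
  rintro _ ⟨w, hw, rfl⟩
  exact ⟨w, fun p hp => ⟨le_trans h (hw p hp).1, (hw p hp).2⟩, rfl⟩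

/-- conjugation by a root element commuting with the letter -/
theorem conj_comm {r s : ℕ} (t u : F) (h : xx s u * xx r t = xx r t * xx s u) :
    xx s u * xx r t * (xx s u)⁻¹ = xx r t := by
  rw [h, mul_inv_cancel_right]

/-- `x_7` and `x_8` normalise the words in the roots `≥ 9` -/
theorem conj_Wd9 {r0 : ℕ} (hr0 : r0 = 7 ∨ r0 = 8) (u : F) :
    ∀ g ∈ Wd F 9, xx r0 u * g * (xx r0 u)⁻¹ ∈ Wd F 9 := by
  -- letters
  have h10 : ∀ t : F, xx r0 u * xx 10 t * (xx r0 u)⁻¹ = xx 10 t := by
    intro t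
    apply conj_comm
    rcases hr0 with rfl | rfl
    · exact comm_of_nil (by norm_num) (by norm_num) (by norm_num) (by decide) (by decide) t u
    · exact comm_of_nil (by norm_num) (by norm_num) (by norm_num) (by decide) (by decide) t u
  have h11 : ∀ t : F, xx r0 u * xx 11 t * (xx r0 u)⁻¹ = xx 11 t := by
    intro t
    apply conj_comm
    rcases hr0 with rfl | rfl
    · exact comm_of_nil (by norm_num) (by norm_num) (by norm_num) (by decide) (by decide) t u
    · exact comm_of_nil (by norm_num) (by norm_num) (by norm_num) (by decide) (by decide) t u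
  have h9 : ∀ t : F, xx r0 u * xx 9 t * (xx r0 u)⁻¹ ∈ Wd F 9 := by
    intro t
    rcases hr0 with rfl | rfl
    · have e := comm_rel_terms (F := F) memG2 (r := 9) (s := 7) (by decide) (by decide)
        (by decide) (by decide) (L := [(10, -3, 1, 1)]) (by decide) t u
      unfold termsWord at e
      rw [List.map_cons, List.map_nil, wEl_singleton] at e
      have e2 : xx 7 u * xx 9 t * (xx 7 u)⁻¹ =
          xx 9 t * (xx 7 u * xx 10 (((-3 : ℤ) : F) * (-t) ^ 1 * u ^ 1) * (xx 7 u)⁻¹) := by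
        rw [e]; group
      rw [e2, h10]
      exact (Wd F 9).mul_mem (x_mem_Wd (by norm_num) (by norm_num) _)
        (x_mem_Wd (by norm_num) (by norm_num) _)
    · have e := comm_rel_terms (F := F) memG2 (r := 9) (s := 8) (by decide) (by decide)
        (by decide) (by decide) (L := [(11, -3, 1, 1)]) (by decide) t u
      unfold termsWord at e
      rw [List.map_cons, List.map_nil, wEl_singleton] at e
      have e2 : xx 8 u * xx 9 t * (xx 8 u)⁻¹ =
          xx 9 t * (xx 8 u * xx 11 (((-3 : ℤ) : F) * (-t) ^ 1 * u ^ 1) * (xx 8 u)⁻¹) := by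
        rw [e]; group
      rw [e2, h11]
      exact (Wd F 9).mul_mem (x_mem_Wd (by norm_num) (by norm_num) _)
        (x_mem_Wd (by norm_num) (by norm_num) _)
  rintro _ ⟨w, hw, rfl⟩
  induction w with
  | nil =>
    rw [wEl_nil, mul_one, mul_inv_cancel]
    exact (Wd F 9).one_mem
  | cons p w ih =>
    rw [wEl_cons]
    have e : xx r0 u * (xx p.1 p.2 * ww w) * (xx r0 u)⁻¹ =
        (xx r0 u * xx p.1 p.2 * (xx r0 u)⁻¹) * (xx r0 u * ww w * (xx r0 u)⁻¹) := by group
    rw [e]
    refine (Wd F 9).mul_mem ?_ (ih (fun q hq => hw q (List.mem_cons_of_mem _ hq)))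
    have hp := hw p List.mem_cons_self
    have hcases : p.1 = 9 ∨ p.1 = 10 ∨ p.1 = 11 := by omega
    rcases hcases with h | h | h
    · rw [h]; exact h9 p.2
    · rw [h, h10]; exact x_mem_Wd (by norm_num) (by norm_num) _
    · rw [h, h11]; exact x_mem_Wd (by norm_num) (by norm_num) _

/-- an element `x_8(α) * s` with `s` a word in the roots `≥ 9` is an ordered product -/
theorem exists_seg8 (α : F) {s : ↥(chevG2.group F)} (hs : s ∈ Wd F 9) :
    ∃ τ : ℕ → F, τ 8 = α ∧ xx 8 α * s = segEl memG2 8 τ := by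
  obtain ⟨w, hw, rfl⟩ := hs
  obtain ⟨t', ht'⟩ := word_eq_seg memG2 (k := 9) (by decide) (by decide) w
    (fun p hp => by rw [nroots_eq]; exact hw p hp)
  refine ⟨fun r => if r = 8 then α else t' r, by simp, ?_⟩
  have e1 : segEl memG2 (8 + 1) (fun r => if r = 8 then α else t' r) = segEl memG2 9 t' := by
    apply segEl_congr
    intro r h1 _
    rw [if_neg (by omega)]
  rw [segEl_succ memG2 (k := 8) (by decide), e1, ht']
  simp

variable [Finite F]

/-- the case `a = 0` of a step -/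
theorem step_zero {X : Subgroup ↥(chevG2.group F)} {k s : ℕ} (hks : k < s) (hs : s < 12)
    (IH : ∀ k', k < k' → k' ≤ chevG2.nroots → SepP memG2 X k') (b : F) (t : ℕ → F)
    (hx : xx k 0 * (xx s b * segEl memG2 (s + 1) t) ∈ X) : xx s b ∈ X := by
  rw [xEl_zero, one_mul] at hx
  have e : xx s b * segEl memG2 (s + 1) t = segEl memG2 s (fun r => if r = s then b else t r) := by
    have e1 : segEl memG2 (s + 1) (fun r => if r = s then b else t r) = segEl memG2 (s + 1) t := by
      apply segEl_congr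
      intro r h1 _
      rw [if_neg (by omega)]
    rw [segEl_succ memG2 (k := s) (by rw [nroots_eq]; exact hs), e1]
    simp
  rw [e] at hx
  have := IH s hks (by rw [nroots_eq]; omega) _ hx s (le_refl _) (by rw [nroots_eq]; exact hs)
  simpa using this

/-- FO-3: the three pairs of long roots of `G₂` in characteristic 2. -/
theorem g2_step_long (h2 : (2 : F) = 0)
    (X : Subgroup ↥(chevG2.group F)) (B : BNorm memG2 X) {k s : ℕ}
    (hks : (k = 6 ∧ s = 10) ∨ (k = 6 ∧ s = 11) ∨ (k = 10 ∧ s = 11)) :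
    StepH memG2 X k s := by
  have h3 : ((-3 : ℤ) : F) = 1 := by
    push_cast
    linear_combination (-2 : F) * h2
  intro IH a b t hb hx
  by_cases ha : a = 0
  · subst ha
    rcases hks with ⟨rfl, rfl⟩ | ⟨rfl, rfl⟩ | ⟨rfl, rfl⟩
    · exact step_zero (by norm_num) (by norm_num) IH b t hx
    · exact step_zero (by norm_num) (by norm_num) IH b t hx
    · exact step_zero (by norm_num) (by norm_num) IH b t hx
  rcases hks with ⟨rfl, rfl⟩ | ⟨rfl, rfl⟩ | ⟨rfl, rfl⟩
  · -- (6, 10)
    set y : ↥(chevG2.group F) := xx 10 b * segEl memG2 (10 + 1) t with hy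
    have hyW : y ∈ Wd F 10 := by
      refine (Wd F 10).mul_mem (x_mem_Wd (le_refl _) (by norm_num) _) ?_
      unfold segEl
      apply w_mem_Wd
      intro p hp
      have := segW_mem hp
      rw [nroots_eq] at this
      omega
    have hyW9 : y ∈ Wd F 9 := Wd_mono (by norm_num) hyW
    -- conjugate by `x_7(1)`
    have hc := B.conj_x 7 (by decide) (by decide) (1 : F) _ hx
    have hz := X.mul_mem (X.inv_mem hx) hc
    -- `x_7` commutes with `y`
    have e67 := comm_rel_terms (F := F) memG2 (r := 6) (s := 7) (by decide) (by decide)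
      (by decide) (by decide) (L := [(8, 1, 1, 1), (9, 1, 1, 2), (10, -1, 1, 3), (11, -2, 2, 3)])
      (by decide) a 1
    unfold termsWord at e67
    simp only [List.map_cons, List.map_nil] at e67
    rw [wEl_cons] at e67
    set α : F := ((1 : ℤ) : F) * (-a) ^ 1 * 1 ^ 1 with hα
    have hα0 : α ≠ 0 := by
      rw [hα]
      simp [ha]
    set tail : List (ℕ × F) := [(9, ((1 : ℤ) : F) * (-a) ^ 1 * 1 ^ 2),
      (10, ((-1 : ℤ) : F) * (-a) ^ 1 * 1 ^ 3), (11, ((-2 : ℤ) : F) * (-a) ^ 2 * 1 ^ 3)] with htail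
    have htailW : ww tail ∈ Wd F 9 := by
      apply w_mem_Wd
      intro p hp
      rw [htail] at hp
      simp only [List.mem_cons, List.not_mem_nil, or_false] at hp
      rcases hp with rfl | rfl | rfl <;> norm_num
    -- `x_7 x_8(α) x_7⁻¹`
    have e87 := comm_rel_terms (F := F) memG2 (r := 8) (s := 7) (by decide) (by decide)
      (by decide) (by decide) (L := [(9, 2, 1, 1), (11, 3, 2, 1), (10, -3, 1, 2)])
      (by decide) α 1
    set T87 : List (ℕ × F) := termsWord [(9, 2, 1, 1), (11, 3, 2, 1), (10, -3, 1, 2)] α 1 with hT87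
    have hT87W : ww T87 ∈ Wd F 9 := by
      apply w_mem_Wd
      intro p hp
      rw [hT87] at hp
      unfold termsWord at hp
      simp only [List.map_cons, List.map_nil, List.mem_cons, List.not_mem_nil, or_false] at hp
      rcases hp with rfl | rfl | rfl <;> norm_num
    -- the shape of `z`
    have hs1 : xx 7 1 * ww T87 * (xx 7 1)⁻¹ ∈ Wd F 9 := conj_Wd9 (Or.inl rfl) 1 _ hT87W
    have hs2 : xx 7 1 * ww tail * (xx 7 1)⁻¹ ∈ Wd F 9 := conj_Wd9 (Or.inl rfl) 1 _ htailW
    have hs3 : xx 7 1 * y * (xx 7 1)⁻¹ ∈ Wd F 9 := conj_Wd9 (Or.inl rfl) 1 _ hyW9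
    have hs4 : xx 8 (-α) * y⁻¹ * (xx 8 (-α))⁻¹ ∈ Wd F 9 :=
      conj_Wd9 (Or.inr rfl) (-α) _ ((Wd F 9).inv_mem hyW9)
    have hinv8 : (xx 8 α)⁻¹ = xx 8 (-α) := xEl_inv memG2 (by decide) α
    have hzform : (xx 6 a * y)⁻¹ * (xx 7 1 * (xx 6 a * y) * (xx 7 1)⁻¹) =
        xx 8 α * ((xx 8 (-α) * y⁻¹ * (xx 8 (-α))⁻¹) * (xx 7 1 * ww T87 * (xx 7 1)⁻¹) *
          (xx 7 1 * ww tail * (xx 7 1)⁻¹) * (xx 7 1 * y * (xx 7 1)⁻¹)) := by
      have e1 : xx 7 1 * (xx 6 a * y) * (xx 7 1)⁻¹ =
          (xx 7 1 * xx 6 a) * y * (xx 7 1)⁻¹ := by group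
      rw [e1, e67]
      have e2 : xx 7 1 * xx 8 α = xx 8 α * xx 7 1 * ww T87 := e87
      have e3 : (xx 6 a * y)⁻¹ * (xx 6 a * xx 7 1 * (xx 8 α * ww tail) * y * (xx 7 1)⁻¹) =
          y⁻¹ * ((xx 7 1 * xx 8 α) * ww tail * y * (xx 7 1)⁻¹) := by group
      rw [e3, e2, ← hinv8]
      group
    rw [hzform] at hz
    obtain ⟨τ, hτ8, hτ⟩ := exists_seg8 α
      ((Wd F 9).mul_mem ((Wd F 9).mul_mem ((Wd F 9).mul_mem hs4 hs1) hs2) hs3)
    rw [hτ] at hz
    have h8 := IH 8 (by norm_num) (by decide) τ hz 8 (le_refl _)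
      (by decide)
    rw [hτ8] at h8
    have hX8 : ∀ u : F, xx 8 u ∈ X := B.root_full (by decide) hα0 h8
    -- from `X_8` to `X_10`
    have hc2 := B.conj_x 7 (by decide) (by decide) (1 : F) _ (hX8 1)
    have hz2 := X.mul_mem (X.inv_mem (hX8 1)) hc2
    have e87' := comm_rel_terms (F := F) memG2 (r := 8) (s := 7) (by decide) (by decide)
      (by decide) (by decide) (L := [(9, 2, 1, 1), (11, 3, 2, 1), (10, -3, 1, 2)])
      (by decide) (1 : F) 1
    unfold termsWord at e87'
    simp only [List.map_cons, List.map_nil] at e87'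
    have c2 : ((2 : ℤ) : F) * (-1) ^ 1 * 1 ^ 1 = 0 := by
      push_cast
      linear_combination (-1 : F) * h2
    rw [c2, wEl_cons, xEl_zero, one_mul, wEl_cons, wEl_singleton] at e87'
    set δ : F := ((3 : ℤ) : F) * (-1) ^ 2 * 1 ^ 1 with hδ
    set γ : F := ((-3 : ℤ) : F) * (-1) ^ 1 * 1 ^ 2 with hγ
    have hγ0 : γ ≠ 0 := by
      rw [hγ, h3]
      simp
    have k7_10 : ∀ t u : F, xx 7 u * xx 10 t = xx 10 t * xx 7 u := fun t u =>
      comm_of_nil (by norm_num) (by norm_num) (by norm_num) (by decide) (by decide) t u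
    have k7_11 : ∀ t u : F, xx 7 u * xx 11 t = xx 11 t * xx 7 u := fun t u =>
      comm_of_nil (by norm_num) (by norm_num) (by norm_num) (by decide) (by decide) t u
    have k10_11 : ∀ t u : F, xx 10 u * xx 11 t = xx 11 t * xx 10 u := fun t u =>
      comm_of_nil (by norm_num) (by norm_num) (by norm_num) (by decide) (by decide) t u
    have hz2form : (xx 8 1)⁻¹ * (xx 7 1 * xx 8 1 * (xx 7 1)⁻¹) = xx 10 γ * xx 11 δ := by
      rw [e87']
      have : xx 8 1 * xx 7 1 * (xx 11 δ * xx 10 γ) * (xx 7 1)⁻¹ =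
          xx 8 1 * ((xx 7 1 * xx 11 δ) * xx 10 γ * (xx 7 1)⁻¹) := by group
      rw [this, k7_11]
      have : xx 11 δ * xx 7 1 * xx 10 γ * (xx 7 1)⁻¹ =
          xx 11 δ * ((xx 7 1 * xx 10 γ) * (xx 7 1)⁻¹) := by group
      rw [this, k7_10, mul_inv_cancel_right, inv_mul_cancel_left, k10_11]
    rw [hz2form] at hz2
    have e10 : xx 10 γ * xx 11 δ =
        segEl memG2 10 (fun r => if r = 10 then γ else if r = 11 then δ else 0) := by
      rw [segEl_succ memG2 (by decide),
        segEl_succ memG2 (by decide)]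
      have : segEl memG2 (10 + 1 + 1)
          (fun r => if r = 10 then γ else if r = 11 then δ else (0 : F)) = 1 := segEl_top memG2 _
      rw [this, mul_one]
      simp
    rw [e10] at hz2
    have h10 := IH 10 (by norm_num) (by decide) _ hz2 10 (le_refl _)
      (by decide)
    simp only [if_true] at h10
    exact B.root_full (by decide) hγ0 h10 b
  · -- (6, 11)
    have ht : segEl memG2 (11 + 1) t = 1 := segEl_top memG2 t
    rw [ht, mul_one] at hx
    have hc := B.conj_x 10 (by decide) (by decide) (1 : F) _ hx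
    have hz := X.mul_mem (X.inv_mem hx) hc
    have e := comm_rel_terms (F := F) memG2 (r := 6) (s := 10) (by decide) (by decide)
      (by decide) (by decide) (L := [(11, 1, 1, 1)]) (by decide) a 1
    unfold termsWord at e
    rw [List.map_cons, List.map_nil, wEl_singleton] at e
    have k10_11 : ∀ t u : F, xx 10 u * xx 11 t = xx 11 t * xx 10 u := fun t u =>
      comm_of_nil (by norm_num) (by norm_num) (by norm_num) (by decide) (by decide) t u
    rw [comm_calc (xx 10 1) (xx 6 a) (xx 11 b) _ e (k10_11 _ _) (k10_11 _ _)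
      (comm_same (by norm_num) _ _)] at hz
    refine B.root_full (by decide) ?_ hz b
    simp [ha]
  · -- (10, 11)
    have ht : segEl memG2 (11 + 1) t = 1 := segEl_top memG2 t
    rw [ht, mul_one] at hx
    have hc := B.conj_x 6 (by decide) (by decide) (1 : F) _ hx
    have hz := X.mul_mem (X.inv_mem hx) hc
    have e := comm_rel_terms (F := F) memG2 (r := 10) (s := 6) (by decide) (by decide)
      (by decide) (by decide) (L := [(11, -1, 1, 1)]) (by decide) a 1
    unfold termsWord at e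
    rw [List.map_cons, List.map_nil, wEl_singleton] at e
    have k6_11 : ∀ t u : F, xx 6 u * xx 11 t = xx 11 t * xx 6 u := fun t u =>
      comm_of_nil (by norm_num) (by norm_num) (by norm_num) (by decide) (by decide) t u
    rw [comm_calc (xx 6 1) (xx 10 a) (xx 11 b) _ e (k6_11 _ _) (k6_11 _ _)
      (comm_same (by norm_num) _ _)] at hz
    refine B.root_full (by decide) ?_ hz b
    simp [ha]

end

end Cfsg.H5.S2244FO3
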