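import Mathlib
import Cfsg.Agent.Lib.Helper20.Ord64A
import Cfsg.Agent.Lib.Helper12.S2933RelU

/-!
# S2933 FO-H1 (architect helper12): generators satisfying `RelU` when all involutions are central.
-/

set_option autoImplicit false

namespace Cfsg.H5.S2933FOH1

open Subgroup Cfsg.Agent.Lib.Helper12.S2933 Cfsg.Agent.Lib.Helper20.Ord64

variable {T : Type*} [Group T]

/-- the relations, from the three key facts `cm y w = y*y`, `w*w = ρ (y*y)`. -/
theorem relU_of_key {ρ : MulAut T} (S : Setup ρ) (y w : T)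
    (hcm : cm y w = y * y) (hw2 : w * w = ρ (y * y)) :
    RelU y (ρ y) w (ρ w) := by
  haveI := S.finite
  have he : y * y ∈ center T := S.sq_mem_center y
  have he' : ρ y * ρ y ∈ center T := S.sq_mem_center (ρ y)
  have hree : ρ (y * y) = ρ y * ρ y := map_mul ρ y y
  -- ρ² e = e * ρ e
  have htri : ρ (ρ (y * y)) = (y * y) * (ρ y * ρ y) := by
    have h1 := S.fp.tri (y * y)
    have h2 : ρ (ρ (y * y)) = ((y * y) * ρ (y * y))⁻¹ := by
      rw [eq_inv_iff_mul_eq_one]
      calc ρ (ρ (y * y)) * ((y * y) * ρ (y * y))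
          = ((y * y) * ρ (y * y)) * ρ (ρ (y * y)) := by
            have hc : ρ (ρ (y * y)) ∈ center T :=
              Fpf3.center_inv ρ _ (Fpf3.center_inv ρ _ he)
            exact Setup.center_comm _ hc _
        _ = 1 := h1
    rw [h2, hree]
    exact S.center_inv_eq _ (mul_mem he he')
  refine ⟨S.center_sq _ he, S.center_sq _ he', Setup.center_comm _ he _, Setup.center_comm _ he _,
    Setup.center_comm _ he _, Setup.center_comm _ he' _, Setup.center_comm _ he' _,
    Setup.center_comm _ he' _, S.fp.comm1 y, S.fp.comm1 w, ?_, ?_, ?_, ?_, ?_, ?_⟩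
  · rw [hw2, hree]
  · rw [← map_mul, hw2, htri]
  · rw [← hcm]; exact mul_eq_cm_mul y w
  · have : cm (ρ y) w = (y * y) * (ρ y * ρ y) := by
      rw [S.cm_rho_left, hcm, htri]
    rw [← this]; exact mul_eq_cm_mul (ρ y) w
  · have : cm y (ρ w) = (y * y) * (ρ y * ρ y) := by
      rw [S.cm_rho_right, hcm, htri]
    rw [← this]; exact mul_eq_cm_mul y (ρ w)
  · have : cm (ρ y) (ρ w) = ρ y * ρ y := by
      rw [← cm_map, hcm, hree]
    rw [← this]; exact mul_eq_cm_mul (ρ y) (ρ w)

/-- generation -/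
theorem closure_eq_top {ρ : MulAut T} (S : Setup ρ) (y w : T) (hy1 : y * y ≠ 1)
    (hyw : y * w ≠ w * y) : closure {y, ρ y, w, ρ w} = ⊤ := by
  haveI := S.finite
  set M : Subgroup T := closure {y, ρ y, w, ρ w} with hM
  have hyM : y ∈ M := subset_closure (by simp)
  have hryM : ρ y ∈ M := subset_closure (by simp)
  have hwM : w ∈ M := subset_closure (by simp)
  have hrwM : ρ w ∈ M := subset_closure (by simp)
  have hrr : ∀ x : T, x ∈ M → ρ x ∈ M → ρ (ρ x) ∈ M := by
    intro x hx hrx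
    have h1 := S.fp.tri x
    have h2 : ρ (ρ x) = (x * ρ x)⁻¹ := by
      rw [eq_inv_iff_mul_eq_one]
      have h3 : (x * ρ x) * ρ (ρ x) = 1 := h1
      calc ρ (ρ x) * (x * ρ x) = (x * ρ x)⁻¹ * ((x * ρ x) * ρ (ρ x)) * (x * ρ x) := by group
        _ = 1 := by rw [h3]; group
    rw [h2]
    exact inv_mem (mul_mem hx hrx)
  have hrryM : ρ (ρ y) ∈ M := hrr y hyM hryM
  have hrrwM : ρ (ρ w) ∈ M := hrr w hwM hrwM
  -- invariance
  have hinv : ∀ m ∈ M, ρ m ∈ M := by
    intro m hm
    induction hm using closure_induction with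
    | mem x hx =>
      simp only [Set.mem_insert_iff, Set.mem_singleton_iff] at hx
      rcases hx with rfl | rfl | rfl | rfl
      · exact hryM
      · exact hrryM
      · exact hrwM
      · exact hrrwM
    | one => rw [map_one]; exact one_mem _
    | mul a b _ _ ha hb => rw [map_mul]; exact mul_mem ha hb
    | inv a _ ha => rw [map_inv]; exact inv_mem ha
  -- the centre is inside M
  have he : y * y ∈ center T := S.sq_mem_center y
  have hZ : (center T : Set T) ⊆ M := by
    intro z hz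
    rcases S.center_cases (y * y) he hy1 z hz with h | h | h | h
    · rw [h]; exact one_mem _
    · rw [h]; exact mul_mem hyM hyM
    · rw [h, map_mul]; exact mul_mem hryM hryM
    · rw [h, map_mul, map_mul]; exact mul_mem hrryM hrryM
  -- the line of y is inside M
  have hline : Fpf3.lineOf ρ y ≤ M := by
    unfold Fpf3.lineOf
    rw [closure_le]
    intro x hx
    rcases hx with hx | hx
    · exact hZ hx
    · simp only [Set.mem_insert_iff, Set.mem_singleton_iff] at hx
      rcases hx with rfl | rfl | rfl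
      · exact hyM
      · exact hryM
      · exact hrryM
  have hync : y ∉ center T := by
    intro hc
    exact hyw (Setup.center_comm y hc w)
  have hcl := S.card_line y hync
  have hwl : w ∉ Fpf3.lineOf ρ y := by
    intro hwl
    exact hyw (S.fp.lineOf_comm y y (Fpf3.mem_lineOf_self ρ y) w hwl)
  have hgt : 16 < Nat.card M := by
    by_contra hcon
    push Not at hcon
    have := Subgroup.eq_of_le_of_card_ge hline (by rw [hcl]; exact hcon)
    exact hwl (this ▸ hwM)
  have h64 : Nat.card M = 64 := by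
    rcases S.fp.card_cases S.card M hinv with h' | h' | h' | h' <;> omega
  exact Subgroup.eq_top_of_card_eq M (by rw [h64, S.card])

/-- **FO-H1**, exact skeleton signature. -/
theorem exists_gens_U {ρ : MulAut T} (S : Setup ρ) (h : ∀ e : T, e * e = 1 → e ∈ center T) :
    ∃ y w : T, RelU y (ρ y) w (ρ w) ∧ closure {y, ρ y, w, ρ w} = ⊤ := by
  haveI := S.finite
  obtain ⟨y, hy⟩ := S.exists_not_mem_center
  have he : y * y ∈ center T := S.sq_mem_center y
  have he1 : y * y ≠ 1 := fun h1 => hy (h y h1)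
  -- an element outside the line of y
  have hcl := S.card_line y hy
  obtain ⟨w₀, hw₀⟩ : ∃ w₀ : T, w₀ ∉ Fpf3.lineOf ρ y := by
    by_contra hcon
    push Not at hcon
    have htop : Fpf3.lineOf ρ y = ⊤ := by
      rw [eq_top_iff]; intro x _; exact hcon x
    rw [htop, Subgroup.card_top, S.card] at hcl
    omega
  have hc1 : cm y w₀ ≠ 1 := by
    intro h1
    rw [cm_eq_one_iff] at h1
    exact hw₀ (S.mem_line_of_commute y w₀ hy h1)
  have hcz : cm y w₀ ∈ center T := S.cm_mem y w₀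
  -- choose w₁ with cm y w₁ = e
  obtain ⟨w₁, hw₁⟩ : ∃ w₁ : T, cm y w₁ = y * y := by
    rcases S.center_cases (cm y w₀) hcz hc1 (y * y) he with h1 | h1 | h1 | h1
    · exact absurd h1 he1
    · exact ⟨w₀, h1.symm⟩
    · refine ⟨ρ (ρ w₀), ?_⟩
      rw [S.cm_rho_right, S.cm_rho_right, S.fp.cube, h1]
    · refine ⟨ρ w₀, ?_⟩
      rw [S.cm_rho_right, h1]
  -- s = w₁²
  have hs : w₁ * w₁ ∈ center T := S.sq_mem_center w₁
  have hw₁nc : w₁ ∉ center T := by
    intro hc
    have : cm y w₁ = 1 := by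
      rw [cm_eq_one_iff]; exact (Setup.center_comm w₁ hc y).symm
    rw [hw₁] at this
    exact he1 this
  have hs1 : w₁ * w₁ ≠ 1 := fun h1 => hw₁nc (h w₁ h1)
  have hree : ρ (y * y) = ρ y * ρ y := map_mul ρ y y
  have hre : ρ (y * y) ∈ center T := Fpf3.center_inv ρ _ he
  have hrre : ρ (ρ (y * y)) ∈ center T := Fpf3.center_inv ρ _ hre
  -- e * ρ e * ρ² e = 1
  have htri := S.fp.tri (y * y)
  -- (w₁ ρy)² = s e
  have hcy : cm y (ρ y) = 1 := by rw [cm_eq_one_iff]; exact S.fp.comm1 y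
  have hsq : (w₁ * ρ y) * (w₁ * ρ y) = (w₁ * w₁) * (y * y) := by
    have h1 : ρ y * w₁ = ρ (ρ (y * y)) * (w₁ * ρ y) := by
      have := mul_eq_cm_mul (ρ y) w₁
      rw [S.cm_rho_left, hw₁] at this
      exact this
    have h2 : ρ (ρ (y * y)) * ρ (y * y) = y * y := by
      have h3 : (y * y) * (ρ (ρ (y * y)) * ρ (y * y)) = 1 := by
        rw [Setup.center_comm _ hrre (ρ (y * y)), ← mul_assoc]; exact htri
      have h4 := S.center_sq _ he
      calc ρ (ρ (y * y)) * ρ (y * y)
          = ((y * y) * (y * y)) * (ρ (ρ (y * y)) * ρ (y * y)) := by rw [h4, one_mul]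
        _ = (y * y) * ((y * y) * (ρ (ρ (y * y)) * ρ (y * y))) := by rw [mul_assoc]
        _ = y * y := by rw [h3, mul_one]
    calc (w₁ * ρ y) * (w₁ * ρ y) = w₁ * (ρ y * w₁) * ρ y := by group
      _ = w₁ * (ρ (ρ (y * y)) * (w₁ * ρ y)) * ρ y := by rw [h1]
      _ = w₁ * ((w₁ * ρ y) * ρ (ρ (y * y))) * ρ y := by
          rw [Setup.center_comm _ hrre (w₁ * ρ y)]
      _ = (w₁ * w₁) * (ρ y * ρ (ρ (y * y)) * ρ y) := by group
      _ = (w₁ * w₁) * (ρ (ρ (y * y)) * ρ y * ρ y) := by
          rw [Setup.center_comm _ hrre (ρ y)]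
      _ = (w₁ * w₁) * (ρ (ρ (y * y)) * ρ (y * y)) := by rw [hree]; group
      _ = (w₁ * w₁) * (y * y) := by rw [h2]
  have hcm2 : cm y (w₁ * ρ y) = y * y := by
    rw [S.cm_mul_right, hw₁, hcy, mul_one]
  -- s ≠ e
  have hse : w₁ * w₁ ≠ y * y := by
    intro hse
    have h1 : (w₁ * ρ y) * (w₁ * ρ y) = 1 := by
      rw [hsq, hse]; exact S.center_sq _ he
    have h2 := h _ h1
    have h3 : cm y (w₁ * ρ y) = 1 := by
      rw [cm_eq_one_iff]; exact (Setup.center_comm _ h2 y).symm
    rw [hcm2] at h3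
    exact he1 h3
  have hyw : ∀ w : T, cm y w = y * y → y * w ≠ w * y := by
    intro w hw hcomm
    rw [← cm_eq_one_iff, hw] at hcomm
    exact he1 hcomm
  rcases S.center_cases (y * y) he he1 (w₁ * w₁) hs with h1 | h1 | h1 | h1
  · exact absurd h1 hs1
  · exact absurd h1 hse
  · exact ⟨y, w₁, relU_of_key S y w₁ hw₁ h1, closure_eq_top S y w₁ he1 (hyw w₁ hw₁)⟩
  · refine ⟨y, w₁ * ρ y, relU_of_key S y (w₁ * ρ y) hcm2 ?_,
      closure_eq_top S y (w₁ * ρ y) he1 (hyw _ hcm2)⟩
    rw [hsq, h1]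
    -- ρ² e * e = ρ e
    have h3 : (y * y) * ρ (y * y) * ρ (ρ (y * y)) = 1 := htri
    have h4 := S.center_sq _ hre
    calc ρ (ρ (y * y)) * (y * y) = (y * y) * ρ (ρ (y * y)) := Setup.center_comm _ hrre _
      _ = (ρ (y * y) * ρ (y * y)) * ((y * y) * ρ (ρ (y * y))) := by rw [h4, one_mul]
      _ = ρ (y * y) * (ρ (y * y) * (y * y) * ρ (ρ (y * y))) := by group
      _ = ρ (y * y) * ((y * y) * ρ (y * y) * ρ (ρ (y * y))) := by
          rw [Setup.center_comm _ hre (y * y)]
      _ = ρ (y * y) := by rw [h3, mul_one]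

end Cfsg.H5.S2933FOH1
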