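import Mathlib
import Cfsg.Agent.H5.S1903FOB

/-!
# S2933 FO-H2 (architect helper12): the relations `RelU` bound the order by 64.
-/

set_option autoImplicit false

namespace Cfsg.H5.S2933FOH2

open Cfsg.H5.S1903FOB

/-- the relations of `Syl₂ U₃(4)` on four generators `y, y' = σ y, w, w' = σ w`
(same body as `S2933Skel.RelU` of the skeleton) -/
def RelU {G : Type*} [Group G] (y y' w w' : G) : Prop :=
  (y * y) * (y * y) = 1 ∧ (y' * y') * (y' * y') = 1 ∧
  (y * y) * y' = y' * (y * y) ∧ (y * y) * w = w * (y * y) ∧ (y * y) * w' = w' * (y * y) ∧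
  (y' * y') * y = y * (y' * y') ∧ (y' * y') * w = w * (y' * y') ∧ (y' * y') * w' = w' * (y' * y') ∧
  y * y' = y' * y ∧ w * w' = w' * w ∧
  w * w = y' * y' ∧ w' * w' = (y * y) * (y' * y') ∧
  y * w = (y * y) * (w * y) ∧ y' * w = ((y * y) * (y' * y')) * (w * y') ∧
  y * w' = ((y * y) * (y' * y')) * (w' * y) ∧ y' * w' = (y' * y') * (w' * y')

/-- **FO-H2**, in unfolded form. -/
theorem card_le_of_rel {G : Type*} [Group G] (y y' w w' : G)
    (h : (y * y) * (y * y) = 1 ∧ (y' * y') * (y' * y') = 1 ∧
      (y * y) * y' = y' * (y * y) ∧ (y * y) * w = w * (y * y) ∧ (y * y) * w' = w' * (y * y) ∧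
      (y' * y') * y = y * (y' * y') ∧ (y' * y') * w = w * (y' * y') ∧
      (y' * y') * w' = w' * (y' * y') ∧
      y * y' = y' * y ∧ w * w' = w' * w ∧
      w * w = y' * y' ∧ w' * w' = (y * y) * (y' * y') ∧
      y * w = (y * y) * (w * y) ∧ y' * w = ((y * y) * (y' * y')) * (w * y') ∧
      y * w' = ((y * y) * (y' * y')) * (w' * y) ∧ y' * w' = (y' * y') * (w' * y'))
    (hgen : Subgroup.closure {y, y', w, w'} = ⊤) : Nat.card G ≤ 64 := by
  obtain ⟨r1, r2, r3, r4, r5, r6, r7, r8, r9, r10, r11, r12, r13, r14, r15, r16⟩ := h
  set e := y * y with he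
  set e' := y' * y' with he'
  -- commutation facts
  have cey : e * y = y * e := by rw [he]; group
  have cey' : e * y' = y' * e := r3
  have cew : e * w = w * e := r4
  have cew' : e * w' = w' * e := r5
  have ce'y : e' * y = y * e' := r6
  have ce'y' : e' * y' = y' * e' := by rw [he']; group
  have ce'w : e' * w = w * e' := r7
  have ce'w' : e' * w' = w' * e' := r8
  have cee' : e' * e = e * e' := by
    rw [he, ← mul_assoc, ce'y, mul_assoc, ce'y, ← mul_assoc]
  have einv : e⁻¹ = e := inv_eq_of_mul_eq_one_right r1
  have e'inv : e'⁻¹ = e' := inv_eq_of_mul_eq_one_right r2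
  -- conjugation of a commuting element
  have cz : ∀ (x z : G), z * x = x * z → x * z * x⁻¹ = z := by
    intro x z hzx
    rw [← hzx, mul_inv_cancel_right]
  -- conjugation formulas
  have wy : w * y * w⁻¹ = e * y := by
    have : w * y = e * y * w := by
      rw [mul_assoc, r13, ← mul_assoc, ← mul_assoc, r1, one_mul]
    rw [this, mul_inv_cancel_right]
  have wy' : w * y' * w⁻¹ = (e * e') * y' := by
    have h1 : (e * e') * (e * e') = 1 := by
      rw [mul_assoc, ← mul_assoc e' e e', cee', mul_assoc e e' e', r2, mul_one, r1]
    have : w * y' = (e * e') * y' * w := by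
      rw [mul_assoc, r14, ← mul_assoc, h1, one_mul]
    rw [this, mul_inv_cancel_right]
  have w'y : w' * y * w'⁻¹ = (e * e') * y := by
    have h1 : (e * e') * (e * e') = 1 := by
      rw [mul_assoc, ← mul_assoc e' e e', cee', mul_assoc e e' e', r2, mul_one, r1]
    have : w' * y = (e * e') * y * w' := by
      rw [mul_assoc, r15, ← mul_assoc, h1, one_mul]
    rw [this, mul_inv_cancel_right]
  have w'y' : w' * y' * w'⁻¹ = e' * y' := by
    have : w' * y' = e' * y' * w' := by
      rw [mul_assoc, r16, ← mul_assoc, r2, one_mul]
    rw [this, mul_inv_cancel_right]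
  have w'w : w' * w * w'⁻¹ = w := cz _ _ r10
  have y'y : y' * y * y'⁻¹ = y := cz _ _ r9
  -- the chain
  have h0 : Finite ↥(Subgroup.closure (∅ : Set G)) ∧
      Nat.card ↥(Subgroup.closure (∅ : Set G)) ≤ 1 := by
    rw [Subgroup.closure_empty]
    exact ⟨inferInstance, by simp⟩
  have h1 := step e 2 (by norm_num) 1 h0 (by simp) (by rw [pow_two, r1]; exact one_mem _)
  have h2 := step e' 2 (by norm_num) _ h1
    (by
      intro s hs
      rw [Set.mem_insert_iff, Set.mem_empty_iff_false, or_false] at hs
      subst hs
      rw [cz _ _ cee'.symm]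
      exact Subgroup.subset_closure (by simp))
    (by rw [pow_two, r2]; exact one_mem _)
  have h3 := step y 2 (by norm_num) _ h2
    (by
      intro s hs
      simp only [Set.mem_insert_iff, Set.mem_empty_iff_false, or_false] at hs
      rcases hs with rfl | rfl
      · rw [cz _ _ ce'y]; exact Subgroup.subset_closure (by simp)
      · rw [cz _ _ cey]; exact Subgroup.subset_closure (by simp))
    (by
      rw [pow_two, ← he]
      exact Subgroup.subset_closure (by simp))
  have h4 := step y' 2 (by norm_num) _ h3
    (by
      intro s hs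
      simp only [Set.mem_insert_iff, Set.mem_empty_iff_false, or_false] at hs
      rcases hs with rfl | rfl | rfl
      · rw [y'y]; exact Subgroup.subset_closure (by simp)
      · rw [cz _ _ ce'y']; exact Subgroup.subset_closure (by simp)
      · rw [cz _ _ cey']; exact Subgroup.subset_closure (by simp))
    (by
      rw [pow_two, ← he']
      exact Subgroup.subset_closure (by simp))
  have h5 := step w 2 (by norm_num) _ h4
    (by
      intro s hs
      simp only [Set.mem_insert_iff, Set.mem_empty_iff_false, or_false] at hs
      rcases hs with rfl | rfl | rfl | rfl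
      · rw [wy']
        exact mul_mem (mul_mem (Subgroup.subset_closure (by simp))
          (Subgroup.subset_closure (by simp))) (Subgroup.subset_closure (by simp))
      · rw [wy]
        exact mul_mem (Subgroup.subset_closure (by simp)) (Subgroup.subset_closure (by simp))
      · rw [cz _ _ ce'w]; exact Subgroup.subset_closure (by simp)
      · rw [cz _ _ cew]; exact Subgroup.subset_closure (by simp))
    (by
      rw [pow_two, r11]
      exact Subgroup.subset_closure (by simp))
  have h6 := step w' 2 (by norm_num) _ h5
    (by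
      intro s hs
      simp only [Set.mem_insert_iff, Set.mem_empty_iff_false, or_false] at hs
      rcases hs with rfl | rfl | rfl | rfl | rfl
      · rw [w'w]; exact Subgroup.subset_closure (by simp)
      · rw [w'y']
        exact mul_mem (Subgroup.subset_closure (by simp)) (Subgroup.subset_closure (by simp))
      · rw [w'y]
        exact mul_mem (mul_mem (Subgroup.subset_closure (by simp))
          (Subgroup.subset_closure (by simp))) (Subgroup.subset_closure (by simp))
      · rw [cz _ _ ce'w']; exact Subgroup.subset_closure (by simp)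
      · rw [cz _ _ cew']; exact Subgroup.subset_closure (by simp))
    (by
      rw [pow_two, r12]
      exact mul_mem (Subgroup.subset_closure (by simp)) (Subgroup.subset_closure (by simp)))
  have htop : Subgroup.closure (insert w' (insert w (insert y' (insert y
      (insert e' (insert e (∅ : Set G))))))) = ⊤ := by
    rw [eq_top_iff, ← hgen, Subgroup.closure_le]
    intro z hz
    simp only [Set.mem_insert_iff, Set.mem_singleton_iff] at hz
    rcases hz with rfl | rfl | rfl | rfl
    all_goals exact Subgroup.subset_closure (by simp)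
  rw [htop] at h6
  have h8 : Nat.card G = Nat.card ↥(⊤ : Subgroup G) := (Subgroup.card_top).symm
  rw [h8]
  exact h6.2.trans (by norm_num)

/-- **FO-H2**, exact skeleton signature (with this namespace's copy of `RelU`). -/
theorem card_le_of_RelU {G : Type*} [Group G] [Finite G] (y y' w w' : G) (h : RelU y y' w w')
    (hgen : Subgroup.closure {y, y', w, w'} = ⊤) : Nat.card G ≤ 64 :=
  card_le_of_rel y y' w w' h hgen

end Cfsg.H5.S2933FOH2
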