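import Mathlib
import Cfsg.Agent.H5.S2933FOH2
import Cfsg.Agent.Lib.Helper12.S2933RelU

/-!
# S2933 FO-H2 (architect helper12), stated with `Cfsg.Agent.Lib.Helper12.S2933.RelU`.
-/

set_option autoImplicit false

namespace Cfsg.H5.S2933FOH2b

open Cfsg.Agent.Lib.Helper12.S2933

/-- **FO-H2**, exact skeleton signature with helper12's landed `RelU`. -/
theorem card_le_of_RelU {G : Type*} [Group G] [Finite G] (y y' w w' : G) (h : RelU y y' w w')
    (hgen : Subgroup.closure {y, y', w, w'} = ⊤) : Nat.card G ≤ 64 :=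
  Cfsg.H5.S2933FOH2.card_le_of_rel y y' w w' h hgen

end Cfsg.H5.S2933FOH2b
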