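import Mathlib
import Cfsg.Prelude.Def_Classical
import Cfsg.Agent.Lib.Helper15.SO8a
import Cfsg.Agent.Lib.Helper15.QuadCount7
import Cfsg.Agent.Lib.Helper15.QuadClassify

/-!
# S3589 FO-4 (for helper15): from an abstract 8-dimensional minus-type realisation to the matrix group
-/

set_option autoImplicit false
open Module QuadraticMap

namespace Cfsg.H5.S3589

open Cfsg.Agent.Lib.Helper15

variable {F : Type*} [Field F]

/-- transport an isometry along a coordinatisation -/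
theorem exists_of_coord {ι : Type} [Fintype ι] [DecidableEq ι] (Qf : (ι → F) → F)
    {V : Type*} [AddCommGroup V] [Module F V] (Q : V → F) (g : V ≃ₗ[F] V)
    (hg : ∀ v, Q (g v) = Q v) (h : V ≃ₗ[F] (ι → F)) (hh : ∀ v, Q v = Qf (h v)) :
    ∃ g' : ↥(Cfsg.isometryGroup F Qf), orderOf g' = orderOf g := by
  classical
  set b : Module.Basis ι F V := Module.Basis.ofEquivFun h with hb
  set M : GL ι F := (Matrix.GeneralLinearGroup.toLin' b).symm
    ((LinearMap.GeneralLinearGroup.generalLinearEquiv F V).symm g) with hM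
  have h1 : Matrix.GeneralLinearGroup.toLin' b M = (LinearMap.GeneralLinearGroup.generalLinearEquiv F V).symm g := by
    rw [hM, MulEquiv.apply_symm_apply]
  have h2 : ∀ v : V, h (g v) = (M : Matrix ι ι F).mulVec (h v) := by
    intro v
    have := Matrix.GeneralLinearGroup.toLin'_apply b M v
    rw [h1] at this
    have h3 : ((LinearMap.GeneralLinearGroup.generalLinearEquiv F V).symm g).toLinearEquiv v = g v := rfl
    rw [h3] at this
    rw [this]
    have h4 : ∀ w : ι → F, h (Fintype.linearCombination F (⇑b) w) = w := by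
      intro w
      have : Fintype.linearCombination F (⇑b) w = b.equivFun.symm w := by
        rw [Module.Basis.equivFun_symm_apply, Fintype.linearCombination_apply]
      rw [this, hb, Module.Basis.equivFun_ofEquivFun, LinearEquiv.apply_symm_apply]
    rw [h4]
    congr 1
  have hmem : M ∈ Cfsg.isometryGroup F Qf := by
    rw [mem_isometryGroup_iff]
    intro u
    have := h2 (h.symm u)
    rw [LinearEquiv.apply_symm_apply] at this
    rw [← this, ← hh, hg, hh, LinearEquiv.apply_symm_apply]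
  refine ⟨⟨M, hmem⟩, ?_⟩
  rw [Subgroup.orderOf_mk, hM, MulEquiv.orderOf_eq, MulEquiv.orderOf_eq]


section fin
variable [Fintype F]

omit [Fintype F] in
/-- an anisotropic binary form `z₁² + z₁z₂ + ζ z₂²` from irreducibility of `t² + t + ζ` -/
theorem aniso_of_irr (ζ : F) (hirr : ∀ t : F, t ^ 2 + t + ζ ≠ 0) :
    ∀ z₁ z₂ : F, z₁ ^ 2 + 1 * z₁ * z₂ + ζ * z₂ ^ 2 = 0 → z₁ = 0 ∧ z₂ = 0 := by
  intro z₁ z₂ h
  by_cases h2 : z₂ = 0
  · subst h2
    refine ⟨?_, rfl⟩
    have : z₁ ^ 2 = 0 := by linear_combination h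
    exact pow_eq_zero_iff (two_ne_zero) |>.mp this
  · exfalso
    apply hirr (z₁ / z₂)
    field_simp
    linear_combination h

/-- the two quadratic forms of minus type are isometric -/
theorem exists_minus_iso (a b : F)
    (hab : ∀ z₁ z₂ : F, z₁ ^ 2 + a * z₁ * z₂ + b * z₂ ^ 2 = 0 → z₁ = 0 ∧ z₂ = 0)
    (ζ : F) (hirr : ∀ t : F, t ^ 2 + t + ζ ≠ 0) (k : ℕ) :
    ∃ Ψ : ((Fin k ⊕ Fin k) ⊕ Fin 2 → F) ≃ₗ[F] ((Fin k ⊕ Fin k) ⊕ Fin 2 → F),
      ∀ v, Cfsg.quadFormMinus k F 1 ζ (Ψ v) = Cfsg.quadFormMinus k F a b v := by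
  classical
  have hab' := aniso_of_irr ζ hirr
  have hN : ∀ c, Nat.card {w : Fin 2 → F // binForm 1 ζ w = c} =
      Nat.card {z : Fin 2 → F // binForm a b z = c} := by
    intro c
    rw [card_binForm_value 1 ζ hab' c, card_binForm_value a b hab c]
  obtain ⟨Φ, hΦ⟩ := exists_isometry_binForm a b hab (binForm 1 ζ) (nondegenerate_binForm 1 ζ hab')
    (by rw [Module.finrank_pi, Fintype.card_fin]) hN
  have hinj : Function.Injective Φ := by
    rw [← LinearMap.ker_eq_bot, LinearMap.ker_eq_bot']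
    intro x hx
    have h1 := hΦ x
    rw [hx, map_zero] at h1
    have h2 := (binForm_eq_zero_iff a b hab x).mp h1.symm
    exact h2
  set Φe : (Fin 2 → F) ≃ₗ[F] (Fin 2 → F) := LinearEquiv.ofInjectiveEndo Φ hinj with hΦe
  have hΦe' : ∀ x, Φe x = Φ x := fun x => rfl
  refine ⟨(LinearEquiv.sumArrowLequivProdArrow (Fin k ⊕ Fin k) (Fin 2) F F).trans
    ((LinearEquiv.prodCongr (LinearEquiv.refl F _) Φe).trans
      (LinearEquiv.sumArrowLequivProdArrow (Fin k ⊕ Fin k) (Fin 2) F F).symm), ?_⟩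
  intro v
  have h3 := hΦ (fun j => v (Sum.inr j))
  rw [binForm_apply, binForm_apply] at h3
  unfold Cfsg.quadFormMinus
  simp only [LinearEquiv.trans_apply, LinearEquiv.prodCongr_apply, LinearEquiv.refl_apply,
    LinearEquiv.sumArrowLequivProdArrow_apply_fst,
    LinearEquiv.sumArrowLequivProdArrow_symm_apply_inl, LinearEquiv.sumArrowLequivProdArrow_symm_apply_inr,
    hΦe']
  have e2 : ((LinearEquiv.sumArrowLequivProdArrow (Fin k ⊕ Fin k) (Fin 2) F F) v).2 = fun j => v (Sum.inr j) := rfl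
  rw [e2, h3]


theorem plus_arith_false (q : ℕ) (hq : 1 ≤ q) :
    ¬ (q * ((q ^ 4 - 1) * q ^ (4 - 1) + q ^ 4) < q ^ 8) := by
  obtain ⟨A, hA⟩ : ∃ A, q ^ 4 = A + 1 := ⟨q ^ 4 - 1, (Nat.sub_add_cancel (Nat.one_le_pow _ _ hq)).symm⟩
  have h1 : q ^ 4 - 1 = A := by omega
  rw [h1]
  have h8 : q ^ 8 = (A + 1) * (A + 1) := by rw [← hA]; ring
  have h5 : q ^ 4 ≤ q * q ^ 4 := Nat.le_mul_of_pos_left _ hq
  have h3 : q * (A * q ^ (4 - 1) + q ^ 4) = A * q ^ 4 + q * q ^ 4 := by
    norm_num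
    ring
  rw [h3, h8, hA] at *
  nlinarith

/-- **FO-4** of the S3589 farm-out (exact signature of `notes/S3589_farmout_helper15.lean.txt`). -/
theorem isometry_of_realIn [CharP F 2] (a b : F)
    (hab : ∀ z₁ z₂ : F, z₁ ^ 2 + a * z₁ * z₂ + b * z₂ ^ 2 = 0 → z₁ = 0 ∧ z₂ = 0)
    {V : Type*} [AddCommGroup V] [Module F V] [FiniteDimensional F V] (hV : finrank F V = 8) {N : ℕ}
    (h : Cfsg.Agent.Lib.Helper15.SO8.RealIn F V false N) :
    ∃ g : ↥(Cfsg.isometryGroup F (Cfsg.quadFormMinus 3 F a b)), orderOf g = N := by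
  classical
  obtain ⟨Q, g, hQ, hg, hord, hcnt⟩ := h
  simp only [Bool.false_eq_true, if_false] at hcnt
  rcases classify_even Q hQ 4 (by norm_num) (by rw [hV]) with ⟨g₀, hg₀⟩ | ⟨ζ, hirr, g₀, hg₀⟩
  · exfalso
    have h1 : SO8.nz F Q = Nat.card {w : Fin 4 ⊕ Fin 4 → F // Cfsg.quadFormPlus 4 F w = 0} := by
      unfold SO8.nz
      exact Nat.card_congr (g₀.toEquiv.subtypeEquiv (fun v => by rw [hg₀ v]; rfl))
    rw [h1, card_plus_value 4 0, if_pos rfl] at hcnt
    have h2 : Nat.card V = Fintype.card F ^ 8 := by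
      rw [Module.natCard_eq_pow_finrank (K := F), hV, Nat.card_eq_fintype_card]
    rw [h2] at hcnt
    exact plus_arith_false _ Fintype.card_pos hcnt
  · obtain ⟨Ψ, hΨ⟩ := exists_minus_iso a b hab ζ hirr 3
    obtain ⟨g', hg'⟩ := exists_of_coord (Cfsg.quadFormMinus 3 F a b) Q g hg (g₀.trans Ψ.symm) (fun v => by
      rw [hg₀ v, ← hΨ, LinearEquiv.trans_apply, LinearEquiv.apply_symm_apply])
    exact ⟨g', hg'.trans hord⟩

end fin

end Cfsg.H5.S3589
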