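import Mathlib
import Cfsg.Agent.Lib.Helper15.SO8a
import Cfsg.Agent.Lib.Helper15.SO8f
import Cfsg.Agent.Lib.Helper15.SO8g
import Cfsg.Agent.Lib.Helper15.SO8h
import Cfsg.Agent.Lib.Helper15.SO9a
import Cfsg.Agent.Lib.Helper15.SO9c

/-!
# S3590 farm-out pieces FO-B3, FO-B4, FO-B7, FO-B8 (architect helper15)
-/

set_option autoImplicit false
set_option linter.unusedSectionVars false

namespace Cfsg.H5.S3590B

open Module QuadraticMap Cfsg.Agent.Lib.Helper15 Cfsg.Agent.Lib.Helper15.SO8 Cfsg.Agent.Lib.Helper15.SO9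

variable {F : Type*} [Field F] [Fintype F]

section general

variable {V : Type*} [AddCommGroup V] [Module F V]

/-- the identity has rank-defect `0` -/
theorem rk_one : rk (1 : V ≃ₗ[F] V) = 0 := by
  unfold rk
  have : ((1 : V ≃ₗ[F] V).toLinearMap - LinearMap.id : V →ₗ[F] V) = 0 := by
    ext x; simp
  rw [this, LinearMap.range_zero, finrank_bot]

/-- order condition for the identity with a nonzero vector, characteristic `2` -/
theorem order_one [CharP F 2] {v : V} (hv : v ≠ 0) :
    ∀ m : ℕ, (1 : V ≃ₗ[F] V) ^ m = 1 →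
      (∑ i ∈ Finset.range m, (((1 : V ≃ₗ[F] V) ^ i) v)) = 0 → 2 ∣ m := by
  intro m _ hs
  have h1 : ∀ i ∈ Finset.range m, (((1 : V ≃ₗ[F] V) ^ i) v) = v := by
    intro i _
    rw [one_pow]; rfl
  rw [Finset.sum_congr rfl h1, Finset.sum_const, Finset.card_range] at hs
  have h2 : ((m : F)) • v = 0 := by
    rw [Nat.cast_smul_eq_nsmul]; exact hs
  rcases smul_eq_zero.mp h2 with h3 | h3
  · exact (CharP.cast_eq_zero_iff F 2 m).mp h3
  · exact absurd h3 hv

/-- rank `1` from an explicit description of the range -/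
theorem rk_eq_one (g : V ≃ₗ[F] V) (w : V) (hw : w ≠ 0)
    (h1 : ∀ x, ∃ c : F, g x - x = c • w) (h2 : ∃ x, g x - x = w) : rk g = 1 := by
  unfold rk
  have : LinearMap.range (g.toLinearMap - LinearMap.id : V →ₗ[F] V) = Submodule.span F {w} := by
    apply le_antisymm
    · rintro _ ⟨x, rfl⟩
      obtain ⟨c, hc⟩ := h1 x
      rw [Submodule.mem_span_singleton]
      exact ⟨c, by simp [hc]⟩
    · rw [Submodule.span_singleton_le_iff_mem]
      obtain ⟨x, hx⟩ := h2
      exact ⟨x, by simp [hx]⟩
  rw [this, finrank_span_singleton hw]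

end general

/-- FO-B3. -/
theorem aff_id_plus [CharP F 2] : RealAff F ((Fin 1 → F) × (Fin 1 → F)) true true 2 := by
  classical
  refine ⟨dotQ F (Fin 1), 1, ((fun _ => 1), 0), nondegenerate_dotQ F (Fin 1), fun x => rfl, ?_,
    ?_, ?_⟩
  · rw [rk_one]; simp
  · apply order_one
    intro h
    have := congrArg (fun p : (Fin 1 → F) × (Fin 1 → F) => p.1 0) h
    simp at this
  · rw [if_pos rfl]
    exact sign_dotQ F (Fin 1) (by simp)

/-- FO-B4. -/
theorem aff_id_minus [CharP F 2] (a b : F)
    (hab : ∀ z₁ z₂ : F, z₁ ^ 2 + a * z₁ * z₂ + b * z₂ ^ 2 = 0 → z₁ = 0 ∧ z₂ = 0) :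
    RealAff F (Fin 2 → F) false true 2 := by
  classical
  refine ⟨binForm a b, 1, ![1, 0], nondegenerate_binForm a b hab, fun x => rfl, ?_, ?_, ?_⟩
  · rw [rk_one]; simp
  · apply order_one
    intro h
    have := congrFun h 0
    simp at this
  · simp only [Bool.false_eq_true, if_false]
    have hz : nz F (binForm a b) = 1 := card_binForm_zero a b hab
    rw [hz, mul_one, Nat.card_eq_fintype_card, Fintype.card_fun, Fintype.card_fin]
    have hq : 2 ≤ Fintype.card F := Fintype.one_lt_card
    nlinarith

/-- FO-B7. -/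
theorem aff_refl_plus [CharP F 2] : RealAff F ((Fin 1 → F) × (Fin 1 → F)) true false 1 := by
  classical
  have h2 : (2 : F) = 0 := CharTwo.two_eq_zero
  refine ⟨dotQ F (Fin 1), LinearEquiv.prodComm F (Fin 1 → F) (Fin 1 → F), 0,
    nondegenerate_dotQ F (Fin 1), ?_, ?_, fun m _ _ => one_dvd m, ?_⟩
  · intro p
    rw [dotQ_apply, dotQ_apply]
    exact dotProduct_comm _ _
  · have hrk : rk (LinearEquiv.prodComm F (Fin 1 → F) (Fin 1 → F)) = 1 := by
      apply rk_eq_one _ ((fun _ => 1), (fun _ => 1))
      · intro h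
        have := congrArg (fun p : (Fin 1 → F) × (Fin 1 → F) => p.1 0) h
        simp at this
      · intro x
        refine ⟨x.2 0 - x.1 0, ?_⟩
        apply Prod.ext
        · funext i
          have hi : i = 0 := Subsingleton.elim _ _
          subst hi
          simp
        · funext i
          have hi : i = 0 := Subsingleton.elim _ _
          subst hi
          simp only [LinearEquiv.prodComm_apply, Prod.snd_swap, Prod.snd_sub, Pi.sub_apply, Prod.smul_snd,
            Pi.smul_apply, smul_eq_mul, mul_one]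
          linear_combination (x.1 0 - x.2 0) * h2
      · refine ⟨(0, (fun _ => 1)), ?_⟩
        apply Prod.ext
        · funext i; simp
        · funext i
          simp only [LinearEquiv.prodComm_apply, Prod.snd_swap, Prod.snd_sub, Pi.sub_apply, Pi.zero_apply]
          linear_combination (-1 : F) * h2
    rw [hrk]; simp
  · rw [if_pos rfl]
    exact sign_dotQ F (Fin 1) (by simp)

/-- FO-B8. -/
theorem aff_refl_minus [CharP F 2] (a b : F)
    (hab : ∀ z₁ z₂ : F, z₁ ^ 2 + a * z₁ * z₂ + b * z₂ ^ 2 = 0 → z₁ = 0 ∧ z₂ = 0) :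
    RealAff F (Fin 2 → F) false false 1 := by
  classical
  have h2 : (2 : F) = 0 := CharTwo.two_eq_zero
  have ha : a ≠ 0 := a_ne_zero_of_two_eq_zero a b hab h2
  refine ⟨binForm a b, conjL a, 0, nondegenerate_binForm a b hab, fun v => binForm_conjB a b v, ?_,
    fun m _ _ => one_dvd m, ?_⟩
  · have hrk : rk (conjL (F := F) a) = 1 := by
      apply rk_eq_one _ ![1, 0]
      · intro h
        have := congrFun h 0
        simp at this
      · intro x
        refine ⟨a * x 1, ?_⟩
        funext i
        fin_cases i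
        · simp [conjL_apply, conjB]
        · simp only [conjL_apply, conjB, Fin.mk_one, Pi.sub_apply, Matrix.cons_val_one,
            Matrix.cons_val_zero, Pi.smul_apply, smul_eq_mul, mul_zero]
          linear_combination (-x 1) * h2
      · refine ⟨![0, a⁻¹], ?_⟩
        funext i
        fin_cases i
        · simp [conjL_apply, conjB, ha]
        · simp only [conjL_apply, conjB, Fin.mk_one, Pi.sub_apply, Matrix.cons_val_one,
            Matrix.cons_val_zero]
          linear_combination (-a⁻¹) * h2
    rw [hrk]; simp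
  · simp only [Bool.false_eq_true, if_false]
    have hz : nz F (binForm a b) = 1 := card_binForm_zero a b hab
    rw [hz, mul_one, Nat.card_eq_fintype_card, Fintype.card_fun, Fintype.card_fin]
    have hq : 2 ≤ Fintype.card F := Fintype.one_lt_card
    nlinarith

end Cfsg.H5.S3590B
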