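import Mathlib
import Cfsg.Agent.Lib.Helper20.HKKG

/-!
# S3779 piece E (architect helper20): from a fixed-point-free automorphism of prime order to a
`ZMod p`-grading (convolution Lie ring on `ZMod p → L`).
-/

set_option autoImplicit false

namespace Cfsg.H5.S3779E

open Cfsg.Agent.Lib.Helper20.HKK

universe u

/-- functions `ZMod p → L`, to carry the convolution bracket -/
def Conv (p : ℕ) (L : Type u) : Type u := ZMod p → L

namespace Conv

variable {p : ℕ} {L : Type u}

instance [AddCommGroup L] : AddCommGroup (Conv p L) := inferInstanceAs (AddCommGroup (ZMod p → L))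

@[ext] theorem ext {f g : Conv p L} (h : ∀ k, f k = g k) : f = g := funext h

section apply

variable [AddCommGroup L]

@[simp] theorem add_apply (f g : Conv p L) (k : ZMod p) : (f + g) k = f k + g k := rfl
@[simp] theorem zero_apply (k : ZMod p) : (0 : Conv p L) k = 0 := rfl
@[simp] theorem neg_apply (f : Conv p L) (k : ZMod p) : (-f) k = -f k := rfl
@[simp] theorem sub_apply (f g : Conv p L) (k : ZMod p) : (f - g) k = f k - g k := rfl

theorem sum_apply {ι : Type*} (s : Finset ι) (F : ι → Conv p L) (k : ZMod p) :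
    (∑ i ∈ s, F i) k = ∑ i ∈ s, F i k := by
  classical
  induction s using Finset.induction_on with
  | empty => simp
  | insert a s ha ih => rw [Finset.sum_insert ha, Finset.sum_insert ha, add_apply, ih]

end apply

variable [NeZero p] [LieRing L]

instance : Bracket (Conv p L) (Conv p L) :=
  ⟨fun f g => fun k => ∑ i : ZMod p, ⁅f i, g (k - i)⁆⟩

theorem lie_apply (f g : Conv p L) (k : ZMod p) :
    (⁅f, g⁆ : Conv p L) k = ∑ i : ZMod p, ⁅f i, g (k - i)⁆ :=
  rfl

instance : LieRing (Conv p L) where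
  add_lie x y z := by
    ext k
    simp only [lie_apply, add_apply, add_lie, Finset.sum_add_distrib]
  lie_add x y z := by
    ext k
    simp only [lie_apply, add_apply, lie_add, Finset.sum_add_distrib]
  lie_self x := by
    ext k
    rw [lie_apply, zero_apply]
    apply Finset.sum_involution (fun i _ => k - i)
    · intro i _
      rw [sub_sub_cancel, ← lie_skew, neg_add_cancel]
    · intro i _ hne heq
      apply hne
      rw [heq, lie_self]
    · intro i _; exact Finset.mem_univ _
    · intro i _; exact sub_sub_cancel k i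
  leibniz_lie x y z := by
    ext k
    simp only [lie_apply, add_apply, lie_sum, sum_lie]
    have h1 : ∑ s : ZMod p, ∑ i : ZMod p, ⁅⁅x i, y (s - i)⁆, z (k - s)⁆
        = ∑ i : ZMod p, ∑ j : ZMod p, ⁅⁅x i, y j⁆, z (k - i - j)⁆ := by
      rw [Finset.sum_comm]
      apply Finset.sum_congr rfl
      intro i _
      apply Fintype.sum_equiv (Equiv.subRight i)
      intro s
      simp only [Equiv.subRight_apply]
      congr 2
      ring
    have h2 : ∑ j : ZMod p, ∑ i : ZMod p, ⁅y j, ⁅x i, z (k - j - i)⁆⁆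
        = ∑ i : ZMod p, ∑ j : ZMod p, ⁅y j, ⁅x i, z (k - i - j)⁆⁆ := by
      rw [Finset.sum_comm]
      apply Finset.sum_congr rfl
      intro i _
      apply Finset.sum_congr rfl
      intro j _
      congr 3
      ring
    rw [h1, h2, ← Finset.sum_add_distrib]
    apply Finset.sum_congr rfl
    intro i _
    rw [← Finset.sum_add_distrib]
    apply Finset.sum_congr rfl
    intro j _
    exact leibniz_lie _ _ _

/-- the eigen-families -/
def eig (φ : L →+ L) (i : ZMod p) : AddSubgroup (Conv p L) where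
  carrier := {f | ∀ k, φ (f k) = f (k + i)}
  add_mem' := by
    intro f g hf hg k
    rw [add_apply, map_add, hf k, hg k, add_apply]
  zero_mem' := by
    intro k
    rw [zero_apply, map_zero, zero_apply]
  neg_mem' := by
    intro f hf k
    rw [neg_apply, map_neg, hf k, neg_apply]

theorem mem_eig (φ : L →+ L) (i : ZMod p) (f : Conv p L) :
    f ∈ eig φ i ↔ ∀ k, φ (f k) = f (k + i) := Iff.rfl

theorem eig_isGraded (φ : L →+ L) (hφ : ∀ x y, φ ⁅x, y⁆ = ⁅φ x, φ y⁆)
    (hfix : ∀ x, φ x = x → x = 0) : IsGraded (eig (p := p) φ) where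
  lie_mem := by
    intro i j f g hf hg k
    rw [lie_apply, lie_apply, map_sum]
    -- ∑ t, ⁅f (t+i), g (k - t + j)⁆ = ∑ t', ⁅f t', g (k + (i+j) - t')⁆
    apply Fintype.sum_equiv (Equiv.addRight i)
    intro t
    simp only [Equiv.coe_addRight]
    rw [hφ, hf t, hg (k - t)]
    congr 2
    ring
  zero := by
    rw [eq_bot_iff]
    intro f hf
    rw [AddSubgroup.mem_bot]
    ext k
    have := hf k
    rw [add_zero] at this
    rw [zero_apply]
    exact hfix _ this

/-- `δ₀ x` -/
def dl (x : L) : Conv p L := fun k => if k = 0 then x else 0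

/-- the constant function -/
def cst (x : L) : Conv p L := fun _ => x

theorem dl_apply (x : L) (k : ZMod p) : (dl x : Conv p L) k = if k = 0 then x else 0 := rfl

theorem cst_apply (x : L) (k : ZMod p) : (cst x : Conv p L) k = x := rfl

theorem dl_lie_dl (x y : L) : ⁅(dl x : Conv p L), (dl y : Conv p L)⁆ = dl ⁅x, y⁆ := by
  ext k
  rw [lie_apply]
  rw [Finset.sum_eq_single (0 : ZMod p)]
  · simp only [dl_apply, if_true, sub_zero]
    split_ifs
    · rfl
    · rw [lie_zero]
  · intro b _ hb
    simp only [dl_apply, if_neg hb, zero_lie]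
  · intro h; exact absurd (Finset.mem_univ _) h

theorem dl_lie_cst (x y : L) : ⁅(dl x : Conv p L), (cst y : Conv p L)⁆ = cst ⁅x, y⁆ := by
  ext k
  rw [lie_apply]
  rw [Finset.sum_eq_single (0 : ZMod p)]
  · simp only [dl_apply, if_true, cst_apply]
  · intro b _ hb
    simp only [dl_apply, if_neg hb, zero_lie]
  · intro h; exact absurd (Finset.mem_univ _) h

theorem cst_lie_dl (x y : L) : ⁅(cst x : Conv p L), (dl y : Conv p L)⁆ = cst ⁅x, y⁆ := by
  ext k
  rw [lie_apply]
  rw [Finset.sum_eq_single k]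
  · simp only [dl_apply, sub_self, if_true, cst_apply]
  · intro b _ hb
    have : k - b ≠ 0 := fun h => hb (sub_eq_zero.mp h).symm
    simp only [dl_apply, if_neg this, lie_zero]
  · intro h; exact absurd (Finset.mem_univ _) h

theorem cst_lie_cst (x y : L) : ⁅(cst x : Conv p L), (cst y : Conv p L)⁆ = p • cst ⁅x, y⁆ := by
  ext k
  rw [lie_apply]
  simp only [cst_apply, Finset.sum_const, Finset.card_univ, ZMod.card]
  rfl

/-- the embedding -/
def iota (m : ℕ) (x : L) : Conv p L := dl x - m • cst x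

theorem iota_lie (m : ℕ) (hm : ∀ x : L, (m * p) • x = x) (x y : L) :
    ⁅(iota m x : Conv p L), (iota m y : Conv p L)⁆ = iota m ⁅x, y⁆ := by
  unfold iota
  rw [sub_lie, lie_sub, lie_sub, dl_lie_dl, lie_nsmul, dl_lie_cst, nsmul_lie, cst_lie_dl,
    nsmul_lie, lie_nsmul, cst_lie_cst]
  have h1 : (m • m • p • (cst ⁅x, y⁆ : Conv p L)) = m • cst ⁅x, y⁆ := by
    ext k
    show m • m • p • ⁅x, y⁆ = m • ⁅x, y⁆
    rw [← mul_nsmul' ⁅x, y⁆ m p, hm]
  rw [h1]
  abel

theorem iota_apply (m : ℕ) (x : L) (k : ZMod p) :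
    (iota m x : Conv p L) k = if k = 0 then x - m • x else -(m • x) := by
  unfold iota
  rw [sub_apply, dl_apply]
  have : (m • (cst x : Conv p L)) k = m • x := rfl
  rw [this]
  split_ifs
  · rfl
  · rw [zero_sub]

theorem lprod_iota (m : ℕ) (hm : ∀ x : L, (m * p) • x = x) (l : List L) :
    ∀ a : L, lprod (iota m a : Conv p L) (l.map (iota m)) = iota m (lprod a l) := by
  induction l with
  | nil => intro a; rfl
  | cons u l ih =>
    intro a
    rw [List.map_cons, lprod_cons, lprod_cons, iota_lie m hm, ih]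

section decomposition

variable (φ : L →+ L)

omit [NeZero p] in
theorem iter_mod (hpow : ∀ x, φ^[p] x = x) (x : L) (n : ℕ) : φ^[n % p] x = φ^[n] x := by
  conv_rhs => rw [← Nat.mod_add_div n p]
  rw [Function.iterate_add_apply]
  congr 1
  rw [Function.iterate_mul]
  exact (Function.iterate_fixed (hpow x) _).symm

theorem iter_succ_val [Fact p.Prime] (hpow : ∀ x, φ^[p] x = x) (x : L) (j : ZMod p) :
    φ^[(j + 1).val] x = φ (φ^[j.val] x) := by
  haveI : Fact (1 < p) := ⟨(Fact.out : p.Prime).one_lt⟩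
  rw [ZMod.val_add, ZMod.val_one, iter_mod φ hpow, Function.iterate_succ_apply']

/-- the norm of `x` vanishes -/
theorem norm_eq_zero [Fact p.Prime] (hpow : ∀ x, φ^[p] x = x) (hfix : ∀ x, φ x = x → x = 0)
    (x : L) : ∑ j : ZMod p, φ^[j.val] x = 0 := by
  apply hfix
  rw [map_sum]
  apply Fintype.sum_equiv (Equiv.addRight (1 : ZMod p))
  intro j
  simp only [Equiv.coe_addRight]
  exact (iter_succ_val φ hpow x j).symm

/-- the homogeneous components of `iota m x` -/
def ee (m : ℕ) (x : L) (i : ZMod p) : Conv p L :=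
  fun k => m • ∑ j : ZMod p, if i * j = k then φ^[j.val] x else 0

theorem ee_mem [Fact p.Prime] (hpow : ∀ x, φ^[p] x = x) (m : ℕ) (x : L) (i : ZMod p) :
    ee φ m x i ∈ eig φ i := by
  intro k
  show φ (m • ∑ j : ZMod p, if i * j = k then φ^[j.val] x else 0)
    = m • ∑ j : ZMod p, if i * j = k + i then φ^[j.val] x else 0
  rw [map_nsmul, map_sum]
  congr 1
  apply Fintype.sum_equiv (Equiv.addRight (1 : ZMod p))
  intro j
  show φ (if i * j = k then φ^[j.val] x else 0)
    = if i * (j + 1) = k + i then φ^[(j + 1).val] x else 0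
  rw [iter_succ_val φ hpow]
  have : i * (j + 1) = k + i ↔ i * j = k := by
    rw [mul_add, mul_one, add_left_inj]
  by_cases h : i * j = k
  · rw [if_pos h, if_pos (this.mpr h)]
  · rw [if_neg h, if_neg (fun h' => h (this.mp h')), map_zero]

theorem sum_ee [Fact p.Prime] (hpow : ∀ x, φ^[p] x = x) (hfix : ∀ x, φ x = x → x = 0)
    (m : ℕ) (hm : ∀ x : L, (m * p) • x = x) (x : L) :
    ∑ i : ZMod p, ee φ m x i = iota m x := by
  ext k
  rw [sum_apply, iota_apply]
  show ∑ i : ZMod p, m • ∑ j : ZMod p, (if i * j = k then φ^[j.val] x else 0) = _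
  rw [← Finset.smul_sum, Finset.sum_comm]
  -- inner sums
  have hin : ∀ j : ZMod p, ∑ i : ZMod p, (if i * j = k then φ^[j.val] x else 0)
      = φ^[j.val] x + if j = 0 then ((if k = 0 then p • x else 0) - x) else 0 := by
    intro j
    by_cases hj : j = 0
    · subst hj
      simp only [mul_zero, ZMod.val_zero, Function.iterate_zero, id_eq, if_true]
      by_cases hk : k = 0
      · subst hk
        simp only [if_true, Finset.sum_const, Finset.card_univ, ZMod.card]
        abel
      · have hk' : ¬ (0 : ZMod p) = k := fun h => hk h.symm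
        simp only [if_neg hk', if_neg hk, Finset.sum_const_zero]
        abel
    · rw [if_neg hj, add_zero]
      rw [Finset.sum_eq_single (k * j⁻¹)]
      · rw [if_pos]
        rw [mul_assoc, inv_mul_cancel₀ hj, mul_one]
      · intro i _ hi
        rw [if_neg]
        intro h
        apply hi
        rw [← h, mul_assoc, mul_inv_cancel₀ hj, mul_one]
      · intro h; exact absurd (Finset.mem_univ _) h
  simp only [hin]
  rw [Finset.sum_add_distrib, norm_eq_zero φ hpow hfix, zero_add, Finset.sum_ite_eq']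
  simp only [Finset.mem_univ, if_true]
  by_cases hk : k = 0
  · rw [if_pos hk, if_pos hk, smul_sub, ← mul_nsmul', hm]
  · rw [if_neg hk, if_neg hk, zero_sub, smul_neg]

theorem iota_mem_iSup [Fact p.Prime] (hpow : ∀ x, φ^[p] x = x) (hfix : ∀ x, φ x = x → x = 0)
    (m : ℕ) (hm : ∀ x : L, (m * p) • x = x) (x : L) :
    (iota m x : Conv p L) ∈ ⨆ i, eig φ i := by
  rw [← sum_ee φ hpow hfix m hm x]
  apply AddSubgroup.sum_mem
  intro i _
  exact AddSubgroup.mem_iSup_of_mem i (ee_mem φ hpow m x i)

end decomposition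

end Conv

/-- **Piece E**, exact skeleton signature. -/
theorem lprod_eq_zero_of_fpf {L : Type*} [LieRing L] {p : ℕ} [Fact p.Prime] (φ : L →+ L)
    (hφ : ∀ x y, φ ⁅x, y⁆ = ⁅φ x, φ y⁆) (hpow : ∀ x, φ^[p] x = x)
    (hfix : ∀ x, φ x = x → x = 0) (m : ℕ) (hm : ∀ x : L, (m * p) • x = x)
    (a : L) (l : List L) (hlen : l.length = hkk p) : lprod a l = 0 := by
  haveI : NeZero p := ⟨(Fact.out : p.Prime).ne_zero⟩
  haveI : Fact (1 < p) := ⟨(Fact.out : p.Prime).one_lt⟩
  have h0 := lprod_eq_zero_of_graded (Conv.eig_isGraded (p := p) φ hφ hfix)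
    (Conv.iota m a) (l.map (Conv.iota m)) (Conv.iota_mem_iSup φ hpow hfix m hm a)
    (by
      intro y hy
      obtain ⟨x, _, rfl⟩ := List.mem_map.mp hy
      exact Conv.iota_mem_iSup φ hpow hfix m hm x)
    (by rw [List.length_map, hlen])
  rw [Conv.lprod_iota m hm] at h0
  set z := lprod a l with hz
  have h1 : (Conv.iota m z : Conv p L) 1 = 0 := by rw [h0]; rfl
  have h2 : (Conv.iota m z : Conv p L) 0 = 0 := by rw [h0]; rfl
  rw [Conv.iota_apply, if_neg (one_ne_zero), neg_eq_zero] at h1
  rw [Conv.iota_apply, if_pos rfl, h1, sub_zero] at h2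
  exact h2

end Cfsg.H5.S3779E
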