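import Mathlib

set_option autoImplicit false

namespace Cfsg.H5.SharpTwo

open MulAction

variable {Γ : Type*} [Group Γ] {α : Type*} [MulAction Γ α]

/-- fixed point free elements -/
def Fpf (g : Γ) : Prop := ∀ a : α, g • a ≠ a

/-- sharpness: only the identity fixes two points -/
def Sharp (Γ : Type*) [Group Γ] (α : Type*) [MulAction Γ α] : Prop :=
  ∀ (g : Γ) (a b : α), a ≠ b → g • a = a → g • b = b → g = 1

/-- double transitivity in elementwise form -/
def TwoTrans (Γ : Type*) [Group Γ] (α : Type*) [MulAction Γ α] : Prop :=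
  ∀ a b c d : α, a ≠ b → c ≠ d → ∃ g : Γ, g • a = c ∧ g • b = d

theorem eq_of_smul_eq (hS : Sharp Γ α) {g h : Γ} {a b : α} (hab : a ≠ b)
    (ha : g • a = h • a) (hb : g • b = h • b) : g = h := by
  have h1 : (h⁻¹ * g) • a = a := by rw [mul_smul, ha, inv_smul_smul]
  have h2 : (h⁻¹ * g) • b = b := by rw [mul_smul, hb, inv_smul_smul]
  have := hS _ a b hab h1 h2
  calc g = h * (h⁻¹ * g) := by group
    _ = h := by rw [this, mul_one]

theorem exists_swap (hS : Sharp Γ α) (hT : TwoTrans Γ α) {a b : α} (hab : a ≠ b) :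
    ∃ t : Γ, t • a = b ∧ t • b = a ∧ t * t = 1 ∧ t ≠ 1 := by
  obtain ⟨t, h1, h2⟩ := hT a b b a hab hab.symm
  refine ⟨t, h1, h2, ?_, ?_⟩
  · apply hS _ a b hab
    · rw [mul_smul, h1, h2]
    · rw [mul_smul, h2, h1]
  · intro h
    rw [h, one_smul] at h1
    exact hab h1

/-- the product of two distinct involutions without common fixed point is fixed point free -/
theorem fpf_mul_of_invol (hS : Sharp Γ α) {t t' : Γ} (ht : t * t = 1) (ht' : t' * t' = 1)
    (hne : t ≠ t') (hfix : ∀ c : α, ¬ (t • c = c ∧ t' • c = c)) : Fpf (α := α) (t * t') := by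
  intro c hc
  rw [mul_smul] at hc
  -- t' c = t c
  have h1 : t' • c = t • c := by
    have : t • (t • (t' • c)) = t • c := by rw [hc]
    rwa [← mul_smul, ht, one_smul] at this
  by_cases hd : t • c = c
  · exact hfix c ⟨hd, by rw [h1, hd]⟩
  · apply hne
    apply eq_of_smul_eq hS (a := c) (b := t • c) (Ne.symm hd) h1.symm
    rw [← mul_smul, ht, one_smul, ← h1, ← mul_smul, ht', one_smul]

theorem fixedBy_subsingleton (hS : Sharp Γ α) {g : Γ} (hg : g ≠ 1) {a b : α}
    (ha : g • a = a) (hb : g • b = b) : a = b := by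
  by_contra hab
  exact hg (hS g a b hab ha hb)

section count

variable [Finite Γ] [Finite α]

open Classical in
/-- Burnside count: the number of fixed point free elements of a sharply doubly transitive group
is the degree minus one. -/
theorem card_fpf (hS : Sharp Γ α) [IsPretransitive Γ α] [Nonempty α] :
    Nat.card {g : Γ // Fpf (α := α) g} + 1 = Nat.card α := by
  have : Fintype Γ := Fintype.ofFinite Γ
  have : Fintype α := Fintype.ofFinite α
  have hB := MulAction.sum_card_fixedBy_eq_card_orbits_mul_card_group Γ α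
  have horb : Fintype.card (Quotient (orbitRel Γ α)) = 1 := by
    rw [Fintype.card_eq_one_iff]
    obtain ⟨a⟩ := (inferInstance : Nonempty α)
    refine ⟨Quotient.mk'' a, ?_⟩
    intro q
    induction q using Quotient.inductionOn' with
    | h b =>
      apply Quotient.sound'
      exact MulAction.exists_smul_eq Γ a b
  rw [horb, one_mul] at hB
  -- pointwise identity
  have hpt : ∀ g : Γ, Fintype.card (fixedBy α g) + (if Fpf (α := α) g then 1 else 0) =
      1 + (if g = 1 then Fintype.card α - 1 else 0) := by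
    intro g
    by_cases hg : g = 1
    · subst hg
      have h1 : ¬ Fpf (α := α) (1 : Γ) := by
        intro h
        obtain ⟨a⟩ := (inferInstance : Nonempty α)
        exact h a (one_smul _ _)
      have h2 : Fintype.card (fixedBy α (1 : Γ)) = Fintype.card α := by
        apply Fintype.card_of_subtype (Finset.univ)
        intro x
        simp
      rw [if_neg h1, if_pos rfl, h2]
      have : 0 < Fintype.card α := Fintype.card_pos
      omega
    · rw [if_neg hg]
      by_cases hf : Fpf (α := α) g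
      · rw [if_pos hf]
        have : IsEmpty (fixedBy α g) := ⟨fun x => hf x.1 x.2⟩
        rw [Fintype.card_eq_zero]
      · rw [if_neg hf]
        unfold Fpf at hf
        push Not at hf
        obtain ⟨a, ha⟩ := hf
        have : Fintype.card (fixedBy α g) = 1 := by
          rw [Fintype.card_eq_one_iff]
          refine ⟨⟨a, ha⟩, ?_⟩
          rintro ⟨b, hb⟩
          apply Subtype.ext
          exact fixedBy_subsingleton hS hg hb ha
        rw [this]
  have hsum := Finset.sum_congr (s₁ := (Finset.univ : Finset Γ)) rfl (fun g _ => hpt g)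
  rw [Finset.sum_add_distrib, Finset.sum_add_distrib, hB] at hsum
  simp only [Finset.sum_ite_eq', Finset.mem_univ, if_true, Finset.sum_const, Finset.card_univ,
    smul_eq_mul, mul_one, Finset.sum_boole] at hsum
  have hF : Nat.card {g : Γ // Fpf (α := α) g} =
      (Finset.univ.filter (fun g : Γ => Fpf (α := α) g)).card := by
    rw [Nat.card_eq_fintype_card, Fintype.card_subtype]
  rw [hF, Nat.card_eq_fintype_card]
  have : 0 < Fintype.card α := Fintype.card_pos
  have h3 : (Finset.univ.filter (fun g : Γ => Fpf (α := α) g)).card = Fintype.card α - 1 := by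
    have := hsum
    push_cast at this
    omega
  omega

end count

section kernel

variable [Finite Γ] [Finite α]

theorem isPretransitive_of_twoTrans (hT : TwoTrans Γ α) (hn : ∃ a b : α, a ≠ b) :
    IsPretransitive Γ α := by
  constructor
  intro a c
  obtain ⟨x, y, hxy⟩ := hn
  have hx : ∃ x' : α, a ≠ x' := by
    by_cases h : a = x
    · exact ⟨y, h ▸ hxy⟩
    · exact ⟨x, h⟩
  have hy : ∃ y' : α, c ≠ y' := by
    by_cases h : c = x
    · exact ⟨y, h ▸ hxy⟩
    · exact ⟨x, h⟩
  obtain ⟨x', hx'⟩ := hx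
  obtain ⟨y', hy'⟩ := hy
  obtain ⟨g, hg, -⟩ := hT a x' c y' hx' hy'
  exact ⟨g, hg⟩

open Classical in
/-- surjectivity from injectivity by counting -/
theorem exists_of_fpf (hS : Sharp Γ α) [IsPretransitive Γ α] (a : α) (u : α → Γ)
    (hu : ∀ c, c ≠ a → Fpf (α := α) (u c))
    (hinj : ∀ c, c ≠ a → ∀ d, d ≠ a → u c = u d → c = d) (g : Γ) (hg : Fpf (α := α) g) :
    ∃ c, c ≠ a ∧ g = u c := by
  have : Fintype Γ := Fintype.ofFinite Γ
  have : Fintype α := Fintype.ofFinite α
  have : Nonempty α := ⟨a⟩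
  have hcard := card_fpf (Γ := Γ) (α := α) hS
  have hF : Nat.card {g : Γ // Fpf (α := α) g} =
      (Finset.univ.filter (fun g : Γ => Fpf (α := α) g)).card := by
    rw [Nat.card_eq_fintype_card, Fintype.card_subtype]
  rw [hF, Nat.card_eq_fintype_card] at hcard
  set S := (Finset.univ.erase a).image u with hSdef
  have hsub : S ⊆ Finset.univ.filter (fun g : Γ => Fpf (α := α) g) := by
    intro x hx
    rw [hSdef, Finset.mem_image] at hx
    obtain ⟨c, hc, rfl⟩ := hx
    rw [Finset.mem_filter]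
    exact ⟨Finset.mem_univ _, hu c (Finset.ne_of_mem_erase hc)⟩
  have hScard : S.card = Fintype.card α - 1 := by
    rw [hSdef, Finset.card_image_of_injOn, Finset.card_erase_of_mem (Finset.mem_univ a),
      Finset.card_univ]
    intro c hc d hd hcd
    exact hinj c (Finset.ne_of_mem_erase hc) d (Finset.ne_of_mem_erase hd) hcd
  have heq : S = Finset.univ.filter (fun g : Γ => Fpf (α := α) g) := by
    apply Finset.eq_of_subset_of_card_le hsub
    rw [hScard]
    omega
  have hgS : g ∈ S := by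
    rw [heq, Finset.mem_filter]
    exact ⟨Finset.mem_univ _, hg⟩
  rw [hSdef, Finset.mem_image] at hgS
  obtain ⟨c, hc, rfl⟩ := hgS
  exact ⟨c, Finset.ne_of_mem_erase hc, rfl⟩

theorem fpf_inv {g : Γ} (hg : Fpf (α := α) g) : Fpf (α := α) g⁻¹ := by
  intro a ha
  apply hg a
  conv_lhs => rw [← ha]
  rw [smul_inv_smul]

/-- the fixed point free elements together with the identity are closed under products -/
theorem fpf_or_one_mul (hS : Sharp Γ α) (hT : TwoTrans Γ α) (hn : ∃ a b : α, a ≠ b) {g h : Γ}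
    (hg : g = 1 ∨ Fpf (α := α) g) (hh : h = 1 ∨ Fpf (α := α) h) :
    g * h = 1 ∨ Fpf (α := α) (g * h) := by
  have hpre := isPretransitive_of_twoTrans hT hn
  rcases hg with rfl | hg
  · rw [one_mul]; exact hh
  rcases hh with rfl | hh
  · rw [mul_one]; exact Or.inr hg
  obtain ⟨a₁, b₁, hab₁⟩ := hn
  by_cases hA : ∀ t : Γ, t * t = 1 → t ≠ 1 → Fpf (α := α) t
  · -- case A: all involutions are fixed point free
    have hex : ∀ b : α, ∃ t : Γ, b ≠ a₁ → (t • a₁ = b ∧ t * t = 1 ∧ t ≠ 1) := by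
      intro b
      by_cases hb : b = a₁
      · exact ⟨1, fun h => absurd hb h⟩
      · obtain ⟨t, h1, -, h3, h4⟩ := exists_swap hS hT (Ne.symm hb)
        exact ⟨t, fun _ => ⟨h1, h3, h4⟩⟩
    choose u hu using hex
    have hinvol : ∀ x : Γ, Fpf (α := α) x → x * x = 1 := by
      intro x hx
      obtain ⟨c, hc, rfl⟩ := exists_of_fpf hS a₁ u
        (fun c hc => hA _ (hu c hc).2.1 (hu c hc).2.2)
        (fun c hc d hd hcd => by rw [← (hu c hc).1, ← (hu d hd).1, hcd]) x hx
      exact (hu c hc).2.1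
    by_cases hgh : g = h
    · left
      rw [hgh]; exact hinvol h hh
    · right
      exact fpf_mul_of_invol hS (hinvol g hg) (hinvol h hh) hgh (fun c hc => hg c hc.1)
  · -- case B: some involution has a fixed point
    push Not at hA
    obtain ⟨t₀, ht₀, ht₀1, hnf⟩ := hA
    unfold Fpf at hnf
    push Not at hnf
    obtain ⟨a₀, ha₀⟩ := hnf
    have hex : ∀ c : α, ∃ s : Γ, s * s = 1 ∧ s ≠ 1 ∧ s • c = c := by
      intro c
      obtain ⟨x, hx⟩ := MulAction.exists_smul_eq Γ a₀ c
      refine ⟨x * t₀ * x⁻¹, ?_, ?_, ?_⟩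
      · calc x * t₀ * x⁻¹ * (x * t₀ * x⁻¹) = x * (t₀ * t₀) * x⁻¹ := by group
          _ = 1 := by rw [ht₀]; group
      · intro h
        apply ht₀1
        calc t₀ = x⁻¹ * (x * t₀ * x⁻¹) * x := by group
          _ = 1 := by rw [h]; group
      · rw [mul_smul, mul_smul, ← hx, inv_smul_smul, ha₀]
    choose s hs using hex
    have hfix : ∀ c x : α, s c • x = x → x = c := fun c x hx =>
      fixedBy_subsingleton hS (hs c).2.1 hx (hs c).2.2
    have hne : ∀ c d : α, c ≠ d → s c ≠ s d := by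
      intro c d hcd h
      apply hcd
      have := (hs d).2.2
      rw [← h] at this
      exact (hfix c d this).symm
    have hfpf : ∀ c d : α, c ≠ d → Fpf (α := α) (s c * s d) := by
      intro c d hcd
      apply fpf_mul_of_invol hS (hs c).1 (hs d).1 (hne c d hcd)
      rintro x ⟨h1, h2⟩
      exact hcd ((hfix c x h1).symm.trans (hfix d x h2))
    have hrep : ∀ a : α, ∀ x : Γ, Fpf (α := α) x → ∃ c, c ≠ a ∧ x = s a * s c := by
      intro a x hx
      apply exists_of_fpf hS a (fun c => s a * s c) (fun c hc => hfpf a c (Ne.symm hc)) _ x hx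
      intro c hc d hd hcd
      have h1 : s c = s d := mul_left_cancel hcd
      by_contra hcd'
      exact hne c d hcd' h1
    obtain ⟨c, hc, rfl⟩ := hrep a₁ g hg
    obtain ⟨d, hd, rfl⟩ := hrep c h hh
    have e : s a₁ * s c * (s c * s d) = s a₁ * s d := by
      calc s a₁ * s c * (s c * s d) = s a₁ * (s c * s c) * s d := by group
        _ = s a₁ * s d := by rw [(hs c).1, mul_one]
    rw [e]
    by_cases hda : d = a₁
    · left
      rw [hda]; exact (hs a₁).1
    · right
      exact hfpf a₁ d (Ne.symm hda)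

/-- the Frobenius kernel of a finite sharply doubly transitive group -/
def kernel (hS : Sharp Γ α) (hT : TwoTrans Γ α) (hn : ∃ a b : α, a ≠ b) : Subgroup Γ where
  carrier := {g | g = 1 ∨ Fpf (α := α) g}
  one_mem' := Or.inl rfl
  mul_mem' := fun hg hh => fpf_or_one_mul hS hT hn hg hh
  inv_mem' := by
    rintro g (rfl | hg)
    · left; exact inv_one
    · right; exact fpf_inv hg

theorem mem_kernel (hS : Sharp Γ α) (hT : TwoTrans Γ α) (hn : ∃ a b : α, a ≠ b) (g : Γ) :
    g ∈ kernel hS hT hn ↔ g = 1 ∨ Fpf (α := α) g := Iff.rfl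

theorem kernel_normal (hS : Sharp Γ α) (hT : TwoTrans Γ α) (hn : ∃ a b : α, a ≠ b) :
    (kernel hS hT hn).Normal := by
  constructor
  rintro k (rfl | hk) g
  · left; group
  · right
    intro a ha
    apply hk (g⁻¹ • a)
    rw [mul_smul, mul_smul] at ha
    calc k • g⁻¹ • a = g⁻¹ • (g • k • g⁻¹ • a) := by rw [inv_smul_smul]
      _ = g⁻¹ • a := by rw [ha]

theorem eq_one_of_mem_kernel_of_smul_eq (hS : Sharp Γ α) (hT : TwoTrans Γ α)
    (hn : ∃ a b : α, a ≠ b) {k : Γ} (hk : k ∈ kernel hS hT hn) {a : α} (ha : k • a = a) : k = 1 := by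
  rcases hk with rfl | hk
  · rfl
  · exact absurd ha (hk a)

theorem eq_of_mem_kernel_of_smul_eq (hS : Sharp Γ α) (hT : TwoTrans Γ α)
    (hn : ∃ a b : α, a ≠ b) {k k' : Γ} (hk : k ∈ kernel hS hT hn) (hk' : k' ∈ kernel hS hT hn)
    {a : α} (ha : k • a = k' • a) : k = k' := by
  have h1 : k'⁻¹ * k ∈ kernel hS hT hn := mul_mem (inv_mem hk') hk
  have h2 : (k'⁻¹ * k) • a = a := by rw [mul_smul, ha, inv_smul_smul]
  have := eq_one_of_mem_kernel_of_smul_eq hS hT hn h1 h2
  calc k = k' * (k'⁻¹ * k) := by group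
    _ = k' := by rw [this, mul_one]

open Classical in
theorem card_kernel (hS : Sharp Γ α) (hT : TwoTrans Γ α) (hn : ∃ a b : α, a ≠ b) :
    Nat.card (kernel hS hT hn) = Nat.card α := by
  have hpre := isPretransitive_of_twoTrans hT hn
  have hne : Nonempty α := by
    obtain ⟨a, -, -⟩ := hn
    exact ⟨a⟩
  obtain ⟨a⟩ := hne
  have : Nonempty α := ⟨a⟩
  rw [← card_fpf (Γ := Γ) (α := α) hS]
  have : Fintype Γ := Fintype.ofFinite Γ
  have h1 : Nat.card (kernel hS hT hn) =
      (Finset.univ.filter (fun g : Γ => g = 1 ∨ Fpf (α := α) g)).card := by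
    apply Nat.subtype_card
    intro x
    rw [Finset.mem_filter]
    exact ⟨fun h => h.2, fun h => ⟨Finset.mem_univ _, h⟩⟩
  have h2 : Nat.card {g : Γ // Fpf (α := α) g} =
      (Finset.univ.filter (fun g : Γ => Fpf (α := α) g)).card := by
    rw [Nat.card_eq_fintype_card, Fintype.card_subtype]
  rw [h1, h2]
  have h3 : Finset.univ.filter (fun g : Γ => g = 1 ∨ Fpf (α := α) g) =
      insert 1 (Finset.univ.filter (fun g : Γ => Fpf (α := α) g)) := by
    ext g
    simp [Finset.mem_filter, Finset.mem_insert]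
  rw [h3, Finset.card_insert_of_notMem]
  rw [Finset.mem_filter]
  rintro ⟨-, h⟩
  exact h a (one_smul _ _)

/-- the kernel is regular -/
theorem exists_mem_kernel_smul_eq (hS : Sharp Γ α) (hT : TwoTrans Γ α) (hn : ∃ a b : α, a ≠ b)
    (a c : α) : ∃ k ∈ kernel hS hT hn, k • a = c := by
  let f : kernel hS hT hn → α := fun k => (k : Γ) • a
  have hinj : Function.Injective f := by
    intro k k' h
    exact Subtype.ext (eq_of_mem_kernel_of_smul_eq hS hT hn k.2 k'.2 h)
  have hbij : Function.Bijective f := by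
    rw [Nat.bijective_iff_injective_and_card]
    exact ⟨hinj, card_kernel hS hT hn⟩
  obtain ⟨k, hk⟩ := hbij.2 c
  exact ⟨k, k.2, hk⟩

/-- nonidentity elements of the kernel are conjugate -/
theorem exists_conj_eq (hS : Sharp Γ α) (hT : TwoTrans Γ α) (hn : ∃ a b : α, a ≠ b)
    {k k' : Γ} (hk : k ∈ kernel hS hT hn) (hk' : k' ∈ kernel hS hT hn) (hk1 : k ≠ 1) (hk'1 : k' ≠ 1) :
    ∃ g : Γ, g * k * g⁻¹ = k' := by
  have hne : Nonempty α := by
    obtain ⟨a, -, -⟩ := hn
    exact ⟨a⟩
  obtain ⟨a⟩ := hne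
  have h1 : k • a ≠ a := fun h => hk1 (eq_one_of_mem_kernel_of_smul_eq hS hT _ hk h)
  have h2 : k' • a ≠ a := fun h => hk'1 (eq_one_of_mem_kernel_of_smul_eq hS hT _ hk' h)
  obtain ⟨g, hg1, hg2⟩ := hT a (k • a) a (k' • a) (Ne.symm h1) (Ne.symm h2)
  refine ⟨g, ?_⟩
  have hn' := kernel_normal hS hT hn
  apply eq_of_mem_kernel_of_smul_eq hS hT hn (hn'.conj_mem k hk g) hk' (a := a)
  have h3 : g⁻¹ • a = a := inv_smul_eq_iff.mpr hg1.symm
  rw [mul_smul, mul_smul, h3, hg2]

end kernel

section struct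

variable [Finite Γ] [Finite α]

theorem one_lt_card (hn : ∃ a b : α, a ≠ b) : 1 < Nat.card α := by
  obtain ⟨a, b, hab⟩ := hn
  have : Nontrivial α := ⟨⟨a, b, hab⟩⟩
  exact Finite.one_lt_card

/-- the kernel has prime exponent and the degree is a power of that prime -/
theorem exists_prime_exponent (hS : Sharp Γ α) (hT : TwoTrans Γ α) (hn : ∃ a b : α, a ≠ b) :
    ∃ p j : ℕ, p.Prime ∧ 1 ≤ j ∧ Nat.card α = p ^ j ∧ ∀ k ∈ kernel hS hT hn, k ^ p = 1 := by
  have hcard := card_kernel hS hT hn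
  have h1 := one_lt_card hn
  have hne1 : Nat.card α ≠ 1 := by omega
  obtain ⟨p, hp, hpd⟩ := Nat.exists_prime_and_dvd hne1
  have : Fact p.Prime := ⟨hp⟩
  rw [← hcard] at hpd
  obtain ⟨⟨z, hzK⟩, hz⟩ := exists_prime_orderOf_dvd_card' (G := kernel hS hT hn) p hpd
  have hzo : orderOf z = p := by
    rw [← hz]; exact (Subgroup.orderOf_mk z hzK).symm
  have hzp : z ^ p = 1 := by rw [← hzo]; exact pow_orderOf_eq_one z
  have hz1 : z ≠ 1 := by
    intro h
    rw [h, orderOf_one] at hzo
    exact hp.one_lt.ne hzo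
  have hexp : ∀ k ∈ kernel hS hT hn, k ^ p = 1 := by
    intro k hk
    by_cases hk1 : k = 1
    · rw [hk1, one_pow]
    · obtain ⟨g, rfl⟩ := exists_conj_eq hS hT hn hzK hk hz1 hk1
      rw [conj_pow, hzp]; group
  have hPG : IsPGroup p (kernel hS hT hn) := by
    rintro ⟨k, hk⟩
    refine ⟨1, ?_⟩
    rw [pow_one]
    exact Subtype.ext (hexp k hk)
  obtain ⟨j, hj⟩ := IsPGroup.iff_card.mp hPG
  rw [hcard] at hj
  refine ⟨p, j, hp, ?_, hj, hexp⟩
  rcases Nat.eq_zero_or_pos j with h | h
  · rw [h, pow_zero] at hj; omega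
  · exact h

/-- the kernel is abelian -/
theorem kernel_comm (hS : Sharp Γ α) (hT : TwoTrans Γ α) (hn : ∃ a b : α, a ≠ b) :
    ∀ k ∈ kernel hS hT hn, ∀ k' ∈ kernel hS hT hn, k * k' = k' * k := by
  obtain ⟨p, j, hp, hj, hcard, hexp⟩ := exists_prime_exponent hS hT hn
  have : Fact p.Prime := ⟨hp⟩
  have hPG : IsPGroup p (kernel hS hT hn) := by
    rintro ⟨k, hk⟩
    refine ⟨1, ?_⟩
    rw [pow_one]
    exact Subtype.ext (hexp k hk)
  have hnt : Nontrivial (kernel hS hT hn) := by
    rw [← Finite.one_lt_card_iff_nontrivial, card_kernel hS hT hn]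
    exact one_lt_card hn
  have hZ := hPG.center_nontrivial
  obtain ⟨⟨⟨z, hzK⟩, hz⟩, hz1⟩ := exists_ne (1 : Subgroup.center (kernel hS hT hn))
  have hz1' : z ≠ 1 := by
    intro h
    apply hz1
    apply Subtype.ext
    apply Subtype.ext
    exact h
  have hzc : ∀ x ∈ kernel hS hT hn, x * z = z * x := by
    intro x hx
    have := Subgroup.mem_center_iff.mp hz ⟨x, hx⟩
    exact congrArg Subtype.val this
  have hnorm := kernel_normal hS hT hn
  intro k hk k' hk'
  by_cases hk1 : k = 1
  · rw [hk1, one_mul, mul_one]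
  · obtain ⟨g, rfl⟩ := exists_conj_eq hS hT hn hzK hk hz1' hk1
    have h1 : g⁻¹ * k' * g⁻¹⁻¹ ∈ kernel hS hT hn := hnorm.conj_mem k' hk' g⁻¹
    have h2 := hzc _ h1
    calc g * z * g⁻¹ * k' = g * (z * (g⁻¹ * k' * g⁻¹⁻¹)) * g⁻¹ := by group
      _ = g * ((g⁻¹ * k' * g⁻¹⁻¹) * z) * g⁻¹ := by rw [h2]
      _ = k' * (g * z * g⁻¹) := by group

/-- every Sylow `p`-subgroup (for the prime `p` dividing the degree) is the kernel -/
theorem sylow_eq_kernel (hS : Sharp Γ α) (hT : TwoTrans Γ α) (hn : ∃ a b : α, a ≠ b)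
    {p : ℕ} [Fact p.Prime] (hpd : p ∣ Nat.card α) (hPG : IsPGroup p (kernel hS hT hn))
    (P : Sylow p Γ) : (P : Subgroup Γ) = kernel hS hT hn := by
  have hnorm := kernel_normal hS hT hn
  have hKP : kernel hS hT hn ≤ P := hPG.le_sylow_of_normal P
  apply le_antisymm _ hKP
  intro g hg
  have hne : Nonempty α := by
    obtain ⟨a, -, -⟩ := hn
    exact ⟨a⟩
  obtain ⟨a⟩ := hne
  -- the stabilizer of a in P is trivial
  have hstab : ∀ x ∈ (P : Subgroup Γ), x • a = a → x = 1 := by
    intro x hxP hxa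
    set Q : Subgroup Γ := (P : Subgroup Γ) ⊓ MulAction.stabilizer Γ a with hQ
    have hQp : IsPGroup p Q := P.2.to_le inf_le_left
    have hafix : a ∈ MulAction.fixedPoints Q α := by
      intro q
      exact q.2.2
    obtain ⟨b, hb, hab⟩ := hQp.exists_fixed_point_of_prime_dvd_card_of_fixed_point α hpd hafix
    have hxQ : x ∈ Q := ⟨hxP, hxa⟩
    have hxb : x • b = b := hb ⟨x, hxQ⟩
    exact hS x a b hab hxa hxb
  obtain ⟨k, hk, hka⟩ := exists_mem_kernel_smul_eq hS hT hn a (g • a)
  have h1 : k⁻¹ * g ∈ (P : Subgroup Γ) := mul_mem (inv_mem (hKP hk)) hg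
  have h2 : (k⁻¹ * g) • a = a := by rw [mul_smul, ← hka, inv_smul_smul]
  have h3 := hstab _ h1 h2
  have : g = k := by
    calc g = k * (k⁻¹ * g) := by group
      _ = k := by rw [h3, mul_one]
  rw [this]; exact hk

end struct

end Cfsg.H5.SharpTwo
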