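import Mathlib
import Cfsg.Agent.H5.SharpTwo
import Cfsg.Prelude.Def_Perm

set_option autoImplicit false

namespace Cfsg.H5.SharpTwo

open MulAction

variable {Γ : Type*} [Group Γ] {α : Type*} [MulAction Γ α] [Finite Γ] [Finite α]

/-- A finite sharply doubly transitive group is the affine group of a near-field structure on
the permuted set. -/
theorem exists_nearField (hS : Sharp Γ α) (hT : TwoTrans Γ α) (hn : ∃ a b : α, a ≠ b) :
    ∃ _ : Cfsg.NearField α, (∀ g : Γ, ∃ a b : α, a ≠ 0 ∧ ∀ x : α, g • x = x * a + b) ∧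
      (∀ a b : α, a ≠ 0 → ∃ g : Γ, ∀ x : α, g • x = x * a + b) := by
  classical
  have hn' : ∃ a b : α, a ≠ b := hn
  obtain ⟨o0, o1, h01⟩ := hn'
  have hKn : (kernel hS hT hn).Normal := kernel_normal hS hT hn
  -- translations
  have h1 : ∀ x : α, ∃ k ∈ kernel hS hT hn, k • o0 = x :=
    fun x => exists_mem_kernel_smul_eq hS hT hn o0 x
  choose τ hτK hτ using h1
  have hτu : ∀ k ∈ kernel hS hT hn, τ (k • o0) = k :=
    fun k hk => eq_of_mem_kernel_of_smul_eq hS hT hn (hτK _) hk (hτ _)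
  have hτ0 : τ o0 = 1 := by
    have := hτu 1 (one_mem _)
    rwa [one_smul] at this
  have hτadd : ∀ x y : α, τ (τ x • y) = τ x * τ y := by
    intro x y
    have := hτu (τ x * τ y) (mul_mem (hτK x) (hτK y))
    rwa [mul_smul, hτ y] at this
  have hτcomm : ∀ x y : α, τ x • y = τ y • x := by
    intro x y
    have := kernel_comm hS hT hn (τ x) (hτK x) (τ y) (hτK y)
    calc τ x • y = (τ x * τ y) • o0 := by rw [mul_smul, hτ]
      _ = (τ y * τ x) • o0 := by rw [this]
      _ = τ y • x := by rw [mul_smul, hτ]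
  -- dilations
  have h2 : ∀ a : α, ∃ m : Γ, a ≠ o0 → m • o0 = o0 ∧ m • o1 = a := by
    intro a
    by_cases ha : a = o0
    · exact ⟨1, fun h => absurd ha h⟩
    · obtain ⟨m, hm0, hm1⟩ := hT o0 o1 o0 a h01 (Ne.symm ha)
      exact ⟨m, fun _ => ⟨hm0, hm1⟩⟩
  choose μ hμ using h2
  have hfixne : ∀ m : Γ, m • o0 = o0 → ∀ x, x ≠ o0 → m • x ≠ o0 := by
    intro m hm x hx h
    have : m • x = m • o0 := h.trans hm.symm
    exact hx (smul_left_cancel m this)
  have hμu : ∀ m : Γ, m • o0 = o0 → μ (m • o1) = m := by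
    intro m hm
    have hne : m • o1 ≠ o0 := hfixne m hm o1 (Ne.symm h01)
    obtain ⟨h3, h4⟩ := hμ _ hne
    exact eq_of_smul_eq hS h01 (h3.trans hm.symm) h4
  have hμ1 : μ o1 = 1 := by
    have := hμu 1 (one_smul _ _)
    rwa [one_smul] at this
  have hμmul : ∀ a b, a ≠ o0 → b ≠ o0 → μ (μ b • a) = μ b * μ a := by
    intro a b ha hb
    have := hμu (μ b * μ a) (by rw [mul_smul, (hμ a ha).1, (hμ b hb).1])
    rwa [mul_smul, (hμ a ha).2] at this
  have hμτ : ∀ a x, a ≠ o0 → τ (μ a • x) = μ a * τ x * (μ a)⁻¹ := by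
    intro a x ha
    have hmem : μ a * τ x * (μ a)⁻¹ ∈ kernel hS hT hn := hKn.conj_mem _ (hτK x) _
    have := hτu _ hmem
    rw [← this]
    congr 1
    have h3 : (μ a)⁻¹ • o0 = o0 := inv_smul_eq_iff.mpr (hμ a ha).1.symm
    rw [mul_smul, mul_smul, h3, hτ]
  -- the raw operations
  set mul : α → α → α := fun x a => if a = o0 then o0 else μ a • x with hmul
  have mul_pos : ∀ x, mul x o0 = o0 := fun x => if_pos rfl
  have mul_neg : ∀ x a, a ≠ o0 → mul x a = μ a • x := fun x a ha => if_neg ha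
  have zero_mul' : ∀ a, mul o0 a = o0 := by
    intro a
    by_cases ha : a = o0
    · rw [ha, mul_pos]
    · rw [mul_neg _ _ ha, (hμ a ha).1]
  have A1 : ∀ x y z : α, τ (τ x • y) • z = τ x • (τ y • z) := by
    intro x y z
    rw [hτadd, mul_smul]
  have A2 : ∀ y : α, τ o0 • y = y := by
    intro y
    rw [hτ0, one_smul]
  have A3 : ∀ x : α, τ ((τ x)⁻¹ • o0) • x = o0 := by
    intro x
    rw [hτu _ (inv_mem (hτK x))]
    exact inv_smul_eq_iff.mpr (hτ x).symm
  have M1 : ∀ x a b : α, mul (mul x a) b = mul x (mul a b) := by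
    intro x a b
    by_cases hb : b = o0
    · rw [hb, mul_pos, mul_pos, mul_pos]
    · by_cases ha : a = o0
      · rw [ha, mul_pos, zero_mul', mul_pos]
      · have hne : μ b • a ≠ o0 := hfixne _ (hμ b hb).1 a ha
        rw [mul_neg _ _ ha, mul_neg _ _ hb, mul_neg _ _ hb, mul_neg _ _ hne, hμmul a b ha hb,
          mul_smul]
  have M2 : ∀ a, mul o1 a = a := by
    intro a
    by_cases ha : a = o0
    · rw [ha, mul_pos]
    · rw [mul_neg _ _ ha, (hμ a ha).2]
  have M3 : ∀ x, mul x o1 = x := by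
    intro x
    rw [mul_neg _ _ (Ne.symm h01), hμ1, one_smul]
  have D1 : ∀ x y c : α, mul (τ x • y) c = τ (mul x c) • mul y c := by
    intro x y c
    by_cases hc : c = o0
    · rw [hc, mul_pos, mul_pos, mul_pos, A2]
    · rw [mul_neg _ _ hc, mul_neg _ _ hc, mul_neg _ _ hc, hμτ c x hc, mul_smul, mul_smul,
        inv_smul_smul]
  have I1 : ∀ a, a ≠ o0 → ∃ b, mul a b = o1 ∧ mul b a = o1 := by
    intro a ha
    have h3 : (μ a)⁻¹ • o0 = o0 := inv_smul_eq_iff.mpr (hμ a ha).1.symm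
    have hb : (μ a)⁻¹ • o1 ≠ o0 := hfixne _ h3 o1 (Ne.symm h01)
    refine ⟨(μ a)⁻¹ • o1, ?_, ?_⟩
    · rw [mul_neg _ _ hb, hμu _ h3]
      exact inv_smul_eq_iff.mpr (hμ a ha).2.symm
    · rw [mul_neg _ _ ha, smul_inv_smul]
  -- the structures
  let addI : Add α := ⟨fun x y => τ x • y⟩
  let zeroI : Zero α := ⟨o0⟩
  let negI : Neg α := ⟨fun x => (τ x)⁻¹ • o0⟩
  let AG : AddGroup α := AddGroup.ofLeftAxioms A1 A2 A3
  let M : Monoid α :=
    { mul := mul
      one := o1
      mul_assoc := M1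
      one_mul := M2
      mul_one := M3 }
  refine ⟨{ toAddGroup := AG
            toMonoid := M
            right_distrib := D1
            mul_zero := mul_pos
            zero_ne_one := h01
            exists_inv := I1 }, ?_, ?_⟩
  · intro g
    have hm : ((τ (g • o0))⁻¹ * g) • o0 = o0 := by
      rw [mul_smul]
      exact inv_smul_eq_iff.mpr (hτ _).symm
    have ha : ((τ (g • o0))⁻¹ * g) • o1 ≠ o0 := hfixne _ hm o1 (Ne.symm h01)
    refine ⟨((τ (g • o0))⁻¹ * g) • o1, g • o0, ha, ?_⟩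
    intro x
    show g • x = τ (mul x (((τ (g • o0))⁻¹ * g) • o1)) • (g • o0)
    rw [hτcomm, mul_neg _ _ ha, hμu _ hm, mul_smul, smul_inv_smul]
  · intro a b ha
    refine ⟨τ b * μ a, ?_⟩
    intro x
    show (τ b * μ a) • x = τ (mul x a) • b
    rw [hτcomm, mul_neg _ _ ha, mul_smul]

end Cfsg.H5.SharpTwo
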