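import Mathlib
import Cfsg.Prelude.Def_Characters
import Cfsg.Agent.Lib.Helper11.S4706Defs
import Cfsg.Agent.Lib.Helper29.SharpThree

/-!
# S4706 FO-4 (architect helper11): final recognition of `SL(2, 2^a)` as a sharply 3-transitive group.
-/

set_option autoImplicit false

namespace Cfsg.H5.S4706FO4

open Cfsg Cfsg.Agent.Lib.Helper11.S4706 MulAction Cfsg.H5.SharpTwo Cfsg.Agent.Helper29.SharpThree

section

variable {G : Type*} [Group G] {Ω : Type*} [MulAction G Ω]

/-- few fixed points gives `S3` -/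
theorem s3_of_fix [Finite Ω] (hfix : ∀ g : G, g ≠ 1 → fx G Ω g ≤ 2) : S3 G Ω := by
  intro g a b c hab hac hbc ha hb hc
  by_contra hg
  have h1 := hfix g hg
  unfold fx at h1
  have hsub : ({a, b, c} : Set Ω) ⊆ fixedBy Ω g := by
    intro x hx
    rcases hx with rfl | rfl | rfl
    · exact ha
    · exact hb
    · exact hc
  have h3 : ({a, b, c} : Set Ω).ncard = 3 := Set.ncard_eq_three.mpr ⟨a, b, c, hab, hac, hbc, rfl⟩
  have h4 := Set.ncard_le_ncard hsub (Set.toFinite _)
  rw [h3, ← Nat.card_coe_set_eq] at h4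
  omega

/-- the stabiliser of a pair -/
theorem mem_stab_pair {a b : Ω} {g : G} :
    g ∈ stabilizer G ((a, b) : Ω × Ω) ↔ g • a = a ∧ g • b = b := by
  rw [mem_stabilizer_iff, Prod.smul_mk, Prod.mk.injEq]

/-- the orbit of a pair under a 2-transitive group -/
theorem orbit_pair (h2 : ∀ a b c d : Ω, a ≠ b → c ≠ d → ∃ g : G, g • a = c ∧ g • b = d)
    {a b : Ω} (hab : a ≠ b) :
    orbit G ((a, b) : Ω × Ω) = {xy : Ω × Ω | xy.1 ≠ xy.2} := by
  ext ⟨x, y⟩
  constructor
  · rintro ⟨g, hg⟩
    have hg : g • ((a, b) : Ω × Ω) = (x, y) := hg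
    rw [Prod.smul_mk, Prod.mk.injEq] at hg
    show x ≠ y
    rw [← hg.1, ← hg.2]
    intro h
    exact hab (MulAction.injective g h)
  · intro hxy
    obtain ⟨g, h1, h2'⟩ := h2 a b x y hab hxy
    exact ⟨g, by show g • ((a, b) : Ω × Ω) = (x, y); rw [Prod.smul_mk, h1, h2']⟩

/-- the number of ordered pairs of distinct points -/
theorem card_offdiag [Finite Ω] :
    Nat.card {xy : Ω × Ω // xy.1 ≠ xy.2} = Nat.card Ω * (Nat.card Ω - 1) := by
  classical
  have := Fintype.ofFinite Ω
  have h1 : Nat.card {xy : Ω × Ω // xy.1 ≠ xy.2} =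
      ((Finset.univ : Finset Ω).offDiag).card := by
    rw [Nat.card_eq_fintype_card, Fintype.card_subtype]
    congr 1
    ext xy
    simp
  rw [h1, Finset.offDiag_card, Finset.card_univ, Nat.card_eq_fintype_card, Nat.mul_sub_one]

end

/-- FO-4 (final recognition). -/
theorem final_recognition {G : Type*} [Group G] [Finite G] {Ω : Type*} [Finite Ω] [MulAction G Ω]
    (p : ℕ) (hp : p.Prime) (hp5 : 5 ≤ p) (hΩ : Nat.card Ω = p)
    (h2 : ∀ a b c d : Ω, a ≠ b → c ≠ d → ∃ g : G, g • a = c ∧ g • b = d)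
    (hfix : ∀ g : G, g ≠ 1 → fx G Ω g ≤ 2)
    (hcard : p * (p - 1) * (p - 2) < 2 * Nat.card G) :
    ∃ (a : ℕ) (F : Type) (_ : Field F) (_ : Fintype F), p = 2 ^ a + 1 ∧ Fintype.card F = 2 ^ a ∧
      Nonempty (G ≃* Matrix.SpecialLinearGroup (Fin 2) F) := by
  classical
  have hS3 : S3 G Ω := s3_of_fix hfix
  -- the order of `G`
  have hord : ∀ a b : Ω, a ≠ b →
      Nat.card G = p * (p - 1) * Nat.card (stabilizer G ((a, b) : Ω × Ω)) := by
    intro a b hab
    rw [Subgroup.card_eq_card_quotient_mul_card_subgroup (stabilizer G ((a, b) : Ω × Ω)),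
      ← Nat.card_congr (orbitEquivQuotientStabilizer G ((a, b) : Ω × Ω)), orbit_pair h2 hab]
    have := card_offdiag (Ω := Ω)
    rw [hΩ] at this
    rw [← this]
    rfl
  have hp1 : 0 < p * (p - 1) := Nat.mul_pos (by omega) (by omega)
  -- the two-point stabilisers are regular on the remaining points
  have key : ∀ a b : Ω, a ≠ b →
      (∀ c c' : Ω, c ≠ a → c ≠ b → c' ≠ a → c' ≠ b →
        ∃ k : G, k • a = a ∧ k • b = b ∧ k • c = c') ∧
      Nat.card (stabilizer G ((a, b) : Ω × Ω)) = p - 2 := by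
    intro a b hab
    set K := stabilizer G ((a, b) : Ω × Ω) with hK
    have hcK : p - 2 < 2 * Nat.card K := by
      have h1 := hord a b hab
      rw [h1] at hcard
      have : p * (p - 1) * (p - 2) < p * (p - 1) * (2 * Nat.card K) := by
        calc p * (p - 1) * (p - 2) < 2 * (p * (p - 1) * Nat.card K) := hcard
          _ = p * (p - 1) * (2 * Nat.card K) := by ring
      exact Nat.lt_of_mul_lt_mul_left this
    -- the complement of `{a, b}`
    have hS : (({a, b} : Set Ω)ᶜ).ncard = p - 2 := by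
      rw [Set.ncard_compl _ (Set.toFinite _) (Set.toFinite _), Set.ncard_pair hab, hΩ]
    -- orbits
    have hinj : ∀ c : Ω, c ≠ a → c ≠ b → Function.Injective (fun k : K => (k : G) • c) := by
      intro c hca hcb k k' hkk
      have hk := mem_stab_pair.mp k.2
      have hk' := mem_stab_pair.mp k'.2
      have e : ((k' : G)⁻¹ * (k : G)) = 1 := by
        apply hS3 _ a b c hab (Ne.symm hca) (Ne.symm hcb)
        · rw [mul_smul, hk.1, inv_smul_eq_iff, hk'.1]
        · rw [mul_smul, hk.2, inv_smul_eq_iff, hk'.2]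
        · rw [mul_smul, inv_smul_eq_iff]; exact hkk
      apply Subtype.ext
      rw [inv_mul_eq_one] at e
      exact e.symm
    have hsub : ∀ c : Ω, c ≠ a → c ≠ b →
        Set.range (fun k : K => (k : G) • c) ⊆ ({a, b} : Set Ω)ᶜ := by
      intro c hca hcb
      rintro _ ⟨k, rfl⟩
      have hk := mem_stab_pair.mp k.2
      intro hmem
      rcases hmem with h | h
      · apply hca
        have : (k : G) • c = (k : G) • a := by rw [hk.1]; exact h
        exact MulAction.injective _ this
      · apply hcb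
        have : (k : G) • c = (k : G) • b := by rw [hk.2]; exact h
        exact MulAction.injective _ this
    have hcard_range : ∀ c : Ω, c ≠ a → c ≠ b →
        (Set.range (fun k : K => (k : G) • c)).ncard = Nat.card K := fun c hca hcb =>
      Set.ncard_range_of_injective (hinj c hca hcb)
    have htrans : ∀ c c' : Ω, c ≠ a → c ≠ b → c' ≠ a → c' ≠ b →
        ∃ k : G, k • a = a ∧ k • b = b ∧ k • c = c' := by
      intro c c' hca hcb hca' hcb'
      by_contra hcon
      have hdisj : Disjoint (Set.range (fun k : K => (k : G) • c))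
          (Set.range (fun k : K => (k : G) • c')) := by
        rw [Set.disjoint_left]
        rintro _ ⟨k, rfl⟩ ⟨k', hk'⟩
        apply hcon
        have hk := mem_stab_pair.mp k.2
        have hk2 := mem_stab_pair.mp k'.2
        refine ⟨(k' : G)⁻¹ * (k : G), ?_, ?_, ?_⟩
        · rw [mul_smul, hk.1, inv_smul_eq_iff, hk2.1]
        · rw [mul_smul, hk.2, inv_smul_eq_iff, hk2.2]
        · rw [mul_smul, inv_smul_eq_iff]; exact hk'.symm
      have h1 := Set.ncard_union_eq hdisj (Set.toFinite _) (Set.toFinite _)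
      have h2' := Set.ncard_le_ncard (Set.union_subset (hsub c hca hcb) (hsub c' hca' hcb'))
        (Set.toFinite _)
      rw [h1, hcard_range c hca hcb, hcard_range c' hca' hcb', hS] at h2'
      omega
    refine ⟨htrans, ?_⟩
    -- a third point
    have h3 : ∃ c : Ω, c ≠ a ∧ c ≠ b := by
      by_contra hcon
      push Not at hcon
      have : (({a, b} : Set Ω)ᶜ) = ∅ := by
        ext x
        simp only [Set.mem_compl_iff, Set.mem_insert_iff, Set.mem_singleton_iff, Set.mem_empty_iff_false,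
          iff_false, not_not]
        by_cases hxa : x = a
        · exact Or.inl hxa
        · exact Or.inr (hcon x hxa)
      rw [this, Set.ncard_empty] at hS
      omega
    obtain ⟨c, hca, hcb⟩ := h3
    have hrange : Set.range (fun k : K => (k : G) • c) = ({a, b} : Set Ω)ᶜ := by
      apply Set.Subset.antisymm (hsub c hca hcb)
      intro c' hc'
      have hc'a : c' ≠ a := fun h => hc' (Or.inl h)
      have hc'b : c' ≠ b := fun h => hc' (Or.inr h)
      obtain ⟨k, hka, hkb, hkc⟩ := htrans c c' hca hcb hc'a hc'b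
      exact ⟨⟨k, mem_stab_pair.mpr ⟨hka, hkb⟩⟩, hkc⟩
    rw [← hcard_range c hca hcb, hrange, hS]
  -- triple transitivity
  have hT3 : T3 G Ω := by
    intro a b c a' b' c' hab hac hbc hab' hac' hbc'
    obtain ⟨g, hga, hgb⟩ := h2 a b a' b' hab hab'
    have h1 : g • c ≠ a' := by
      rw [← hga]; intro h; exact hac (MulAction.injective g h).symm
    have h2' : g • c ≠ b' := by
      rw [← hgb]; intro h; exact hbc (MulAction.injective g h).symm
    obtain ⟨k, hka, hkb, hkc⟩ := (key a' b' hab').1 (g • c) c' h1 h2' (Ne.symm hac') (Ne.symm hbc')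
    refine ⟨k * g, ?_, ?_, ?_⟩
    · rw [mul_smul, hga, hka]
    · rw [mul_smul, hgb, hkb]
    · rw [mul_smul, hkc]
  -- two points
  have hne : Nonempty Ω := by
    have hpos : 0 < Nat.card Ω := by omega
    exact (Nat.card_pos_iff.mp hpos).1
  obtain ⟨inf⟩ := hne
  have hS := sharp_stab inf hS3
  have hT := twoTrans_stab inf hT3
  have hcP : Nat.card (Pts G inf) + 1 = p := by
    rw [← hΩ]
    exact SubMulAction.nat_card_ofStabilizer_add_one_eq G inf
  have hn : ∃ x y : Pts G inf, x ≠ y := by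
    have h1 : 1 < Nat.card (Pts G inf) := by omega
    have : Nontrivial (Pts G inf) := (Finite.one_lt_card_iff_nontrivial).mp h1
    exact exists_pair_ne _
  obtain ⟨ℓ, j, hℓ, hj, hcj, -⟩ := exists_prime_exponent hS hT hn
  have hpodd : p % 2 = 1 := by
    rcases hp.eq_two_or_odd with h | h
    · omega
    · exact h
  have hℓ2 : ℓ = 2 := by
    have heven : Even (ℓ ^ j) := by
      rw [← hcj, Nat.even_iff]; omega
    have := (Nat.even_pow.mp heven).1
    exact ((Nat.Prime.even_iff hℓ).mp this)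
  subst hℓ2
  have hj0 : j ≠ 0 := by omega
  have : Fact (Nat.Prime 2) := ⟨Nat.prime_two⟩
  let _ : Fintype (GaloisField 2 j) := Fintype.ofFinite _
  have hF : Fintype.card (GaloisField 2 j) = 2 ^ j := by
    rw [← Nat.card_eq_fintype_card]
    exact GaloisField.card 2 j hj0
  have hpj : p = 2 ^ j + 1 := by omega
  -- the order of `G`
  obtain ⟨x, y, hxy⟩ : ∃ x y : Ω, x ≠ y := by
    obtain ⟨x, y, hxy⟩ := hn
    exact ⟨x, y, fun h => hxy (Subtype.ext h)⟩
  have hG : Nat.card G = p * (p - 1) * (p - 2) := by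
    rw [hord x y hxy, (key x y hxy).2]
  have hcard' : 2 ^ j * ((2 ^ j) ^ 2 - 1) ≤ Nat.card G := by
    rw [hG, hpj]
    have h2j : 2 ≤ 2 ^ j := by
      calc 2 = 2 ^ 1 := by norm_num
        _ ≤ 2 ^ j := Nat.pow_le_pow_right (by norm_num) hj
    obtain ⟨m, hm⟩ : ∃ m, 2 ^ j = m + 2 := ⟨2 ^ j - 2, by omega⟩
    rw [hm]
    have e1 : m + 2 + 1 - 1 = m + 2 := by omega
    have e2 : m + 2 + 1 - 2 = m + 1 := by omega
    have e3 : (m + 2) ^ 2 - 1 = (m + 1) * (m + 3) := by
      have : (m + 2) ^ 2 = (m + 1) * (m + 3) + 1 := by ring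
      omega
    rw [e1, e2, e3]
    apply le_of_eq
    ring
  obtain ⟨e⟩ := main (G := G) (Ω := Ω) j (by rw [hΩ, hpj]) hj hT3 hS3 hcard' hF
  have hcen := Cfsg.Agent.Lib.Helper3.CardSL.center_SL2_eq_bot (F := GaloisField 2 j)
  let e2 : Matrix.ProjectiveSpecialLinearGroup (Fin 2) (GaloisField 2 j) ≃*
      Matrix.SpecialLinearGroup (Fin 2) (GaloisField 2 j) :=
    (QuotientGroup.quotientMulEquivOfEq hcen).trans QuotientGroup.quotientBot
  exact ⟨j, GaloisField 2 j, inferInstance, inferInstance, hpj, hF, ⟨e.trans e2⟩⟩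

end Cfsg.H5.S4706FO4
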