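import Mathlib

/-!
# S4706 FO-6, FO-7 (architect helper11): the arithmetic pieces.
-/

set_option autoImplicit false

namespace Cfsg.H5.S4706FO67

/-- FO-6 (arithmetic of the dichotomy). -/
theorem dichotomy_arith (t b c d' x₀ : ℕ) (m' ε' : ℤ) (ht : 2 ≤ t) (hprime : (2 * t + 1).Prime)
    (hm : m' = 1 ∨ m' = -1) (hε : ε' = 1 ∨ ε' = -1) (hd : 1 ≤ d') (hx : 1 ≤ x₀)
    (h1 : (c : ℤ) = ε' * (1 + m' * b))
    (h2 : 2 * t = b * d' + c * t * x₀)
    (h3 : 1 + m' * (d' : ℤ) = ε' * x₀) :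
    (m' = -1 ∧ ε' = -1 ∧ b = 1 ∧ c = 0 ∧ d' = 2 * t ∧ x₀ = 2 * t - 1) ∨
      (m' = 1 ∧ ε' = 1 ∧ b = 0 ∧ c = 1 ∧ d' = 1 ∧ x₀ = 2) := by
  have h2' : (2 : ℤ) * t = b * d' + c * t * x₀ := by exact_mod_cast h2
  have hb0 : (0 : ℤ) ≤ b := Int.natCast_nonneg b
  have hc0 : (0 : ℤ) ≤ c := Int.natCast_nonneg c
  have hd1 : (1 : ℤ) ≤ d' := by exact_mod_cast hd
  have hx1 : (1 : ℤ) ≤ x₀ := by exact_mod_cast hx
  have ht2 : (2 : ℤ) ≤ t := by exact_mod_cast ht
  rcases hm with rfl | rfl <;> rcases hε with rfl | rfl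
  · -- (1, 1)
    right
    have hc : (c : ℤ) = 1 + b := by linarith
    have hx0 : (x₀ : ℤ) = 1 + d' := by linarith
    have hb : (b : ℤ) = 0 := by
      by_contra hne
      have hb1 : (1 : ℤ) ≤ b := by omega
      rw [hc, hx0] at h2'
      nlinarith [mul_nonneg hb0 (by linarith : (0 : ℤ) ≤ d'), mul_nonneg (mul_nonneg hb0 (by linarith : (0:ℤ) ≤ t)) (by linarith : (0 : ℤ) ≤ d')]
    have hc' : (c : ℤ) = 1 := by rw [hc, hb]; ring
    have hdd : (d' : ℤ) = 1 := by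
      rw [hc', hx0, hb] at h2'
      have : (t : ℤ) * (d' - 1) = 0 := by linarith
      rcases mul_eq_zero.mp this with h | h
      · omega
      · linarith
    have hxx : (x₀ : ℤ) = 2 := by rw [hx0, hdd]; ring
    refine ⟨rfl, rfl, ?_, ?_, ?_, ?_⟩ <;> omega
  · -- (1, -1): c < 0
    exfalso
    have : (c : ℤ) = -(1 + b) := by linarith
    linarith
  · -- (-1, 1): x₀ ≤ 0
    exfalso
    have : (x₀ : ℤ) = 1 - d' := by linarith
    linarith
  · -- (-1, -1)
    left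
    have hc : (c : ℤ) = b - 1 := by linarith
    have hx0 : (x₀ : ℤ) = d' - 1 := by linarith
    have hb1 : (1 : ℤ) ≤ b := by linarith
    have hd2 : (2 : ℤ) ≤ d' := by linarith
    have hb : (b : ℤ) = 1 := by
      by_contra hne
      have hb2 : (2 : ℤ) ≤ b := by omega
      rw [hc, hx0] at h2'
      -- (b-1)(d'-1) t < 2 t
      have hpos : (0 : ℤ) < b * d' := by nlinarith
      have hlt : ((b : ℤ) - 1) * (d' - 1) * t < 2 * t := by nlinarith
      have hle : ((b : ℤ) - 1) * (d' - 1) < 2 := by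
        by_contra hcon
        rw [not_lt] at hcon
        nlinarith
      have hb' : (b : ℤ) = 2 := by nlinarith
      have hd' : (d' : ℤ) = 2 := by
        rw [hb'] at hle
        nlinarith
      rw [hb', hd'] at h2'
      have ht4 : t = 4 := by
        have : (t : ℤ) = 4 := by linarith
        exact_mod_cast this
      rw [ht4] at hprime
      norm_num at hprime
    have hc' : (c : ℤ) = 0 := by rw [hc, hb]; ring
    have hdd : (d' : ℤ) = 2 * t := by
      rw [hc', hb] at h2'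
      linarith
    have hxx : (x₀ : ℤ) = 2 * t - 1 := by rw [hx0, hdd]
    refine ⟨rfl, rfl, ?_, ?_, ?_, ?_⟩ <;> omega

/-- FO-7 (final arithmetic): from `f₂ = f² - (p+1) f + 2p` and `f ≤ f₂`. -/
theorem fix_le_two (p f f₂ : ℕ) (_hp : 5 ≤ p) (hf : f ≤ f₂) (hfp : f < p)
    (h : (f₂ : ℤ) = (f : ℤ) ^ 2 - ((p : ℤ) + 1) * f + 2 * p) : f ≤ 2 := by
  by_contra hcon
  rw [not_le] at hcon
  have h3 : (3 : ℤ) ≤ f := by exact_mod_cast hcon
  have hfp' : (f : ℤ) + 1 ≤ p := by exact_mod_cast hfp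
  have hf' : (f : ℤ) ≤ f₂ := by exact_mod_cast hf
  have : ((f : ℤ) - 2) * (p - f) ≥ 1 := by nlinarith
  nlinarith

end Cfsg.H5.S4706FO67
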