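import Mathlib
import Cfsg.Prelude.Def_GeometricClasses
import Cfsg.Agent.Lib.Helper16.TensDefs
import Cfsg.Agent.Lib.Helper10.Kron1

/-!
# S5637 FO-RANK (helper5, for helper16's skeleton)

An element of the Kronecker subgroup whose fixed space has codimension `a < b` fixes exactly a
standard hyperplane-type subspace `hyp ψ`.
-/

set_option autoImplicit false

namespace Cfsg.H5.S5637RANK

open Matrix Module Cfsg.Agent.Lib.Helper16.Tens
open scoped Kronecker

variable {F : Type*} [Field F] {a b : ℕ}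

/-- the action of `1 ⊗ₖ B'` on coordinates -/
theorem one_kron_mulVec_apply (B' : Matrix (Fin b) (Fin b) F) (v : Fin a × Fin b → F) (i : Fin a)
    (j : Fin b) :
    (((1 : Matrix (Fin a) (Fin a) F) ⊗ₖ B') *ᵥ v) (i, j) = ∑ j', B' j j' * v (i, j') := by
  simp only [Matrix.mulVec, dotProduct, Fintype.sum_prod_type, Matrix.kroneckerMap_apply,
    Matrix.one_apply]
  rw [Finset.sum_eq_single i]
  · simp
  · intro i' _ hi'
    simp [Ne.symm hi']
  · simp

/-- FO-RANK -/
theorem exists_hyp_of_kron (ha : 1 ≤ a) (hab : a < b) (n : GL (Fin a × Fin b) F)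
    (hn : n ∈ Cfsg.Geo.kroneckerSubgroup a b F)
    (hker : finrank F (LinearMap.ker ((act n).toLinearMap - LinearMap.id)) + a = a * b) :
    ∃ ψ : Fin b → F, ψ ≠ 0 ∧ LinearMap.ker ((act n).toLinearMap - LinearMap.id) = hyp ψ := by
  obtain ⟨A, B, hAB⟩ := (mem_kron_iff n).mp hn
  have hmem : ∀ v : Fin a × Fin b → F,
      v ∈ LinearMap.ker ((act n).toLinearMap - LinearMap.id) ↔ act n v = v := by
    intro v
    rw [LinearMap.mem_ker, LinearMap.sub_apply, LinearMap.id_apply, sub_eq_zero]
    rfl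
  -- the fixed space is the `1`-eigenspace of `A ⊗ B`
  have heig : LinearMap.ker ((act n).toLinearMap - LinearMap.id) =
      Module.End.eigenspace (Matrix.toLin' ((A : Matrix (Fin a) (Fin a) F) ⊗ₖ
        (B : Matrix (Fin b) (Fin b) F))) 1 := by
    ext v
    rw [hmem, Module.End.mem_eigenspace_iff, one_smul, Matrix.toLin'_apply, act_apply, hAB]
  obtain ⟨z, hz⟩ := Cfsg.Agent.Lib.Helper10.Kron.scalar_of_small_codim
    (A : Matrix (Fin a) (Fin a) F) (B : Matrix (Fin b) (Fin b) F) 1 one_ne_zero (by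
      rw [← heig, Fintype.card_fin, Fintype.card_fin]
      omega)
  obtain ⟨B', hB'⟩ : ∃ B' : Matrix (Fin b) (Fin b) F, B' = z • (B : Matrix (Fin b) (Fin b) F) :=
    ⟨_, rfl⟩
  have hn' : (n : Matrix (Fin a × Fin b) (Fin a × Fin b) F) =
      (1 : Matrix (Fin a) (Fin a) F) ⊗ₖ B' := by
    rw [hAB, hz, hB', Matrix.smul_kronecker, Matrix.kronecker_smul]
  -- `B' ≠ 1`
  have hB1 : B' ≠ 1 := by
    intro h1
    have htop : LinearMap.ker ((act n).toLinearMap - LinearMap.id) = ⊤ := by
      rw [eq_top_iff]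
      intro v _
      rw [hmem, act_apply, hn', h1, Matrix.one_kronecker_one, Matrix.one_mulVec]
    rw [htop, finrank_top, Module.finrank_fintype_fun_eq_card, Fintype.card_prod, Fintype.card_fin,
      Fintype.card_fin] at hker
    omega
  obtain ⟨j₁, j₂, hj⟩ : ∃ j₁ j₂, (B' - 1) j₁ j₂ ≠ 0 := by
    by_contra hcon
    push Not at hcon
    apply hB1
    have : B' - 1 = 0 := by
      ext i j
      exact hcon i j
    exact sub_eq_zero.mp this
  refine ⟨fun j => (B' - 1) j₁ j, ?_, ?_⟩
  · intro h0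
    exact hj (congrFun h0 j₂)
  · have hψ : (fun j => (B' - 1) j₁ j) ≠ 0 := by
      intro h0
      exact hj (congrFun h0 j₂)
    apply Submodule.eq_of_le_of_finrank_eq
    · intro v hv
      rw [hmem] at hv
      rw [mem_hyp_iff]
      funext i
      rw [ctr_apply, Pi.zero_apply]
      have h1 := congrFun hv (i, j₁)
      rw [act_apply, hn', one_kron_mulVec_apply] at h1
      have h2 : ∑ j', (1 : Matrix (Fin b) (Fin b) F) j₁ j' * v (i, j') = v (i, j₁) := by
        simp [Matrix.one_apply]
      rw [← h2, ← sub_eq_zero, ← Finset.sum_sub_distrib] at h1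
      rw [← h1]
      apply Finset.sum_congr rfl
      intro j' _
      rw [Matrix.sub_apply]
      ring
    · have := finrank_hyp (a := a) hψ
      omega

end Cfsg.H5.S5637RANK
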