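import Mathlib
import Cfsg.Prelude.Def_GeometricClasses
import Cfsg.Agent.Lib.Helper16.TensDefs

/-!
# S5637 FO-STRICT (helper5, for helper16's skeleton): `N0 ∩ SL` is a proper subgroup of `SL`
-/

set_option autoImplicit false
set_option linter.unusedSimpArgs false

namespace Cfsg.H5.S5637STRICT

open Matrix Module Cfsg.Agent.Lib.Helper16.Tens
open scoped Kronecker

variable {F : Type*} [Field F] {a b : ℕ}

/-- FO-STRICT -/
theorem kron_inf_SL_lt (ha : 2 ≤ a) (hb : 2 ≤ b) :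
    Cfsg.Geo.kroneckerSubgroup a b F ⊓ Cfsg.Geo.specialLinear (Fin a × Fin b) F <
      Cfsg.Geo.specialLinear (Fin a × Fin b) F := by
  refine lt_of_le_of_ne inf_le_right ?_
  intro heq
  obtain ⟨i0, hi0⟩ : ∃ i0 : Fin a, i0 = ⟨0, by omega⟩ := ⟨_, rfl⟩
  obtain ⟨i1, hi1⟩ : ∃ i1 : Fin a, i1 = ⟨1, by omega⟩ := ⟨_, rfl⟩
  obtain ⟨j0, hj0⟩ : ∃ j0 : Fin b, j0 = ⟨0, by omega⟩ := ⟨_, rfl⟩
  obtain ⟨j1, hj1⟩ : ∃ j1 : Fin b, j1 = ⟨1, by omega⟩ := ⟨_, rfl⟩
  have hi : i0 ≠ i1 := by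
    rw [hi0, hi1]
    intro h
    have := congrArg Fin.val h
    simp at this
  have hj : j0 ≠ j1 := by
    rw [hj0, hj1]
    intro h
    have := congrArg Fin.val h
    simp at this
  have hne : ((i0, j0) : Fin a × Fin b) ≠ (i1, j1) := by
    intro h
    exact hi (congrArg Prod.fst h)
  have hdet : (Matrix.transvection ((i0, j0) : Fin a × Fin b) (i1, j1) (1 : F)).det = 1 :=
    Matrix.det_transvection_of_ne _ _ hne 1
  obtain ⟨t, ht⟩ : ∃ t : GL (Fin a × Fin b) F,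
      (t : Matrix (Fin a × Fin b) (Fin a × Fin b) F) =
        Matrix.transvection ((i0, j0) : Fin a × Fin b) (i1, j1) (1 : F) :=
    ⟨Matrix.GeneralLinearGroup.mkOfDetNeZero _ (hdet.trans_ne one_ne_zero), rfl⟩
  have htSL : t ∈ Cfsg.Geo.specialLinear (Fin a × Fin b) F := by
    rw [mem_SL_iff, ht, hdet]
  have htN : t ∈ Cfsg.Geo.kroneckerSubgroup a b F := by
    have : t ∈ Cfsg.Geo.kroneckerSubgroup a b F ⊓ Cfsg.Geo.specialLinear (Fin a × Fin b) F := by
      rw [heq]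
      exact htSL
    exact this.1
  obtain ⟨A, B, hAB⟩ := (mem_kron_iff t).mp htN
  rw [ht] at hAB
  have e00 := congrFun (congrFun hAB (i0, j0)) (i0, j0)
  have e11 := congrFun (congrFun hAB (i0, j0)) (i1, j1)
  have e10 := congrFun (congrFun hAB (i0, j0)) (i1, j0)
  simp only [Matrix.transvection, Matrix.add_apply, Matrix.one_apply, Matrix.single_apply,
    Matrix.kroneckerMap_apply] at e00 e11 e10
  have h00 : (A : Matrix (Fin a) (Fin a) F) i0 i0 * (B : Matrix (Fin b) (Fin b) F) j0 j0 = 1 := by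
    rw [← e00]
    simp [hi, hj, hi.symm, hj.symm]
  have h11 : (A : Matrix (Fin a) (Fin a) F) i0 i1 * (B : Matrix (Fin b) (Fin b) F) j0 j1 = 1 := by
    rw [← e11]
    simp [hi, hj, hi.symm, hj.symm]
  have h10 : (A : Matrix (Fin a) (Fin a) F) i0 i1 * (B : Matrix (Fin b) (Fin b) F) j0 j0 = 0 := by
    rw [← e10]
    simp [hi, hj, hi.symm, hj.symm]
  have hB : (B : Matrix (Fin b) (Fin b) F) j0 j0 ≠ 0 := by
    intro h
    rw [h, mul_zero] at h00
    exact zero_ne_one h00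
  have hA : (A : Matrix (Fin a) (Fin a) F) i0 i1 ≠ 0 := by
    intro h
    rw [h, zero_mul] at h11
    exact zero_ne_one h11
  exact mul_ne_zero hA hB h10

end Cfsg.H5.S5637STRICT
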