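import Mathlib
import Cfsg.Prelude.Def_GeometricClasses
import Cfsg.Agent.Lib.Helper7.AschDefs
import Cfsg.Agent.Lib.Helper8.S5630I4TENS3
import Cfsg.Agent.Lib.Helper16.SpADefs

/-!
# S5662, piece SpT-T7c `sp_tensor_even` (helper5)

`q` even, `f ∘ P = G₁ ⊗ G₂` with `G₁`, `G₂` symmetric with zero diagonal, every `h ∈ H` of the shape `P (a ⊗ b) P⁻¹` with
`aᵀ G₁ a = μ G₁`, `bᵀ G₂ b = μ⁻¹ G₂` (piece T3): `H` fixes the quadratic form `Q (P (x ∘ e)) = x ⬝ᵥ (U₁ ⊗ G₂) *ᵥ x`, `U₁` the strictly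
upper triangular part of `G₁`, whose polar form is `f`.
-/

set_option autoImplicit false
set_option linter.unusedSectionVars false
set_option linter.unusedVariables false

namespace Cfsg.H5.S5662SpT7c

open Matrix Cfsg.Geo Cfsg.Agent.Lib.Helper7.Asch Cfsg.Agent.Lib.Helper16.SpA
open scoped Kronecker

variable {F : Type*} [Field F]

/-- in characteristic 2 a symmetric matrix with zero diagonal is alternating -/
theorem dot_mulVec_self_eq_zero (h20 : (2 : F) = 0) {κ : Type*} [Fintype κ] [DecidableEq κ] (N : Matrix κ κ F)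
    (hs : Nᵀ = N) (hdiag : ∀ i, N i i = 0) (x : κ → F) : x ⬝ᵥ (N *ᵥ x) = 0 := by
  have h1 : x ⬝ᵥ (N *ᵥ x) = ∑ p ∈ (Finset.univ : Finset (κ × κ)), x p.1 * N p.1 p.2 * x p.2 := by
    rw [← Finset.univ_product_univ, Finset.sum_product]
    simp only [dotProduct, Matrix.mulVec, Finset.mul_sum, mul_assoc]
  rw [h1]
  refine Finset.sum_involution (fun p _ => (p.2, p.1)) ?_ ?_ ?_ ?_
  · intro p _
    have hN : N p.2 p.1 = N p.1 p.2 := by
      have := congrFun (congrFun hs p.1) p.2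
      rwa [Matrix.transpose_apply] at this
    simp only
    rw [hN]
    have : x p.1 * N p.1 p.2 * x p.2 + x p.2 * N p.1 p.2 * x p.1 = 2 * (x p.1 * N p.1 p.2 * x p.2) := by ring
    rw [this, h20, zero_mul]
  · intro p _ hne heq
    have h12 : p.2 = p.1 := congrArg Prod.fst heq
    apply hne
    rw [h12, hdiag, mul_zero, zero_mul]
  · intro p _
    exact Finset.mem_univ _
  · intro p _
    rfl

/-- the polar form of `x ↦ x ⬝ᵥ M *ᵥ x` -/
theorem polar_dot {κ : Type*} [Fintype κ] [DecidableEq κ] (M : Matrix κ κ F) (x y : κ → F) :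
    (x + y) ⬝ᵥ (M *ᵥ (x + y)) - x ⬝ᵥ (M *ᵥ x) - y ⬝ᵥ (M *ᵥ y) = x ⬝ᵥ ((M + Mᵀ) *ᵥ y) := by
  have h1 : y ⬝ᵥ (M *ᵥ x) = x ⬝ᵥ (Mᵀ *ᵥ y) := by
    rw [Matrix.dotProduct_mulVec, ← Matrix.mulVec_transpose, dotProduct_comm]
  rw [Matrix.mulVec_add, add_dotProduct, dotProduct_add, dotProduct_add, Matrix.add_mulVec, dotProduct_add, h1]
  ring

theorem formOfGram_id_eq {κ : Type} [Fintype κ] (N : Matrix κ κ F) (x y : κ → F) :
    formOfGram id N x y = x ⬝ᵥ (N *ᵥ y) := by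
  simp only [formOfGram, dotProduct, Matrix.mulVec, Finset.mul_sum, mul_assoc, id]

theorem two_eq_zero_of_not_odd [Fintype F] (hq : ¬ Odd (Fintype.card F)) : (2 : F) = 0 := by
  obtain ⟨p, hp⟩ := CharP.exists F
  have := hp
  obtain ⟨k, hpp, hk⟩ := FiniteField.card F p
  have heven : Even (Fintype.card F) := Nat.not_odd_iff_even.mp hq
  rw [hk] at heven
  have hp2 : p = 2 := by
    have h2 : 2 ∣ p ^ (k : ℕ) := even_iff_two_dvd.mp heven
    have := (Nat.Prime.dvd_of_dvd_pow Nat.prime_two h2)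
    exact ((Nat.prime_dvd_prime_iff_eq Nat.prime_two hpp).mp this).symm
  subst hp2
  exact_mod_cast CharP.cast_eq_zero F 2

/-- the strictly upper triangular part -/
def upper {d : ℕ} (G : Matrix (Fin d) (Fin d) F) : Matrix (Fin d) (Fin d) F :=
  Matrix.of fun a b => if a < b then G a b else 0

theorem upper_add_transpose {d : ℕ} (G : Matrix (Fin d) (Fin d) F) (hs : Gᵀ = G) (hdiag : ∀ a, G a a = 0) :
    upper G + (upper G)ᵀ = G := by
  ext a b
  have hba : G b a = G a b := by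
    have := congrFun (congrFun hs a) b
    rwa [Matrix.transpose_apply] at this
  simp only [Matrix.add_apply, Matrix.transpose_apply, upper, Matrix.of_apply]
  rcases lt_trichotomy a b with h | h | h
  · rw [if_pos h, if_neg (not_lt.mpr h.le), add_zero]
  · subst h
    rw [if_neg (lt_irrefl a), add_zero, hdiag]
  · rw [if_neg (not_lt.mpr h.le), if_pos h, zero_add, hba]

variable [Fintype F] {n : ℕ} {f : (Fin n → F) → (Fin n → F) → F}

/-- **T7c**, with the factorisation T3 as a hypothesis -/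
theorem sp_tensor_even_of_factors (hf : IsSymplecticForm f) (hq : ¬ Odd (Fintype.card F)) (H : Subgroup (GL (Fin n) F))
    {d s : ℕ} (e : Fin n ≃ Fin d × Fin s) (P : GL (Fin n) F)
    (G₁ : Matrix (Fin d) (Fin d) F) (G₂ : Matrix (Fin s) (Fin s) F)
    (h1 : G₁ᵀ = G₁) (h2 : G₂ᵀ = G₂) (hd1 : ∀ a, G₁ a a = 0) (hd2 : ∀ b, G₂ b b = 0)
    (hT : ∀ x y : Fin d × Fin s → F,
      f ((P : Matrix (Fin n) (Fin n) F) *ᵥ (x ∘ e)) ((P : Matrix (Fin n) (Fin n) F) *ᵥ (y ∘ e)) =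
        formOfGram id (G₁ ⊗ₖ G₂) x y)
    (hfac : ∀ h ∈ H, ∃ (a : GL (Fin d) F) (b : GL (Fin s) F) (μ : F), μ ≠ 0 ∧
      (h : Matrix (Fin n) (Fin n) F) = (P : Matrix (Fin n) (Fin n) F) *
        Matrix.reindex e.symm e.symm ((a : Matrix (Fin d) (Fin d) F) ⊗ₖ (b : Matrix (Fin s) (Fin s) F)) *
        ((P⁻¹ : GL (Fin n) F) : Matrix (Fin n) (Fin n) F) ∧
      (a : Matrix (Fin d) (Fin d) F)ᵀ * G₁ * (a : Matrix (Fin d) (Fin d) F) = μ • G₁ ∧
      (b : Matrix (Fin s) (Fin s) F)ᵀ * G₂ * (b : Matrix (Fin s) (Fin s) F) = μ⁻¹ • G₂) : InSp f H := by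
  have h20 : (2 : F) = 0 := two_eq_zero_of_not_odd hq
  have hneg : ∀ X : Matrix (Fin d) (Fin d) F, -X = X := by
    intro X
    have : X + X = 0 := by rw [← two_smul F X, h20, zero_smul]
    exact neg_eq_of_add_eq_zero_left this
  set Pm : Matrix (Fin n) (Fin n) F := (P : Matrix (Fin n) (Fin n) F) with hPm
  set Pi' : Matrix (Fin n) (Fin n) F := ((P⁻¹ : GL (Fin n) F) : Matrix (Fin n) (Fin n) F) with hPi
  have hPiP : Pi' * Pm = 1 := by rw [hPi, hPm, ← Units.val_mul, inv_mul_cancel, Units.val_one]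
  have hPPi : Pm * Pi' = 1 := by rw [hPi, hPm, ← Units.val_mul, mul_inv_cancel, Units.val_one]
  -- coordinates
  set cd : (Fin n → F) → (Fin d × Fin s → F) := fun v => (Pi' *ᵥ v) ∘ e.symm with hcd
  have hcd_add : ∀ u v, cd (u + v) = cd u + cd v := by
    intro u v
    funext p
    simp only [hcd, Function.comp_apply, Matrix.mulVec_add, Pi.add_apply]
  have hcd_smul : ∀ (c : F) v, cd (c • v) = c • cd v := by
    intro c v
    funext p
    simp only [hcd, Function.comp_apply, Matrix.mulVec_smul, Pi.smul_apply]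
  have hcd_inv : ∀ v, Pm *ᵥ (cd v ∘ e) = v := by
    intro v
    have : cd v ∘ e = Pi' *ᵥ v := by
      funext i
      simp only [hcd, Function.comp_apply, Equiv.symm_apply_apply]
    rw [this, Matrix.mulVec_mulVec, hPPi, Matrix.one_mulVec]
  set U₁ := upper G₁ with hU
  have hUG : U₁ + U₁ᵀ = G₁ := upper_add_transpose G₁ h1 hd1
  set M : Matrix (Fin d × Fin s) (Fin d × Fin s) F := U₁ ⊗ₖ G₂ with hM
  have hMM : M + Mᵀ = G₁ ⊗ₖ G₂ := by
    rw [hM, ← Matrix.kroneckerMap_transpose, h2, ← Matrix.add_kronecker, hUG]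
  set Q : (Fin n → F) → F := fun v => cd v ⬝ᵥ (M *ᵥ cd v) with hQ
  have hpolar : ∀ u v, QuadraticMap.polar Q u v = f u v := by
    intro u v
    have e1 : QuadraticMap.polar Q u v = cd u ⬝ᵥ ((M + Mᵀ) *ᵥ cd v) := by
      rw [← polar_dot]
      simp only [QuadraticMap.polar, hQ, hcd_add]
    rw [e1, hMM, ← formOfGram_id_eq, ← hT, hcd_inv, hcd_inv]
  have hpolar' : QuadraticMap.polar Q = f := by
    funext u v
    exact hpolar u v
  have hQnd : IsNondegenerateQuadraticForm Q := by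
    refine ⟨?_, ?_, ?_⟩
    · intro c v
      simp only [hQ]
      rw [hcd_smul, Matrix.mulVec_smul, smul_dotProduct, dotProduct_smul, smul_eq_mul, smul_eq_mul]
      ring
    · rw [hpolar']; exact hf.bilinear
    · rw [hpolar']; exact hf.nondegenerate
  refine .quadratic Q hq hQnd hpolar ?_
  intro h hh
  obtain ⟨a, b, μ, hμ, hh_eq, ha, hb⟩ := hfac h hh
  refine ⟨1, fun v => ?_⟩
  rw [Units.val_one, one_mul]
  set A : Matrix (Fin d) (Fin d) F := (a : Matrix (Fin d) (Fin d) F) with hA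
  set B : Matrix (Fin s) (Fin s) F := (b : Matrix (Fin s) (Fin s) F) with hB
  set K : Matrix (Fin d × Fin s) (Fin d × Fin s) F := A ⊗ₖ B with hK
  -- coordinates of `h v`
  have hcdh : cd ((h : Matrix (Fin n) (Fin n) F) *ᵥ v) = K *ᵥ cd v := by
    have e1 : Pi' *ᵥ ((h : Matrix (Fin n) (Fin n) F) *ᵥ v) =
        (Matrix.reindex e.symm e.symm K) *ᵥ (Pi' *ᵥ v) := by
      rw [hh_eq, Matrix.mulVec_mulVec, Matrix.mulVec_mulVec, ← mul_assoc, ← mul_assoc, hPiP, one_mul]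
    funext p
    simp only [hcd, Function.comp_apply]
    rw [e1, Matrix.reindex_apply, Equiv.symm_symm, Matrix.submatrix_mulVec_equiv, Function.comp_apply,
      Equiv.apply_symm_apply]
  simp only [hQ]
  rw [hcdh]
  set x := cd v with hx
  -- `(K x) ⬝ M (K x) = x ⬝ (Kᵀ M K) x`
  have e2 : (K *ᵥ x) ⬝ᵥ (M *ᵥ (K *ᵥ x)) = x ⬝ᵥ ((Kᵀ * M * K) *ᵥ x) := by
    calc (K *ᵥ x) ⬝ᵥ (M *ᵥ (K *ᵥ x)) = (x ᵥ* Kᵀ) ⬝ᵥ (M *ᵥ (K *ᵥ x)) := by rw [Matrix.vecMul_transpose]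
      _ = x ⬝ᵥ (Kᵀ *ᵥ (M *ᵥ (K *ᵥ x))) := by rw [Matrix.dotProduct_mulVec x Kᵀ]
      _ = x ⬝ᵥ ((Kᵀ * M * K) *ᵥ x) := by rw [Matrix.mulVec_mulVec, Matrix.mulVec_mulVec]
  rw [e2]
  have e3 : Kᵀ * M * K = (Aᵀ * U₁ * A) ⊗ₖ (μ⁻¹ • G₂) := by
    rw [hK, hM, ← Matrix.kroneckerMap_transpose, ← Matrix.mul_kronecker_mul, ← Matrix.mul_kronecker_mul, hb]
  set S : Matrix (Fin d) (Fin d) F := μ⁻¹ • (Aᵀ * U₁ * A) - U₁ with hS
  have hSsym : Sᵀ = S := by
    have hsum : S + Sᵀ = 0 := by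
      rw [hS, Matrix.transpose_sub, Matrix.transpose_smul, Matrix.transpose_mul, Matrix.transpose_mul,
        Matrix.transpose_transpose]
      have : μ⁻¹ • (Aᵀ * U₁ * A) - U₁ + (μ⁻¹ • (Aᵀ * (U₁ᵀ * A)) - U₁ᵀ) =
          μ⁻¹ • (Aᵀ * (U₁ + U₁ᵀ) * A) - (U₁ + U₁ᵀ) := by
        rw [Matrix.mul_add, Matrix.add_mul, smul_add, mul_assoc Aᵀ U₁ᵀ A]
        abel
      rw [this, hUG, ha, smul_smul, inv_mul_cancel₀ hμ, one_smul, sub_self]
    have : Sᵀ = -S := (neg_eq_of_add_eq_zero_right hsum).symm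
    rw [this, hneg]
  have e4 : Kᵀ * M * K = M + S ⊗ₖ G₂ := by
    rw [e3, hM, ← Matrix.add_kronecker, hS, add_sub_cancel, Matrix.smul_kronecker, Matrix.kronecker_smul]
  rw [e4, Matrix.add_mulVec, dotProduct_add]
  have e5 : x ⬝ᵥ ((S ⊗ₖ G₂) *ᵥ x) = 0 := by
    apply dot_mulVec_self_eq_zero h20
    · rw [← Matrix.kroneckerMap_transpose, hSsym, h2]
    · rintro ⟨i, j⟩
      rw [Matrix.kroneckerMap_apply, hd2, mul_zero]
  rw [e5, add_zero]

end Cfsg.H5.S5662SpT7c
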