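import Mathlib
import Cfsg.Prelude.Def_GeometricClasses
import Cfsg.Agent.Lib.Helper7.AschDefs
import Cfsg.Agent.Lib.Helper8.S5630I4TENS3
import Cfsg.Agent.Lib.Helper16.SpADefs
import Cfsg.Agent.H5.S5662SpT7c

/-!
# S5662, piece SpT-T7b `diag_zero_right` (helper5)

`q` even, `H` irreducible, every `h ∈ H` of the shape `P (a ⊗ b) P⁻¹` with `bᵀ G₂ b = μ⁻¹ G₂` (piece T3), `G₂` symmetric, `2 ≤ s`,
`1 ≤ d`: the diagonal of `G₂` vanishes (`P (F^d ⊗ {u | u ⬝ᵥ G₂ *ᵥ u = 0})` is a non-zero `H`-invariant subspace).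
-/

set_option autoImplicit false
set_option linter.unusedSectionVars false
set_option linter.unusedVariables false

namespace Cfsg.H5.S5662SpT7b

open Matrix Cfsg.Geo Cfsg.Agent.Lib.Helper7.Asch Cfsg.Agent.Lib.Helper16.SpA Cfsg.H5.S5662SpT7c
open scoped Kronecker

variable {F : Type*} [Field F]

/-- in characteristic 2, `u ↦ u ⬝ᵥ G *ᵥ u` is additive for symmetric `G` -/
theorem qq_add (h20 : (2 : F) = 0) {κ : Type*} [Fintype κ] [DecidableEq κ] (G : Matrix κ κ F) (hs : Gᵀ = G)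
    (u w : κ → F) : (u + w) ⬝ᵥ (G *ᵥ (u + w)) = u ⬝ᵥ (G *ᵥ u) + w ⬝ᵥ (G *ᵥ w) := by
  have h := polar_dot G u w
  have h0 : G + Gᵀ = 0 := by
    rw [hs, ← two_smul F G, h20, zero_smul]
  rw [h0, Matrix.zero_mulVec, dotProduct_zero] at h
  have : (u + w) ⬝ᵥ (G *ᵥ (u + w)) = u ⬝ᵥ (G *ᵥ u) + w ⬝ᵥ (G *ᵥ w) + 0 := by
    rw [← h]; ring
  rw [this, add_zero]

theorem qq_smul {κ : Type*} [Fintype κ] [DecidableEq κ] (G : Matrix κ κ F) (c : F) (u : κ → F) :
    (c • u) ⬝ᵥ (G *ᵥ (c • u)) = c * c * (u ⬝ᵥ (G *ᵥ u)) := by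
  rw [Matrix.mulVec_smul, smul_dotProduct, dotProduct_smul, smul_eq_mul, smul_eq_mul, mul_assoc]

/-- the singular vectors of `u ↦ u ⬝ᵥ G *ᵥ u` as a subspace (characteristic 2, `G` symmetric) -/
def sing (h20 : (2 : F) = 0) {κ : Type*} [Fintype κ] [DecidableEq κ] (G : Matrix κ κ F) (hs : Gᵀ = G) :
    Submodule F (κ → F) where
  carrier := {u | u ⬝ᵥ (G *ᵥ u) = 0}
  add_mem' {a b} ha hb := by
    change (a + b) ⬝ᵥ (G *ᵥ (a + b)) = 0
    rw [qq_add h20 G hs, ha, hb, add_zero]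
  zero_mem' := by
    change (0 : κ → F) ⬝ᵥ (G *ᵥ 0) = 0
    rw [zero_dotProduct]
  smul_mem' c a ha := by
    change (c • a) ⬝ᵥ (G *ᵥ (c • a)) = 0
    rw [qq_smul, ha, mul_zero]

theorem mem_sing (h20 : (2 : F) = 0) {κ : Type*} [Fintype κ] [DecidableEq κ] (G : Matrix κ κ F) (hs : Gᵀ = G)
    (u : κ → F) : u ∈ sing h20 G hs ↔ u ⬝ᵥ (G *ᵥ u) = 0 := Iff.rfl

theorem single_dot_mulVec_single {κ : Type*} [Fintype κ] [DecidableEq κ] (G : Matrix κ κ F) (a b : κ) :
    (Pi.single a 1 : κ → F) ⬝ᵥ (G *ᵥ (Pi.single b 1)) = G a b := by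
  rw [Matrix.mulVec_single_one, single_one_dotProduct]
  rfl

/-- a non-zero singular vector exists in dimension `≥ 2` (finite field of characteristic 2) -/
theorem exists_sing_ne_zero [Finite F] (h20 : (2 : F) = 0) {s : ℕ} (hs2 : 2 ≤ s) (G : Matrix (Fin s) (Fin s) F)
    (hs : Gᵀ = G) : ∃ u : Fin s → F, u ≠ 0 ∧ u ⬝ᵥ (G *ᵥ u) = 0 := by
  set j0 : Fin s := ⟨0, by omega⟩ with hj0
  set j1 : Fin s := ⟨1, by omega⟩ with hj1
  have hne : j0 ≠ j1 := by
    intro h
    have := congrArg Fin.val h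
    simp [hj0, hj1] at this
  by_cases hα : G j0 j0 = 0
  · refine ⟨Pi.single j0 1, ?_, ?_⟩
    · intro h
      have := congrFun h j0
      rw [Pi.single_eq_same] at this
      exact one_ne_zero this
    · rw [single_dot_mulVec_single, hα]
  · have hchar : ringChar F = 2 := CharP.ringChar_of_prime_eq_zero Nat.prime_two (by exact_mod_cast h20)
    obtain ⟨c, hc⟩ := FiniteField.isSquare_of_char_two hchar (G j1 j1 / G j0 j0)
    refine ⟨c • Pi.single j0 1 + Pi.single j1 1, ?_, ?_⟩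
    · intro h
      have := congrFun h j1
      rw [Pi.add_apply, Pi.smul_apply, Pi.single_eq_of_ne hne.symm, Pi.single_eq_same, smul_zero, zero_add] at this
      exact one_ne_zero this
    · rw [qq_add h20 G hs, qq_smul, single_dot_mulVec_single, single_dot_mulVec_single, ← hc,
        div_mul_cancel₀ _ hα, ← two_mul, h20, zero_mul]

variable [Fintype F] {n : ℕ}

/-- **T7b**, with the factorisation T3 as a hypothesis -/
theorem diag_zero_right_of_factors (hq : ¬ Odd (Fintype.card F)) (H : Subgroup (GL (Fin n) F)) (hirr : Irr H)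
    {d s : ℕ} (hd : 1 ≤ d) (hs : 2 ≤ s) (e : Fin n ≃ Fin d × Fin s) (P : GL (Fin n) F)
    (G₂ : Matrix (Fin s) (Fin s) F) (h2 : G₂ᵀ = G₂)
    (hfac : ∀ h ∈ H, ∃ (a : GL (Fin d) F) (b : GL (Fin s) F) (μ : F),
      (h : Matrix (Fin n) (Fin n) F) = (P : Matrix (Fin n) (Fin n) F) *
        Matrix.reindex e.symm e.symm ((a : Matrix (Fin d) (Fin d) F) ⊗ₖ (b : Matrix (Fin s) (Fin s) F)) *
        ((P⁻¹ : GL (Fin n) F) : Matrix (Fin n) (Fin n) F) ∧
      (b : Matrix (Fin s) (Fin s) F)ᵀ * G₂ * (b : Matrix (Fin s) (Fin s) F) = μ⁻¹ • G₂) (b : Fin s) :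
    G₂ b b = 0 := by
  have h20 : (2 : F) = 0 := two_eq_zero_of_not_odd hq
  set Pm : Matrix (Fin n) (Fin n) F := (P : Matrix (Fin n) (Fin n) F) with hPm
  set Pi' : Matrix (Fin n) (Fin n) F := ((P⁻¹ : GL (Fin n) F) : Matrix (Fin n) (Fin n) F) with hPi
  have hPiP : Pi' * Pm = 1 := by rw [hPi, hPm, ← Units.val_mul, inv_mul_cancel, Units.val_one]
  have hPPi : Pm * Pi' = 1 := by rw [hPi, hPm, ← Units.val_mul, mul_inv_cancel, Units.val_one]
  set cd : (Fin n → F) → (Fin d × Fin s → F) := fun v => (Pi' *ᵥ v) ∘ e.symm with hcd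
  have hcd_add : ∀ u v, cd (u + v) = cd u + cd v := by
    intro u v
    funext p
    simp only [hcd, Function.comp_apply, Matrix.mulVec_add, Pi.add_apply]
  have hcd_smul : ∀ (c : F) v, cd (c • v) = c • cd v := by
    intro c v
    funext p
    simp only [hcd, Function.comp_apply, Matrix.mulVec_smul, Pi.smul_apply]
  have hcd_P : ∀ x : Fin d × Fin s → F, cd (Pm *ᵥ (x ∘ e)) = x := by
    intro x
    funext p
    simp only [hcd, Function.comp_apply]
    rw [Matrix.mulVec_mulVec, hPiP, Matrix.one_mulVec, Function.comp_apply, Equiv.apply_symm_apply]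
  set W₂ := sing h20 G₂ h2 with hW₂
  -- the subspace
  let 𝒲 : Submodule F (Fin n → F) :=
    { carrier := {v | ∀ i : Fin d, (fun j => cd v (i, j)) ∈ W₂}
      add_mem' := by
        intro u v hu hv i
        have : (fun j => cd (u + v) (i, j)) = (fun j => cd u (i, j)) + (fun j => cd v (i, j)) := by
          funext j
          rw [hcd_add]
          rfl
        rw [this]
        exact W₂.add_mem (hu i) (hv i)
      zero_mem' := by
        intro i
        have : (fun j => cd 0 (i, j)) = (0 : Fin s → F) := by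
          funext j
          simp only [hcd, Function.comp_apply, Matrix.mulVec_zero, Pi.zero_apply]
        rw [this]
        exact W₂.zero_mem
      smul_mem' := by
        intro c v hv i
        have : (fun j => cd (c • v) (i, j)) = c • (fun j => cd v (i, j)) := by
          funext j
          rw [hcd_smul]
          rfl
        rw [this]
        exact W₂.smul_mem c (hv i) }
  have hmem𝒲 : ∀ v, v ∈ 𝒲 ↔ ∀ i : Fin d, (fun j => cd v (i, j)) ∈ W₂ := fun v => Iff.rfl
  -- invariance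
  have hinv : ∀ m ∈ matrixSet H, 𝒲.map (Matrix.toLin' m) ≤ 𝒲 := by
    rintro m ⟨h, hh, rfl⟩
    rintro _ ⟨v, hv, rfl⟩
    obtain ⟨a, b', μ, hh_eq, hb⟩ := hfac h hh
    set A : Matrix (Fin d) (Fin d) F := (a : Matrix (Fin d) (Fin d) F) with hA
    set B : Matrix (Fin s) (Fin s) F := (b' : Matrix (Fin s) (Fin s) F) with hB
    set K : Matrix (Fin d × Fin s) (Fin d × Fin s) F := A ⊗ₖ B with hK
    have hcdh : cd ((h : Matrix (Fin n) (Fin n) F) *ᵥ v) = K *ᵥ cd v := by
      have e1 : Pi' *ᵥ ((h : Matrix (Fin n) (Fin n) F) *ᵥ v) =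
          (Matrix.reindex e.symm e.symm K) *ᵥ (Pi' *ᵥ v) := by
        rw [hh_eq, Matrix.mulVec_mulVec, Matrix.mulVec_mulVec, ← mul_assoc, ← mul_assoc, hPiP, one_mul]
      funext p
      simp only [hcd, Function.comp_apply]
      rw [e1, Matrix.reindex_apply, Equiv.symm_symm, Matrix.submatrix_mulVec_equiv, Function.comp_apply,
        Equiv.apply_symm_apply]
    rw [Matrix.toLin'_apply, hmem𝒲]
    intro i
    rw [hcdh]
    -- the `i`-th row of `K x`
    have hrow : (fun j => (K *ᵥ cd v) (i, j)) = ∑ i' : Fin d, A i i' • (B *ᵥ (fun j' => cd v (i', j'))) := by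
      funext j
      simp only [Matrix.mulVec, dotProduct, hK, Matrix.kroneckerMap_apply, Finset.sum_apply, Pi.smul_apply,
        smul_eq_mul, Finset.mul_sum]
      rw [← Finset.univ_product_univ, Finset.sum_product]
      refine Finset.sum_congr rfl fun i' _ => Finset.sum_congr rfl fun j' _ => ?_
      ring
    rw [hrow]
    refine W₂.sum_mem fun i' _ => W₂.smul_mem _ ?_
    have hu := (hmem𝒲 v).1 hv i'
    rw [hW₂, mem_sing] at hu ⊢
    set u : Fin s → F := fun j' => cd v (i', j') with hu'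
    calc (B *ᵥ u) ⬝ᵥ (G₂ *ᵥ (B *ᵥ u)) = (u ᵥ* Bᵀ) ⬝ᵥ (G₂ *ᵥ (B *ᵥ u)) := by rw [Matrix.vecMul_transpose]
      _ = u ⬝ᵥ (Bᵀ *ᵥ (G₂ *ᵥ (B *ᵥ u))) := by rw [Matrix.dotProduct_mulVec u Bᵀ]
      _ = u ⬝ᵥ ((Bᵀ * G₂ * B) *ᵥ u) := by rw [Matrix.mulVec_mulVec, Matrix.mulVec_mulVec]
      _ = 0 := by rw [hb, Matrix.smul_mulVec, dotProduct_smul, hu, smul_zero]
  have hd0 : (⟨0, by omega⟩ : Fin d) = ⟨0, by omega⟩ := rfl
  set i₀ : Fin d := ⟨0, by omega⟩ with hi₀
  -- the vector with `i₀`-th row `u`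
  set row : (Fin s → F) → (Fin d × Fin s → F) := fun u p => if p.1 = i₀ then u p.2 else 0 with hrowdef
  have hrow_mem : ∀ u ∈ W₂, Pm *ᵥ (row u ∘ e) ∈ 𝒲 := by
    intro u hu
    rw [hmem𝒲]
    intro i
    rw [hcd_P]
    by_cases hi : i = i₀
    · have : (fun j => row u (i, j)) = u := by
        funext j
        simp only [hrowdef, hi, if_true]
      rw [this]; exact hu
    · have : (fun j => row u (i, j)) = 0 := by
        funext j
        simp only [hrowdef, hi, if_false, Pi.zero_apply]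
      rw [this]; exact W₂.zero_mem
  rcases hirr 𝒲 hinv with hbot | htop
  · exfalso
    obtain ⟨u₀, hu0, hu0s⟩ := exists_sing_ne_zero h20 hs G₂ h2
    have hmem := hrow_mem u₀ hu0s
    rw [hbot, Submodule.mem_bot] at hmem
    have hx := hcd_P (row u₀)
    rw [hmem] at hx
    apply hu0
    funext j
    have := congrFun hx (i₀, j)
    simp only [hcd, Function.comp_apply, Matrix.mulVec_zero, Pi.zero_apply, hrowdef, if_true] at this
    exact this.symm
  · have hmem : Pm *ᵥ (row (Pi.single b 1) ∘ e) ∈ 𝒲 := by rw [htop]; exact Submodule.mem_top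
    have := (hmem𝒲 _).1 hmem i₀
    rw [hcd_P] at this
    have hrow1 : (fun j => row (Pi.single b 1) (i₀, j)) = (Pi.single b 1 : Fin s → F) := by
      funext j
      simp only [hrowdef, if_true]
    rw [hrow1, hW₂, mem_sing, single_dot_mulVec_single] at this
    exact this

end Cfsg.H5.S5662SpT7b
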