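import Mathlib
import Cfsg.Prelude.Def_GeometricClasses
import Cfsg.Agent.Lib.Helper7.AschDefs
import Cfsg.Agent.Lib.Helper8.S5630I4TENS3
import Cfsg.Agent.Lib.Helper16.SpADefs
import Cfsg.Agent.Lib.Helper23.S5662SpT2
import Cfsg.Agent.H5.S5662SpT7c
import Cfsg.Agent.H5.S5662SpT7b

/-!
# S5662, pieces SpT-T7b `diag_zero_right` and SpT-T7c `sp_tensor_even` with the EXACT signatures of
`Lib/Helper16/SpACliffSkel.lean` (`TF` = helper23's verbatim copy `Cfsg.Agent.Lib.Helper23.S5662SpT.TF`), from helper23's T3.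
-/

set_option autoImplicit false
set_option linter.unusedSectionVars false
set_option linter.unusedVariables false

namespace Cfsg.H5.S5662SpT7

open Matrix Cfsg.Geo Cfsg.Agent.Lib.Helper7.Asch Cfsg.Agent.Lib.Helper16.SpA Cfsg.Agent.Lib.Helper23.S5662SpT
open scoped Kronecker

variable {F : Type*} [Field F] [Fintype F] {n : ℕ} {f : (Fin n → F) → (Fin n → F) → F}

/-- **T7b** -/
theorem diag_zero_right (hf : IsSymplecticForm f) (hq : ¬ Odd (Fintype.card F)) (H : Subgroup (GL (Fin n) F))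
    (hHI : H ≤ Iso f) (hirr : Irr H) {d s : ℕ} (hd : 1 ≤ d) (hs : 2 ≤ s) (e : Fin n ≃ Fin d × Fin s) (P : GL (Fin n) F)
    (G₁ : Matrix (Fin d) (Fin d) F) (G₂ : Matrix (Fin s) (Fin s) F) (hG1 : IsUnit G₁.det) (hG2 : IsUnit G₂.det)
    (h2 : G₂ᵀ = G₂) (hT : TF f e P G₁ G₂) (hle : H ≤ tensorProductSubgroup d s e P) (b : Fin s) : G₂ b b = 0 := by
  refine Cfsg.H5.S5662SpT7b.diag_zero_right_of_factors hq H hirr hd hs e P G₂ h2 ?_ b
  intro h hh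
  obtain ⟨a, b', μ, -, h1, -, h3⟩ := exists_factors e P G₁ G₂ hG1 hG2 hT h (hle hh) (hHI hh)
  exact ⟨a, b', μ, h1, h3⟩

/-- **T7c** -/
theorem sp_tensor_even (hf : IsSymplecticForm f) (hq : ¬ Odd (Fintype.card F)) (H : Subgroup (GL (Fin n) F))
    (hHI : H ≤ Iso f) {d s : ℕ} (e : Fin n ≃ Fin d × Fin s) (P : GL (Fin n) F)
    (G₁ : Matrix (Fin d) (Fin d) F) (G₂ : Matrix (Fin s) (Fin s) F) (hG1 : IsUnit G₁.det) (hG2 : IsUnit G₂.det)
    (h1 : G₁ᵀ = G₁) (h2 : G₂ᵀ = G₂) (hd1 : ∀ a, G₁ a a = 0) (hd2 : ∀ b, G₂ b b = 0) (hT : TF f e P G₁ G₂)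
    (hle : H ≤ tensorProductSubgroup d s e P) : InSp f H :=
  Cfsg.H5.S5662SpT7c.sp_tensor_even_of_factors hf hq H e P G₁ G₂ h1 h2 hd1 hd2 hT
    (fun h hh => exists_factors e P G₁ G₂ hG1 hG2 hT h (hle hh) (hHI hh))

end Cfsg.H5.S5662SpT7
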