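import Mathlib
import Cfsg.Agent.Lib.Helper7.SpExtDefs
import Cfsg.Agent.Lib.Helper7.SpExtBas

/-!
# S5664 FO-IV (helper5, for helper7's skeleton): one `F`-transvection gives all

`forall_tv_aux` takes the transitivity of `SpL` on nonzero vectors (FO-ROOT `exists_SpL_map`) as an
explicit hypothesis.
-/

set_option autoImplicit false

namespace Cfsg.H5.S5664IV

open Matrix Module Cfsg.Agent.Lib.Helper7.SpExt

variable {F : Type*} [Field F] {L : Type*} [Field L] [Algebra F L] {ι : Type} [Fintype ι]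
  [DecidableEq ι] {ρ : L →ₐ[F] Matrix ι ι F} {f : (ι → F) →ₗ[F] (ι → F) →ₗ[F] F} {τ : L →ₗ[F] F}
  {B : (ι → F) →ₗ[F] (ι → F) →ₗ[F] L}

/-- every element of a finite field is a sum of two squares -/
theorem exists_sq_add_sq [Fintype F] (x : F) : ∃ a b : F, a * a + b * b = x := by
  by_cases hc : Fintype.card F % 2 = 1
  · let p : Polynomial F := Polynomial.X ^ 2
    let q : Polynomial F := Polynomial.X ^ 2 - Polynomial.C x
    obtain ⟨a, b, hab⟩ : ∃ a b, p.eval a + q.eval b = 0 :=
      FiniteField.exists_root_sum_quadratic (Polynomial.degree_X_pow 2)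
        (Polynomial.degree_X_pow_sub_C (by decide) _) hc
    refine ⟨a, b, ?_⟩
    simp only [p, q, Polynomial.eval_C, Polynomial.eval_X, Polynomial.eval_pow,
      Polynomial.eval_sub] at hab
    linear_combination hab
  · have h2 : ringChar F = 2 := FiniteField.even_card_iff_char_two.mpr (by omega)
    obtain ⟨a, ha⟩ := FiniteField.isSquare_of_char_two h2 x
    exact ⟨a, 0, by rw [ha]; ring⟩

/-- a transvection is determined by its data -/
theorem isTv_unique {u : ι → F} {c : F} {g g' : GL ι F} (hg : IsTv f u c g) (hg' : IsTv f u c g') :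
    g = g' := by
  apply gl_ext
  intro v
  rw [hg v, hg' v]

/-- transvections exist -/
theorem exists_isTv (hf : ∀ v, f v v = 0) (u : ι → F) (c : F) : ∃ g : GL ι F, IsTv f u c g := by
  let φ : F → ((ι → F) →ₗ[F] (ι → F)) := fun c =>
    LinearMap.id + (c • (LinearMap.toSpanSingleton F (ι → F) u) ∘ₗ (f.flip u))
  have hφ : ∀ c v, φ c v = v + (c * f v u) • u := by
    intro c v
    simp [φ, LinearMap.toSpanSingleton_apply, smul_smul]
  obtain ⟨g, hg, -⟩ := exists_gl (φ c) (φ (-c)) (by
    intro v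
    rw [hφ, hφ, map_add, LinearMap.add_apply, map_smul, LinearMap.smul_apply, hf, smul_zero,
      add_zero]
    module) (by
    intro v
    rw [hφ, hφ, map_add, LinearMap.add_apply, map_smul, LinearMap.smul_apply, hf, smul_zero,
      add_zero]
    module)
  exact ⟨g, fun v => by rw [hg, hφ]⟩

/-- conjugating a transvection by an isometry -/
theorem isTv_conj {h : GL ι F} (hh : h ∈ isom f) {u : ι → F} {c : F} {g : GL ι F}
    (hg : IsTv f u c g) : IsTv f (act h u) c (h * g * h⁻¹) := by
  intro v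
  rw [act_mul, act_mul, hg, act_add, act_act_inv, act_smul]
  have h1 : f (act h⁻¹ v) u = f v (act h u) := by
    have := hh (act h⁻¹ v) u
    rw [act_act_inv] at this
    exact this.symm
  rw [h1]

/-- product of two transvections with the same centre -/
theorem isTv_mul (hf : ∀ v, f v v = 0) {u : ι → F} {c c' : F} {g g' : GL ι F}
    (hg : IsTv f u c g) (hg' : IsTv f u c' g') : IsTv f u (c + c') (g * g') := by
  intro v
  rw [act_mul, hg' v, hg, map_add, LinearMap.add_apply, map_smul, LinearMap.smul_apply, hf,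
    smul_zero, add_zero]
  module

/-- `T(t u, c) = T(u, t² c)` -/
theorem isTv_smul {u : ι → F} {c t : F} {g : GL ι F} (hg : IsTv f (t • u) c g) :
    IsTv f u (t * t * c) g := by
  intro v
  rw [hg v, map_smul, smul_eq_mul, smul_smul]
  congr 2
  ring

theorem isTv_smul' {u : ι → F} {c t : F} {g : GL ι F} (hg : IsTv f u (t * t * c) g) :
    IsTv f (t • u) c g := by
  intro v
  rw [hg v, map_smul, smul_eq_mul, smul_smul]
  congr 2
  ring

/-- FO-IV with transitivity of `SpL` as a hypothesis -/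
theorem forall_tv_aux [Fintype F] (S : SpStr ρ f τ B) (H : Subgroup (GL ι F)) (hSpL : SpL ρ B ≤ H)
    (hH : H ≤ isom f)
    (hmap : ∀ v w : ι → F, v ≠ 0 → w ≠ 0 → ∃ h ∈ SpL ρ B, act h v = w)
    (htv : HasTv f H) : ∀ u c g, IsTv f u c g → g ∈ H := by
  have hf : ∀ v, f v v = 0 := f_alt S
  obtain ⟨u₀, c₀, hu₀, hc₀, h₀⟩ := htv
  -- transport along `SpL`
  have move : ∀ (u w : ι → F) (c : F), u ≠ 0 → w ≠ 0 → (∀ g, IsTv f u c g → g ∈ H) →
      ∀ g, IsTv f w c g → g ∈ H := by
    intro u w c hu hw hA g hg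
    obtain ⟨h, hh, hhu⟩ := hmap w u hw hu
    have hhH : h ∈ H := hSpL hh
    have h1 := isTv_conj (hH hhH) hg
    rw [hhu] at h1
    have h2 := hA _ h1
    have h3 := H.mul_mem (H.mul_mem (H.inv_mem hhH) h2) hhH
    have e : h⁻¹ * (h * g * h⁻¹) * h = g := by group
    rwa [e] at h3
  intro u c g hg
  by_cases hu : u = 0
  · have : g = 1 := by
      apply gl_ext
      intro v
      rw [hg v, hu, smul_zero, add_zero, act_one]
    rw [this]
    exact H.one_mem
  -- `c₀ ∈ A(u)`
  have hA0 : ∀ g, IsTv f u c₀ g → g ∈ H := move u₀ u c₀ hu₀ hu h₀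
  -- `t² c₀ ∈ A(u)`
  have hsq : ∀ t : F, ∀ g, IsTv f u (t * t * c₀) g → g ∈ H := by
    intro t g hg
    by_cases ht : t = 0
    · have : g = 1 := by
        apply gl_ext
        intro v
        rw [hg v, ht, mul_zero, zero_mul, zero_mul, zero_smul, add_zero, act_one]
      rw [this]
      exact H.one_mem
    · have h1 : IsTv f (t • u) c₀ g := isTv_smul' hg
      exact move u (t • u) c₀ hu (smul_ne_zero ht hu) hA0 g h1
  obtain ⟨a, b, hab⟩ := exists_sq_add_sq (c / c₀)
  obtain ⟨g₁, hg₁⟩ := exists_isTv hf u (a * a * c₀)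
  obtain ⟨g₂, hg₂⟩ := exists_isTv hf u (b * b * c₀)
  have h12 := isTv_mul hf hg₁ hg₂
  have e : a * a * c₀ + b * b * c₀ = c := by
    rw [← add_mul, hab, div_mul_cancel₀ _ hc₀]
  rw [e] at h12
  rw [isTv_unique hg h12]
  exact H.mul_mem (hsq a g₁ hg₁) (hsq b g₂ hg₂)

end Cfsg.H5.S5664IV
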