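import Mathlib
import Cfsg.Agent.Lib.Helper7.SpExtDefs
import Cfsg.Agent.Lib.Helper7.SpExtBas

/-!
# S5664 FO-Ib (helper5, for helper7's skeleton): the identity forces scalars
-/

set_option autoImplicit false

namespace Cfsg.H5.S5664Ib

open Matrix Module Cfsg.Agent.Lib.Helper7.SpExt

variable {F : Type*} [Field F] {L : Type*} [Field L] [Algebra F L] {ι : Type} [Fintype ι]
  [DecidableEq ι] {ρ : L →ₐ[F] Matrix ι ι F} {f : (ι → F) →ₗ[F] (ι → F) →ₗ[F] F} {τ : L →ₗ[F] F}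
  {B : (ι → F) →ₗ[F] (ι → F) →ₗ[F] L} {r : ℕ}

/-- `L` acts freely -/
theorem eq_zero_of_rho_mulVec (ρ : L →ₐ[F] Matrix ι ι F) {a : L} (ha : a ≠ 0) {u : ι → F}
    (h : ρ a *ᵥ u = 0) : u = 0 := by
  have h1 : ρ (a⁻¹ * a) *ᵥ u = ρ a⁻¹ *ᵥ (ρ a *ᵥ u) := rho_mul_mulVec ρ a⁻¹ a u
  rw [inv_mul_cancel₀ ha, rho_one_mulVec, h, mulVec_zero] at h1
  exact h1

/-- an `L`-linear map which maps every vector into its `L`-line is a scalar -/
theorem scalar_of_pointwise (ρ : L →ₐ[F] Matrix ι ι F) (hι : ∃ v : ι → F, v ≠ 0)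
    (T : Matrix ι ι F)
    (hlin : ∀ a v, T *ᵥ (ρ a *ᵥ v) = ρ a *ᵥ (T *ᵥ v))
    (hpt : ∀ u, ∃ μ : L, T *ᵥ u = ρ μ *ᵥ u) : ∃ μ : L, T = ρ μ := by
  obtain ⟨u₀, hu₀⟩ := hι
  obtain ⟨μ₀, hμ₀⟩ := hpt u₀
  refine ⟨μ₀, ?_⟩
  apply Matrix.toLin'.injective
  apply LinearMap.ext
  intro w
  rw [Matrix.toLin'_apply, Matrix.toLin'_apply]
  obtain ⟨μw, hw⟩ := hpt w
  obtain ⟨μ', h'⟩ := hpt (u₀ + w)
  rw [mulVec_add, hμ₀, hw, mulVec_add] at h'
  have hstar : ρ (μ' - μ₀) *ᵥ u₀ + ρ (μ' - μw) *ᵥ w = 0 := by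
    rw [rho_sub_mulVec, rho_sub_mulVec]
    linear_combination (norm := module) h'.symm
  by_cases h1 : μ' = μw
  · rw [h1, sub_self, rho_zero_mulVec, add_zero] at hstar
    have h2 : μw - μ₀ = 0 := by
      by_contra hne
      exact hu₀ (eq_zero_of_rho_mulVec ρ hne hstar)
    rw [hw, sub_eq_zero.mp h2]
  · have hne : μ' - μw ≠ 0 := sub_ne_zero.mpr h1
    -- `w ∈ L u₀`
    have h3 : w = ρ (-((μ' - μw)⁻¹ * (μ' - μ₀))) *ᵥ u₀ := by
      have h4 : ρ (μ' - μw) *ᵥ w = -(ρ (μ' - μ₀) *ᵥ u₀) := by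
        linear_combination (norm := module) hstar
      have h5 : ρ ((μ' - μw)⁻¹ * (μ' - μw)) *ᵥ w = ρ (μ' - μw)⁻¹ *ᵥ (ρ (μ' - μw) *ᵥ w) :=
        rho_mul_mulVec ρ _ _ w
      rw [inv_mul_cancel₀ hne, rho_one_mulVec, h4, mulVec_neg, ← rho_mul_mulVec,
        ← rho_neg_mulVec] at h5
      exact h5
    rw [h3, hlin, hμ₀, ← rho_mul_mulVec, ← rho_mul_mulVec, mul_comm]

/-- FO-Ib -/
theorem scalar_of_identity [Fintype F] (S : SpStr ρ f τ B) (hrk : finrank F L = r) (hr : 0 < r)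
    (hι : ∃ v : ι → F, v ≠ 0) (E : L → Matrix ι ι F)
    (hmul : ∀ c d, E (c * d) = E c * E d)
    (hlin : ∀ c a v, E c *ᵥ (ρ a *ᵥ v) = ρ a *ᵥ (E c *ᵥ v))
    (hsa : ∀ c v w, B (E c *ᵥ v) w = B v (E c *ᵥ w))
    (hid : ∀ c u v, ρ (2 * B (E c *ᵥ v) u) *ᵥ (E c *ᵥ u)
        - ρ (B (E c *ᵥ (E c *ᵥ v)) u) *ᵥ u
        - ρ (B v u) *ᵥ (E c *ᵥ (E c *ᵥ u)) = 0) :
    ∀ c, ∃ μ : L, E c = ρ μ := by
  -- for `u ≠ 0` a vector `v₀` with `B v₀ u = 1`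
  have hv₀ : ∀ u : ι → F, u ≠ 0 → ∃ v₀, B v₀ u = 1 := by
    intro u hu
    obtain ⟨w, hw⟩ := B_nondeg S hu
    refine ⟨-w, ?_⟩
    rw [map_neg, LinearMap.neg_apply, ← B_skew S u w, hw]
  intro c
  by_cases h2 : (2 : F) = 0
  · -- characteristic 2
    have h2L : (2 : L) = 0 := by
      have h3 : algebraMap F L 2 = 0 := by rw [h2, map_zero]
      rwa [map_ofNat] at h3
    have hfin : Module.Finite F L := Module.finite_of_finrank_pos (by rw [hrk]; exact hr)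
    have hL : Finite L := Module.finite_of_finite F
    have hch : ringChar L = 2 := by
      have : CharP L 2 := by
        apply CharTwo.of_one_ne_zero_of_two_eq_zero one_ne_zero h2L
      exact ringChar.eq L 2
    obtain ⟨d, hd⟩ := FiniteField.isSquare_of_char_two hch c
    have hpt : ∀ u, ∃ μ : L, (E d * E d) *ᵥ u = ρ μ *ᵥ u := by
      intro u
      by_cases hu : u = 0
      · exact ⟨0, by rw [hu, mulVec_zero, mulVec_zero]⟩
      obtain ⟨v₀, hv⟩ := hv₀ u hu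
      have h3 := hid d u v₀
      rw [h2L, zero_mul, rho_zero_mulVec, zero_sub, hv, rho_one_mulVec] at h3
      refine ⟨-(B (E d *ᵥ (E d *ᵥ v₀)) u), ?_⟩
      rw [← mulVec_mulVec, rho_neg_mulVec]
      linear_combination (norm := module) -h3
    obtain ⟨μ, hμ⟩ := scalar_of_pointwise ρ hι (E d * E d) (by
      intro a v
      rw [← mulVec_mulVec, ← mulVec_mulVec, hlin, hlin]) hpt
    exact ⟨μ, by rw [hd, hmul, hμ]⟩
  · -- characteristic ≠ 2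
    have h2L : (2 : L) ≠ 0 := by
      intro h
      apply h2
      have h3 : algebraMap F L 2 = 0 := by rw [map_ofNat]; exact h
      exact (map_eq_zero (algebraMap F L)).mp h3
    apply scalar_of_pointwise ρ hι (E c) (hlin c)
    intro u
    by_cases hu : u = 0
    · exact ⟨0, by rw [hu, mulVec_zero, mulVec_zero]⟩
    obtain ⟨v₀, hv⟩ := hv₀ u hu
    by_cases hex : ∃ w, B w u = 0 ∧ B (E c *ᵥ w) u ≠ 0
    · obtain ⟨w, hw0, hw1⟩ := hex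
      have h3 := hid c u w
      rw [hw0, rho_zero_mulVec, sub_zero] at h3
      have hne : 2 * B (E c *ᵥ w) u ≠ 0 := mul_ne_zero h2L hw1
      refine ⟨(2 * B (E c *ᵥ w) u)⁻¹ * B (E c *ᵥ (E c *ᵥ w)) u, ?_⟩
      have h4 : ρ (2 * B (E c *ᵥ w) u) *ᵥ (E c *ᵥ u) = ρ (B (E c *ᵥ (E c *ᵥ w)) u) *ᵥ u :=
        sub_eq_zero.mp h3
      have h5 : ρ ((2 * B (E c *ᵥ w) u)⁻¹ * (2 * B (E c *ᵥ w) u)) *ᵥ (E c *ᵥ u) =
          ρ (2 * B (E c *ᵥ w) u)⁻¹ *ᵥ (ρ (2 * B (E c *ᵥ w) u) *ᵥ (E c *ᵥ u)) :=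
        rho_mul_mulVec ρ _ _ _
      rw [inv_mul_cancel₀ hne, rho_one_mulVec, h4, ← rho_mul_mulVec] at h5
      exact h5
    · push Not at hex
      -- `x := E u - B(v₀, E u) u` is perpendicular to everything
      refine ⟨B v₀ (E c *ᵥ u), ?_⟩
      by_contra hne
      have hx : E c *ᵥ u - ρ (B v₀ (E c *ᵥ u)) *ᵥ u ≠ 0 := sub_ne_zero.mpr hne
      obtain ⟨y, hy⟩ := B_nondeg S hx
      -- decompose `y`
      obtain ⟨β, hβ⟩ : ∃ β : L, β = B y u := ⟨_, rfl⟩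
      obtain ⟨w', hw'⟩ : ∃ w', w' = y - ρ β *ᵥ v₀ := ⟨_, rfl⟩
      obtain ⟨x, hxdef⟩ : ∃ x, x = E c *ᵥ u - ρ (B v₀ (E c *ᵥ u)) *ᵥ u := ⟨_, rfl⟩
      have hw : B w' u = 0 := by
        rw [hw', map_sub, LinearMap.sub_apply, S.lin, hv, mul_one, hβ, sub_self]
      have h6 := hex _ hw
      rw [hsa] at h6
      have h8 : B w' x = 0 := by
        rw [hxdef, map_sub, B_lin_right S, h6, hw, mul_zero, sub_zero]
      have h9 : B v₀ x = 0 := by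
        rw [hxdef, map_sub, B_lin_right S, hv, mul_one, sub_self]
      have h7 : B y x = 0 := by
        have e : y = w' + ρ β *ᵥ v₀ := by rw [hw']; abel
        rw [e, map_add, LinearMap.add_apply, S.lin, h8, h9, mul_zero, add_zero]
      rw [← hxdef] at hy
      rw [B_skew S, h7, neg_zero] at hy
      exact zero_ne_one hy

end Cfsg.H5.S5664Ib
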