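import Mathlib
import Cfsg.Agent.Lib.Helper28.USpDefs
import Cfsg.Agent.Lib.Helper13.S5700FOIV

/-!
# S5665 FO-END (helper5, for helper28's skeleton): from one transvection direction to all

`SpX M r` for one `r ≠ 0` plus all unitary transvections `tau θ d y s` (`y` isotropic) in `M ≤ Sp`
give `SpX M v` for every `v`.  The geometric input (`exists_iso`, FO-GEOM) is taken as an explicit
hypothesis in `spX_all_aux`; FO-KLIN is reproved here (`klin`).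
-/

set_option autoImplicit false
set_option linter.unusedSectionVars false
set_option linter.unusedVariables false

namespace Cfsg.H5.S5665END

open Matrix Module QuadraticMap Cfsg.Agent.Lib.Helper6 Cfsg.Agent.Lib.Helper13
open Cfsg.Agent.Lib.Helper28.SpSubf Cfsg.Agent.Lib.Helper28.USp

universe u
variable {F : Type u} [Field F] {m : ℕ}
variable {θ : Matrix (Fin m ⊕ Fin m) (Fin m ⊕ Fin m) F} {d : F}
variable {M : Subgroup (GL (Fin m ⊕ Fin m) F)}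

local notation "ff" => Cfsg.sympForm m F
local notation "ι" => (Fin m ⊕ Fin m)

/-- the `K`-line of `x` is `θ`-stable -/
theorem theta_mem_Kl (hU : UStrSp θ d) {x w : ι → F} (hw : w ∈ Kl θ x) : θ *ᵥ w ∈ Kl θ x := by
  obtain ⟨a, b, rfl⟩ := mem_Kl.mp hw
  rw [mulVec_add, mulVec_smul, mulVec_smul, hU.tt]
  refine mem_Kl.mpr ⟨b * d, a, ?_⟩
  module

theorem Kl_le_of_mem (hU : UStrSp θ d) {x w : ι → F} (hw : w ∈ Kl θ x) : Kl θ w ≤ Kl θ x := by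
  unfold Kl
  rw [Submodule.span_le]
  intro z hz
  rcases hz with rfl | hz
  · exact hw
  · rw [Set.mem_singleton_iff] at hz
    rw [hz]
    exact theta_mem_Kl hU hw

/-- `x ∈ K y`, `x ≠ 0` ⇒ `y ∈ K x` -/
theorem Kl_symm (hU : UStrSp θ d) {x y : ι → F} (hx : x ∈ Kl θ y) (hx0 : x ≠ 0) : y ∈ Kl θ x := by
  obtain ⟨a, b, hxy⟩ := mem_Kl.mp hx
  have hab : a ≠ 0 ∨ b ≠ 0 := by
    by_contra h2
    push Not at h2
    apply hx0
    rw [hxy, h2.1, h2.2]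
    simp
  have hN := hU.norm_ne hab
  have h1 : a • x - b • (θ *ᵥ x) = (a * a - d * (b * b)) • y := by
    rw [hxy, mulVec_add, mulVec_smul, mulVec_smul, hU.tt]
    module
  refine mem_Kl.mpr ⟨(a * a - d * (b * b))⁻¹ * a, -((a * a - d * (b * b))⁻¹ * b), ?_⟩
  have h2 : y = (a * a - d * (b * b))⁻¹ • ((a * a - d * (b * b)) • y) := by
    rw [smul_smul, inv_mul_cancel₀ hN, one_smul]
  rw [h2, ← h1]
  module

/-- FO-KLIN (own copy) -/
theorem klin (hU : UStrSp θ d) (u₁ u₂ : ι → F) (h2 : u₂ ≠ 0) (h1 : u₁ ∉ Kl θ u₂) :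
    u₁ ∉ Submodule.span F ({θ *ᵥ u₁, θ *ᵥ u₂, u₁ - u₂} : Set (ι → F)) := by
  intro hmem
  obtain ⟨α, β, γ, h⟩ := Submodule.mem_span_triple.mp hmem
  -- (1-γ) u₁ - α θ u₁ = β θ u₂ - γ u₂
  have key : (1 - γ) • u₁ + (-α) • (θ *ᵥ u₁) = (-γ) • u₂ + β • (θ *ᵥ u₂) := by
    have : u₁ - (α • θ *ᵥ u₁ + β • θ *ᵥ u₂ + γ • (u₁ - u₂)) = 0 := by rw [h, sub_self]
    have e : (1 - γ) • u₁ + (-α) • (θ *ᵥ u₁) - ((-γ) • u₂ + β • (θ *ᵥ u₂)) =
        u₁ - (α • θ *ᵥ u₁ + β • θ *ᵥ u₂ + γ • (u₁ - u₂)) := by module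
    rw [this] at e
    exact sub_eq_zero.mp e
  by_cases hc : (1 - γ) ≠ 0 ∨ (-α) ≠ 0
  · -- u₁ ∈ K u₂
    have hw : (1 - γ) • u₁ + (-α) • (θ *ᵥ u₁) ∈ Kl θ u₂ := by
      rw [key]
      exact mem_Kl.mpr ⟨_, _, rfl⟩
    have hN := hU.norm_ne hc
    have hw2 : θ *ᵥ ((1 - γ) • u₁ + (-α) • (θ *ᵥ u₁)) ∈ Kl θ u₂ := theta_mem_Kl hU hw
    have h3 : (1 - γ) • ((1 - γ) • u₁ + (-α) • (θ *ᵥ u₁)) -
        (-α) • (θ *ᵥ ((1 - γ) • u₁ + (-α) • (θ *ᵥ u₁))) =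
        ((1 - γ) * (1 - γ) - d * ((-α) * (-α))) • u₁ := by
      rw [mulVec_add, mulVec_smul, mulVec_smul, hU.tt]
      module
    have h4 : ((1 - γ) * (1 - γ) - d * ((-α) * (-α))) • u₁ ∈ Kl θ u₂ := by
      rw [← h3]
      exact (Kl θ u₂).sub_mem ((Kl θ u₂).smul_mem _ hw) ((Kl θ u₂).smul_mem _ hw2)
    apply h1
    have h5 := (Kl θ u₂).smul_mem ((1 - γ) * (1 - γ) - d * ((-α) * (-α)))⁻¹ h4
    rwa [smul_smul, inv_mul_cancel₀ hN, one_smul] at h5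
  · push Not at hc
    rw [hc.1, hc.2, zero_smul, zero_smul, zero_add] at key
    have := hU.free h2 key.symm
    have hγ : γ = 1 := by linear_combination -hc.1
    rw [hγ] at this
    exact one_ne_zero (neg_eq_zero.mp this.1)

theorem SpX_zero : SpX M (0 : ι → F) := by
  intro c
  have : sympTransvGL (0 : ι → F) c = 1 := by
    apply gl_ext
    intro x
    rw [sympTransvGL_mulVec, smul_zero, add_zero, Units.val_one, one_mulVec]
  rw [this]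
  exact M.one_mem

/-- (R) -/
theorem stepR (hU : UStrSp θ d) (hMS : M ≤ Cfsg.spGL m F)
    (hτ : ∀ y : ι → F, Nq θ y = 0 → ∀ s : F, tau θ d y s ∈ M)
    {r y : ι → F} (hr : SpX M r) (hy : Nq θ y = 0) (h1 : ff r (θ *ᵥ y) = 0) (h2 : ff r y ≠ 0) :
    SpX M y := by
  have h3 := hr.map hMS (hτ y hy (1 / ff r y))
  rw [hU.tau_mulVec hy, h1, mul_zero, zero_smul, add_zero, one_div, inv_mul_cancel₀ h2,
    one_smul] at h3
  have h4 : ff (r + y) r ≠ 0 := by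
    rw [sympForm_add_left, sympForm_self, zero_add, sympForm_swap]
    exact neg_ne_zero.mpr h2
  have h5 := SpX.rule hMS h3 hr h4 (-1)
  have e : r + y + (-1 : F) • r = y := by module
  rwa [e] at h5

/-- the geometric input (FO-GEOM) as a hypothesis -/
def IsoHyp (θ : Matrix ι ι F) : Prop :=
  ∀ (p₁ p₂ p₃ p₀ t₁ t₂ : ι → F),
    p₀ ∉ Submodule.span F ({p₁, p₂, p₃} : Set (ι → F)) →
    ∃ z : ι → F, Nq θ z = 0 ∧ ff z p₁ = 0 ∧ ff z p₂ = 0 ∧ ff z p₃ = 0 ∧ ff z p₀ ≠ 0 ∧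
      z ∉ Submodule.span F ({t₁, t₂} : Set (ι → F))

/-- (C1): from an isotropic `y₀ ∈ X` to an isotropic `w ≠ 0` with `y₀ ∉ K w` -/
theorem stepC1 (hU : UStrSp θ d) (hMS : M ≤ Cfsg.spGL m F) (hiso : IsoHyp θ)
    (hτ : ∀ y : ι → F, Nq θ y = 0 → ∀ s : F, tau θ d y s ∈ M)
    {y₀ w : ι → F} (hy₀ : SpX M y₀) (hw : Nq θ w = 0) (hw0 : w ≠ 0) (hK : y₀ ∉ Kl θ w) :
    SpX M w := by
  obtain ⟨y₁, hy₁, ha, hb, hc, hne, -⟩ :=
    hiso (θ *ᵥ y₀) (θ *ᵥ w) (y₀ - w) y₀ 0 0 (klin hU y₀ w hw0 hK)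
  have hX1 : SpX M y₁ := by
    apply stepR hU hMS hτ hy₀ hy₁
    · rw [← hU.ff_t_symm y₀ y₁]
      exact ha
    · rw [sympForm_swap]
      exact neg_ne_zero.mpr hne
  apply stepR hU hMS hτ hX1 hw hb
  rw [sympForm_sub_right, sub_eq_zero] at hc
  rw [← hc]
  exact hne

/-- (C): every isotropic vector lies in `X` -/
theorem stepC (hU : UStrSp θ d) (hMS : M ≤ Cfsg.spGL m F) (hiso : IsoHyp θ)
    (hτ : ∀ y : ι → F, Nq θ y = 0 → ∀ s : F, tau θ d y s ∈ M)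
    {y₀ : ι → F} (hy₀ : SpX M y₀) (hy₀0 : y₀ ≠ 0)
    (w : ι → F) (hw : Nq θ w = 0) : SpX M w := by
  by_cases hw0 : w = 0
  · rw [hw0]
    exact SpX_zero
  by_cases hK : y₀ ∈ Kl θ w
  · have hp : y₀ ∉ Submodule.span F ({(0 : ι → F), 0, 0} : Set (ι → F)) := by
      intro h
      obtain ⟨a, b, c, h⟩ := Submodule.mem_span_triple.mp h
      apply hy₀0
      rw [← h]
      simp
    obtain ⟨w', hw', -, -, -, hne, hT⟩ := hiso 0 0 0 y₀ y₀ (θ *ᵥ y₀) hp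
    have hw'0 : w' ≠ 0 := by
      intro h0
      apply hne
      rw [h0, sympForm_zero_left]
    have hT' : w' ∉ Kl θ y₀ := hT
    have h1 : y₀ ∉ Kl θ w' := fun h => hT' (Kl_symm hU h hy₀0)
    have hX' : SpX M w' := stepC1 hU hMS hiso hτ hy₀ hw' hw'0 h1
    have h2 : w' ∉ Kl θ w := by
      intro h
      have h3 : w ∈ Kl θ y₀ := Kl_symm hU hK hy₀0
      exact hT' (Kl_le_of_mem hU h3 h)
    exact stepC1 hU hMS hiso hτ hX' hw hw0 h2
  · exact stepC1 hU hMS hiso hτ hy₀ hw hw0 hK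

/-- FO-END with the geometric input as a hypothesis -/
theorem spX_all_aux (hU : UStrSp θ d) (hMS : M ≤ Cfsg.spGL m F) (hiso : IsoHyp θ)
    (hτ : ∀ y : ι → F, Nq θ y = 0 → ∀ s : F, tau θ d y s ∈ M)
    (r : ι → F) (hr0 : r ≠ 0) (hr : SpX M r) : ∀ v : ι → F, SpX M v := by
  have h2 := hU.two_ne
  -- (A)
  have hp : r ∉ Submodule.span F ({θ *ᵥ r, θ *ᵥ r, θ *ᵥ r} : Set (ι → F)) := by
    intro h
    obtain ⟨a, b, c, h⟩ := Submodule.mem_span_triple.mp h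
    have h3 : (1 : F) • r + (-(a + b + c)) • (θ *ᵥ r) = 0 := by
      rw [one_smul]
      nth_rewrite 1 [← h]
      module
    exact one_ne_zero (hU.free hr0 h3).1
  obtain ⟨y₀, hy₀, ha, -, -, hne, -⟩ := hiso (θ *ᵥ r) (θ *ᵥ r) (θ *ᵥ r) r 0 0 hp
  have hy₀0 : y₀ ≠ 0 := by
    intro h0
    apply hne
    rw [h0, sympForm_zero_left]
  have hX0 : SpX M y₀ := by
    apply stepR hU hMS hτ hr hy₀
    · rw [← hU.ff_t_symm r y₀]
      exact ha
    · rw [sympForm_swap]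
      exact neg_ne_zero.mpr hne
  have hC := stepC hU hMS hiso hτ hX0 hy₀0
  intro v
  by_cases hv : Nq θ v = 0
  · exact hC v hv
  -- (D)
  have hv0 : v ≠ 0 := by
    intro h0
    apply hv
    rw [h0]
    exact UStrSp.Nq_zero θ
  have hp2 : v ∉ Submodule.span F ({v - θ *ᵥ v, v - θ *ᵥ v, v - θ *ᵥ v} : Set (ι → F)) := by
    intro h
    obtain ⟨a, b, c, h⟩ := Submodule.mem_span_triple.mp h
    have h3 : (1 - (a + b + c)) • v + (a + b + c) • (θ *ᵥ v) = 0 := by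
      have : v - (a • (v - θ *ᵥ v) + b • (v - θ *ᵥ v) + c • (v - θ *ᵥ v)) = 0 := by
        rw [h, sub_self]
      rw [← this]
      module
    have h4 := hU.free hv0 h3
    rw [h4.2, sub_zero] at h4
    exact one_ne_zero h4.1
  obtain ⟨y, hy, hb, -, -, hyv, -⟩ := hiso (v - θ *ᵥ v) (v - θ *ᵥ v) (v - θ *ᵥ v) v 0 0 hp2
  rw [sympForm_sub_right, sub_eq_zero] at hb
  -- `ff v (θ y) = ff y (θ v) = ff y v ≠ 0`
  have hvy : ff v (θ *ᵥ y) ≠ 0 := by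
    rw [hU.ff_t_symm y v, ← hb]
    exact hyv
  have hXy : SpX M y := hC y hy
  obtain ⟨c, hc⟩ : ∃ c : F, c = Nq θ v / (2 * ff v (θ *ᵥ y)) := ⟨_, rfl⟩
  have hy'' : Nq θ (v + (-c) • y) = 0 := by
    rw [hU.Nq_add, Nq_smul, hy, mulVec_smul, sympForm_smul_right, hc]
    field_simp
    ring
  have hXy'' : SpX M (v + (-c) • y) := hC _ hy''
  have h5 : ff (v + (-c) • y) y ≠ 0 := by
    rw [sympForm_add_left, sympForm_smul_left, sympForm_self, mul_zero, add_zero, sympForm_swap]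
    exact neg_ne_zero.mpr hyv
  have h6 := SpX.rule hMS hXy'' hXy h5 c
  have e : v + (-c) • y + c • y = v := by module
  rwa [e] at h6

end Cfsg.H5.S5665END
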