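import Mathlib
import Cfsg.Agent.Lib.Helper28.TensUDefs
import Cfsg.Agent.Lib.Helper28.S5670FOHS

/-!
# Generic closing lemmas for S5670 T2-L (`decomp_levi`)  (helper5, for helper21 / helper8)

* `det_one_add_of_isNilpotent` : `det (1 + N) = 1` for a nilpotent matrix over a field;
  `det_eq_one_of_sub_one_pow` : a `GL` element `z` with `(z - 1) ^ k = 0` has `det z = 1`;
* `pur_induction'` : induction over pure tensors;
* `kron_unitary` : the Kronecker product of two matrices preserving `hs q` preserves `hs q`;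
* `kronGLU A B hA hB` : the `GL` element `A ⊗ₖ B` for two `hs q`-preserving matrices, with `kronGLU_mem_kron`,
  `kronGLU_mem_UG`, `act_kronGLU`.
-/

set_option autoImplicit false
set_option linter.unusedSectionVars false
set_option linter.unusedVariables false

namespace Cfsg.H5.S5670T2Laux

open Matrix Module Polynomial
open Cfsg.Agent.Lib.Helper16.Tens Cfsg.Agent.Lib.Helper10.TensFund Cfsg.Agent.Lib.Helper28.TensU
open Cfsg.Agent.Lib.Helper28.S5670HS
open scoped Kronecker

variable {F : Type*} [Field F]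

/-- `det (1 + N) = 1` for a nilpotent matrix -/
theorem det_one_add_of_isNilpotent {ι : Type*} [Fintype ι] [DecidableEq ι] (N : Matrix ι ι F)
    (h : IsNilpotent N) : (1 + N).det = 1 := by
  have hneg : IsNilpotent (-N) := h.neg
  have h1 := Matrix.isNilpotent_charpoly_sub_pow_of_isNilpotent hneg
  have h2 : (-N).charpoly = X ^ Fintype.card ι := sub_eq_zero.mp h1.eq_zero
  have h3 := Matrix.eval_charpoly (-N) 1
  rw [h2, eval_pow, eval_X, one_pow, map_one, sub_neg_eq_add] at h3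
  exact h3.symm

/-- a unipotent element of `GL` has determinant one -/
theorem det_eq_one_of_sub_one_pow {ι : Type*} [Fintype ι] [DecidableEq ι] (z : GL ι F) (k : ℕ)
    (h : ((z : Matrix ι ι F) - 1) ^ k = 0) : (z : Matrix ι ι F).det = 1 := by
  have := det_one_add_of_isNilpotent ((z : Matrix ι ι F) - 1) ⟨k, h⟩
  rwa [add_sub_cancel] at this

variable {a b : ℕ}

/-- every vector is a sum of pure tensors -/
theorem eq_sum_pur' (v : Fin a × Fin b → F) :
    v = ∑ j : Fin b, pur (fun i => v (i, j)) (Pi.single j 1) := by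
  funext ⟨i, j0⟩
  rw [Finset.sum_apply]
  simp only [pur_apply]
  rw [Finset.sum_eq_single j0]
  · simp
  · intro j _ hj
    simp [Ne.symm hj]
  · simp

/-- induction over pure tensors -/
theorem pur_induction' {p : (Fin a × Fin b → F) → Prop} (h0 : p 0) (hadd : ∀ x y, p x → p y → p (x + y))
    (hpur : ∀ (u : Fin a → F) (w : Fin b → F), p (pur u w)) (v : Fin a × Fin b → F) : p v := by
  rw [eq_sum_pur' v]
  classical
  apply Finset.sum_induction _ p hadd h0
  intro j _
  exact hpur _ _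

variable [Fintype F] {q : ℕ}

/-- the Kronecker product of two `hs q`-preserving matrices preserves `hs q` -/
theorem kron_unitary (hF : Fintype.card F = q ^ 2) (A : Matrix (Fin a) (Fin a) F) (B : Matrix (Fin b) (Fin b) F)
    (hA : ∀ x y, hs q (A *ᵥ x) (A *ᵥ y) = hs q x y) (hB : ∀ x y, hs q (B *ᵥ x) (B *ᵥ y) = hs q x y)
    (v v' : Fin a × Fin b → F) : hs q ((A ⊗ₖ B) *ᵥ v) ((A ⊗ₖ B) *ᵥ v') = hs q v v' := by
  revert v'
  induction v using pur_induction' with
  | h0 =>
    intro v'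
    rw [Matrix.mulVec_zero, hs_zero_left, hs_zero_left]
  | hadd x y hx hy =>
    intro v'
    rw [Matrix.mulVec_add, hs_add_left, hs_add_left, hx, hy]
  | hpur u w =>
    intro v'
    induction v' using pur_induction' with
    | h0 => rw [Matrix.mulVec_zero, hs_zero_right hF, hs_zero_right hF]
    | hadd x y hx hy => rw [Matrix.mulVec_add, hs_add_right hF, hs_add_right hF, hx, hy]
    | hpur u' w' => rw [kron_mulVec_pur, kron_mulVec_pur, hs_pur, hs_pur, hA, hB]

/-- an `hs q`-preserving matrix is invertible: `ct A * A = 1` in the form of a left inverse -/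
theorem exists_left_inv {n : ℕ} (hF : Fintype.card F = q ^ 2) (A : Matrix (Fin n) (Fin n) F)
    (hA : ∀ x y, hs q (A *ᵥ x) (A *ᵥ y) = hs q x y) : IsUnit A.det := by
  rw [← Matrix.isUnit_iff_isUnit_det, ← Matrix.mulVec_injective_iff_isUnit]
  intro x y hxy
  apply sub_eq_zero.mp
  apply hs_nondeg hF
  intro w
  have h1 := hA (x - y) w
  rw [Matrix.mulVec_sub, hxy, sub_self, hs_zero_left] at h1
  exact h1.symm

/-- the `GL` element `A ⊗ₖ B` for two `hs q`-preserving matrices -/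
noncomputable def kronGLU (hF : Fintype.card F = q ^ 2) (A : Matrix (Fin a) (Fin a) F) (B : Matrix (Fin b) (Fin b) F)
    (hA : ∀ x y, hs q (A *ᵥ x) (A *ᵥ y) = hs q x y) (hB : ∀ x y, hs q (B *ᵥ x) (B *ᵥ y) = hs q x y) :
    GL (Fin a × Fin b) F :=
  Matrix.GeneralLinearGroup.mkOfDetNeZero (A ⊗ₖ B) (by
    rw [Matrix.det_kronecker]
    exact mul_ne_zero (pow_ne_zero _ (exists_left_inv hF A hA).ne_zero)
      (pow_ne_zero _ (exists_left_inv hF B hB).ne_zero))

theorem kronGLU_val (hF : Fintype.card F = q ^ 2) (A : Matrix (Fin a) (Fin a) F) (B : Matrix (Fin b) (Fin b) F)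
    (hA : ∀ x y, hs q (A *ᵥ x) (A *ᵥ y) = hs q x y) (hB : ∀ x y, hs q (B *ᵥ x) (B *ᵥ y) = hs q x y) :
    ((kronGLU hF A B hA hB : GL (Fin a × Fin b) F) : Matrix (Fin a × Fin b) (Fin a × Fin b) F) = A ⊗ₖ B := rfl

theorem kronGLU_mem_UG (hF : Fintype.card F = q ^ 2) (A : Matrix (Fin a) (Fin a) F) (B : Matrix (Fin b) (Fin b) F)
    (hA : ∀ x y, hs q (A *ᵥ x) (A *ᵥ y) = hs q x y) (hB : ∀ x y, hs q (B *ᵥ x) (B *ᵥ y) = hs q x y) :
    kronGLU hF A B hA hB ∈ UG (Fin a × Fin b) F q := by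
  rw [mem_UG_iff]
  intro x y
  rw [kronGLU_val]
  exact kron_unitary hF A B hA hB x y

theorem kronGLU_mem_kron (hF : Fintype.card F = q ^ 2) (A : Matrix (Fin a) (Fin a) F) (B : Matrix (Fin b) (Fin b) F)
    (hA : ∀ x y, hs q (A *ᵥ x) (A *ᵥ y) = hs q x y) (hB : ∀ x y, hs q (B *ᵥ x) (B *ᵥ y) = hs q x y) :
    kronGLU hF A B hA hB ∈ Cfsg.Geo.kroneckerSubgroup a b F := by
  rw [mem_kron_iff]
  exact ⟨Matrix.GeneralLinearGroup.mkOfDetNeZero A (exists_left_inv hF A hA).ne_zero,
    Matrix.GeneralLinearGroup.mkOfDetNeZero B (exists_left_inv hF B hB).ne_zero, rfl⟩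

theorem act_kronGLU (hF : Fintype.card F = q ^ 2) (A : Matrix (Fin a) (Fin a) F) (B : Matrix (Fin b) (Fin b) F)
    (hA : ∀ x y, hs q (A *ᵥ x) (A *ᵥ y) = hs q x y) (hB : ∀ x y, hs q (B *ᵥ x) (B *ᵥ y) = hs q x y)
    (u : Fin a → F) (w : Fin b → F) :
    act (kronGLU hF A B hA hB) (pur u w) = pur (A *ᵥ u) (B *ᵥ w) := by
  rw [act_apply, kronGLU_val, kron_mulVec_pur]

theorem det_kronGLU (hF : Fintype.card F = q ^ 2) (A : Matrix (Fin a) (Fin a) F) (B : Matrix (Fin b) (Fin b) F)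
    (hA : ∀ x y, hs q (A *ᵥ x) (A *ᵥ y) = hs q x y) (hB : ∀ x y, hs q (B *ᵥ x) (B *ᵥ y) = hs q x y) :
    ((kronGLU hF A B hA hB : GL (Fin a × Fin b) F) : Matrix (Fin a × Fin b) (Fin a × Fin b) F).det =
      A.det ^ b * B.det ^ a := by
  rw [kronGLU_val, Matrix.det_kronecker, Fintype.card_fin, Fintype.card_fin]

end Cfsg.H5.S5670T2Laux
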