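import Mathlib
import Cfsg.Agent.Lib.Helper8.S5670T2Defs
import Cfsg.Agent.Lib.Helper25.S5670FOPERP
import Cfsg.Agent.H5.S5670T2Laux

/-!
# S5670 T2-L, step (L6)  (helper5, for helper21 / helper8)

A unitary element of the radical of `Stab(U ⊗ k₀)` is unipotent (`(z - 1)^3 = 0`), hence has determinant one.
-/

set_option autoImplicit false
set_option linter.unusedSectionVars false
set_option linter.unusedVariables false

namespace Cfsg.H5.S5670T2Laux

open Matrix Module
open Cfsg.Agent.Lib.Helper16.Tens Cfsg.Agent.Lib.Helper10.TensFund Cfsg.Agent.Lib.Helper28.TensU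
open Cfsg.Agent.Lib.Helper8.S5670T2
open scoped Kronecker

variable {F : Type*} [Field F] [Fintype F] {a b : ℕ} {q : ℕ}

/-- `(z - 1) V ≤ U ⊗ k₀^⊥` for a unitary `z` fixing `U ⊗ k₀` pointwise -/
theorem sub_mem_hyp_of_fix_pt (hF : Fintype.card F = q ^ 2) (k₀ : Fin b → F) (z : GL (Fin a × Fin b) F)
    (hz : z ∈ UG (Fin a × Fin b) F q) (hfix : ∀ v ∈ pt (a := a) k₀, act z v = v) (v : Fin a × Fin b → F) :
    act z v - v ∈ hyp (a := a) (cj q k₀) := by
  rw [Cfsg.Agent.Lib.Helper25.S5670PERP.mem_hyp_cj_iff hF]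
  intro x hx
  have h := hz v x
  rw [← act_apply, ← act_apply, hfix x hx] at h
  rw [Cfsg.Agent.Lib.Helper28.S5670HS.hs_sub_left, h, sub_self]

/-- a unitary element of the radical is unipotent -/
theorem sub_one_pow_three_of_inRad (hF : Fintype.card F = q ^ 2) (k₀ : Fin b → F) (z : GL (Fin a × Fin b) F)
    (hz : z ∈ UG (Fin a × Fin b) F q) (hr : InRad q k₀ z) :
    ((z : Matrix (Fin a × Fin b) (Fin a × Fin b) F) - 1) ^ 3 = 0 := by
  have hN : ∀ v : Fin a × Fin b → F,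
      ((z : Matrix (Fin a × Fin b) (Fin a × Fin b) F) - 1) *ᵥ v = act z v - v := by
    intro v
    rw [Matrix.sub_mulVec, Matrix.one_mulVec, act_apply]
  apply Matrix.toLin'.injective
  apply LinearMap.ext
  intro v
  rw [Matrix.toLin'_apply, map_zero, LinearMap.zero_apply, pow_succ, pow_two, ← Matrix.mulVec_mulVec,
    ← Matrix.mulVec_mulVec, hN v, hN, hN]
  have h1 := sub_mem_hyp_of_fix_pt hF k₀ z hz hr.1 v
  have h2 := hr.2 _ h1
  have h3 := hr.1 _ h2
  rw [h3, sub_self]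

/-- step (L6): a unitary element of the radical has determinant one -/
theorem det_eq_one_of_inRad (hF : Fintype.card F = q ^ 2) (k₀ : Fin b → F) (z : GL (Fin a × Fin b) F)
    (hz : z ∈ UG (Fin a × Fin b) F q) (hr : InRad q k₀ z) :
    (z : Matrix (Fin a × Fin b) (Fin a × Fin b) F).det = 1 :=
  det_eq_one_of_sub_one_pow z 3 (sub_one_pow_three_of_inRad hF k₀ z hz hr)

/-- … in the `specialLinear` form -/
theorem mem_SL_of_inRad (hF : Fintype.card F = q ^ 2) (k₀ : Fin b → F) (z : GL (Fin a × Fin b) F)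
    (hz : z ∈ UG (Fin a × Fin b) F q) (hr : InRad q k₀ z) :
    z ∈ Cfsg.Geo.specialLinear (Fin a × Fin b) F := by
  rw [mem_SL_iff]
  exact det_eq_one_of_inRad hF k₀ z hz hr

/-- the determinant clause of `decomp_levi`: if `n⁻¹ * m` is in the radical, `n, m` unitary and `det m = 1`, then `det n = 1` -/
theorem mem_SL_of_inRad_inv_mul (hF : Fintype.card F = q ^ 2) (k₀ : Fin b → F) (n m : GL (Fin a × Fin b) F)
    (hn : n ∈ UG (Fin a × Fin b) F q) (hm : m ∈ UG (Fin a × Fin b) F q)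
    (hmS : m ∈ Cfsg.Geo.specialLinear (Fin a × Fin b) F) (hr : InRad q k₀ (n⁻¹ * m)) :
    n ∈ Cfsg.Geo.specialLinear (Fin a × Fin b) F := by
  have hz : n⁻¹ * m ∈ UG (Fin a × Fin b) F q := Subgroup.mul_mem _ (Subgroup.inv_mem _ hn) hm
  have hzS := mem_SL_of_inRad hF k₀ _ hz hr
  have h2 : n = m * (n⁻¹ * m)⁻¹ := by group
  rw [h2]
  exact Subgroup.mul_mem _ hmS (Subgroup.inv_mem _ hzS)

end Cfsg.H5.S5670T2Laux
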