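import Mathlib
import Cfsg.Agent.Lib.Helper28.TensUDefs
import Cfsg.Agent.Lib.Helper26.S5670T3cDefs
import Cfsg.Agent.Lib.Helper28.S5670FOHS

/-!
# S5670 T3c-A (helper5, for sub-architect helper26): the structure of `z`

A unitary `z ∉ K` fixing `U ⊗ k₀^⊥` pointwise (`k₀` isotropic) is `1 + S ⊗ k₀ k₀^†` with `S` skew-hermitian and
non-scalar.  Exact signature of `S5670T3cSkel.exists_S` (notes/S5670T3cSkel_helper26.lean.txt).
-/

set_option autoImplicit false
set_option linter.unusedSectionVars false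
set_option linter.unusedVariables false

namespace Cfsg.H5.S5670T3cA

open Matrix Module
open Cfsg.Agent.Lib.Helper16.Tens Cfsg.Agent.Lib.Helper10.TensFund Cfsg.Agent.Lib.Helper28.TensU
  Cfsg.Agent.Lib.Helper26.T3c
open Cfsg.Agent.Lib.Helper28.S5670HS
open scoped Kronecker

variable {F : Type*} [Field F] [Fintype F] {a b : ℕ} {q : ℕ}

local notation "K" => Cfsg.Geo.kroneckerSubgroup a b F
local notation "V" => (Fin a × Fin b → F)

/-- a vector pairing to `1` with a non-zero vector -/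
theorem exists_hs_eq_one' (k₀ : Fin b → F) (hk0 : k₀ ≠ 0) : ∃ k₁ : Fin b → F, hs q k₁ k₀ = 1 := by
  obtain ⟨j, hj⟩ : ∃ j, k₀ j ≠ 0 := by
    by_contra hall; push Not at hall; exact hk0 (funext hall)
  refine ⟨Pi.single j ((k₀ j ^ q)⁻¹), ?_⟩
  unfold hs
  rw [Finset.sum_eq_single j]
  · rw [Pi.single_eq_same, inv_mul_cancel₀ (pow_ne_zero q hj)]
  · intro i _ hi
    rw [Pi.single_eq_of_ne hi, zero_mul]
  · intro h; exact absurd (Finset.mem_univ j) h

/-- a vector orthogonal to `k₀^⊥` is a multiple of `k₀` -/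
theorem eq_smul_of_perp (hF : Fintype.card F = q ^ 2) (k₀ k₁ : Fin b → F) (h10 : hs q k₁ k₀ = 1)
    (r : Fin b → F) (hr : ∀ w : Fin b → F, hs q w k₀ = 0 → hs q r w = 0) :
    r = hs q r k₁ • k₀ := by
  apply sub_eq_zero.mp
  apply hs_nondeg hF
  intro w
  have h1 : hs q (w - hs q w k₀ • k₁) k₀ = 0 := by
    rw [hs_sub_left, hs_smul_left, h10, mul_one, sub_self]
  have h2 := hr _ h1
  rw [hs_sub_right hF, hs_smul_right] at h2
  rw [hs_sub_left, hs_smul_left, hs_conj hF w k₀]
  linear_combination h2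

/-- T3c-A -/
theorem exists_S (hF : Fintype.card F = q ^ 2) (z : GL (Fin a × Fin b) F)
    (hzU : z ∈ UG (Fin a × Fin b) F q) (hzK : z ∉ K) (k₀ : Fin b → F) (hk0 : k₀ ≠ 0)
    (hk : hs q k₀ k₀ = 0) (hfix : ∀ v ∈ hyp (a := a) (cj q k₀), act z v = v) :
    ∃ S : Matrix (Fin a) (Fin a) F, SkewM q S ∧ IsZ q k₀ S z ∧ ¬ ∃ c : F, S = c • 1 := by
  classical
  have hq0 : q ≠ 0 := (q_pos hF).ne'
  obtain ⟨k₁, h10⟩ := exists_hs_eq_one' (q := q) k₀ hk0
  have h01 : hs q k₀ k₁ = 1 := by rw [hs_conj hF k₁ k₀, h10, one_pow]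
  set ψ : Fin b → F := cj q k₀ with hψ
  have hk1ψ : k₁ ⬝ᵥ ψ = 1 := h10
  have hctr1 : ∀ u : Fin a → F, ctr ψ (pur u k₁) = u := by
    intro u
    rw [ctr_pur, hk1ψ, one_smul]
  -- Fact A
  have hA : ∀ v : V, act z v - v = act z (pur (ctr ψ v) k₁) - pur (ctr ψ v) k₁ := by
    intro v
    have hmem : v - pur (ctr ψ v) k₁ ∈ hyp (a := a) ψ := by
      rw [mem_hyp_iff, map_sub, hctr1, sub_self]
    have h := hfix _ hmem
    rw [map_sub] at h
    linear_combination (exp := 1) h
  -- Fact B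
  have hB : ∀ x y : V, y ∈ hyp (a := a) ψ → hs q (act z x - x) y = 0 := by
    intro x y hy
    have h := hzU x y
    rw [← act_apply, ← act_apply, hfix y hy] at h
    rw [hs_sub_left, h, sub_self]
  -- Fact C
  have hC : ∀ x : V, act z x - x = pur (ctr (cj q k₁) (act z x - x)) k₀ := by
    intro x
    set n : V := act z x - x with hn
    funext ⟨i, j⟩
    set r : Fin b → F := fun j => n (i, j) with hr
    have hrw : ∀ w : Fin b → F, hs q w k₀ = 0 → hs q r w = 0 := by
      intro w hw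
      have hmem : pur (Pi.single i (1 : F)) w ∈ hyp (a := a) ψ := pur_mem_hyp hw _
      have h := hB x _ hmem
      rw [hs_pur_right, hs_single_right hq0] at h
      exact h
    have hrr := eq_smul_of_perp hF k₀ k₁ h10 r hrw
    have : n (i, j) = r j := rfl
    rw [this, hrr, pur_apply, Pi.smul_apply, smul_eq_mul]
    rfl
  -- the matrix
  set S' : (Fin a → F) →ₗ[F] (Fin a → F) :=
    (ctr (a := a) (cj q k₁)) ∘ₗ ((act z).toLinearMap - LinearMap.id) ∘ₗ (purL (F := F) (a := a) k₁) with hS'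
  set S : Matrix (Fin a) (Fin a) F := LinearMap.toMatrix' S' with hS
  have hSv : ∀ u : Fin a → F, S *ᵥ u = ctr (cj q k₁) (act z (pur u k₁) - pur u k₁) := by
    intro u
    rw [hS, ← Matrix.toLin'_apply, Matrix.toLin'_toMatrix']
    rfl
  have hZ : IsZ q k₀ S z := by
    intro v
    have h1 := hA v
    have h2 := hC (pur (ctr ψ v) k₁)
    rw [← hSv] at h2
    rw [h2] at h1
    linear_combination (exp := 1) h1
  refine ⟨S, ?_, hZ, ?_⟩
  · -- skew-hermitian
    intro x y
    have hx := hZ (pur x k₁)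
    have hy := hZ (pur y k₁)
    rw [hctr1] at hx hy
    have h := hzU (pur x k₁) (pur y k₁)
    rw [← act_apply, ← act_apply, hx, hy, hs_add_left, hs_add_right hF, hs_add_right hF, hs_pur, hs_pur,
      hs_pur, hs_pur, hk, h10, h01] at h
    linear_combination h
  · -- non-scalar
    rintro ⟨c, hc⟩
    apply hzK
    have hz : z = rL (a := a) q k₀ c hk := by
      apply Units.ext
      apply Matrix.toLin'.injective
      apply LinearMap.ext
      intro v
      rw [Matrix.toLin'_apply, Matrix.toLin'_apply, ← act_apply, ← act_apply, hZ v, act_rL, hc,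
        Matrix.smul_mulVec, Matrix.one_mulVec, pur_smul_left]
    rw [hz]
    exact rL_mem_kron q k₀ c hk

end Cfsg.H5.S5670T3cA
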