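import Mathlib
import Cfsg.Agent.Lib.Helper1.SubfSLEmb
import Cfsg.Agent.Lib.Helper6.Siegel

/-!
# S5683 FO-EMB: the `SL₂` attached to two opposite totally singular lines

For singular perpendicular `u, c` and singular perpendicular `w, y` with
`Δ = B(u,w)B(c,y) - B(u,y)B(c,w) ≠ 0` there is a homomorphism `e : SL₂(F) →* GL_n(F)` with
`e (uu (t * -Δ)) = ρ_{u, t c}` and `e Wm = ρ_{w,y}`.
-/

set_option autoImplicit false

namespace Cfsg.H5.S5683EMB

open Matrix QuadraticMap Cfsg.Agent.Lib.Helper6 Cfsg.Agent.Lib.Helper1.SubfSL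
open Cfsg.Agent.Lib.Helper15.Dk Cfsg.Agent.Lib.Helper14 Cfsg.Agent.Lib.Helper15

universe u
variable {F : Type u} [Field F] {n : ℕ}

/-- the `n × 2` matrix with columns `p`, `q` -/
def colM (p q : Fin n → F) : Matrix (Fin n) (Fin 2) F :=
  Matrix.of fun i j => if j = 0 then p i else q i

/-- the `2 × n` matrix with rows `φ`, `ψ` -/
def rowM (φ ψ : Fin n → F) : Matrix (Fin 2) (Fin n) F :=
  Matrix.of fun j i => if j = 0 then φ i else ψ i

theorem rowM_mul_colM (φ ψ p q : Fin n → F) :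
    rowM φ ψ * colM p q = !![φ ⬝ᵥ p, φ ⬝ᵥ q; ψ ⬝ᵥ p, ψ ⬝ᵥ q] := by
  ext j k
  fin_cases j <;> fin_cases k <;> simp [rowM, colM, Matrix.mul_apply, dotProduct]

theorem rowM_mulVec (φ ψ x : Fin n → F) : rowM φ ψ *ᵥ x = ![φ ⬝ᵥ x, ψ ⬝ᵥ x] := by
  ext j
  fin_cases j <;> simp [rowM, Matrix.mulVec, dotProduct]

theorem colM_mulVec (p q : Fin n → F) (v : Fin 2 → F) :
    colM p q *ᵥ v = v 0 • p + v 1 • q := by
  ext i
  simp only [colM, Matrix.mulVec, dotProduct, Fin.sum_univ_two, Matrix.of_apply, if_true,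
    one_ne_zero, if_false, Pi.add_apply, Pi.smul_apply, smul_eq_mul]
  ring

theorem iotaMat_mulVec (p q φ ψ : Fin n → F) (A : Matrix (Fin 2) (Fin 2) F) (x : Fin n → F) :
    iotaMat (colM p q) (rowM φ ψ) A *ᵥ x =
      x + ((A 0 0 - 1) * (φ ⬝ᵥ x) + A 0 1 * (ψ ⬝ᵥ x)) • p
        + (A 1 0 * (φ ⬝ᵥ x) + (A 1 1 - 1) * (ψ ⬝ᵥ x)) • q := by
  unfold iotaMat
  rw [Matrix.add_mulVec, Matrix.one_mulVec, ← Matrix.mulVec_mulVec, ← Matrix.mulVec_mulVec,
    rowM_mulVec, colM_mulVec, add_assoc]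
  congr 1
  simp [Matrix.mulVec, dotProduct, Fin.sum_univ_two]

theorem iotaMat_comm {U₁ U₂ : Matrix (Fin n) (Fin 2) F} {Ψ₁ Ψ₂ : Matrix (Fin 2) (Fin n) F}
    (h12 : Ψ₁ * U₂ = 0) (h21 : Ψ₂ * U₁ = 0) (A B : Matrix (Fin 2) (Fin 2) F) :
    iotaMat U₁ Ψ₁ A * iotaMat U₂ Ψ₂ B = iotaMat U₂ Ψ₂ B * iotaMat U₁ Ψ₁ A := by
  unfold iotaMat
  have e1 : U₁ * (A - 1) * Ψ₁ * (U₂ * (B - 1) * Ψ₂) = 0 := by
    calc U₁ * (A - 1) * Ψ₁ * (U₂ * (B - 1) * Ψ₂)
        = U₁ * (A - 1) * (Ψ₁ * U₂) * (B - 1) * Ψ₂ := by simp only [Matrix.mul_assoc]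
      _ = 0 := by rw [h12]; simp
  have e2 : U₂ * (B - 1) * Ψ₂ * (U₁ * (A - 1) * Ψ₁) = 0 := by
    calc U₂ * (B - 1) * Ψ₂ * (U₁ * (A - 1) * Ψ₁)
        = U₂ * (B - 1) * (Ψ₂ * U₁) * (A - 1) * Ψ₁ := by simp only [Matrix.mul_assoc]
      _ = 0 := by rw [h21]; simp
  have key : ∀ X Y : Matrix (Fin n) (Fin n) F, X * Y = 0 → Y * X = 0 →
      (1 + X) * (1 + Y) = (1 + Y) * (1 + X) := by
    intro X Y h1 h2
    have a1 : (1 + X) * (1 + Y) = 1 + X + Y + X * Y := by noncomm_ring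
    have a2 : (1 + Y) * (1 + X) = 1 + Y + X + Y * X := by noncomm_ring
    rw [a1, a2, h1, h2]
    abel
  exact key _ _ e1 e2

/-- a hyperbolic quadruple: `(u, a)`, `(c, b)` orthogonal hyperbolic pairs -/
structure Hyp4 (Q : QuadraticForm F (Fin n → F)) (u c a b : Fin n → F) : Prop where
  hu : Q u = 0
  hc : Q c = 0
  ha : Q a = 0
  hb : Q b = 0
  huc : polar (⇑Q) u c = 0
  hab : polar (⇑Q) a b = 0
  hua : polar (⇑Q) u a = 1
  hcb : polar (⇑Q) c b = 1
  hub : polar (⇑Q) u b = 0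
  hca : polar (⇑Q) c a = 0

section abstract
variable (Q : QuadraticForm F (Fin n → F)) (u c a b : Fin n → F) (κ : F)

theorem polar_self_zero {x : Fin n → F} (hx : Q x = 0) : polar (⇑Q) x x = 0 := by
  rw [QuadraticMap.polar_self, hx, smul_zero]

/-- first copy of the natural module: columns `u`, `u + κ b` -/
def U1 : Matrix (Fin n) (Fin 2) F := colM u (u + κ • b)

/-- dual rows `B(a,·) - κ⁻¹ B(c,·)`, `κ⁻¹ B(c,·)` -/
def P1 : Matrix (Fin 2) (Fin n) F :=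
  rowM (Cfsg.polarVec ⇑Q a - κ⁻¹ • Cfsg.polarVec ⇑Q c) (κ⁻¹ • Cfsg.polarVec ⇑Q c)

/-- second copy of the natural module: columns `c`, `c - κ a` -/
def U2 : Matrix (Fin n) (Fin 2) F := colM c (c - κ • a)

/-- dual rows `B(b,·) + κ⁻¹ B(u,·)`, `-κ⁻¹ B(u,·)` -/
def P2 : Matrix (Fin 2) (Fin n) F :=
  rowM (Cfsg.polarVec ⇑Q b + κ⁻¹ • Cfsg.polarVec ⇑Q u) (-(κ⁻¹ • Cfsg.polarVec ⇑Q u))

variable {Q u c a b κ}

theorem P1_mul_U1 (H : Hyp4 Q u c a b) (hκ : κ ≠ 0) : P1 Q c a κ * U1 u b κ = 1 := by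
  unfold P1 U1
  rw [rowM_mul_colM]
  simp only [sub_dotProduct, smul_dotProduct, dotProduct_add, dotProduct_smul, polarVec_dot,
    smul_eq_mul, QuadraticMap.polar_comm (⇑Q) a u, QuadraticMap.polar_comm (⇑Q) c u, H.hua, H.huc,
    H.hab, H.hcb, mul_zero, mul_one, sub_zero, add_zero, zero_add]
  ext i j
  fin_cases i <;> fin_cases j <;> simp [hκ]

theorem P2_mul_U2 (H : Hyp4 Q u c a b) (hκ : κ ≠ 0) : P2 Q u b κ * U2 c a κ = 1 := by
  unfold P2 U2
  rw [rowM_mul_colM]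
  simp only [add_dotProduct, neg_dotProduct, smul_dotProduct, dotProduct_sub, dotProduct_smul,
    polarVec_dot, smul_eq_mul, QuadraticMap.polar_comm (⇑Q) b c, QuadraticMap.polar_comm (⇑Q) b a,
    H.hua, H.huc, H.hab, H.hcb, mul_zero, mul_one, add_zero, neg_zero, zero_sub, zero_add,
    mul_neg, neg_neg]
  ext i j
  fin_cases i <;> fin_cases j <;> simp [hκ]

theorem P1_mul_U2 (H : Hyp4 Q u c a b) : P1 Q c a κ * U2 c a κ = 0 := by
  have hcc := polar_self_zero Q H.hc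
  have haa := polar_self_zero Q H.ha
  unfold P1 U2
  rw [rowM_mul_colM]
  simp only [sub_dotProduct, smul_dotProduct, dotProduct_sub, dotProduct_smul, polarVec_dot,
    smul_eq_mul, QuadraticMap.polar_comm (⇑Q) a c, H.hca, hcc, haa, mul_zero, sub_zero]
  ext i j
  fin_cases i <;> fin_cases j <;> rfl

theorem P2_mul_U1 (H : Hyp4 Q u c a b) : P2 Q u b κ * U1 u b κ = 0 := by
  have huu := polar_self_zero Q H.hu
  have hbb := polar_self_zero Q H.hb
  unfold P2 U1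
  rw [rowM_mul_colM]
  simp only [add_dotProduct, neg_dotProduct, smul_dotProduct, dotProduct_add, dotProduct_smul,
    polarVec_dot, smul_eq_mul, QuadraticMap.polar_comm (⇑Q) b u, H.hub, huu, hbb, mul_zero,
    add_zero, neg_zero]
  ext i j
  fin_cases i <;> fin_cases j <;> rfl

/-- the diagonal embedding of `SL₂` in the `Ω₄⁺` of the hyperbolic quadruple -/
noncomputable def emb4 (H : Hyp4 Q u c a b) (hκ : κ ≠ 0) :
    SpecialLinearGroup (Fin 2) F →* GL (Fin n) F where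
  toFun g := iota (U1 u b κ) (P1 Q c a κ) (P1_mul_U1 H hκ) g *
    iota (U2 c a κ) (P2 Q u b κ) (P2_mul_U2 H hκ) g
  map_one' := by rw [map_one, map_one, one_mul]
  map_mul' g g' := by
    have comm : iota (U1 u b κ) (P1 Q c a κ) (P1_mul_U1 H hκ) g' *
        iota (U2 c a κ) (P2 Q u b κ) (P2_mul_U2 H hκ) g =
        iota (U2 c a κ) (P2 Q u b κ) (P2_mul_U2 H hκ) g *
        iota (U1 u b κ) (P1 Q c a κ) (P1_mul_U1 H hκ) g' := by
      apply Units.ext
      rw [Units.val_mul, Units.val_mul]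
      exact iotaMat_comm (P1_mul_U2 H) (P2_mul_U1 H) _ _
    rw [map_mul, map_mul, mul_assoc, ← mul_assoc (iota (U1 u b κ) (P1 Q c a κ) _ g'), comm,
      mul_assoc, ← mul_assoc]

theorem emb4_val (H : Hyp4 Q u c a b) (hκ : κ ≠ 0) (g : SpecialLinearGroup (Fin 2) F) :
    ((emb4 H hκ g : GL (Fin n) F) : Matrix (Fin n) (Fin n) F) =
      iotaMat (U1 u b κ) (P1 Q c a κ) (g : Matrix (Fin 2) (Fin 2) F) *
        iotaMat (U2 c a κ) (P2 Q u b κ) (g : Matrix (Fin 2) (Fin 2) F) := rfl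

theorem emb4_uu (H : Hyp4 Q u c a b) (hκ : κ ≠ 0) (t : F) :
    ((emb4 H hκ (uu (t * κ)) : GL (Fin n) F) : Matrix (Fin n) (Fin n) F) =
      sieg Q u (t • c) := by
  have hcc := polar_self_zero Q H.hc
  apply matrix_ext_mulVec
  intro x
  rw [emb4_val, ← Matrix.mulVec_mulVec, U2, P2, iotaMat_mulVec, U1, P1, iotaMat_mulVec,
    sieg_mulVec]
  simp only [upperSL_coe, Matrix.of_apply, Matrix.cons_val', Matrix.cons_val_zero,
    Matrix.cons_val_one, Matrix.cons_val_fin_one, sub_self, zero_mul, zero_add, add_zero,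
    zero_smul, sub_dotProduct, add_dotProduct, neg_dotProduct, smul_dotProduct, dotProduct_add,
    dotProduct_smul, polarVec_dot, smul_eq_mul, QuadraticMap.polar_smul_left,
    QuadraticMap.polar_smul_right, QuadraticMap.map_smul, H.hc, hcc, mul_zero, sub_zero]
  ext i
  simp only [Pi.add_apply, Pi.smul_apply, smul_eq_mul]
  field_simp
  ring

theorem emb4_Wm (H : Hyp4 Q u c a b) (hκ : κ ≠ 0) :
    ((emb4 H hκ Wm : GL (Fin n) F) : Matrix (Fin n) (Fin n) F) = sieg Q a ((-κ) • b) := by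
  have haa := polar_self_zero Q H.ha
  have hbb := polar_self_zero Q H.hb
  apply matrix_ext_mulVec
  intro x
  rw [emb4_val, ← Matrix.mulVec_mulVec, U2, P2, iotaMat_mulVec, U1, P1, iotaMat_mulVec,
    sieg_mulVec]
  simp only [Wm, Matrix.of_apply, Matrix.cons_val', Matrix.cons_val_zero,
    Matrix.cons_val_one, Matrix.cons_val_fin_one, sub_dotProduct, add_dotProduct, neg_dotProduct,
    smul_dotProduct, dotProduct_add, dotProduct_sub, dotProduct_smul, polarVec_dot, smul_eq_mul,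
    QuadraticMap.polar_smul_left, QuadraticMap.polar_smul_right, QuadraticMap.map_smul, H.hb,
    H.hab, haa, hbb, mul_zero, sub_zero]
  ext i
  simp only [Pi.add_apply, Pi.sub_apply, Pi.smul_apply, smul_eq_mul]
  field_simp
  ring

end abstract

theorem Q_comb (Q : QuadraticForm F (Fin n → F)) (w y : Fin n → F) (hw : Q w = 0) (hy : Q y = 0)
    (hwy : polar (⇑Q) w y = 0) (s t : F) : Q (s • w + t • y) = 0 := by
  rw [Q_add, Q_smul, Q_smul,
    QuadraticMap.polar_smul_left, QuadraticMap.polar_smul_right, hw, hy, hwy]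
  simp

theorem polar_comb (Q : QuadraticForm F (Fin n → F)) (w y : Fin n → F) (hw : Q w = 0)
    (hy : Q y = 0) (hwy : polar (⇑Q) w y = 0) (s t s' t' : F) :
    polar (⇑Q) (s • w + t • y) (s' • w + t' • y) = 0 := by
  have hww := polar_self_zero Q hw
  have hyy := polar_self_zero Q hy
  simp only [QuadraticMap.polar_add_left, QuadraticMap.polar_add_right,
    QuadraticMap.polar_smul_left, QuadraticMap.polar_smul_right, hww, hyy, hwy,
    QuadraticMap.polar_comm (⇑Q) y w, smul_eq_mul, mul_zero, add_zero]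

/-- FO-EMB of `notes/S5683Skel_helper1.lean.txt`, exact statement -/
theorem exists_emb4 (Q : QuadraticForm F (Fin n → F)) (u c w y : Fin n → F) (hu : Q u = 0)
    (hc : Q c = 0) (huc : polar (⇑Q) u c = 0) (hw : Q w = 0) (hy : Q y = 0)
    (hwy : polar (⇑Q) w y = 0)
    (hΔ : polar (⇑Q) u w * polar (⇑Q) c y - polar (⇑Q) u y * polar (⇑Q) c w ≠ 0) :
    ∃ e : SpecialLinearGroup (Fin 2) F →* GL (Fin n) F,
      (∀ t : F, ((e (uu (t * -(polar (⇑Q) u w * polar (⇑Q) c y - polar (⇑Q) u y * polar (⇑Q) c w))) :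
        GL (Fin n) F) : Matrix (Fin n) (Fin n) F) = sieg Q u (t • c)) ∧
      ((e Wm : GL (Fin n) F) : Matrix (Fin n) (Fin n) F) = sieg Q w y := by
  set α₁ := polar (⇑Q) u w with hα₁
  set α₂ := polar (⇑Q) u y with hα₂
  set β₁ := polar (⇑Q) c w with hβ₁
  set β₂ := polar (⇑Q) c y with hβ₂
  set Δ := α₁ * β₂ - α₂ * β₁ with hΔdef
  have H : Hyp4 Q u c ((Δ⁻¹ * β₂) • w + (-(Δ⁻¹ * β₁)) • y)
      ((-(Δ⁻¹ * α₂)) • w + (Δ⁻¹ * α₁) • y) := by
    refine ⟨hu, hc, Q_comb Q w y hw hy hwy _ _, Q_comb Q w y hw hy hwy _ _, huc,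
      polar_comb Q w y hw hy hwy _ _ _ _, ?_, ?_, ?_, ?_⟩
    · simp only [QuadraticMap.polar_add_right, QuadraticMap.polar_smul_right, smul_eq_mul,
        ← hα₁, ← hα₂]
      field_simp
      rw [hΔdef]; ring
    · simp only [QuadraticMap.polar_add_right, QuadraticMap.polar_smul_right, smul_eq_mul,
        ← hβ₁, ← hβ₂]
      field_simp
      rw [hΔdef]; ring
    · simp only [QuadraticMap.polar_add_right, QuadraticMap.polar_smul_right, smul_eq_mul,
        ← hα₁, ← hα₂]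
      ring
    · simp only [QuadraticMap.polar_add_right, QuadraticMap.polar_smul_right, smul_eq_mul,
        ← hβ₁, ← hβ₂]
      ring
  have hκ : -Δ ≠ 0 := neg_ne_zero.mpr hΔ
  refine ⟨emb4 H hκ, fun t => emb4_uu H hκ t, ?_⟩
  rw [emb4_Wm H hκ]
  apply matrix_ext_mulVec
  intro x
  have hww := polar_self_zero Q hw
  have hyy := polar_self_zero Q hy
  rw [sieg_mulVec, sieg_mulVec, Q_smul, Q_comb Q w y hw hy hwy, hy]
  simp only [QuadraticMap.polar_add_left, QuadraticMap.polar_smul_left, smul_eq_mul, neg_neg,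
    zero_mul, mul_zero, sub_zero]
  ext i
  simp only [Pi.add_apply, Pi.smul_apply, smul_eq_mul, Pi.neg_apply]
  field_simp
  rw [hΔdef]
  ring

end Cfsg.H5.S5683EMB
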