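import Mathlib
import Cfsg.Agent.H5.S5683FOEMB

/-!
# S5683 / S5702 FO-EMB, extended: the action of the `SL₂` on the point `p = B(c,w) u - B(u,w) c`
-/

set_option autoImplicit false

namespace Cfsg.H5.S5683EMB

open Matrix QuadraticMap Cfsg.Agent.Lib.Helper6 Cfsg.Agent.Lib.Helper1.SubfSL
open Cfsg.Agent.Lib.Helper15.Dk Cfsg.Agent.Lib.Helper14 Cfsg.Agent.Lib.Helper15

universe u
variable {F : Type u} [Field F] {n : ℕ}

section abstract
variable {Q : QuadraticForm F (Fin n → F)} {u c a b : Fin n → F} {κ : F}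

/-- the action of `emb4` on the line `⟨u, c⟩`-points `s u - t c` -/
theorem emb4_mulVec (H : Hyp4 Q u c a b) (hκ : κ ≠ 0) (A : SpecialLinearGroup (Fin 2) F)
    (s t : F) :
    ((emb4 H hκ A : GL (Fin n) F) : Matrix (Fin n) (Fin n) F) *ᵥ (s • u - t • c) =
      (A 0 0 + A 1 0) • (s • u - t • c) + (κ * A 1 0) • (t • a + s • b) := by
  have huu := polar_self_zero Q H.hu
  have hcc := polar_self_zero Q H.hc
  have haa := polar_self_zero Q H.ha
  have hbb := polar_self_zero Q H.hb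
  rw [emb4_val, ← Matrix.mulVec_mulVec, U2, P2, iotaMat_mulVec, U1, P1, iotaMat_mulVec]
  simp only [sub_dotProduct, add_dotProduct, neg_dotProduct, smul_dotProduct, dotProduct_add,
    dotProduct_sub, dotProduct_smul, polarVec_dot, smul_eq_mul, QuadraticMap.polar_comm (⇑Q) b u,
    QuadraticMap.polar_comm (⇑Q) b c, QuadraticMap.polar_comm (⇑Q) a u,
    QuadraticMap.polar_comm (⇑Q) a c, QuadraticMap.polar_comm (⇑Q) c u,
    QuadraticMap.polar_comm (⇑Q) b a, H.hua, H.huc, H.hab, H.hcb, H.hub, H.hca, huu, hcc, haa, hbb,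
    mul_zero, mul_one, sub_zero, add_zero, zero_add, zero_sub, neg_zero, mul_neg]
  ext i
  simp only [Pi.add_apply, Pi.sub_apply, Pi.smul_apply, smul_eq_mul]
  field_simp
  ring

end abstract

/-- `exists_emb4` with the extra clause describing the action on `p = B(c,w) u - B(u,w) c` (msg 2715) -/
theorem exists_emb4p (Q : QuadraticForm F (Fin n → F)) (u c w y : Fin n → F) (hu : Q u = 0)
    (hc : Q c = 0) (huc : polar (⇑Q) u c = 0) (hw : Q w = 0) (hy : Q y = 0)
    (hwy : polar (⇑Q) w y = 0)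
    (hΔ : polar (⇑Q) u w * polar (⇑Q) c y - polar (⇑Q) u y * polar (⇑Q) c w ≠ 0) :
    ∃ e : SpecialLinearGroup (Fin 2) F →* GL (Fin n) F,
      (∀ t : F, ((e (uu (t * -(polar (⇑Q) u w * polar (⇑Q) c y - polar (⇑Q) u y * polar (⇑Q) c w))) :
        GL (Fin n) F) : Matrix (Fin n) (Fin n) F) = sieg Q u (t • c)) ∧
      ((e Wm : GL (Fin n) F) : Matrix (Fin n) (Fin n) F) = sieg Q w y ∧
      (∀ A : SpecialLinearGroup (Fin 2) F,
        ((e A : GL (Fin n) F) : Matrix (Fin n) (Fin n) F) *ᵥ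
            (polar (⇑Q) c w • u - polar (⇑Q) u w • c) =
          (A 0 0 + A 1 0) • (polar (⇑Q) c w • u - polar (⇑Q) u w • c) +
            (-(polar (⇑Q) u w * polar (⇑Q) c y - polar (⇑Q) u y * polar (⇑Q) c w) * A 1 0) • w) := by
  set α₁ := polar (⇑Q) u w with hα₁
  set α₂ := polar (⇑Q) u y with hα₂
  set β₁ := polar (⇑Q) c w with hβ₁
  set β₂ := polar (⇑Q) c y with hβ₂
  set Δ := α₁ * β₂ - α₂ * β₁ with hΔdef
  have H : Hyp4 Q u c ((Δ⁻¹ * β₂) • w + (-(Δ⁻¹ * β₁)) • y)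
      ((-(Δ⁻¹ * α₂)) • w + (Δ⁻¹ * α₁) • y) := by
    refine ⟨hu, hc, Q_comb Q w y hw hy hwy _ _, Q_comb Q w y hw hy hwy _ _, huc,
      polar_comb Q w y hw hy hwy _ _ _ _, ?_, ?_, ?_, ?_⟩
    · simp only [QuadraticMap.polar_add_right, QuadraticMap.polar_smul_right, smul_eq_mul,
        ← hα₁, ← hα₂]
      field_simp
      rw [hΔdef]; ring
    · simp only [QuadraticMap.polar_add_right, QuadraticMap.polar_smul_right, smul_eq_mul,
        ← hβ₁, ← hβ₂]
      field_simp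
      rw [hΔdef]; ring
    · simp only [QuadraticMap.polar_add_right, QuadraticMap.polar_smul_right, smul_eq_mul,
        ← hα₁, ← hα₂]
      ring
    · simp only [QuadraticMap.polar_add_right, QuadraticMap.polar_smul_right, smul_eq_mul,
        ← hβ₁, ← hβ₂]
      ring
  have hκ : -Δ ≠ 0 := neg_ne_zero.mpr hΔ
  refine ⟨emb4 H hκ, fun t => emb4_uu H hκ t, ?_, ?_⟩
  · rw [emb4_Wm H hκ]
    apply matrix_ext_mulVec
    intro x
    rw [sieg_mulVec, sieg_mulVec, Q_smul, Q_comb Q w y hw hy hwy, hy]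
    simp only [QuadraticMap.polar_add_left, QuadraticMap.polar_smul_left, smul_eq_mul, neg_neg,
      zero_mul, mul_zero, sub_zero]
    ext i
    simp only [Pi.add_apply, Pi.smul_apply, smul_eq_mul]
    field_simp
    rw [hΔdef]
    ring
  · intro A
    rw [emb4_mulVec H hκ A β₁ α₁]
    congr 1
    have hw' : α₁ • ((Δ⁻¹ * β₂) • w + (-(Δ⁻¹ * β₁)) • y) +
        β₁ • ((-(Δ⁻¹ * α₂)) • w + (Δ⁻¹ * α₁) • y) = w := by
      ext i
      simp only [Pi.add_apply, Pi.smul_apply, smul_eq_mul]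
      field_simp
      rw [hΔdef]
      ring
    rw [hw']

end Cfsg.H5.S5683EMB
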