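import Mathlib
import Cfsg.Agent.Lib.Helper9.OExtDefs
import Cfsg.Agent.Lib.Helper26.S5701FOBAS
import Cfsg.Agent.Lib.Helper21.S5664FOBASb

/-!
# S5701 FO-A (helper5, for architect helper9): `normalizes_of_pts`

An element `g ∈ GL(V)` mapping every singular `L`-point onto an `L`-point normalises `ρ L`.
`normalizes_of_pts_aux` takes the spanning property of the singular vectors (skeleton piece FO-G8
`lsing_span`) as an explicit hypothesis; everything else (partner, nonsingular vector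
perpendicular to a hyperbolic pair) is proved here.
-/

set_option autoImplicit false
set_option linter.unusedSectionVars false
set_option linter.unusedVariables false
set_option linter.unusedSimpArgs false

namespace Cfsg.H5.S5701A

open Matrix Module QuadraticMap Cfsg.Agent.Lib.Helper7.SpExt Cfsg.Agent.Lib.Helper9.OExt
  Cfsg.Agent.Lib.Helper26.S5701BAS

variable {F : Type*} [Field F] [Fintype F] {L : Type*} [Field L] [Algebra F L] {ι : Type}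
  [Fintype ι] [DecidableEq ι] {ρ : L →ₐ[F] Matrix ι ι F} {Q : QuadraticForm F (ι → F)}
  {τ : L →ₗ[F] F} {B : (ι → F) →ₗ[F] (ι → F) →ₗ[F] L} {r : ℕ}

/-- `g` maps the `L`-point of `x` onto the `L`-point of `g x` -/
def Good (ρ : L →ₐ[F] Matrix ι ι F) (g : GL ι F) (x : ι → F) : Prop :=
  Img ρ g x = pt ρ (act g x)

theorem good_of_pts {g : GL ι F} {v : ι → F} (hv : v ≠ 0) (h : ∃ v', Img ρ g v = pt ρ v') :
    Good ρ g v := by
  obtain ⟨v', hv'⟩ := h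
  have hgv : act g v ∈ pt ρ v' := by
    rw [← hv']
    exact (mem_Img ρ g v _).mpr ⟨1, by rw [rho_one_mulVec]⟩
  have hgv0 : act g v ≠ 0 := fun h0 => hv ((act_eq_zero_iff g v).mp h0)
  exact hv'.trans (pt_eq_of_mem ρ hgv hgv0).symm

theorem Good.fwd {g : GL ι F} {x : ι → F} (h : Good ρ g x) (a : L) :
    ∃ m, act g (ρ a *ᵥ x) = ρ m *ᵥ act g x := by
  have h1 : act g (ρ a *ᵥ x) ∈ Img ρ g x := (mem_Img ρ g x _).mpr ⟨a, rfl⟩
  unfold Good at h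
  rw [h] at h1
  obtain ⟨m, hm⟩ := (mem_pt ρ _ _).mp h1
  exact ⟨m, hm.symm⟩

theorem Good.bwd {g : GL ι F} {x : ι → F} (h : Good ρ g x) (c : L) :
    ∃ c', act g (ρ c' *ᵥ x) = ρ c *ᵥ act g x := by
  have h1 : ρ c *ᵥ act g x ∈ pt ρ (act g x) := smul_mem_pt ρ _ c
  unfold Good at h
  rw [← h] at h1
  exact (mem_Img ρ g x _).mp h1

/-- `L`-independence of two vectors -/
def Ind2 (ρ : L →ₐ[F] Matrix ι ι F) (x₁ x₂ : ι → F) : Prop :=
  ∀ c₁ c₂ : L, ρ c₁ *ᵥ x₁ + ρ c₂ *ᵥ x₂ = 0 → c₁ = 0 ∧ c₂ = 0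

/-- `L`-independence of three vectors -/
def Ind3 (ρ : L →ₐ[F] Matrix ι ι F) (x₁ x₂ x₃ : ι → F) : Prop :=
  ∀ c₁ c₂ c₃ : L, ρ c₁ *ᵥ x₁ + ρ c₂ *ᵥ x₂ + ρ c₃ *ᵥ x₃ = 0 → c₁ = 0 ∧ c₂ = 0 ∧ c₃ = 0

theorem rho_eq_zero (ρ : L →ₐ[F] Matrix ι ι F) {x : ι → F} (hx : x ≠ 0) {c : L} (h : ρ c *ᵥ x = 0) : c = 0 := by
  apply Cfsg.Agent.Lib.Helper21.S5664BASb.orb_injective ρ hx
  rw [orb_apply, h, map_zero]

theorem act_ne_zero (g : GL ι F) {x : ι → F} (hx : x ≠ 0) : act g x ≠ 0 :=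
  fun h => hx ((act_eq_zero_iff g x).mp h)

theorem ind2_act {g : GL ι F} {x₁ x₂ : ι → F} (hx₁ : x₁ ≠ 0) (hx₂ : x₂ ≠ 0)
    (hb₁ : ∀ c : L, ∃ c', act g (ρ c' *ᵥ x₁) = ρ c *ᵥ act g x₁)
    (hb₂ : ∀ c : L, ∃ c', act g (ρ c' *ᵥ x₂) = ρ c *ᵥ act g x₂)
    (hind : Ind2 ρ x₁ x₂) : Ind2 ρ (act g x₁) (act g x₂) := by
  intro c₁ c₂ hc
  obtain ⟨d₁, hd₁⟩ := hb₁ c₁
  obtain ⟨d₂, hd₂⟩ := hb₂ c₂
  have h0 : act g (ρ d₁ *ᵥ x₁ + ρ d₂ *ᵥ x₂) = 0 := by
    rw [act_add, hd₁, hd₂, hc]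
  obtain ⟨e₁, e₂⟩ := hind _ _ ((act_eq_zero_iff g _).mp h0)
  refine ⟨rho_eq_zero ρ (act_ne_zero g hx₁) ?_, rho_eq_zero ρ (act_ne_zero g hx₂) ?_⟩
  · rw [← hd₁, e₁, rho_zero_mulVec, act_zero]
  · rw [← hd₂, e₂, rho_zero_mulVec, act_zero]

theorem ind3_act {g : GL ι F} {x₁ x₂ x₃ : ι → F} (hx₁ : x₁ ≠ 0) (hx₂ : x₂ ≠ 0) (hx₃ : x₃ ≠ 0)
    (hb₁ : ∀ c : L, ∃ c', act g (ρ c' *ᵥ x₁) = ρ c *ᵥ act g x₁)
    (hb₂ : ∀ c : L, ∃ c', act g (ρ c' *ᵥ x₂) = ρ c *ᵥ act g x₂)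
    (hb₃ : ∀ c : L, ∃ c', act g (ρ c' *ᵥ x₃) = ρ c *ᵥ act g x₃)
    (hind : Ind3 ρ x₁ x₂ x₃) : Ind3 ρ (act g x₁) (act g x₂) (act g x₃) := by
  intro c₁ c₂ c₃ hc
  obtain ⟨d₁, hd₁⟩ := hb₁ c₁
  obtain ⟨d₂, hd₂⟩ := hb₂ c₂
  obtain ⟨d₃, hd₃⟩ := hb₃ c₃
  have h0 : act g (ρ d₁ *ᵥ x₁ + ρ d₂ *ᵥ x₂ + ρ d₃ *ᵥ x₃) = 0 := by
    rw [act_add, act_add, hd₁, hd₂, hd₃, hc]
  obtain ⟨e₁, e₂, e₃⟩ := hind _ _ _ ((act_eq_zero_iff g _).mp h0)
  refine ⟨rho_eq_zero ρ (act_ne_zero g hx₁) ?_, rho_eq_zero ρ (act_ne_zero g hx₂) ?_,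
    rho_eq_zero ρ (act_ne_zero g hx₃) ?_⟩
  · rw [← hd₁, e₁, rho_zero_mulVec, act_zero]
  · rw [← hd₂, e₂, rho_zero_mulVec, act_zero]
  · rw [← hd₃, e₃, rho_zero_mulVec, act_zero]

/-- the three-term relation -/
theorem rel3 {g : GL ι F} {a : L} {x₁ x₂ : ι → F} (hx₁ : x₁ ≠ 0) (hx₂ : x₂ ≠ 0)
    (hb₁ : ∀ c : L, ∃ c', act g (ρ c' *ᵥ x₁) = ρ c *ᵥ act g x₁)
    (hb₂ : ∀ c : L, ∃ c', act g (ρ c' *ᵥ x₂) = ρ c *ᵥ act g x₂)
    (hind : Ind2 ρ x₁ x₂) {m₁ m₂ m₃ : L}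
    (hm₁ : act g (ρ a *ᵥ x₁) = ρ m₁ *ᵥ act g x₁)
    (hm₂ : act g (ρ a *ᵥ x₂) = ρ m₂ *ᵥ act g x₂)
    (hm₃ : act g (ρ a *ᵥ (x₁ + x₂)) = ρ m₃ *ᵥ act g (x₁ + x₂)) :
    m₁ = m₃ ∧ m₂ = m₃ := by
  have hind' := ind2_act hx₁ hx₂ hb₁ hb₂ hind
  rw [Matrix.mulVec_add, act_add, act_add, Matrix.mulVec_add, hm₁, hm₂] at hm₃
  have key : ρ (m₁ - m₃) *ᵥ act g x₁ + ρ (m₂ - m₃) *ᵥ act g x₂ = 0 := by
    rw [rho_sub_mulVec, rho_sub_mulVec]
    rw [← sub_eq_zero.mpr hm₃]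
    abel
  obtain ⟨e₁, e₂⟩ := hind' _ _ key
  exact ⟨sub_eq_zero.mp e₁, sub_eq_zero.mp e₂⟩

/-- the four-term relation -/
theorem rel4 {g : GL ι F} {a : L} {x₁ x₂ x₃ x₄ : ι → F} (hx₁ : x₁ ≠ 0) (hx₂ : x₂ ≠ 0)
    (hx₃ : x₃ ≠ 0)
    (hb₁ : ∀ c : L, ∃ c', act g (ρ c' *ᵥ x₁) = ρ c *ᵥ act g x₁)
    (hb₂ : ∀ c : L, ∃ c', act g (ρ c' *ᵥ x₂) = ρ c *ᵥ act g x₂)
    (hb₃ : ∀ c : L, ∃ c', act g (ρ c' *ᵥ x₃) = ρ c *ᵥ act g x₃)
    (hind : Ind3 ρ x₁ x₂ x₃) (hrel : x₁ + x₂ = x₃ + x₄) {m₁ m₂ m₃ m₄ : L}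
    (hm₁ : act g (ρ a *ᵥ x₁) = ρ m₁ *ᵥ act g x₁)
    (hm₂ : act g (ρ a *ᵥ x₂) = ρ m₂ *ᵥ act g x₂)
    (hm₃ : act g (ρ a *ᵥ x₃) = ρ m₃ *ᵥ act g x₃)
    (hm₄ : act g (ρ a *ᵥ x₄) = ρ m₄ *ᵥ act g x₄) :
    m₁ = m₄ ∧ m₂ = m₄ ∧ m₃ = m₄ := by
  have hind' := ind3_act hx₁ hx₂ hx₃ hb₁ hb₂ hb₃ hind
  have h4 : x₄ = x₁ + x₂ - x₃ := by rw [hrel]; abel
  rw [h4, Matrix.mulVec_sub, Matrix.mulVec_add, act_sub, act_add, act_sub, act_add,
    Matrix.mulVec_sub, Matrix.mulVec_add, hm₁, hm₂, hm₃] at hm₄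
  have key : ρ (m₁ - m₄) *ᵥ act g x₁ + ρ (m₂ - m₄) *ᵥ act g x₂ + ρ (m₄ - m₃) *ᵥ act g x₃
      = 0 := by
    rw [rho_sub_mulVec, rho_sub_mulVec, rho_sub_mulVec]
    rw [← sub_eq_zero.mpr hm₄]
    abel
  obtain ⟨e₁, e₂, e₃⟩ := hind' _ _ _ key
  exact ⟨sub_eq_zero.mp e₁, sub_eq_zero.mp e₂, (sub_eq_zero.mp e₃).symm⟩

theorem two_ne_zero_L (S : OStr ρ Q τ B) : (2 : L) ≠ 0 := by
  intro h
  apply S.two
  have h1 : algebraMap F L 2 = 0 := by rw [map_ofNat]; exact h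
  exact (map_eq_zero (algebraMap F L)).mp h1

/-- FO-G2 (own proof): a singular vector has a singular partner -/
theorem exists_partner' (S : OStr ρ Q τ B) {v : ι → F} (hv : LSing B v) :
    ∃ v₂, LSing B v₂ ∧ B v v₂ = 1 := by
  obtain ⟨w, hw⟩ := B_nondeg S hv.1
  have h2 := two_ne_zero_L S
  have hwv : B w v = 1 := by rw [S.symm, hw]
  have h1 : B v (w - ρ (B w w / 2) *ᵥ v) = 1 := by
    rw [map_sub, B_lin_right S, hv.2, hw, mul_zero, sub_zero]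
  refine ⟨w - ρ (B w w / 2) *ᵥ v, ⟨?_, ?_⟩, h1⟩
  · intro h0
    rw [h0, map_zero] at h1
    exact zero_ne_one h1
  · simp only [map_sub, LinearMap.sub_apply, S.lin, B_lin_right S, hv.2, hw, hwv]
    field_simp
    ring

/-- a nonsingular vector perpendicular to a hyperbolic pair -/
theorem exists_perp_nonsing (S : OStr ρ Q τ B) (hrk : finrank F L = r) (hr : 0 < r)
    (hn : 4 * r ≤ Fintype.card ι) {v v₂ : ι → F} (hv : B v v = 0) (hv₂ : B v₂ v₂ = 0)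
    (h12 : B v v₂ = 1) : ∃ z, B z v = 0 ∧ B z v₂ = 0 ∧ B z z ≠ 0 := by
  have h21 : B v₂ v = 1 := by rw [S.symm, h12]
  have hv0 : v ≠ 0 := by
    rintro rfl
    rw [map_zero, LinearMap.zero_apply] at h12
    exact zero_ne_one h12
  have hv₂0 : v₂ ≠ 0 := by
    rintro rfl
    rw [map_zero] at h12
    exact zero_ne_one h12
  have hlt : pt ρ v ⊔ pt ρ v₂ ≠ ⊤ := by
    intro htop
    have h1 := Submodule.finrank_add_le_finrank_add_finrank (pt ρ v) (pt ρ v₂)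
    rw [htop, finrank_top, Cfsg.Agent.Lib.Helper21.S5664BASb.finrank_pt ρ hrk hr hv0,
      Cfsg.Agent.Lib.Helper21.S5664BASb.finrank_pt ρ hrk hr hv₂0,
      Module.finrank_fintype_fun_eq_card] at h1
    omega
  obtain ⟨x, hx⟩ : ∃ x, x ∉ pt ρ v ⊔ pt ρ v₂ := by
    by_contra hcon
    push Not at hcon
    exact hlt (eq_top_iff.mpr fun x _ => hcon x)
  have hproj : ∀ w, B (w - ρ (B w v₂) *ᵥ v - ρ (B w v) *ᵥ v₂) v = 0 ∧
      B (w - ρ (B w v₂) *ᵥ v - ρ (B w v) *ᵥ v₂) v₂ = 0 := by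
    intro w
    constructor
    · simp only [map_sub, LinearMap.sub_apply, S.lin, hv, hv₂, h12, h21]
      ring
    · simp only [map_sub, LinearMap.sub_apply, S.lin, hv, hv₂, h12, h21]
      ring
  have hx₀ : x - ρ (B x v₂) *ᵥ v - ρ (B x v) *ᵥ v₂ ≠ 0 := by
    intro h0
    apply hx
    have : x = ρ (B x v₂) *ᵥ v + ρ (B x v) *ᵥ v₂ := by
      rw [sub_sub, sub_eq_zero] at h0
      exact h0
    rw [this]
    exact Submodule.add_mem_sup (smul_mem_pt ρ v _) (smul_mem_pt ρ v₂ _)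
  obtain ⟨hx1, hx2⟩ := hproj x
  generalize x - ρ (B x v₂) *ᵥ v - ρ (B x v) *ᵥ v₂ = x₀ at hx₀ hx1 hx2
  obtain ⟨w, hw⟩ := B_nondeg S hx₀
  obtain ⟨hw1, hw2⟩ := hproj w
  have hw3 : B x₀ (w - ρ (B w v₂) *ᵥ v - ρ (B w v) *ᵥ v₂) = 1 := by
    have e1 : B x₀ v = 0 := hx1
    have e2 : B x₀ v₂ = 0 := hx2
    simp only [map_sub, B_lin_right S, e1, e2, hw]
    ring
  generalize w - ρ (B w v₂) *ᵥ v - ρ (B w v) *ᵥ v₂ = w₀ at hw1 hw2 hw3
  by_cases h1 : B x₀ x₀ = 0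
  · by_cases h2 : B w₀ w₀ = 0
    · refine ⟨x₀ + w₀, ?_, ?_, ?_⟩
      · rw [map_add, LinearMap.add_apply, hx1, hw1, add_zero]
      · rw [map_add, LinearMap.add_apply, hx2, hw2, add_zero]
      · have hw3' : B w₀ x₀ = 1 := by rw [S.symm, hw3]
        simp only [map_add, LinearMap.add_apply, h1, h2, hw3, hw3']
        have := two_ne_zero_L S
        intro h0
        apply this
        rw [← h0]
        ring
    · exact ⟨w₀, hw1, hw2, h2⟩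
  · exact ⟨x₀, hx1, hx2, h1⟩

/-- the basic four-term relation in the 3-space `⟨v, v₂, z⟩` -/
theorem pair_step (S : OStr ρ Q τ B) {g : GL ι F} {a : L} (mu : (ι → F) → L)
    (hmu : ∀ x, LSing B x → act g (ρ a *ᵥ x) = ρ (mu x) *ᵥ act g x)
    (hb : ∀ x, LSing B x → ∀ c : L, ∃ c', act g (ρ c' *ᵥ x) = ρ c *ᵥ act g x)
    {v v₂ z : ι → F} (hv : B v v = 0) (hv₂ : B v₂ v₂ = 0) (h12 : B v v₂ = 1)
    (hzv : B z v = 0) (hzv₂ : B z v₂ = 0) (hz : B z z ≠ 0)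
    {c c' p p' : L} (hcc : c + c' ≠ 0) (hpc : 2 * c * p + B z z = 0)
    (hpc' : 2 * c' * p' + B z z = 0) (hpp : p + p' ≠ 0) :
    mu (ρ (c + c') *ᵥ v) = mu (ρ c *ᵥ v + ρ p *ᵥ v₂ + z) ∧
      mu (ρ (c + c') *ᵥ v) = mu (ρ (p + p') *ᵥ v₂) := by
  have h21 : B v₂ v = 1 := by rw [S.symm, h12]
  have hvz : B v z = 0 := by rw [S.symm, hzv]
  have hv₂z : B v₂ z = 0 := by rw [S.symm, hzv₂]
  have hv0 : v ≠ 0 := by
    rintro rfl
    rw [map_zero, LinearMap.zero_apply] at h12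
    exact zero_ne_one h12
  have hv₂0 : v₂ ≠ 0 := by
    rintro rfl
    rw [map_zero] at h12
    exact zero_ne_one h12
  have s₁ : LSing B (ρ c *ᵥ v + ρ p *ᵥ v₂ + z) := by
    constructor
    · intro h0
      have := congrArg (fun x => B x z) h0
      simp only [map_add, LinearMap.add_apply, S.lin, hvz, hv₂z, map_zero,
        LinearMap.zero_apply, mul_zero, zero_add] at this
      exact hz this
    · simp only [map_add, LinearMap.add_apply, S.lin, B_lin_right S, hv, hv₂, h12, h21, hzv,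
        hzv₂, hvz, hv₂z]
      linear_combination hpc
  have s₂ : LSing B (ρ c' *ᵥ v + ρ p' *ᵥ v₂ + -z) := by
    constructor
    · intro h0
      have := congrArg (fun x => B x z) h0
      simp only [map_add, map_neg, LinearMap.add_apply, LinearMap.neg_apply, S.lin, hvz, hv₂z,
        map_zero, LinearMap.zero_apply, mul_zero, zero_add, neg_eq_zero] at this
      exact hz this
    · simp only [map_add, map_neg, LinearMap.add_apply, LinearMap.neg_apply, S.lin,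
        B_lin_right S, hv, hv₂, h12, h21, hzv, hzv₂, hvz, hv₂z]
      linear_combination hpc'
  have s₃ : LSing B (ρ (c + c') *ᵥ v) := lsing_smul S ⟨hv0, hv⟩ hcc
  have s₄ : LSing B (ρ (p + p') *ᵥ v₂) := lsing_smul S ⟨hv₂0, hv₂⟩ hpp
  have hrel : (ρ c *ᵥ v + ρ p *ᵥ v₂ + z) + (ρ c' *ᵥ v + ρ p' *ᵥ v₂ + -z)
      = ρ (c + c') *ᵥ v + ρ (p + p') *ᵥ v₂ := by
    rw [rho_add_mulVec, rho_add_mulVec]
    abel
  have hind : Ind3 ρ (ρ c *ᵥ v + ρ p *ᵥ v₂ + z) (ρ c' *ᵥ v + ρ p' *ᵥ v₂ + -z)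
      (ρ (c + c') *ᵥ v) := by
    intro α β γ h0
    have e1 := congrArg (fun x => B x z) h0
    have e2 := congrArg (fun x => B x v) h0
    have e3 := congrArg (fun x => B x v₂) h0
    simp only [map_add, map_neg, LinearMap.add_apply, LinearMap.neg_apply, S.lin,
      B_lin_right S, hv, hv₂, h12, h21, hzv, hzv₂, hvz, hv₂z, map_zero,
      LinearMap.zero_apply, Matrix.add_mulVec] at e1 e2 e3
    have hαβ : α = β := by
      have : (α - β) * B z z = 0 := by linear_combination e1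
      rcases mul_eq_zero.mp this with h | h
      · exact sub_eq_zero.mp h
      · exact absurd h hz
    have hα : α = 0 := by
      have : α * (p + p') = 0 := by rw [hαβ] at e2 ⊢; linear_combination e2
      rcases mul_eq_zero.mp this with h | h
      · exact h
      · exact absurd h hpp
    have hβ : β = 0 := by rw [← hαβ, hα]
    have hγ : γ = 0 := by
      have : γ * (c + c') = 0 := by rw [hα, hβ] at e3; linear_combination e3
      rcases mul_eq_zero.mp this with h | h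
      · exact h
      · exact absurd h hcc
    exact ⟨hα, hβ, hγ⟩
  obtain ⟨e1, e2, e3⟩ := rel4 s₁.1 s₂.1 s₃.1 (hb _ s₁) (hb _ s₂) (hb _ s₃) hind hrel
    (hmu _ s₁) (hmu _ s₂) (hmu _ s₃) (hmu _ s₄)
  exact ⟨e3.trans e1.symm, e3⟩

/-- `mu` is constant on the nonzero vectors of the `L`-point of `v` -/
theorem pair_const (S : OStr ρ Q τ B) {g : GL ι F} {a : L} (mu : (ι → F) → L)
    (hmu : ∀ x, LSing B x → act g (ρ a *ᵥ x) = ρ (mu x) *ᵥ act g x)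
    (hb : ∀ x, LSing B x → ∀ c : L, ∃ c', act g (ρ c' *ᵥ x) = ρ c *ᵥ act g x)
    (hL : ∀ e e' : L, ∃ c, c ≠ 0 ∧ c ≠ e ∧ c ≠ e')
    {v v₂ z : ι → F} (hv : B v v = 0) (hv₂ : B v₂ v₂ = 0) (h12 : B v v₂ = 1)
    (hzv : B z v = 0) (hzv₂ : B z v₂ = 0) (hz : B z z ≠ 0)
    {e e' : L} (he : e ≠ 0) (he' : e' ≠ 0) :
    mu (ρ e *ᵥ v) = mu (ρ e' *ᵥ v) := by
  obtain ⟨c, hc0, hce, hce'⟩ := hL e e'
  have h2 := two_ne_zero_L S
  have key : ∀ e : L, e ≠ 0 → c ≠ e →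
      mu (ρ e *ᵥ v) = mu (ρ c *ᵥ v + ρ (-(B z z / 2) * c⁻¹) *ᵥ v₂ + z) := by
    intro e he hce
    have hec : e - c ≠ 0 := sub_ne_zero.mpr (Ne.symm hce)
    have h1 := (pair_step S mu hmu hb hv hv₂ h12 hzv hzv₂ hz (c := c) (c' := e - c)
      (p := -(B z z / 2) * c⁻¹) (p' := -(B z z / 2) * (e - c)⁻¹)
      (by rw [add_sub_cancel]; exact he)
      (by field_simp; ring) (by field_simp; ring)
      (by
        intro h0
        have h3 : (-(B z z / 2) * c⁻¹ + -(B z z / 2) * (e - c)⁻¹) * (2 * c * (e - c))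
            = -(B z z * e) := by
          field_simp
          ring
        rw [h0, zero_mul] at h3
        exact (neg_ne_zero.mpr (mul_ne_zero hz he)) h3.symm)).1
    rw [add_sub_cancel] at h1
    exact h1
  rw [key e he hce, key e' he' hce']

/-- a link between the `L`-points of `v` and `v₂` -/
theorem pair_link (S : OStr ρ Q τ B) {g : GL ι F} {a : L} (mu : (ι → F) → L)
    (hmu : ∀ x, LSing B x → act g (ρ a *ᵥ x) = ρ (mu x) *ᵥ act g x)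
    (hb : ∀ x, LSing B x → ∀ c : L, ∃ c', act g (ρ c' *ᵥ x) = ρ c *ᵥ act g x)
    {v v₂ z : ι → F} (hv : B v v = 0) (hv₂ : B v₂ v₂ = 0) (h12 : B v v₂ = 1)
    (hzv : B z v = 0) (hzv₂ : B z v₂ = 0) (hz : B z z ≠ 0) :
    ∃ e d : L, e ≠ 0 ∧ d ≠ 0 ∧ mu (ρ e *ᵥ v) = mu (ρ d *ᵥ v₂) := by
  have h2 := two_ne_zero_L S
  have h11 : (1 : L) + 1 ≠ 0 := by rw [one_add_one_eq_two]; exact h2
  have hpp : -(B z z / 2) + -(B z z / 2) ≠ 0 := by
    have : -(B z z / 2) + -(B z z / 2) = -(B z z) := by field_simp; ring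
    rw [this]
    exact neg_ne_zero.mpr hz
  refine ⟨1 + 1, -(B z z / 2) + -(B z z / 2), h11, hpp, ?_⟩
  exact (pair_step S mu hmu hb hv hv₂ h12 hzv hzv₂ hz (c := 1) (c' := 1)
      (p := -(B z z / 2)) (p' := -(B z z / 2)) h11
      (by field_simp; ring) (by field_simp; ring) hpp).2

/-- `mu v = mu v₂` for a hyperbolic pair, and `mu` is constant on both `L`-points -/
theorem pair_eq (S : OStr ρ Q τ B) {g : GL ι F} {a : L} (mu : (ι → F) → L)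
    (hmu : ∀ x, LSing B x → act g (ρ a *ᵥ x) = ρ (mu x) *ᵥ act g x)
    (hb : ∀ x, LSing B x → ∀ c : L, ∃ c', act g (ρ c' *ᵥ x) = ρ c *ᵥ act g x)
    (hL : ∀ e e' : L, ∃ c, c ≠ 0 ∧ c ≠ e ∧ c ≠ e')
    {v v₂ z : ι → F} (hv : B v v = 0) (hv₂ : B v₂ v₂ = 0) (h12 : B v v₂ = 1)
    (hzv : B z v = 0) (hzv₂ : B z v₂ = 0) (hz : B z z ≠ 0) :
    mu v = mu v₂ ∧ (∀ e : L, e ≠ 0 → mu (ρ e *ᵥ v) = mu v) ∧
      (∀ e : L, e ≠ 0 → mu (ρ e *ᵥ v₂) = mu v₂) := by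
  have h21 : B v₂ v = 1 := by rw [S.symm, h12]
  have c1 : ∀ e : L, e ≠ 0 → mu (ρ e *ᵥ v) = mu v := by
    intro e he
    have := pair_const S mu hmu hb hL hv hv₂ h12 hzv hzv₂ hz he one_ne_zero
    rw [rho_one_mulVec] at this
    exact this
  have c2 : ∀ e : L, e ≠ 0 → mu (ρ e *ᵥ v₂) = mu v₂ := by
    intro e he
    have := pair_const S mu hmu hb hL hv₂ hv h21 hzv₂ hzv hz he one_ne_zero
    rw [rho_one_mulVec] at this
    exact this
  obtain ⟨e, d, he, hd, hed⟩ := pair_link S mu hmu hb hv hv₂ h12 hzv hzv₂ hz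
  refine ⟨?_, c1, c2⟩
  rw [← c1 e he, hed, c2 d hd]

/-- `mu` is constant on the singular vectors -/
theorem mu_const (S : OStr ρ Q τ B) (hrk : finrank F L = r) (hr : 0 < r)
    (hn : 4 * r ≤ Fintype.card ι) {g : GL ι F} {a : L} (mu : (ι → F) → L)
    (hmu : ∀ x, LSing B x → act g (ρ a *ᵥ x) = ρ (mu x) *ᵥ act g x)
    (hb : ∀ x, LSing B x → ∀ c : L, ∃ c', act g (ρ c' *ᵥ x) = ρ c *ᵥ act g x)
    (hL : ∀ e e' : L, ∃ c, c ≠ 0 ∧ c ≠ e ∧ c ≠ e')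
    {v v' : ι → F} (hv : LSing B v) (hv' : LSing B v') : mu v = mu v' := by
  by_cases hb0 : B v v' = 0
  · by_cases hmem : ∃ e : L, v' = ρ e *ᵥ v
    · obtain ⟨e, rfl⟩ := hmem
      have he : e ≠ 0 := by
        rintro rfl
        exact hv'.1 (rho_zero_mulVec ρ v)
      obtain ⟨v₂, hv₂, h12⟩ := exists_partner' S hv
      obtain ⟨z, hzv, hzv₂, hz⟩ := exists_perp_nonsing S hrk hr hn hv.2 hv₂.2 h12
      exact ((pair_eq S mu hmu hb hL hv.2 hv₂.2 h12 hzv hzv₂ hz).2.1 e he).symm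
    · have hind : Ind2 ρ v v' := by
        intro c₁ c₂ h0
        have hc₂ : c₂ = 0 := by
          by_contra hc₂
          apply hmem
          refine ⟨-(c₂⁻¹ * c₁), ?_⟩
          have h1 : ρ c₂ *ᵥ v' = -(ρ c₁ *ᵥ v) := by
            rw [eq_neg_iff_add_eq_zero, add_comm]
            exact h0
          have h2 : v' = ρ c₂⁻¹ *ᵥ (ρ c₂ *ᵥ v') := by
            rw [← rho_mul_mulVec, inv_mul_cancel₀ hc₂, rho_one_mulVec]
          rw [h2, h1, Matrix.mulVec_neg, rho_neg_mulVec, rho_mul_mulVec]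
        rw [hc₂, rho_zero_mulVec, add_zero] at h0
        exact ⟨rho_eq_zero ρ hv.1 h0, hc₂⟩
      have hsum : LSing B (v + v') := by
        constructor
        · intro h0
          have := hind 1 1 (by rw [rho_one_mulVec, rho_one_mulVec]; exact h0)
          exact one_ne_zero this.1
        · have hb0' : B v' v = 0 := by rw [S.symm, hb0]
          simp only [map_add, LinearMap.add_apply, hv.2, hv'.2, hb0, hb0', add_zero]
      obtain ⟨e1, e2⟩ := rel3 hv.1 hv'.1 (hb _ hv) (hb _ hv') hind (hmu _ hv) (hmu _ hv')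
        (hmu _ hsum)
      rw [e1, e2]
  · have hv₂ : LSing B (ρ (B v v')⁻¹ *ᵥ v') := lsing_smul S hv' (inv_ne_zero hb0)
    have h12 : B v (ρ (B v v')⁻¹ *ᵥ v') = 1 := by
      rw [B_lin_right S, inv_mul_cancel₀ hb0]
    obtain ⟨z, hzv, hzv₂, hz⟩ := exists_perp_nonsing S hrk hr hn hv.2 hv₂.2 h12
    obtain ⟨e1, -, e3⟩ := pair_eq S mu hmu hb hL hv.2 hv₂.2 h12 hzv hzv₂ hz
    have := e3 (B v v') hb0
    rw [← rho_mul_mulVec, mul_inv_cancel₀ hb0, rho_one_mulVec] at this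
    rw [e1, this]

/-- FO-A with the spanning property of singular vectors (FO-G8) as a hypothesis -/
theorem normalizes_of_pts_aux (S : OStr ρ Q τ B) (hrk : finrank F L = r) (hr : 0 < r)
    (hn : 4 * r ≤ Fintype.card ι)
    (hspan : ∀ φ : (ι → F) →ₗ[F] F, φ ≠ 0 → ∃ s, LSing B s ∧ φ s ≠ 0)
    (g : GL ι F) (h : ∀ v, LSing B v → ∃ v', Img ρ g v = pt ρ v') : Normalizes ρ g := by
  intro a
  by_cases hr1 : r = 1
  · have htop : (⊥ : Subalgebra F L) = ⊤ :=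
      Subalgebra.bot_eq_top_of_finrank_eq_one (by rw [hrk, hr1])
    have ha : a ∈ (⊥ : Subalgebra F L) := by rw [htop]; exact Algebra.mem_top
    obtain ⟨c, rfl⟩ := Algebra.mem_bot.mp ha
    refine ⟨algebraMap F L c, ?_⟩
    rw [AlgHom.commutes, Algebra.commutes]
  have hr2 : 2 ≤ r := by omega
  -- `L` has at least four elements
  have hL : ∀ e e' : L, ∃ c, c ≠ 0 ∧ c ≠ e ∧ c ≠ e' := by
    have : Module.Finite F L := Module.finite_of_finrank_pos (by omega)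
    have : Finite L := Module.finite_of_finite F
    have : Fintype L := Fintype.ofFinite L
    have hF : 2 < Fintype.card F := by
      rw [Fintype.two_lt_card_iff]
      refine ⟨0, 1, 2, zero_ne_one, Ne.symm S.two, ?_⟩
      intro h12
      apply one_ne_zero (α := F)
      linear_combination h12.symm
    have hcard : 9 ≤ Fintype.card L := by
      rw [Module.card_eq_pow_finrank (K := F) (V := L), hrk]
      calc 9 = 3 ^ 2 := by norm_num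
        _ ≤ Fintype.card F ^ 2 := Nat.pow_le_pow_left hF 2
        _ ≤ Fintype.card F ^ r := Nat.pow_le_pow_right (by omega) hr2
    intro e e'
    classical
    by_contra hcon
    push Not at hcon
    have hsub : (Finset.univ : Finset L) ⊆ {0, e, e'} := by
      intro c _
      by_cases h0 : c = 0
      · simp [h0]
      · by_cases h1 : c = e
        · simp [h1]
        · simp [hcon c h0 h1]
    have := Finset.card_le_card hsub
    have h3 : ({0, e, e'} : Finset L).card ≤ 3 := Finset.card_le_three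
    rw [Finset.card_univ] at this
    omega
  have hgood : ∀ x, LSing B x → Good ρ g x := fun x hx => good_of_pts hx.1 (h x hx)
  have hex : ∀ x, ∃ m, LSing B x → act g (ρ a *ᵥ x) = ρ m *ᵥ act g x := by
    intro x
    by_cases hx : LSing B x
    · obtain ⟨m, hm⟩ := (hgood x hx).fwd a
      exact ⟨m, fun _ => hm⟩
    · exact ⟨0, fun h => absurd h hx⟩
  choose mu hmu using hex
  have hb : ∀ x, LSing B x → ∀ c : L, ∃ c', act g (ρ c' *ᵥ x) = ρ c *ᵥ act g x :=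
    fun x hx => (hgood x hx).bwd
  have hconst : ∀ v v', LSing B v → LSing B v' → mu v = mu v' :=
    fun v v' hv hv' => mu_const S hrk hr hn mu hmu hb hL hv hv'
  obtain ⟨i⟩ : Nonempty ι := by
    rw [← Fintype.card_pos_iff]
    omega
  obtain ⟨s₀, hs₀, -⟩ := hspan (LinearMap.proj i) (by
    intro h0
    have := congrArg (fun f => f (Pi.single i 1)) h0
    simp at this)
  refine ⟨mu s₀, ?_⟩
  have hall : ∀ x, act g (ρ a *ᵥ x) = ρ (mu s₀) *ᵥ act g x := by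
    by_contra hcon
    push Not at hcon
    obtain ⟨x, hx⟩ := hcon
    let D : (ι → F) →ₗ[F] (ι → F) :=
      actL g ∘ₗ Matrix.mulVecLin (ρ a) - Matrix.mulVecLin (ρ (mu s₀)) ∘ₗ actL g
    have hD : ∀ y, D y = act g (ρ a *ᵥ y) - ρ (mu s₀) *ᵥ act g y := fun y => rfl
    have hDx : D x ≠ 0 := by
      rw [hD]
      exact sub_ne_zero.mpr hx
    obtain ⟨j, hj⟩ : ∃ j, D x j ≠ 0 := by
      by_contra hc
      push Not at hc
      exact hDx (funext hc)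
    obtain ⟨s, hs, hφs⟩ := hspan (LinearMap.proj j ∘ₗ D) (by
      intro h0
      apply hj
      have := congrArg (fun f => f x) h0
      simpa using this)
    apply hφs
    rw [LinearMap.comp_apply, hD, hmu s hs, hconst s s₀ hs hs₀, sub_self]
    rfl
  apply Matrix.toLin'.injective
  apply LinearMap.ext
  intro x
  rw [Matrix.toLin'_apply, Matrix.toLin'_apply, ← Matrix.mulVec_mulVec, ← Matrix.mulVec_mulVec]
  exact hall x

end Cfsg.H5.S5701A
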