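import Mathlib
import Cfsg.Agent.Lib.Helper9.OExtDefs
import Cfsg.Agent.Lib.Helper26.S5701FOGEOb
import Cfsg.Agent.H5.S5701FOA

/-!
# S5701 FO-A (helper5, for architect helper9): `normalizes_of_pts`, exact skeleton signature

`Cfsg.H5.S5701A.normalizes_of_pts_aux` with `hspan` supplied by helper26's `lsing_span` (FO-G8).
-/

set_option autoImplicit false

namespace Cfsg.H5.S5701AFinal

open Matrix Module QuadraticMap Cfsg.Agent.Lib.Helper7.SpExt Cfsg.Agent.Lib.Helper9.OExt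

variable {F : Type*} [Field F] [Fintype F] {L : Type*} [Field L] [Algebra F L] {ι : Type}
  [Fintype ι] [DecidableEq ι] {ρ : L →ₐ[F] Matrix ι ι F} {Q : QuadraticForm F (ι → F)}
  {τ : L →ₗ[F] F} {B : (ι → F) →ₗ[F] (ι → F) →ₗ[F] L} {r : ℕ}

theorem normalizes_of_pts (S : OStr ρ Q τ B) (hrk : finrank F L = r) (hr : 0 < r)
    (hn : 4 * r ≤ Fintype.card ι) (g : GL ι F)
    (h : ∀ v, LSing B v → ∃ v', Img ρ g v = pt ρ v') : Normalizes ρ g :=
  Cfsg.H5.S5701A.normalizes_of_pts_aux S hrk hr hn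
    (Cfsg.Agent.Lib.Helper26.S5701GEO.lsing_span S hrk hr hn) g h

end Cfsg.H5.S5701AFinal
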