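import Mathlib

/-!
# S5701 FO-C2 (helper5, for helper9's skeleton): the Chevalley–Warning determinant lemma

A `k × k` matrix whose entries are (linear + quadratic) in `w ∈ W`, `2k < dim W`, over a finite
field, is singular for some `w ≠ 0`.
-/

set_option autoImplicit false

namespace Cfsg.H5.S5701C2

open Module MvPolynomial

variable {F : Type*} [Field F]

/-- the entry polynomial -/
noncomputable def entryPoly {W : Type*} [AddCommGroup W] [Module F W] {N : ℕ} (e : Fin N → W)
    (l : W →ₗ[F] F) (b : W →ₗ[F] W →ₗ[F] F) : MvPolynomial (Fin N) F :=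
  ∑ n, C (l (e n)) * X n + ∑ n, ∑ m, C (b (e m) (e n)) * X n * X m

theorem eval_entryPoly {W : Type*} [AddCommGroup W] [Module F W] {N : ℕ} (e : Fin N → W)
    (l : W →ₗ[F] F) (b : W →ₗ[F] W →ₗ[F] F) (x : Fin N → F) :
    eval x (entryPoly e l b) = l (∑ n, x n • e n) + b (∑ n, x n • e n) (∑ n, x n • e n) := by
  unfold entryPoly
  simp only [map_add, map_sum, map_mul, eval_C, eval_X, map_smul, smul_eq_mul,
    LinearMap.sum_apply, LinearMap.smul_apply]
  congr 1
  · apply Finset.sum_congr rfl
    intro n _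
    ring
  · apply Finset.sum_congr rfl
    intro n _
    rw [Finset.mul_sum]
    apply Finset.sum_congr rfl
    intro m _
    ring

theorem totalDegree_entryPoly {W : Type*} [AddCommGroup W] [Module F W] {N : ℕ} (e : Fin N → W)
    (l : W →ₗ[F] F) (b : W →ₗ[F] W →ₗ[F] F) : (entryPoly e l b).totalDegree ≤ 2 := by
  unfold entryPoly
  refine (totalDegree_add _ _).trans (max_le ?_ ?_)
  · apply totalDegree_finsetSum_le
    intro n _
    refine (totalDegree_mul _ _).trans ?_
    rw [totalDegree_C, totalDegree_X]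
    omega
  · apply totalDegree_finsetSum_le
    intro n _
    apply totalDegree_finsetSum_le
    intro m _
    refine (totalDegree_mul _ _).trans ?_
    have h1 := totalDegree_mul (C (b (e m) (e n))) (X n : MvPolynomial (Fin N) F)
    rw [totalDegree_C, totalDegree_X] at h1
    rw [totalDegree_X]
    omega

theorem totalDegree_det_le {N k : ℕ} (P : Matrix (Fin k) (Fin k) (MvPolynomial (Fin N) F))
    (hP : ∀ i j, (P i j).totalDegree ≤ 2) : P.det.totalDegree ≤ 2 * k := by
  rw [Matrix.det_apply]
  apply totalDegree_finsetSum_le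
  intro σ _
  refine (totalDegree_smul_le _ _).trans ?_
  refine (totalDegree_finsetProd _ _).trans ?_
  calc ∑ i : Fin k, (P (σ i) i).totalDegree ≤ ∑ _i : Fin k, 2 :=
        Finset.sum_le_sum (fun i _ => hP _ _)
    _ = 2 * k := by simp [mul_comm]

/-- FO-C2 -/
theorem cw_det [Fintype F] {W : Type*} [AddCommGroup W] [Module F W] [Module.Finite F W] {k : ℕ} (hk : 0 < k)
    (hdim : 2 * k < finrank F W) (ℓ : Fin k → Fin k → W →ₗ[F] F)
    (b : Fin k → Fin k → W →ₗ[F] W →ₗ[F] F) :
    ∃ w : W, w ≠ 0 ∧ Matrix.det (Matrix.of fun i j => ℓ i j w + b i j w w) = 0 := by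
  classical
  obtain ⟨N, hN⟩ : ∃ N, N = finrank F W := ⟨_, rfl⟩
  let e : Basis (Fin N) F W := (Module.finBasis F W).reindex (finCongr hN.symm)
  let P : Matrix (Fin k) (Fin k) (MvPolynomial (Fin N) F) :=
    Matrix.of fun i j => entryPoly (fun n => e n) (ℓ i j) (b i j)
  have hev : ∀ x : Fin N → F, eval x P.det =
      Matrix.det (Matrix.of fun i j => ℓ i j (∑ n, x n • e n) +
        b i j (∑ n, x n • e n) (∑ n, x n • e n)) := by
    intro x
    rw [RingHom.map_det]
    congr 1
    ext i j
    simp only [RingHom.mapMatrix_apply, Matrix.map_apply, Matrix.of_apply, P]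
    exact eval_entryPoly _ _ _ x
  have hdeg : P.det.totalDegree < Fintype.card (Fin N) := by
    rw [Fintype.card_fin]
    have h1 : P.det.totalDegree ≤ 2 * k := by
      apply totalDegree_det_le P
      intro i j
      exact totalDegree_entryPoly _ _ _
    omega
  obtain ⟨p, hp⟩ := CharP.exists F
  have := hp
  have hprime : p.Prime := by
    rcases CharP.char_is_prime_or_zero F p with h | h
    · exact h
    · exfalso
      have : CharP F 0 := h ▸ hp
      have := CharP.charP_to_charZero F
      exact not_finite F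
  have hdvd := char_dvd_card_solutions p hdeg
  -- `0` is a solution
  have h0 : eval (0 : Fin N → F) P.det = 0 := by
    rw [hev]
    have : (Matrix.of fun i j : Fin k => ℓ i j (∑ n, (0 : Fin N → F) n • e n) +
        b i j (∑ n, (0 : Fin N → F) n • e n) (∑ n, (0 : Fin N → F) n • e n)) = 0 := by
      ext i j
      simp
    rw [this]
    have : Nonempty (Fin k) := ⟨⟨0, hk⟩⟩
    exact Matrix.det_zero
  -- a second solution
  have hcard : 1 < Fintype.card { x : Fin N → F // eval x P.det = 0 } := by
    have hpos : 0 < Fintype.card { x : Fin N → F // eval x P.det = 0 } :=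
      Fintype.card_pos_iff.mpr ⟨⟨0, h0⟩⟩
    have := Nat.le_of_dvd hpos hdvd
    exact lt_of_lt_of_le hprime.one_lt this
  obtain ⟨⟨x, hx⟩, ⟨y, hy⟩, hxy⟩ := Fintype.one_lt_card_iff.mp hcard
  -- one of them is nonzero
  obtain ⟨z, hz, hz0⟩ : ∃ z : Fin N → F, eval z P.det = 0 ∧ z ≠ 0 := by
    by_cases hx0 : x = 0
    · refine ⟨y, hy, ?_⟩
      intro hy0
      apply hxy
      rw [Subtype.mk.injEq, hx0, hy0]
    · exact ⟨x, hx, hx0⟩
  refine ⟨∑ n, z n • e n, ?_, ?_⟩
  · intro h
    apply hz0
    have := (Fintype.linearIndependent_iff.mp e.linearIndependent) z h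
    exact funext this
  · rw [← hev]
    exact hz

end Cfsg.H5.S5701C2
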