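import Mathlib
import Cfsg.Agent.Lib.Helper3.SpTDefs
import Cfsg.Agent.Lib.Helper3.SpTL1

/-!
# S5704 FO-STRUCT (helper5, for architect helper3)

The elements of `N0 ∩ O(Q)` lying in the radical of `Stab(U ⊗ w0)`:
`n = gE 1 w0 w'' * rootW w0 c` with `w'' ⊥ w0, w0'`.
Exact signature of the stub `Cfsg.Agent.Lib.Helper3.SpT.kron_rad_struct` (layer 4).
-/

set_option autoImplicit false
set_option linter.unusedSectionVars false
set_option linter.unusedVariables false

namespace Cfsg.H5.S5704STRUCT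

open Matrix Module QuadraticMap
open scoped Kronecker commutatorElement
open Cfsg.Agent.Lib.Helper16.Tens
open Cfsg.Agent.Lib.Helper3.SpT

variable {F : Type*} [Field F] {a b : ℕ} {J1 : Matrix (Fin a) (Fin a) F}
  {J2 : Matrix (Fin b) (Fin b) F} {Q : QuadraticForm F (Fin a × Fin b → F)}

/-- a symplectic matrix fixing `w0` and acting trivially on `w0^⊥ / ⟨w0⟩` -/
theorem sp_struct (hJ2 : SympG J2) (w0 w0' : Fin b → F) (h00' : bf J2 w0 w0' = 1)
    (B : Matrix (Fin b) (Fin b) F) (hB0 : B *ᵥ w0 = w0)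
    (hiso : ∀ x x', bf J2 (B *ᵥ x) (B *ᵥ x') = bf J2 x x')
    (hmod : ∀ x, bf J2 x w0 = 0 → ∃ φ : F, B *ᵥ x - x = φ • w0) :
    ∃ (w'' : Fin b → F) (c : F), bf J2 w0 w'' = 0 ∧ bf J2 w0' w'' = 0 ∧
      B = 1 + E J2 w0 w'' + E J2 w'' w0 + c • E J2 w0 w0 := by
  set y : Fin b → F := B *ᵥ w0' - w0' with hy
  set s : F := bf J2 y w0' with hs
  have hBw0' : B *ᵥ w0' = w0' + y := by rw [hy]; abel
  have h0y : bf J2 w0 y = 0 := by
    have h := hiso w0 w0'
    rw [hB0, hBw0', bf_add_right, h00'] at h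
    linear_combination h
  have h0'0 : bf J2 w0' w0 = -1 := by rw [hJ2.skew, h00']
  have h0'y : bf J2 w0' y = -s := by rw [hJ2.skew]
  have hy0 : bf J2 y w0 = 0 := hJ2.eq_zero_comm h0y
  refine ⟨-y + s • w0, -s, ?_, ?_, ?_⟩
  · rw [bf_add_right, bf_neg_right, bf_smul_right, h0y, hJ2.alt]; ring
  · rw [bf_add_right, bf_neg_right, bf_smul_right, h0'y, h0'0]; ring
  · apply mat_ext_mulVec
    intro x
    set t : F := bf J2 w0 x with ht
    have hx0 : bf J2 x w0 = -t := by rw [hJ2.skew]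
    have hperp : bf J2 (x - t • w0') w0 = 0 := by
      rw [bf_sub_left, bf_smul_left, hx0, h0'0]; ring
    obtain ⟨φ, hφ⟩ := hmod _ hperp
    have hBx0 : B *ᵥ (x - t • w0') = (x - t • w0') + φ • w0 := by
      rw [← hφ]; abel
    have hφv : φ = -bf J2 x y - s * t := by
      have h := hiso (x - t • w0') w0'
      rw [hBx0, hBw0', bf_add_left, bf_add_right, bf_add_right, bf_smul_left, bf_smul_left, h00', h0y,
        bf_sub_left, bf_sub_left, bf_smul_left, bf_smul_left, hJ2.alt, h0'y] at h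
      linear_combination h
    have hBx : B *ᵥ x = x + φ • w0 + t • y := by
      have : x = (x - t • w0') + t • w0' := by abel
      calc B *ᵥ x = B *ᵥ ((x - t • w0') + t • w0') := by rw [← this]
        _ = B *ᵥ (x - t • w0') + t • (B *ᵥ w0') := by rw [Matrix.mulVec_add, Matrix.mulVec_smul]
        _ = x + φ • w0 + t • y := by rw [hBx0, hBw0', smul_add]; abel
    rw [hBx, Matrix.add_mulVec, Matrix.add_mulVec, Matrix.add_mulVec, Matrix.one_mulVec, Matrix.smul_mulVec,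
      E_mulVec, E_mulVec, E_mulVec, bf_add_right, bf_neg_right, bf_smul_right, hx0, hφv]
    module

/-- the matrix of `gE 1 w0 w'' * rootW w0 c` -/
theorem gE_mul_rootW_val (hJ1 : SympG J1) (hJ2 : SympG J2) (w0 w'' : Fin b → F) (c : F) (h : bf J2 w0 w'' = 0) :
    ((gE J1 J2 hJ2 1 w0 w'' h * rootW J2 hJ2 w0 c : GL (Fin a × Fin b) F) :
        Matrix (Fin a × Fin b) (Fin a × Fin b) F) =
      (1 : Matrix (Fin a) (Fin a) F) ⊗ₖ (1 + E J2 w0 w'' + E J2 w'' w0 + c • E J2 w0 w0) := by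
  have h1 : E J2 w0 w'' * E J2 w0 w0 = 0 := by rw [E_mul_E, h, zero_smul]
  have h2 : E J2 w'' w0 * E J2 w0 w0 = 0 := by rw [E_mul_E, hJ2.alt, zero_smul]
  rw [Units.val_mul, gE_val, rootW, zA_val, TE, adj_one hJ1, Matrix.kronecker_add, Matrix.kronecker_add,
    Matrix.kronecker_add, Matrix.one_kronecker_one, Matrix.smul_kronecker, Matrix.kronecker_smul]
  rw [mul_add, mul_one, add_mul, add_mul, one_mul, Matrix.mul_smul, Matrix.mul_smul,
    ← Matrix.mul_kronecker_mul, ← Matrix.mul_kronecker_mul, h1, h2, Matrix.kronecker_zero]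
  simp only [smul_zero, add_zero]
  abel

/-- **FO-STRUCT**: the elements of `N0 ∩ O(Q)` in the radical of `Stab(U ⊗ w0)` -/
theorem kron_rad_struct (hS : Setup J1 J2 Q) (ha : 1 ≤ a) (w0 w0' : Fin b → F) (h00' : bf J2 w0 w0' = 1)
    (n : GL (Fin a × Fin b) F) (hn : n ∈ Cfsg.Geo.kroneckerSubgroup a b F)
    (hni : n ∈ Cfsg.isometryGroup F (⇑Q)) (hr : InRad J2 w0 n) :
    ∃ (w'' : Fin b → F) (c : F) (h : bf J2 w0 w'' = 0), bf J2 w0' w'' = 0 ∧
      n = gE J1 J2 hS.h2 1 w0 w'' h * rootW J2 hS.h2 w0 c := by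
  have hJ1 := hS.h1
  have hJ2 := hS.h2
  obtain ⟨A, B, hAB⟩ := (mem_kron_iff n).mp hn
  -- a non-zero vector of `U`
  set i0 : Fin a := ⟨0, ha⟩ with hi0
  set e0 : Fin a → F := Pi.single i0 1 with he0
  have he0i : e0 i0 = 1 := by rw [he0, Pi.single_eq_same]
  have he0ne : e0 ≠ 0 := by
    intro h
    have := congrFun h i0
    rw [he0i, Pi.zero_apply] at this
    exact one_ne_zero this
  have hactAB : ∀ (u : Fin a → F) (x : Fin b → F),
      act n (pur u x) = pur ((A : Matrix (Fin a) (Fin a) F) *ᵥ u) ((B : Matrix (Fin b) (Fin b) F) *ᵥ x) := by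
    intro u x
    rw [act_apply, hAB, kron_mulVec_pur]
  -- step 1: `A` is a scalar
  set ψ : Fin b → F := J2 *ᵥ w0' with hψ
  have hw0ψ : w0 ⬝ᵥ ψ = 1 := h00'
  set μ : F := ((B : Matrix (Fin b) (Fin b) F) *ᵥ w0) ⬝ᵥ ψ with hμ
  have hAu : ∀ u : Fin a → F, μ • ((A : Matrix (Fin a) (Fin a) F) *ᵥ u) = u := by
    intro u
    have h := hr.fixL (pur u w0) ⟨u, rfl⟩
    rw [hactAB] at h
    have h' := congrArg (ctr ψ) h
    rw [ctr_pur, ctr_pur, hw0ψ, one_smul] at h'
    exact h'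
  have hμ0 : μ ≠ 0 := by
    intro h
    have := hAu e0
    rw [h, zero_smul] at this
    exact he0ne this.symm
  have hA : (A : Matrix (Fin a) (Fin a) F) = μ⁻¹ • (1 : Matrix (Fin a) (Fin a) F) := by
    apply mat_ext_mulVec
    intro u
    rw [Matrix.smul_mulVec, Matrix.one_mulVec]
    conv_rhs => rw [← hAu u]
    rw [smul_smul, inv_mul_cancel₀ hμ0, one_smul]
  set B' : Matrix (Fin b) (Fin b) F := μ⁻¹ • (B : Matrix (Fin b) (Fin b) F) with hB'
  have hn1 : (n : Matrix (Fin a × Fin b) (Fin a × Fin b) F) = (1 : Matrix (Fin a) (Fin a) F) ⊗ₖ B' := by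
    rw [hAB, hA, hB', Matrix.smul_kronecker, Matrix.kronecker_smul]
  have hact : ∀ (u : Fin a → F) (x : Fin b → F), act n (pur u x) = pur u (B' *ᵥ x) := by
    intro u x
    rw [act_apply, hn1, kron_mulVec_pur, Matrix.one_mulVec]
  -- step 2: `B' w0 = w0`
  have hB0 : B' *ᵥ w0 = w0 := by
    have h := hr.fixL (pur e0 w0) ⟨e0, rfl⟩
    rw [hact] at h
    exact purR_injective he0ne h
  -- step 3: `B'` is symplectic
  obtain ⟨u', hu'⟩ : ∃ u' : Fin a → F, bf J1 e0 u' ≠ 0 := by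
    by_contra hcon
    push Not at hcon
    exact he0ne (hJ1.nondeg e0 hcon)
  have hiso : ∀ x x', bf J2 (B' *ᵥ x) (B' *ᵥ x') = bf J2 x x' := by
    intro x x'
    have h := hS.polar_act n hni (pur e0 x) (pur u' x')
    rw [hact, hact, bf_kron_pur, bf_kron_pur] at h
    exact mul_left_cancel₀ hu' h
  -- step 4: `B'` is trivial on `w0^⊥ / ⟨w0⟩`
  have hmod : ∀ x, bf J2 x w0 = 0 → ∃ φ : F, B' *ᵥ x - x = φ • w0 := by
    intro x hx
    have hmem : pur e0 x ∈ Pk (a := a) J2 w0 := by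
      unfold Pk
      exact pur_mem_hyp hx e0
    obtain ⟨v, hv⟩ := hr.modL _ hmem
    rw [hact] at hv
    refine ⟨v i0, ?_⟩
    funext j
    have := congrFun hv (i0, j)
    simp only [purL_apply, pur_apply, Pi.sub_apply, he0i, one_mul] at this
    simp only [Pi.sub_apply, Pi.smul_apply, smul_eq_mul]
    exact this.symm
  obtain ⟨w'', c, h1, h2, h3⟩ := sp_struct hJ2 w0 w0' h00' B' hB0 hiso hmod
  refine ⟨w'', c, h1, h2, ?_⟩
  apply Units.ext
  rw [gE_mul_rootW_val hJ1 hJ2, hn1, h3]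

end Cfsg.H5.S5704STRUCT
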