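import Mathlib
import Cfsg.Agent.Lib.Helper3.SpTDefs
import Cfsg.Agent.Lib.Helper3.SpTL1
import Cfsg.Agent.Lib.Helper3.SpTL2
import Cfsg.Agent.Lib.Helper3.SpTL3
import Cfsg.Agent.Lib.Helper3.SpTL3T
import Cfsg.Agent.Lib.Helper10.S5637FORANK

/-!
# S5704 FO-T1 (helper5, for architect helper3): the max-intersection argument

If every element of `M` stabilising the standard subspace `U ⊗ w0` lies in `N0`, then `M ≤ N0`
(`b ≥ a + 2`).  Exact signature of the stub `Cfsg.Agent.Lib.Helper3.SpT.T1` (layer 4).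
-/

set_option autoImplicit false
set_option linter.unusedSectionVars false
set_option linter.unusedVariables false

namespace Cfsg.H5.S5704T1

open Matrix Module QuadraticMap
open scoped Kronecker commutatorElement
open Cfsg.Agent.Lib.Helper16.Tens
open Cfsg.Agent.Lib.Helper23.S5637T3b (kronGL)
open Cfsg.Agent.Lib.Helper3.SpT

variable {F : Type*} [Field F] {a b : ℕ} {J1 : Matrix (Fin a) (Fin a) F}
  {J2 : Matrix (Fin b) (Fin b) F} {Q : QuadraticForm F (Fin a × Fin b → F)}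

/-- the fixed space of `1 ⊗ t_k(c)` is `U ⊗ k^⊥` -/
theorem act_rootW_eq_self_iff (hJ2 : SympG J2) {k : Fin b → F} (hk : k ≠ 0) {c : F} (hc : c ≠ 0)
    (v : Fin a × Fin b → F) :
    act (rootW (a := a) J2 hJ2 k c) v = v ↔ v ∈ Pk (a := a) J2 k := by
  unfold rootW
  rw [act_zA, mem_Pk_iff, add_eq_left]
  constructor
  · intro h
    rcases pur_eq_zero h with h1 | h1
    · rw [Matrix.smul_mulVec, Matrix.one_mulVec] at h1
      exact (smul_eq_zero.mp h1).resolve_left hc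
    · exact absurd h1 hk
  · intro h
    rw [h, Matrix.mulVec_zero, pur_zero_left]

theorem act_inv_eq_self {y : GL (Fin a × Fin b) F} {v : Fin a × Fin b → F} (h : act y v = v) :
    act y⁻¹ v = v := by
  have := act_inv_act y v
  rw [h] at this
  exact this

theorem img_inf (g : GL (Fin a × Fin b) F) (P P' : Submodule F (Fin a × Fin b → F)) :
    img g (P ⊓ P') = img g P ⊓ img g P' := by
  unfold img
  exact Submodule.map_inf _ (act g).injective

/-- the fixed space of a conjugate -/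
theorem ker_conj_rootW (hJ2 : SympG J2) {k : Fin b → F} (hk : k ≠ 0) {c : F} (hc : c ≠ 0)
    (g : GL (Fin a × Fin b) F) :
    LinearMap.ker ((act (g⁻¹ * rootW (a := a) J2 hJ2 k c * g)).toLinearMap - LinearMap.id) =
      img g⁻¹ (Pk (a := a) J2 k) := by
  ext v
  rw [LinearMap.mem_ker, LinearMap.sub_apply, LinearMap.id_apply, sub_eq_zero, LinearEquiv.coe_coe,
    act_mul, act_mul, mem_img_iff, inv_inv, ← act_rootW_eq_self_iff hJ2 hk hc]
  constructor
  · intro h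
    have := congrArg (act g) h
    rw [act_act_inv] at this
    exact this
  · intro h
    rw [h, act_inv_act]

/-- transitivity of `N0 ⊓ Ω` on the standard subspaces transports the hypothesis (A) -/
theorem stab_mem_kron [Fintype F] (hS : Setup J1 J2 Q) (hb : 6 ≤ b)
    (M : Subgroup (GL (Fin a × Fin b) F)) (hM : Cfsg.Agent.Lib.Helper3.SpT.Over Q M)
    (w0 : Fin b → F) (hw0 : w0 ≠ 0)
    (hA : ∀ m ∈ M, img m (Lk w0) = Lk w0 → m ∈ Cfsg.Geo.kroneckerSubgroup a b F)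
    {k k'' : Fin b → F} (hk : k ≠ 0) (hk'' : k'' ≠ 0) {m : GL (Fin a × Fin b) F} (hm : m ∈ M)
    (h : img m (Lk k) = Lk k'') : m ∈ Cfsg.Geo.kroneckerSubgroup a b F := by
  obtain ⟨n₁, hn₁k, hn₁O, hn₁⟩ := exists_kron_img_Lk hS hb w0 k hw0 hk
  obtain ⟨n₂, hn₂k, hn₂O, hn₂⟩ := exists_kron_img_Lk hS hb k'' w0 hk'' hw0
  have hmem : n₂ * m * n₁ ∈ M :=
    M.mul_mem (M.mul_mem (hM.kron_mem n₂ hn₂k hn₂O) hm) (hM.kron_mem n₁ hn₁k hn₁O)
  have hst : img (n₂ * m * n₁) (Lk w0) = Lk w0 := by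
    rw [img_mul, img_mul, hn₁, h, hn₂]
  have h3 := hA _ hmem hst
  have h4 : m = n₂⁻¹ * (n₂ * m * n₁) * n₁⁻¹ := by group
  rw [h4]
  exact Subgroup.mul_mem _ (Subgroup.mul_mem _ (Subgroup.inv_mem _ hn₂k) h3)
    (Subgroup.inv_mem _ hn₁k)

/-- (E1): conjugates of root elements by elements outside `N0` are outside `N0` -/
theorem conj_rootW_not_mem_kron [Fintype F] (hS : Setup J1 J2 Q) (ha : 1 ≤ a) (hab : a + 2 ≤ b)
    (hb : 6 ≤ b) (M : Subgroup (GL (Fin a × Fin b) F))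
    (hM : Cfsg.Agent.Lib.Helper3.SpT.Over Q M) (w0 : Fin b → F) (hw0 : w0 ≠ 0)
    (hA : ∀ m ∈ M, img m (Lk w0) = Lk w0 → m ∈ Cfsg.Geo.kroneckerSubgroup a b F)
    {g : GL (Fin a × Fin b) F} (hg : g ∈ M) (hgN : g ∉ Cfsg.Geo.kroneckerSubgroup a b F)
    {k : Fin b → F} (hk : k ≠ 0) {c : F} (hc : c ≠ 0) :
    g⁻¹ * rootW (a := a) J2 hS.h2 k c * g ∉ Cfsg.Geo.kroneckerSubgroup a b F := by
  intro hn
  have hker := ker_conj_rootW (a := a) hS.h2 hk hc g
  have hfr : finrank F ↥(img g⁻¹ (Pk (a := a) J2 k)) + a = a * b := by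
    rw [finrank_img]
    exact finrank_Pk hS.h2 hk
  obtain ⟨ψ, hψ, hker'⟩ := Cfsg.Agent.Lib.Helper10.S5637FORANK.exists_hyp_of_kron ha
    (by omega : a < b) _ hn (by rw [hker]; exact hfr)
  rw [hker] at hker'
  -- `ψ = J2 *ᵥ k''`
  have hdet : IsUnit J2.det := hS.h2.isUnit_det
  have hψ' : J2 *ᵥ (J2⁻¹ *ᵥ ψ) = ψ := by
    rw [Matrix.mulVec_mulVec, Matrix.mul_nonsing_inv J2 hdet, Matrix.one_mulVec]
  have hk'' : J2⁻¹ *ᵥ ψ ≠ 0 := by
    intro h0
    rw [h0, Matrix.mulVec_zero] at hψ'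
    exact hψ hψ'.symm
  have hP : img g⁻¹ (Pk (a := a) J2 k) = Pk (a := a) J2 (J2⁻¹ *ᵥ ψ) := by
    rw [hker']
    unfold Pk
    rw [hψ']
  have hP' : img g (Pk (a := a) J2 (J2⁻¹ *ᵥ ψ)) = Pk (a := a) J2 k := by
    rw [← hP, ← img_mul, mul_inv_cancel, img_one]
  have hgiso : g ∈ Cfsg.isometryGroup F (⇑Q) := Om_le_iso (hM.le_Om hg)
  have hL := hS.img_Lk_of_Pk g hgiso _ k hk'' hk hP'
  exact hgN (stab_mem_kron hS hb M hM w0 hw0 hA hk'' hk hg hL)

/-- the linear map `k ↦ (ctr (J2 *ᵥ k) l, f₂(k, k0))` -/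
noncomputable def ctrMap (J2 : Matrix (Fin b) (Fin b) F) (l : Fin a × Fin b → F) (k0 : Fin b → F) :
    (Fin b → F) →ₗ[F] (Fin a → F) × F where
  toFun k := (ctr (J2 *ᵥ k) l, bf J2 k k0)
  map_add' k k' := by
    rw [Matrix.mulVec_add, ctr_add, bf_add_left]
    rfl
  map_smul' c k := by
    rw [Matrix.mulVec_smul, ctr_smul, bf_smul_left]
    rfl

/-- **T1** (max-intersection argument) -/
theorem T1 [Fintype F] (hS : Setup J1 J2 Q) (ha : 1 ≤ a) (hab : a + 2 ≤ b) (hb : 6 ≤ b)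
    (M : Subgroup (GL (Fin a × Fin b) F)) (hM : Cfsg.Agent.Lib.Helper3.SpT.Over Q M)
    (w0 : Fin b → F) (hw0 : w0 ≠ 0)
    (hA : ∀ m ∈ M, img m (Lk w0) = Lk w0 → m ∈ Cfsg.Geo.kroneckerSubgroup a b F) :
    M ≤ Cfsg.Geo.kroneckerSubgroup a b F := by
  by_contra hcon
  rw [SetLike.not_le_iff_exists] at hcon
  obtain ⟨g1, hg1, hg1N⟩ := hcon
  have hex : ∃ n : ℕ, ∃ (k0 k' : Fin b → F) (g : GL (Fin a × Fin b) F), k0 ≠ 0 ∧ k' ≠ 0 ∧ g ∈ M ∧
      g ∉ Cfsg.Geo.kroneckerSubgroup a b F ∧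
      a - finrank F ↥(img g (Lk (F := F) (a := a) k') ⊓ Lk k0) = n :=
    ⟨_, w0, w0, g1, hw0, hw0, hg1, hg1N, rfl⟩
  classical
  obtain ⟨k0, k', g, hk0, hk', hg, hgN, hn⟩ := Nat.find_spec hex
  have hbound : ∀ (k0' k'' : Fin b → F) (g' : GL (Fin a × Fin b) F), k0' ≠ 0 →
      finrank F ↥(img g' (Lk (F := F) (a := a) k'') ⊓ Lk k0') ≤ a := by
    intro k0' k'' g' h1
    have := Submodule.finrank_mono
      (inf_le_right : img g' (Lk (F := F) (a := a) k'') ⊓ Lk k0' ≤ Lk k0')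
    rw [finrank_Lk h1] at this
    exact this
  have hmin : ∀ (k0' k'' : Fin b → F) (g' : GL (Fin a × Fin b) F), k0' ≠ 0 → k'' ≠ 0 → g' ∈ M →
      g' ∉ Cfsg.Geo.kroneckerSubgroup a b F →
      finrank F ↥(img g' (Lk (F := F) (a := a) k'') ⊓ Lk k0') ≤
        finrank F ↥(img g (Lk (F := F) (a := a) k') ⊓ Lk k0) := by
    intro k0' k'' g' h1 h2 h3 h4
    have h5 := Nat.find_min' hex ⟨k0', k'', g', h1, h2, h3, h4, rfl⟩
    rw [← hn] at h5
    have hx := hbound k0 k' g hk0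
    have hy := hbound k0' k'' g' h1
    omega
  have hgiso : g ∈ Cfsg.isometryGroup F (⇑Q) := Om_le_iso (hM.le_Om hg)
  -- Step 1
  have hstep1 : ∀ k : Fin b → F, k ≠ 0 → bf J2 k k0 = 0 →
      img g (Lk (F := F) (a := a) k') ⊓ Pk (a := a) J2 k ≤
        img g (Lk (F := F) (a := a) k') ⊓ Lk k0 := by
    intro k hk hkk0
    have hyM : rootW (a := a) J2 hS.h2 k 1 ∈ M :=
      hM.kron_mem _ (rootW_mem_kron hS.h2 k 1) (rootW_mem_Om hS hb k 1)
    have hconjN := conj_rootW_not_mem_kron hS ha hab hb M hM w0 hw0 hA hg hgN hk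
      (one_ne_zero (α := F))
    have hconjM : g⁻¹ * rootW (a := a) J2 hS.h2 k 1 * g ∈ M :=
      M.mul_mem (M.mul_mem (M.inv_mem hg) hyM) hg
    have h1 := hmin k' k' _ hk' hk' hconjM hconjN
    have h2 : img g (img (g⁻¹ * rootW (a := a) J2 hS.h2 k 1 * g) (Lk (F := F) (a := a) k') ⊓ Lk k')
        = img (rootW (a := a) J2 hS.h2 k 1) (img g (Lk (F := F) (a := a) k')) ⊓
          img g (Lk (F := F) (a := a) k') := by
      have hgrp : g * (g⁻¹ * rootW (a := a) J2 hS.h2 k 1 * g) = rootW (a := a) J2 hS.h2 k 1 * g := by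
        group
      rw [img_inf, ← img_mul, hgrp, img_mul]
    have hfixLk : ∀ v ∈ Lk (F := F) (a := a) k0, act (rootW (a := a) J2 hS.h2 k 1) v = v := by
      intro v hv
      obtain ⟨u, rfl⟩ := (mem_Lk_iff k0 v).mp hv
      rw [act_rootW_eq_self_iff hS.h2 hk one_ne_zero]
      exact pur_mem_Pk u (hS.h2.eq_zero_comm hkk0)
    have hI_le : img g (Lk (F := F) (a := a) k') ⊓ Lk k0 ≤
        img (rootW (a := a) J2 hS.h2 k 1) (img g (Lk (F := F) (a := a) k')) ⊓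
          img g (Lk (F := F) (a := a) k') := by
      intro v hv
      refine ⟨(mem_img_iff _ _ _).mpr ?_, hv.1⟩
      rw [act_inv_eq_self (hfixLk v hv.2)]
      exact hv.1
    have heq : img g (Lk (F := F) (a := a) k') ⊓ Lk k0 =
        img (rootW (a := a) J2 hS.h2 k 1) (img g (Lk (F := F) (a := a) k')) ⊓
          img g (Lk (F := F) (a := a) k') := by
      apply Submodule.eq_of_le_of_finrank_le hI_le
      rw [← h2, finrank_img]
      exact h1
    intro v hv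
    rw [heq]
    refine ⟨(mem_img_iff _ _ _).mpr ?_, hv.1⟩
    rw [act_inv_eq_self ((act_rootW_eq_self_iff hS.h2 hk one_ne_zero v).mpr hv.2)]
    exact hv.1
  -- Step 2
  have hne : img g (Lk (F := F) (a := a) k') ≠ Lk k0 := fun h =>
    hgN (stab_mem_kron hS hb M hM w0 hw0 hA hk' hk0 hg h)
  obtain ⟨l, hlL', hl⟩ : ∃ l ∈ img g (Lk (F := F) (a := a) k'), l ∉ Lk (F := F) (a := a) k0 := by
    by_contra hc
    push Not at hc
    apply hne
    apply Submodule.eq_of_le_of_finrank_eq hc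
    rw [finrank_img, finrank_Lk hk', finrank_Lk hk0]
  have hker : LinearMap.ker (ctrMap J2 l k0) ≠ ⊥ := by
    apply LinearMap.ker_ne_bot_of_finrank_lt
    rw [Module.finrank_prod, Module.finrank_fintype_fun_eq_card, Module.finrank_fintype_fun_eq_card,
      Module.finrank_self, Fintype.card_fin, Fintype.card_fin]
    omega
  obtain ⟨k, hkmem, hk⟩ := Submodule.exists_mem_ne_zero_of_ne_bot hker
  rw [LinearMap.mem_ker] at hkmem
  have hk1 : ctr (J2 *ᵥ k) l = 0 := congrArg Prod.fst hkmem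
  have hk2 : bf J2 k k0 = 0 := congrArg Prod.snd hkmem
  have hlP : l ∈ Pk (a := a) J2 k := (mem_Pk_iff k l).mpr hk1
  exact hl (hstep1 k hk hk2 ⟨hlL', hlP⟩).2

end Cfsg.H5.S5704T1
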