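import Mathlib
import Cfsg.Prelude.Def_GeometricClasses
import Cfsg.Agent.Lib.Helper28.Hes64Defs

/-!
# S5781 FO-HE (helper28's farm-out, part 2): monomial matrices of determinant one normalise `R64 F`, `|F| = 5`  (helper5)
-/

set_option autoImplicit false
set_option linter.unusedSectionVars false
set_option linter.unusedVariables false

namespace Cfsg.H5.S5781HE

open Cfsg Cfsg.Geo
open Cfsg.Agent.Lib.Helper28.Hes64
open scoped MatrixGroups Matrix

variable {F : Type*} [Field F]

theorem pow_four_eq_one [Fintype F] (hq : Fintype.card F = 5) (x : F) (hx : x ≠ 0) : x ^ 4 = 1 := by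
  have h := FiniteField.pow_card_sub_one_eq_one x hx
  rwa [hq] at h

theorem sgF_val (j a : Fin 4) : sgF F j a = ((sg j a : ℤ) : F) := rfl

/-- the product of a row of the character table is one -/
theorem prod_sgF (j : Fin 4) : ∏ b, sgF F j b = 1 := by
  have h : ∏ b, sg j b = 1 := by revert j; decide
  have h2 := congrArg (fun z : ℤ => (z : F)) h
  simp only [Int.cast_prod, Int.cast_one] at h2
  exact h2

/-- CRITERION: a function on `Fin 4` with constant square and the right product is a multiple of a character -/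
theorem exists_char (d : Fin 4 → F) (h0 : d 0 ≠ 0) (hsq : ∀ b, d b ^ 2 = d 0 ^ 2)
    (hprod : ∏ b, d b = d 0 ^ 4) : ∃ j', ∀ b, d b = d 0 * sgF F j' b := by
  have hpm : ∀ b, d b = d 0 ∨ d b = - d 0 := fun b => sq_eq_sq_iff_eq_or_eq_neg.mp (hsq b)
  rw [Fin.prod_univ_four] at hprod
  have h3 : ∀ e1 e2 : F, d 1 = e1 * d 0 → d 2 = e2 * d 0 → e1 * e1 = 1 → e2 * e2 = 1 →
      d 3 = e1 * e2 * d 0 := by
    intro e1 e2 h1 h2 he1 he2
    rw [h1, h2] at hprod
    have h03 : d 0 ^ 3 ≠ 0 := pow_ne_zero 3 h0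
    have : d 0 ^ 3 * (e1 * e2 * d 3) = d 0 ^ 3 * d 0 := by linear_combination hprod
    have h4 := mul_left_cancel₀ h03 this
    have : d 3 = (e1 * e1) * (e2 * e2) * d 3 := by rw [he1, he2, one_mul, one_mul]
    rw [this]
    linear_combination (e1 * e2) * h4
  have s00 : sg 0 0 = 1 := by decide
  have s01 : sg 0 1 = 1 := by decide
  have s02 : sg 0 2 = 1 := by decide
  have s03 : sg 0 3 = 1 := by decide
  have s10 : sg 1 0 = 1 := by decide
  have s11 : sg 1 1 = -1 := by decide
  have s12 : sg 1 2 = 1 := by decide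
  have s13 : sg 1 3 = -1 := by decide
  have s20 : sg 2 0 = 1 := by decide
  have s21 : sg 2 1 = 1 := by decide
  have s22 : sg 2 2 = -1 := by decide
  have s23 : sg 2 3 = -1 := by decide
  have s30 : sg 3 0 = 1 := by decide
  have s31 : sg 3 1 = -1 := by decide
  have s32 : sg 3 2 = -1 := by decide
  have s33 : sg 3 3 = 1 := by decide
  rcases hpm 1 with h1 | h1 <;> rcases hpm 2 with h2 | h2
  · have h := h3 1 1 (by rw [h1, one_mul]) (by rw [h2, one_mul]) (by ring) (by ring)
    refine ⟨0, fun b => ?_⟩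
    fin_cases b
    · show d 0 = d 0 * sgF F 0 0
      rw [sgF_val, s00]; simp
    · show d 1 = d 0 * sgF F 0 1
      rw [sgF_val, s01, h1]; simp
    · show d 2 = d 0 * sgF F 0 2
      rw [sgF_val, s02, h2]; simp
    · show d 3 = d 0 * sgF F 0 3
      rw [sgF_val, s03, h]; simp
  · have h := h3 1 (-1) (by rw [h1, one_mul]) (by rw [h2]; ring) (by ring) (by ring)
    refine ⟨2, fun b => ?_⟩
    fin_cases b
    · show d 0 = d 0 * sgF F 2 0
      rw [sgF_val, s20]; simp
    · show d 1 = d 0 * sgF F 2 1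
      rw [sgF_val, s21, h1]; simp
    · show d 2 = d 0 * sgF F 2 2
      rw [sgF_val, s22, h2]; simp
    · show d 3 = d 0 * sgF F 2 3
      rw [sgF_val, s23, h]; simp
  · have h := h3 (-1) 1 (by rw [h1]; ring) (by rw [h2, one_mul]) (by ring) (by ring)
    refine ⟨1, fun b => ?_⟩
    fin_cases b
    · show d 0 = d 0 * sgF F 1 0
      rw [sgF_val, s10]; simp
    · show d 1 = d 0 * sgF F 1 1
      rw [sgF_val, s11, h1]; simp
    · show d 2 = d 0 * sgF F 1 2
      rw [sgF_val, s12, h2]; simp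
    · show d 3 = d 0 * sgF F 1 3
      rw [sgF_val, s13, h]; simp
  · have h := h3 (-1) (-1) (by rw [h1]; ring) (by rw [h2]; ring) (by ring) (by ring)
    refine ⟨3, fun b => ?_⟩
    fin_cases b
    · show d 0 = d 0 * sgF F 3 0
      rw [sgF_val, s30]; simp
    · show d 1 = d 0 * sgF F 3 1
      rw [sgF_val, s31, h1]; simp
    · show d 2 = d 0 * sgF F 3 2
      rw [sgF_val, s32, h2]; simp
    · show d 3 = d 0 * sgF F 3 3
      rw [sgF_val, s33, h]; simp

/-- pair products of a `±1`-valued function with product one -/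
theorem pair_const (s : Fin 4 → F) (hs : ∀ a, s a ^ 2 = 1) (hp : ∏ a, s a = 1) (k b : Fin 4) :
    s b * s (xr b k) = s 0 * s k := by
  rw [Fin.prod_univ_four] at hp
  have p01 : s 0 * s 1 = s 2 * s 3 := by
    linear_combination (s 2 * s 3) * hp - (s 0 * s 1) * (hs 2) - (s 0 * s 1 * s 2 ^ 2) * (hs 3)
  have p02 : s 0 * s 2 = s 1 * s 3 := by
    linear_combination (s 1 * s 3) * hp - (s 0 * s 2) * (hs 1) - (s 0 * s 2 * s 1 ^ 2) * (hs 3)
  have p03 : s 0 * s 3 = s 1 * s 2 := by
    linear_combination (s 1 * s 2) * hp - (s 0 * s 3) * (hs 1) - (s 0 * s 3 * s 1 ^ 2) * (hs 2)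
  have x10 : xr 1 1 = 0 := by decide
  have x20 : xr 2 1 = 3 := by decide
  have x30 : xr 3 1 = 2 := by decide
  have y1 : xr 1 2 = 3 := by decide
  have y2 : xr 2 2 = 0 := by decide
  have y3 : xr 3 2 = 1 := by decide
  have z1 : xr 1 3 = 2 := by decide
  have z2 : xr 2 3 = 1 := by decide
  have z3 : xr 3 3 = 0 := by decide
  fin_cases k
  · show s b * s (xr b 0) = s 0 * s 0
    rw [xr_zero]
    linear_combination hs b - hs 0
  · show s b * s (xr b 1) = s 0 * s 1
    fin_cases b
    · show s 0 * s (xr 0 1) = s 0 * s 1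
      rw [zero_xr]
    · show s 1 * s (xr 1 1) = s 0 * s 1
      rw [x10]; ring
    · show s 2 * s (xr 2 1) = s 0 * s 1
      rw [x20]; linear_combination -p01
    · show s 3 * s (xr 3 1) = s 0 * s 1
      rw [x30]; linear_combination -p01
  · show s b * s (xr b 2) = s 0 * s 2
    fin_cases b
    · show s 0 * s (xr 0 2) = s 0 * s 2
      rw [zero_xr]
    · show s 1 * s (xr 1 2) = s 0 * s 2
      rw [y1]; linear_combination -p02
    · show s 2 * s (xr 2 2) = s 0 * s 2
      rw [y2]; ring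
    · show s 3 * s (xr 3 2) = s 0 * s 2
      rw [y3]; linear_combination -p02
  · show s b * s (xr b 3) = s 0 * s 3
    fin_cases b
    · show s 0 * s (xr 0 3) = s 0 * s 3
      rw [zero_xr]
    · show s 1 * s (xr 1 3) = s 0 * s 3
      rw [z1]; linear_combination -p03
    · show s 2 * s (xr 2 3) = s 0 * s 3
      rw [z2]; linear_combination -p03
    · show s 3 * s (xr 3 3) = s 0 * s 3
      rw [z3]; ring

/-- the determinant of a monomial matrix -/
theorem det_mono (π : Equiv.Perm (Fin 4)) (n : Fin 4 → F) :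
    (mono π n).det = ((Equiv.Perm.sign π.symm : ℤˣ) : ℤ) * ∏ a, n a := by
  have h : mono π n = (Matrix.diagonal n).submatrix π.symm id := by
    ext a a'
    rw [mono_apply, Matrix.submatrix_apply, id_eq, Matrix.diagonal_apply]
    by_cases h : a = π a'
    · rw [if_pos h, if_pos (by rw [h, Equiv.symm_apply_apply]), h, Equiv.symm_apply_apply]
    · rw [if_neg h, if_neg (by
        intro h'
        apply h
        rw [← h', Equiv.apply_symm_apply])]
  rw [h, Matrix.det_permute, Matrix.det_diagonal]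

/-- the key computation: a monomial matrix with `(∏ n)^2 = 1` conjugates `hm c j k` into the group -/
theorem mono_mul_hm [Fintype F] (hq : Fintype.card F = 5) (π : Equiv.Perm (Fin 4)) (n : Fin 4 → F)
    (hn : ∀ a, n a ≠ 0) (hprod : (∏ a, n a) ^ 2 = 1) (c : F) (hc : c ≠ 0) (j k : Fin 4) :
    ∃ (c' : F) (j' k' : Fin 4), c' ≠ 0 ∧ mono π n * hm c j k = hm c' j' k' * mono π n := by
  obtain ⟨k', hk'⟩ := perm_conj_tau π k
  set d : Fin 4 → F := fun β => c * sgF F j (π.symm β) * n (π.symm β) / n (xr (π.symm β) k) with hd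
  have hdne : ∀ β, d β ≠ 0 := by
    intro β
    rw [hd]
    exact div_ne_zero (mul_ne_zero (mul_ne_zero hc (sgF_ne_zero _ _)) (hn _)) (hn _)
  -- the squares
  set s : Fin 4 → F := fun a => n a ^ 2 with hs
  have hs2 : ∀ a, s a ^ 2 = 1 := by
    intro a
    rw [hs]
    show (n a ^ 2) ^ 2 = 1
    rw [← pow_mul]
    exact pow_four_eq_one hq _ (hn a)
  have hsp : ∏ a, s a = 1 := by
    rw [hs]
    show ∏ a, n a ^ 2 = 1
    rw [Finset.prod_pow]; exact hprod
  have hdsq : ∀ β, d β ^ 2 = c ^ 2 * (s 0 * s k) := by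
    intro β
    have h1 := pair_const s hs2 hsp k (π.symm β)
    rw [hd]
    show (c * sgF F j (π.symm β) * n (π.symm β) / n (xr (π.symm β) k)) ^ 2 = c ^ 2 * (s 0 * s k)
    rw [← h1, hs]
    show _ = c ^ 2 * (n (π.symm β) ^ 2 * n (xr (π.symm β) k) ^ 2)
    have hx := hn (xr (π.symm β) k)
    have hx4 := pow_four_eq_one hq _ hx
    have hsg := sgF_sq (F := F) j (π.symm β)
    rw [div_pow, div_eq_iff (pow_ne_zero 2 hx)]
    linear_combination (c ^ 2 * n (π.symm β) ^ 2) * hsg -
      (c ^ 2 * n (π.symm β) ^ 2) * hx4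
  have hdprod : ∏ β, d β = 1 := by
    rw [← Equiv.prod_comp π d]
    have h1 : ∀ b, d (π b) = c * sgF F j b * n b / n (xr b k) := by
      intro b
      rw [hd]
      show c * sgF F j (π.symm (π b)) * n (π.symm (π b)) / n (xr (π.symm (π b)) k) = _
      rw [Equiv.symm_apply_apply]
    simp_rw [h1]
    rw [Finset.prod_div_distrib, Finset.prod_mul_distrib, Finset.prod_mul_distrib, Finset.prod_const,
      Finset.card_univ, Fintype.card_fin, prod_sgF, mul_one, pow_four_eq_one hq c hc, one_mul]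
    have h2 : ∏ b, n (xr b k) = ∏ b, n b := Equiv.prod_comp (tau k) n
    rw [h2]
    exact div_self (by
      intro h0
      rw [h0] at hprod
      simp at hprod)
  obtain ⟨j', hj'⟩ := exists_char d (hdne 0) (fun b => by rw [hdsq, hdsq])
    (by rw [hdprod, pow_four_eq_one hq _ (hdne 0)])
  refine ⟨d 0, j', k', hdne 0, ?_⟩
  rw [hm_eq_mono, hm_eq_mono, mono_mul, mono_mul]
  have hperm : π * tau k = tau k' * π := by
    ext a
    simp only [Equiv.Perm.mul_apply, tau_apply]
    rw [hk' a]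
  rw [hperm]
  congr 1
  funext a'
  simp only [tau_apply]
  have h1 : xr (π a') k' = π (xr a' k) := (hk' a').symm
  rw [h1, ← hj' (π (xr a' k)), hd]
  show n (xr a' k) * (c * sgF F j (xr a' k)) =
    c * sgF F j (π.symm (π (xr a' k))) * n (π.symm (π (xr a' k))) / n (xr (π.symm (π (xr a' k))) k) * n a'
  rw [Equiv.symm_apply_apply, xr_xr_cancel, div_mul_cancel₀ _ (hn a')]
  ring

/-- one half of the normaliser condition -/
theorem conj_mem [Fintype F] (hq : Fintype.card F = 5) (N : GL (Fin 4) F) (π : Equiv.Perm (Fin 4))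
    (h1 : ∀ a a', a ≠ π a' → (N : Matrix (Fin 4) (Fin 4) F) a a' = 0)
    (hdet : (N : Matrix (Fin 4) (Fin 4) F).det = 1) (M : GL (Fin 4) F) (hM : M ∈ R64 F) :
    N * M * N⁻¹ ∈ R64 F := by
  set n : Fin 4 → F := fun a' => (N : Matrix (Fin 4) (Fin 4) F) (π a') a' with hn
  have hN : (N : Matrix (Fin 4) (Fin 4) F) = mono π n := by
    ext a a'
    rw [mono_apply]
    by_cases h : a = π a'
    · rw [if_pos h, h]
    · rw [if_neg h]; exact h1 a a' h
  have hd := hdet
  rw [hN, det_mono] at hd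
  have hsign : (((Equiv.Perm.sign π.symm : ℤˣ) : ℤ) : F) ^ 2 = 1 := by
    rw [← Int.cast_pow, ← Units.val_pow_eq_pow_val, Int.units_sq, Units.val_one, Int.cast_one]
  have hprod : (∏ a, n a) ^ 2 = 1 := by
    have h2 : ((((Equiv.Perm.sign π.symm : ℤˣ) : ℤ) : F) * ∏ a, n a) ^ 2 = 1 := by rw [hd, one_pow]
    rw [mul_pow, hsign, one_mul] at h2
    exact h2
  have hne : ∀ a, n a ≠ 0 := by
    have h0 : ∏ a, n a ≠ 0 := by
      intro h0
      rw [h0] at hprod
      simp at hprod
    intro a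
    exact (Finset.prod_ne_zero_iff.mp h0) a (Finset.mem_univ a)
  obtain ⟨c, j, k, rfl⟩ := hM
  obtain ⟨c', j', k', hc', heq⟩ := mono_mul_hm hq π n hne hprod (c : F) c.ne_zero j k
  have : N * hg c j k * N⁻¹ = hg (Units.mk0 c' hc') j' k' := by
    rw [mul_inv_eq_iff_eq_mul]
    apply Units.ext
    rw [Units.val_mul, Units.val_mul, hg_val, hg_val, Units.val_mk0, hN]
    exact heq
  rw [this]
  exact hg_mem _ _ _

/-- FO-HE: over the field with five elements every monomial matrix of determinant one normalises `R64 F` -/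
theorem mono_mem_normalizer [Fintype F] (hq : Fintype.card F = 5) (N : GL (Fin 4) F) (π : Equiv.Perm (Fin 4))
    (h1 : ∀ a a', a ≠ π a' → (N : Matrix (Fin 4) (Fin 4) F) a a' = 0)
    (h2 : ∀ a a', a ≠ π.symm a' → ((N⁻¹ : GL (Fin 4) F) : Matrix (Fin 4) (Fin 4) F) a a' = 0)
    (hdet : (N : Matrix (Fin 4) (Fin 4) F).det = 1) : N ∈ subgroupNormalizer (R64 F) := by
  unfold subgroupNormalizer
  rw [Subgroup.mem_set_normalizer_iff]
  have hdet' : ((N⁻¹ : GL (Fin 4) F) : Matrix (Fin 4) (Fin 4) F).det = 1 := by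
    have h : (N : Matrix (Fin 4) (Fin 4) F).det * ((N⁻¹ : GL (Fin 4) F) : Matrix (Fin 4) (Fin 4) F).det = 1 := by
      rw [← Matrix.det_mul, ← Units.val_mul, mul_inv_cancel, Units.val_one, Matrix.det_one]
    rw [hdet, one_mul] at h
    exact h
  intro M
  constructor
  · intro hM
    exact conj_mem hq N π h1 hdet M hM
  · intro hM
    have h := conj_mem hq N⁻¹ π.symm h2 hdet' _ hM
    rw [inv_inv] at h
    have e : N⁻¹ * (N * M * N⁻¹) * N = M := by group
    rw [e] at h
    exact h

end Cfsg.H5.S5781HE
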