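import Mathlib
import Cfsg.Prelude.Def_GeometricClasses
import Cfsg.Agent.Lib.Helper13.DecompCoords
import Cfsg.Agent.H5.HubCorP3

/-!
# S5781 FO-Q3 (helper28's farm-out): two planes over the field with three elements  (helper5)

`decomp_two_planes_card_three`: for `|F| = 3` and a decomposition `D` of `F^4` into two planes, the stabiliser of `D` in
`SL_4(F)` lies in the similarity group of a symplectic form (the orthogonal sum of the two area forms).
-/

set_option autoImplicit false
set_option linter.unusedSectionVars false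
set_option linter.unusedVariables false

namespace Cfsg.H5.S5781Q3

open Cfsg Cfsg.Geo
open Cfsg.Agent.Lib.Helper13.TNM
open scoped MatrixGroups Matrix

variable {F : Type*} [Field F]

/-- the orthogonal sum of the area forms of the two coordinate planes -/
def phi (x y : Fin 2 × Fin 2 → F) : F := ∑ i : Fin 2, (x (i, 0) * y (i, 1) - x (i, 1) * y (i, 0))

theorem phi_add_left (x y v : Fin 2 × Fin 2 → F) : phi (x + y) v = phi x v + phi y v := by
  simp only [phi, Fin.sum_univ_two, Pi.add_apply]; ring

theorem phi_smul_left (c : F) (x v : Fin 2 × Fin 2 → F) : phi (c • x) v = c * phi x v := by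
  simp only [phi, Fin.sum_univ_two, Pi.smul_apply, smul_eq_mul]; ring

theorem phi_skew (x y : Fin 2 × Fin 2 → F) : phi x y = - phi y x := by
  simp only [phi, Fin.sum_univ_two]; ring

theorem phi_self (x : Fin 2 × Fin 2 → F) : phi x x = 0 := by
  simp only [phi, Fin.sum_univ_two]; ring

theorem phi_single_zero (i : Fin 2) (y : Fin 2 × Fin 2 → F) :
    phi (Pi.single (i, 0) 1) y = y (i, 1) := by
  unfold phi
  rw [Finset.sum_eq_single i]
  · rw [Pi.single_eq_same, Pi.single_eq_of_ne (by simp), one_mul, zero_mul, sub_zero]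
  · intro j _ hj
    rw [Pi.single_eq_of_ne (by simp [hj]), Pi.single_eq_of_ne (by simp [hj]), zero_mul, zero_mul, sub_zero]
  · intro h; exact absurd (Finset.mem_univ i) h

theorem phi_single_one (i : Fin 2) (y : Fin 2 × Fin 2 → F) :
    phi (Pi.single (i, 1) 1) y = - y (i, 0) := by
  unfold phi
  rw [Finset.sum_eq_single i]
  · rw [Pi.single_eq_same, Pi.single_eq_of_ne (by simp), one_mul, zero_mul, zero_sub]
  · intro j _ hj
    rw [Pi.single_eq_of_ne (by simp [hj]), Pi.single_eq_of_ne (by simp [hj]), zero_mul, zero_mul, sub_zero]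
  · intro h; exact absurd (Finset.mem_univ i) h

/-- the inverse of `TT e P` -/
def back {ι κ : Type} [Fintype ι] [DecidableEq ι] [Fintype κ] [DecidableEq κ] (e : ι ≃ κ) (P : GL ι F)
    (u : ι → F) : κ → F := (((P⁻¹ : GL ι F) : Matrix ι ι F) *ᵥ u) ∘ e.symm

section back
variable {ι κ : Type} [Fintype ι] [DecidableEq ι] [Fintype κ] [DecidableEq κ] (e : ι ≃ κ) (P : GL ι F)

theorem TT_back (u : ι → F) : TT e P (back e P u) = u := by
  unfold TT back
  have : ((((P⁻¹ : GL ι F) : Matrix ι ι F) *ᵥ u) ∘ e.symm) ∘ e = ((P⁻¹ : GL ι F) : Matrix ι ι F) *ᵥ u := by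
    funext i; simp
  rw [this, Matrix.mulVec_mulVec, ← Units.val_mul, mul_inv_cancel, Units.val_one, Matrix.one_mulVec]

theorem back_TT (x : κ → F) : back e P (TT e P x) = x :=
  TT_injective e P (TT_back e P _)

theorem back_add (u v : ι → F) : back e P (u + v) = back e P u + back e P v := by
  apply TT_injective e P
  rw [TT_add, TT_back, TT_back, TT_back]

theorem back_smul (c : F) (u : ι → F) : back e P (c • u) = c • back e P u := by
  apply TT_injective e P
  rw [TT_smul, TT_back, TT_back]

theorem back_mulVec (M : GL κ F) (u : ι → F) :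
    back e P (((psi e P M : GL ι F) : Matrix ι ι F) *ᵥ u) = (M : Matrix κ κ F) *ᵥ back e P u := by
  apply TT_injective e P
  rw [TT_back, ← psi_mulVec, TT_back]

theorem back_ne_zero {u : ι → F} (hu : u ≠ 0) : back e P u ≠ 0 := by
  intro h
  apply hu
  rw [← TT_back e P u, h]
  unfold TT
  have : (0 : κ → F) ∘ e = 0 := rfl
  rw [this, Matrix.mulVec_zero]

end back

/-- the transported form -/
def form (e : Fin 4 ≃ Fin 2 × Fin 2) (P : GL (Fin 4) F) (u v : Fin 4 → F) : F :=
  phi (back e P u) (back e P v)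

theorem form_symplectic (e : Fin 4 ≃ Fin 2 × Fin 2) (P : GL (Fin 4) F) :
    IsSymplecticForm (form (F := F) e P) where
  bilinear :=
    { add_left := fun x y v => by unfold form; rw [back_add, phi_add_left]
      smul_left := fun c x v => by unfold form; rw [back_smul, phi_smul_left]
      add_right := fun v x y => by
        unfold form
        rw [back_add, phi_skew, phi_add_left, phi_skew (back e P v) (back e P x),
          phi_skew (back e P v) (back e P y)]
        ring
      smul_right := fun c v x => by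
        unfold form
        rw [back_smul, phi_skew, phi_smul_left, phi_skew (back e P v) (back e P x)]
        ring }
  skew := fun v w => by unfold form; exact phi_skew _ _
  alternating := fun v => by unfold form; exact phi_self _
  nondegenerate := by
    intro v hv
    have h0 := back_ne_zero e P hv
    have hex : ∃ a : Fin 2 × Fin 2, back e P v a ≠ 0 := by
      by_contra hcon
      push Not at hcon
      exact h0 (funext hcon)
    obtain ⟨⟨i, a⟩, ha⟩ := hex
    have key : ∃ x : Fin 2 × Fin 2 → F, phi x (back e P v) ≠ 0 := by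
      have ha' : a = 0 ∨ a = 1 := by omega
      rcases ha' with rfl | rfl
      · exact ⟨Pi.single (i, 1) 1, by rw [phi_single_one]; exact neg_ne_zero.mpr ha⟩
      · exact ⟨Pi.single (i, 0) 1, by rw [phi_single_zero]; exact ha⟩
    obtain ⟨x, hx⟩ := key
    refine ⟨⟨TT e P x, ?_⟩, ⟨TT e P x, ?_⟩⟩
    · unfold form; rw [back_TT]; exact hx
    · unfold form; rw [back_TT, phi_skew]; exact neg_ne_zero.mpr hx

/-- the area identity for a `2 × 2` matrix -/
theorem area_mulVec (B : Matrix (Fin 2) (Fin 2) F) (u v : Fin 2 → F) :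
    (B *ᵥ u) 0 * (B *ᵥ v) 1 - (B *ᵥ u) 1 * (B *ᵥ v) 0 = B.det * (u 0 * v 1 - u 1 * v 0) := by
  simp only [Matrix.mulVec, dotProduct, Fin.sum_univ_two, Matrix.det_fin_two]
  ring

/-- in the field with three elements a non-zero element has square one -/
theorem sq_eq_one_of_card_three [Fintype F] (hq : Fintype.card F = 3) (c : F) (hc : c ≠ 0) : c ^ 2 = 1 := by
  have h := FiniteField.pow_card_sub_one_eq_one c hc
  rwa [hq] at h

section block
variable (M : Matrix (Fin 2 × Fin 2) (Fin 2 × Fin 2) F) (π : Equiv.Perm (Fin 2))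

/-- the blocks of a block monomial matrix -/
def blockOf (i : Fin 2) : Matrix (Fin 2) (Fin 2) F := fun a c => M (i, a) (π.symm i, c)

theorem mulVec_block (hM : ∀ a a' : Fin 2 × Fin 2, a.1 ≠ π a'.1 → M a a' = 0) (x : Fin 2 × Fin 2 → F)
    (i a : Fin 2) : (M *ᵥ x) (i, a) = (blockOf M π i *ᵥ fun c => x (π.symm i, c)) a := by
  simp only [Matrix.mulVec, dotProduct, blockOf]
  rw [Fintype.sum_prod_type]
  rw [Finset.sum_eq_single (π.symm i)]
  · intro j _ hj
    apply Finset.sum_eq_zero
    intro c _
    rw [hM (i, a) (j, c) (by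
      intro h
      apply hj
      simp only at h
      rw [h, Equiv.symm_apply_apply]), zero_mul]
  · intro h; exact absurd (Finset.mem_univ _) h

theorem phi_mulVec (hM : ∀ a a' : Fin 2 × Fin 2, a.1 ≠ π a'.1 → M a a' = 0) (d : F)
    (hd : ∀ i, (blockOf M π i).det = d) (x y : Fin 2 × Fin 2 → F) :
    phi (M *ᵥ x) (M *ᵥ y) = d * phi x y := by
  unfold phi
  rw [Finset.mul_sum, ← Equiv.sum_comp π.symm (fun j => d * (x (j, 0) * y (j, 1) - x (j, 1) * y (j, 0)))]
  apply Finset.sum_congr rfl
  intro i _
  rw [mulVec_block M π hM x, mulVec_block M π hM x, mulVec_block M π hM y, mulVec_block M π hM y,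
    area_mulVec, hd]

theorem det_block (hM : ∀ a a' : Fin 2 × Fin 2, a.1 ≠ π a'.1 → M a a' = 0) :
    M.det = (blockOf M π 0).det * (blockOf M π 1).det := by
  set σ : Equiv.Perm (Fin 2 × Fin 2) := Equiv.prodCongrLeft (fun _ : Fin 2 => π.symm) with hσ
  have hsign : Equiv.Perm.sign σ = 1 := by
    rw [hσ, Equiv.Perm.sign_prodCongrLeft, Fin.prod_univ_two]
    exact Int.units_mul_self _
  have h1 : (M.submatrix id σ).det = M.det := by
    rw [Matrix.det_permute', hsign]
    simp
  have h2 : (M.submatrix id σ).submatrix (Equiv.prodComm (Fin 2) (Fin 2)) (Equiv.prodComm (Fin 2) (Fin 2)) =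
      Matrix.blockDiagonal (blockOf M π) := by
    ext ⟨a, k⟩ ⟨c, i⟩
    rw [Matrix.blockDiagonal_apply']
    simp only [Matrix.submatrix_apply, id_eq, Equiv.prodComm_apply, Prod.swap_prod_mk, hσ,
      Equiv.prodCongrLeft_apply]
    by_cases hki : k = i
    · subst hki
      rw [if_pos rfl]
      rfl
    · rw [if_neg hki]
      apply hM
      simp only
      rw [Equiv.apply_symm_apply]
      exact hki
  rw [← h1, ← Matrix.det_submatrix_equiv_self (Equiv.prodComm (Fin 2) (Fin 2)), h2, Matrix.det_blockDiagonal,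
    Fin.prod_univ_two]

end block

/-- FO-Q3 -/
theorem decomp_two_planes_card_three [Fintype F] (hq : Fintype.card F = 3)
    (D : Fin 2 → Submodule F (Fin 4 → F)) (hD : IsMDecomposition 2 D) :
    ∃ f : (Fin 4 → F) → (Fin 4 → F) → F, IsSymplecticForm f ∧
      decompositionStabilizer D ⊓ specialLinear (Fin 4) F ≤ similarityGroup f := by
  obtain ⟨e, P, hcoord⟩ := exists_coords_of_decomposition D hD
  refine ⟨form e P, form_symplectic e P, ?_⟩
  rintro g ⟨hgD, hgS⟩
  obtain ⟨M, rfl⟩ := psi_surjective e P g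
  have hMD : M ∈ decompositionStabilizer (blk (F := F) (Prod.fst : Fin 2 × Fin 2 → Fin 2)) :=
    (psi_mem_decStab_iff e P D Prod.fst hcoord M).mp hgD
  obtain ⟨π, hπ, -⟩ := exists_perm_inv_of_mem_decStab Prod.fst M hMD
  have hdet : (M : Matrix (Fin 2 × Fin 2) (Fin 2 × Fin 2) F).det = 1 := by
    have h1 := (Cfsg.Agent.Lib.Helper15.MonoMax.mem_SL_iff).mp hgS
    have h2 := Cfsg.H5.HubCor.det_conj_reindex e.symm P M
    rw [← h2]
    exact h1
  have hprod := det_block (M : Matrix (Fin 2 × Fin 2) (Fin 2 × Fin 2) F) π hπ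
  rw [hdet] at hprod
  set d0 := (blockOf (M : Matrix (Fin 2 × Fin 2) (Fin 2 × Fin 2) F) π 0).det with hd0
  set d1 := (blockOf (M : Matrix (Fin 2 × Fin 2) (Fin 2 × Fin 2) F) π 1).det with hd1
  have hd1ne : d1 ≠ 0 := by
    intro h; rw [h, mul_zero] at hprod; exact one_ne_zero hprod
  have hd0ne : d0 ≠ 0 := by
    intro h; rw [h, zero_mul] at hprod; exact one_ne_zero hprod
  have hsq := sq_eq_one_of_card_three hq d1 hd1ne
  have h01 : d0 = d1 := by
    have : d0 = d0 * d1 ^ 2 := by rw [hsq, mul_one]
    rw [this, pow_two, ← mul_assoc, ← hprod, one_mul]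
  have hall : ∀ i, (blockOf (M : Matrix (Fin 2 × Fin 2) (Fin 2 × Fin 2) F) π i).det = d0 := by
    intro i
    have hi : i = 0 ∨ i = 1 := by omega
    rcases hi with rfl | rfl
    · rfl
    · exact h01.symm
  refine ⟨Units.mk0 d0 hd0ne, fun u v => ?_⟩
  unfold form
  rw [back_mulVec, back_mulVec, phi_mulVec _ π hπ d0 hall, Units.val_mk0]

end Cfsg.H5.S5781Q3
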