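import Mathlib
import Cfsg.Prelude.Def_GeometricClasses
import Cfsg.Agent.Lib.Helper24.S5876Defs

/-!
# S5876 FO-P4 (helper5, for helper24's skeleton): the commutator inequality for fixed spaces
-/

set_option autoImplicit false

namespace Cfsg.H5.S5876P4

open Matrix Module Cfsg.Agent.Lib.Helper24.S5876

variable {F : Type*} [Field F] {n : ℕ}

theorem gl_inv_mulVec_mulVec (x : GL (Fin n) F) (v : Fin n → F) :
    ((x⁻¹ : GL (Fin n) F) : Matrix (Fin n) (Fin n) F) *ᵥ ((x : Matrix (Fin n) (Fin n) F) *ᵥ v) = v := by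
  rw [mulVec_mulVec, ← Units.val_mul, inv_mul_cancel, Units.val_one, one_mulVec]

theorem gl_mulVec_inv_mulVec (x : GL (Fin n) F) (v : Fin n → F) :
    (x : Matrix (Fin n) (Fin n) F) *ᵥ (((x⁻¹ : GL (Fin n) F) : Matrix (Fin n) (Fin n) F) *ᵥ v) = v := by
  rw [mulVec_mulVec, ← Units.val_mul, mul_inv_cancel, Units.val_one, one_mulVec]

/-- the fixed space of a conjugate is the translate of the fixed space -/
theorem fixS_conj (g x : GL (Fin n) F) :
    fixS (x * g * x⁻¹) = (fixS g).map (Matrix.toLin' (x : Matrix (Fin n) (Fin n) F)) := by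
  ext v
  rw [Submodule.mem_map, mem_fixS]
  constructor
  · intro hv
    refine ⟨((x⁻¹ : GL (Fin n) F) : Matrix (Fin n) (Fin n) F) *ᵥ v, ?_, ?_⟩
    · rw [mem_fixS]
      have h1 : ((x⁻¹ : GL (Fin n) F) : Matrix (Fin n) (Fin n) F) *ᵥ
          (((x * g * x⁻¹ : GL (Fin n) F) : Matrix (Fin n) (Fin n) F) *ᵥ v) =
          ((x⁻¹ : GL (Fin n) F) : Matrix (Fin n) (Fin n) F) *ᵥ v := by rw [hv]
      rw [Units.val_mul, Units.val_mul, ← mulVec_mulVec, ← mulVec_mulVec, gl_inv_mulVec_mulVec] at h1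
      exact h1
    · rw [Matrix.toLin'_apply, gl_mulVec_inv_mulVec]
  · rintro ⟨w, hw, rfl⟩
    rw [mem_fixS] at hw
    rw [Matrix.toLin'_apply, Units.val_mul, Units.val_mul, ← mulVec_mulVec, ← mulVec_mulVec,
      gl_inv_mulVec_mulVec, hw]

theorem toLin'_gl_injective (x : GL (Fin n) F) :
    Function.Injective (Matrix.toLin' (x : Matrix (Fin n) (Fin n) F)) := by
  intro v w h
  rw [Matrix.toLin'_apply, Matrix.toLin'_apply] at h
  have := congrArg (fun u => ((x⁻¹ : GL (Fin n) F) : Matrix (Fin n) (Fin n) F) *ᵥ u) h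
  simpa only [gl_inv_mulVec_mulVec] using this

theorem finrank_fixS_conj (g x : GL (Fin n) F) :
    finrank F (fixS (x * g * x⁻¹)) = finrank F (fixS g) := by
  rw [fixS_conj]
  exact (LinearEquiv.finrank_eq
    (Submodule.equivMapOfInjective _ (toLin'_gl_injective x) (fixS g))).symm

theorem inf_fixS_le (g h : GL (Fin n) F) : fixS g ⊓ fixS h ≤ fixS (g⁻¹ * h) := by
  intro v hv
  rw [Submodule.mem_inf, mem_fixS, mem_fixS] at hv
  rw [mem_fixS, Units.val_mul, ← mulVec_mulVec, hv.2]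
  nth_rewrite 1 [← hv.1]
  exact gl_inv_mulVec_mulVec g v

/-- FO-P4: the commutator inequality -/
theorem finrank_fix_comm (g x : GL (Fin n) F) :
    2 * finrank F (fixS g) ≤ n + finrank F (fixS (g⁻¹ * (x * g * x⁻¹))) := by
  have h1 := Submodule.finrank_sup_add_finrank_inf_eq (fixS g) (fixS (x * g * x⁻¹))
  rw [finrank_fixS_conj] at h1
  have h2 : finrank F ↥(fixS g ⊔ fixS (x * g * x⁻¹)) ≤ n := by
    have := Submodule.finrank_le (fixS g ⊔ fixS (x * g * x⁻¹))
    rwa [Module.finrank_fin_fun] at this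
  have h3 : finrank F ↥(fixS g ⊓ fixS (x * g * x⁻¹)) ≤
      finrank F (fixS (g⁻¹ * (x * g * x⁻¹))) :=
    Submodule.finrank_mono (inf_fixS_le g (x * g * x⁻¹))
  omega

end Cfsg.H5.S5876P4
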