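import Mathlib
import Cfsg.Prelude.Def_GeometricClasses
import Cfsg.Agent.Lib.Helper24.S5876Defs
import Cfsg.Agent.H5.S5876FOP4

/-!
# S5876 FO-P2 (helper5, for helper24's skeleton)

Elements `y ≠ 1` of a nilpotent subgroup `N` normalised by `G` (all abelian subgroups normalised by
`G` being semiregular) have `2 dim fix y ≤ n`.  The group theory is done abstractly (`nilp_induct`).
-/

set_option autoImplicit false

namespace Cfsg.H5.S5876P2

section abstract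

variable {Γ : Type*} [Group Γ]

/-- `N` is normalised by `G` -/
def NB (G N : Subgroup Γ) : Prop := ∀ g ∈ G, ∀ x ∈ N, g * x * g⁻¹ ∈ N

/-- the centre of `N`, as a subgroup of the ambient group -/
def ZZ (N : Subgroup Γ) : Subgroup Γ := N ⊓ Subgroup.centralizer (N : Set Γ)

theorem mem_ZZ {N : Subgroup Γ} {x : Γ} : x ∈ ZZ N ↔ x ∈ N ∧ ∀ w ∈ N, w * x = x * w := by
  unfold ZZ
  rw [Subgroup.mem_inf, Subgroup.mem_centralizer_iff]
  rfl

theorem ZZ_le (N : Subgroup Γ) : ZZ N ≤ N := inf_le_left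

theorem ZZ_comm (N : Subgroup Γ) : ∀ a ∈ ZZ N, ∀ b ∈ ZZ N, a * b = b * a := by
  intro a ha b hb
  exact ((mem_ZZ.mp ha).2 b (mem_ZZ.mp hb).1).symm

theorem NB_inv {G N : Subgroup Γ} (hN : NB G N) {g : Γ} (hg : g ∈ G) {x : Γ} (hx : x ∈ N) :
    g⁻¹ * x * g ∈ N := by
  have := hN g⁻¹ (G.inv_mem hg) x hx
  rwa [inv_inv] at this

theorem ZZ_norm {G N : Subgroup Γ} (hN : NB G N) : NB G (ZZ N) := by
  intro g hg x hx
  obtain ⟨hxN, hxc⟩ := mem_ZZ.mp hx
  refine mem_ZZ.mpr ⟨hN g hg x hxN, ?_⟩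
  intro w hw
  have h1 := hxc _ (NB_inv hN hg hw)
  calc w * (g * x * g⁻¹) = g * ((g⁻¹ * w * g) * x) * g⁻¹ := by group
    _ = g * (x * (g⁻¹ * w * g)) * g⁻¹ := by rw [h1]
    _ = g * x * g⁻¹ * w := by group

/-- the second centre of `N`, as a set -/
def Z2 (N : Subgroup Γ) : Set Γ := {x | x ∈ N ∧ ∀ w ∈ N, x * w * x⁻¹ * w⁻¹ ∈ ZZ N}

theorem Z2_norm {G N : Subgroup Γ} (hN : NB G N) {g : Γ} (hg : g ∈ G) {x : Γ} (hx : x ∈ Z2 N) :
    g * x * g⁻¹ ∈ Z2 N := by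
  obtain ⟨hxN, hxc⟩ := hx
  refine ⟨hN g hg x hxN, ?_⟩
  intro w hw
  have h1 := hxc _ (NB_inv hN hg hw)
  have h2 := ZZ_norm hN g hg _ h1
  have e : g * x * g⁻¹ * w * (g * x * g⁻¹)⁻¹ * w⁻¹ =
      g * (x * (g⁻¹ * w * g) * x⁻¹ * (g⁻¹ * w * g)⁻¹) * g⁻¹ := by group
  rw [e]
  exact h2

/-- the centraliser in `N` of the second centre -/
def CC (N : Subgroup Γ) : Subgroup Γ := N ⊓ Subgroup.centralizer (Z2 N)

theorem mem_CC {N : Subgroup Γ} {c : Γ} : c ∈ CC N ↔ c ∈ N ∧ ∀ x ∈ Z2 N, x * c = c * x := by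
  unfold CC
  rw [Subgroup.mem_inf, Subgroup.mem_centralizer_iff]

theorem CC_le (N : Subgroup Γ) : CC N ≤ N := inf_le_left

theorem CC_norm {G N : Subgroup Γ} (hN : NB G N) : NB G (CC N) := by
  intro g hg c hc
  obtain ⟨hcN, hcc⟩ := mem_CC.mp hc
  refine mem_CC.mpr ⟨hN g hg c hcN, ?_⟩
  intro x hx
  have hx' : g⁻¹ * x * g ∈ Z2 N := by
    have := Z2_norm hN (G.inv_mem hg) hx
    rwa [inv_inv] at this
  have h1 := hcc _ hx'
  calc x * (g * c * g⁻¹) = g * ((g⁻¹ * x * g) * c) * g⁻¹ := by group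
    _ = g * (c * (g⁻¹ * x * g)) * g⁻¹ := by rw [h1]
    _ = g * c * g⁻¹ * x := by group

/-- a nilpotent group with a non-central element has a second-centre element outside the centre -/
theorem exists_Z2_not_ZZ (N : Subgroup Γ) (hnil : Group.IsNilpotent N) {y : Γ} (hy : y ∈ N)
    (hyZ : y ∉ ZZ N) : ∃ x ∈ Z2 N, ∃ w ∈ N, x * w ≠ w * x := by
  by_contra hcon
  push Not at hcon
  have key : ∀ k : ℕ, Subgroup.upperCentralSeries N k ≤ Subgroup.center N := by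
    intro k
    induction k with
    | zero =>
      rw [Subgroup.upperCentralSeries_zero]
      exact bot_le
    | succ k ih =>
      intro x hx
      rw [Subgroup.mem_upperCentralSeries_succ_iff] at hx
      have hx2 : (x : Γ) ∈ Z2 N := by
        refine ⟨x.2, ?_⟩
        intro w hw
        have h1 := ih (hx ⟨w, hw⟩)
        rw [Subgroup.mem_center_iff] at h1
        refine mem_ZZ.mpr ⟨?_, ?_⟩
        · exact N.mul_mem (N.mul_mem (N.mul_mem x.2 hw) (N.inv_mem x.2)) (N.inv_mem hw)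
        · intro v hv
          have h2 := h1 ⟨v, hv⟩
          have h3 := congrArg (Subtype.val) h2
          exact h3
      rw [Subgroup.mem_center_iff]
      intro w
      have h4 := hcon _ hx2 w w.2
      apply Subtype.ext
      simpa using h4.symm
  obtain ⟨k, hk⟩ := hnil.nilpotent
  have h5 : (⟨y, hy⟩ : N) ∈ Subgroup.center N := key k (by rw [hk]; exact Subgroup.mem_top _)
  rw [Subgroup.mem_center_iff] at h5
  apply hyZ
  refine mem_ZZ.mpr ⟨hy, ?_⟩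
  intro w hw
  have h6 := congrArg (Subtype.val) (h5 ⟨w, hw⟩)
  simpa using h6

theorem isNilpotent_of_le {C N : Subgroup Γ} (hCN : C ≤ N) (hnil : Group.IsNilpotent N) :
    Group.IsNilpotent C := by
  have := hnil
  exact Group.nilpotent_of_mulEquiv (Subgroup.subgroupOfEquivOfLe hCN)

theorem card_lt_of_le_of_not_mem [Finite Γ] {C N : Subgroup Γ} (hCN : C ≤ N) {w : Γ} (hw : w ∈ N)
    (hwC : w ∉ C) : Nat.card C < Nat.card N := by
  have h1 : Nat.card C = Nat.card (C.subgroupOf N) :=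
    (Nat.card_congr (Subgroup.subgroupOfEquivOfLe hCN).toEquiv).symm
  rw [h1]
  exact Finite.card_subtype_lt (x := (⟨w, hw⟩ : N)) (by
    intro h
    exact hwC (Subgroup.mem_subgroupOf.mp h))

/-- the abstract induction -/
theorem nilp_induct [Finite Γ] (G : Subgroup Γ) (P Q : Γ → Prop)
    (h0 : ∀ A : Subgroup Γ, A ≤ G → NB G A → (∀ a ∈ A, ∀ b ∈ A, a * b = b * a) →
      ∀ a ∈ A, a ≠ 1 → Q a)
    (h1 : ∀ y, Q y → P y)
    (h2 : ∀ y x, Q (y⁻¹ * (x * y * x⁻¹)) → P y) :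
    ∀ (N : Subgroup Γ), N ≤ G → NB G N → Group.IsNilpotent N → ∀ y ∈ N, y ≠ 1 → P y := by
  intro N
  induction' hk : Nat.card N using Nat.strong_induction_on with k ih generalizing N
  intro hNG hN hnil y hy hy1
  have hQ : ∀ a ∈ ZZ N, a ≠ 1 → Q a :=
    h0 (ZZ N) ((ZZ_le N).trans hNG) (ZZ_norm hN) (ZZ_comm N)
  by_cases hyZ : y ∈ ZZ N
  · exact h1 y (hQ y hyZ hy1)
  by_cases hex : ∃ x ∈ N, y⁻¹ * (x * y * x⁻¹) ∈ ZZ N ∧ y⁻¹ * (x * y * x⁻¹) ≠ 1
  · obtain ⟨x, hx, hc, hc1⟩ := hex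
    exact h2 y x (hQ _ hc hc1)
  push Not at hex
  -- `y` centralises the second centre
  have hyC : y ∈ CC N := by
    refine mem_CC.mpr ⟨hy, ?_⟩
    intro x hx
    obtain ⟨hxN, hxc⟩ := hx
    have h3 := hxc y hy
    have h4 := (mem_ZZ.mp h3).2 y hy
    -- `y⁻¹ (x y x⁻¹) = x y x⁻¹ y⁻¹`
    have h5 : y⁻¹ * (x * y * x⁻¹) = x * y * x⁻¹ * y⁻¹ := by
      calc y⁻¹ * (x * y * x⁻¹) = y⁻¹ * (y * (x * y * x⁻¹ * y⁻¹)) * y⁻¹⁻¹ * y⁻¹ := by
            rw [h4]; group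
        _ = x * y * x⁻¹ * y⁻¹ := by group
    have h6 := hex x hxN (by rw [h5]; exact h3)
    have h7 : x * y * x⁻¹ = y := by
      have := congrArg (fun z => y * z) h6
      simpa [mul_assoc] using this
    have h8 := congrArg (fun z => z * x) h7
    simpa using h8
  obtain ⟨x, hx, w, hw, hxw⟩ := exists_Z2_not_ZZ N hnil hy hyZ
  have hwC : w ∉ CC N := by
    intro h
    exact hxw ((mem_CC.mp h).2 x hx)
  have hlt : Nat.card (CC N) < k := by
    rw [← hk]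
    exact card_lt_of_le_of_not_mem (CC_le N) hw hwC
  exact ih _ hlt (CC N) rfl ((CC_le N).trans hNG) (CC_norm hN) (isNilpotent_of_le (CC_le N) hnil)
    y hyC hy1

end abstract

open Matrix Module Cfsg.Agent.Lib.Helper24.S5876

variable {F : Type*} [Field F] {n : ℕ}

/-- FO-P2 -/
theorem two_mul_finrank_fix_le [Fintype F] (G : Subgroup (GL (Fin n) F)) (hs : SemiReg G)
    (N : Subgroup (GL (Fin n) F)) (hNG : N ≤ G) (hN : NormBy G N) (hnil : Group.IsNilpotent N)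
    (y : GL (Fin n) F) (hy : y ∈ N) (hy1 : y ≠ 1) : 2 * finrank F (fixS y) ≤ n := by
  classical
  refine nilp_induct G (fun y => 2 * finrank F (fixS y) ≤ n) (fun a => fixS a = ⊥)
    (fun A hA hAn hAc a ha ha1 => hs A hA hAn hAc a ha ha1) ?_ ?_ N hNG hN hnil y hy hy1
  · intro y hQ
    have hQ' : fixS y = ⊥ := hQ
    change 2 * finrank F (fixS y) ≤ n
    rw [hQ', finrank_bot]
    omega
  · intro y x hQ
    have := Cfsg.H5.S5876P4.finrank_fix_comm y x
    have hQ' : fixS (y⁻¹ * (x * y * x⁻¹)) = ⊥ := hQ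
    change 2 * finrank F (fixS y) ≤ n
    rw [hQ', finrank_bot] at this
    omega

end Cfsg.H5.S5876P2
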