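import Mathlib

/-!
# S5886 FO-NORM: the norm-one elements of a finite field extension `L/F` of degree `≥ 2` span `L` additively
-/

set_option autoImplicit false

namespace Cfsg.H5.S5886

open Module

variable {F : Type*} [Field F] [Fintype F] {L : Type*} [Field L] [Algebra F L] {r : ℕ}

/-- pure arithmetic: `(s - 1)(q - 1) ≥ Q - 1`, `s² ≤ Q`, `q² ≤ Q`, `s, q ≥ 2` is impossible -/
theorem norm_arith (s q Q : ℕ) (hs : 2 ≤ s) (hq : 2 ≤ q) (h1 : Q - 1 ≤ (s - 1) * (q - 1))
    (h2 : s * s ≤ Q) (h3 : q * q ≤ Q) : False := by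
  obtain ⟨s', rfl⟩ : ∃ s', s = s' + 2 := ⟨s - 2, by omega⟩
  obtain ⟨q', rfl⟩ : ∃ q', q = q' + 2 := ⟨q - 2, by omega⟩
  have e1 : (s' + 2 - 1) * (q' + 2 - 1) = (s' + 1) * (q' + 1) := by
    congr 1
  rw [e1] at h1
  have hQ : 1 ≤ Q := by nlinarith
  have h1' : Q ≤ (s' + 1) * (q' + 1) + 1 := by omega
  -- from s² ≤ Q ≤ (s'+1)(q'+1) + 1 we get s' + 3 ≤ q' + 1, i.e. q' ≥ s' + 2
  have h4 : (s' + 2) * (s' + 2) ≤ (s' + 1) * (q' + 1) + 1 := le_trans h2 h1'
  have h5 : s' + 2 ≤ q' := by
    by_contra hlt
    push Not at hlt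
    have : q' + 1 ≤ s' + 2 := by omega
    nlinarith
  -- then (s'+1)(q'+1) + 1 ≤ (q'-1)(q'+1) + 1 = q'² < (q'+2)²
  have h6 : (q' + 2) * (q' + 2) ≤ (s' + 1) * (q' + 1) + 1 := le_trans h3 h1'
  have h7 : s' + 1 ≤ q' := by omega
  nlinarith

theorem mem_closure_norm_one (hrk : finrank F L = r) (hr : 2 ≤ r) (x : L) :
    x ∈ AddSubgroup.closure {ν : L | Algebra.norm F ν = 1} := by
  classical
  have : Module.Finite F L := Module.finite_of_finrank_pos (by omega)
  have : Finite L := Module.finite_of_finite F
  letI := Fintype.ofFinite L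
  -- the submonoid of norm-one elements
  let 𝒩 : Submonoid L :=
    { carrier := {ν | Algebra.norm F ν = 1}
      mul_mem' := by
        intro a b ha hb
        change Algebra.norm F a = 1 at ha
        change Algebra.norm F b = 1 at hb
        change Algebra.norm F (a * b) = 1
        rw [map_mul, ha, hb, one_mul]
      one_mem' := by simp }
  have hS : ∀ y, y ∈ Subring.closure (𝒩 : Set L) ↔
      y ∈ AddSubgroup.closure {ν : L | Algebra.norm F ν = 1} := by
    intro y
    rw [Subring.mem_closure_iff, Submonoid.closure_eq]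
    rfl
  rw [← hS]
  -- the subring is a subfield
  have hcardL : ∀ y : L, y ≠ 0 → y ^ (Fintype.card L - 1) = 1 := fun y hy =>
    FiniteField.pow_card_sub_one_eq_one y hy
  have hLgt : 2 ≤ Fintype.card L := Fintype.one_lt_card
  let K : Subfield L :=
    { Subring.closure (𝒩 : Set L) with
      inv_mem' := by
        intro y hy
        by_cases hy0 : y = 0
        · rw [hy0, inv_zero]; exact Subring.zero_mem _
        · have e : y⁻¹ = y ^ (Fintype.card L - 2) := by
            have h1 := hcardL y hy0
            have h2 : y ^ (Fintype.card L - 1) = y ^ (Fintype.card L - 2) * y := by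
              rw [← pow_succ]
              congr 1
              omega
            rw [h2] at h1
            exact (eq_inv_of_mul_eq_one_left h1).symm
          rw [e]
          exact Subring.pow_mem _ hy _ }
  have hKmem : ∀ y, y ∈ K ↔ y ∈ Subring.closure (𝒩 : Set L) := fun y => Iff.rfl
  rw [← hKmem]
  -- cardinalities
  have hLcard : Fintype.card L = Fintype.card F ^ r := by
    rw [← hrk]; exact Module.card_eq_pow_finrank
  have hLK : Fintype.card L = Fintype.card K ^ finrank K L := Module.card_eq_pow_finrank
  have hq2 : 2 ≤ Fintype.card F := Fintype.one_lt_card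
  have hs2 : 2 ≤ Fintype.card K := Fintype.one_lt_card
  -- the norm hom on units
  let φ : Lˣ →* Fˣ := Units.map (Algebra.norm F : L →* F)
  have hker : Nat.card φ.ker * Nat.card φ.range = Nat.card Lˣ := by
    rw [← Subgroup.index_ker]; exact Subgroup.card_mul_index _
  have hrange : Nat.card φ.range ≤ Fintype.card F - 1 := by
    have h1 : Nat.card φ.range ≤ Nat.card Fˣ :=
      Nat.card_le_card_of_injective (fun y : φ.range => (y : Fˣ)) Subtype.val_injective
    rw [Nat.card_units] at h1
    simpa only [Nat.card_eq_fintype_card] using h1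
  have hLu : Nat.card Lˣ = Fintype.card L - 1 := by
    rw [Nat.card_units, Nat.card_eq_fintype_card]
  -- the kernel embeds into the nonzero elements of K
  have hnorm : ∀ y : φ.ker, Algebra.norm F ((y : Lˣ) : L) = 1 := by
    intro y
    have hy : φ (y : Lˣ) = 1 := y.2
    have := congrArg Units.val hy
    simpa [φ] using this
  have hkerK : Nat.card φ.ker ≤ Fintype.card K - 1 := by
    let ψ : φ.ker → {z : K // z ≠ 0} := fun y =>
      ⟨⟨((y : Lˣ) : L), Subring.subset_closure (hnorm y)⟩, by
        intro h0
        have : ((y : Lˣ) : L) = 0 := congrArg Subtype.val h0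
        exact (y : Lˣ).ne_zero this⟩
    have hinj : Function.Injective ψ := by
      intro y y' h
      have h1 : ((y : Lˣ) : L) = ((y' : Lˣ) : L) := congrArg (fun z => ((z : {z : K // z ≠ 0}) : K).1) h
      exact Subtype.ext (Units.ext h1)
    have h1 := Nat.card_le_card_of_injective ψ hinj
    rw [Nat.card_congr (unitsEquivNeZero (G₀ := K)).symm, Nat.card_units] at h1
    simpa only [Nat.card_eq_fintype_card] using h1
  -- conclusion: finrank K L = 1
  have hk : finrank K L = 1 := by
    by_contra hne
    have hkpos : 0 < finrank K L := by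
      rcases Nat.eq_zero_or_pos (finrank K L) with h0 | h0
      · rw [h0, pow_zero] at hLK; omega
      · exact h0
    have hk2 : 2 ≤ finrank K L := by omega
    have h2 : Fintype.card K * Fintype.card K ≤ Fintype.card L := by
      rw [hLK, ← pow_two]
      exact Nat.pow_le_pow_right (by omega) hk2
    have h3 : Fintype.card F * Fintype.card F ≤ Fintype.card L := by
      rw [hLcard, ← pow_two]
      exact Nat.pow_le_pow_right (by omega) hr
    have h1 : Fintype.card L - 1 ≤ (Fintype.card K - 1) * (Fintype.card F - 1) := by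
      rw [← hLu, ← hker]
      exact Nat.mul_le_mul hkerK hrange
    exact norm_arith _ _ _ hs2 hq2 h1 h2 h3
  rw [hk, pow_one] at hLK
  -- K = ⊤
  have htop : (K : Set L) = Set.univ := by
    have hfin : (K : Set L).ncard = (Set.univ : Set L).ncard := by
      rw [Set.ncard_univ, Nat.card_eq_fintype_card, hLK, ← Nat.card_eq_fintype_card]
      rfl
    exact Set.eq_of_subset_of_ncard_le (Set.subset_univ _) (le_of_eq hfin.symm) Set.finite_univ
  have : x ∈ (K : Set L) := by rw [htop]; exact Set.mem_univ x
  exact this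

end Cfsg.H5.S5886
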