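import Mathlib
import Cfsg.Agent.H5.S5886FONORM

/-!
# S5886 FO-ALG, generic half: sub-bimodules of `End_F(L)` for a finite Galois extension `L/F`

`{h.toLinearMap | h ∈ Gal(L/F)}` is an `L`-basis of `L →ₗ[F] L`; a sub-bimodule containing, for every `g`, an element
with non-zero `g`-coefficient is everything.
-/

set_option autoImplicit false

namespace Cfsg.H5.S5886

open Module

variable {F : Type*} [Field F] {L : Type*} [Field L] [Algebra F L]

section galois
variable [FiniteDimensional F L] [IsGalois F L]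

/-- the family of Galois automorphisms as `F`-linear maps -/
def galFam : (L ≃ₐ[F] L) → (L →ₗ[F] L) := fun h => h.toLinearMap

theorem galFam_apply (h : L ≃ₐ[F] L) (x : L) : galFam h x = h x := rfl

theorem galFam_linearIndependent : LinearIndependent L (galFam : (L ≃ₐ[F] L) → (L →ₗ[F] L)) := by
  have hli : LinearIndependent L (AlgHom.toLinearMap : (L →ₐ[F] L) → L →ₗ[F] L) :=
    linearIndependent_toLinearMap F L L
  have hinj : Function.Injective (fun g : L ≃ₐ[F] L => (g : L →ₐ[F] L)) :=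
    AlgEquiv.coe_toAlgHom_injective
  have e : (galFam : (L ≃ₐ[F] L) → (L →ₗ[F] L)) =
      (AlgHom.toLinearMap : (L →ₐ[F] L) → L →ₗ[F] L) ∘ (fun g : L ≃ₐ[F] L => (g : L →ₐ[F] L)) := by
    funext g
    apply LinearMap.ext
    intro x
    rfl
  rw [e]
  exact hli.comp _ hinj

theorem card_gal_eq : Fintype.card (L ≃ₐ[F] L) = finrank L (L →ₗ[F] L) := by
  rw [Module.finrank_linearMap F L L L, finrank_self, mul_one, ← IsGalois.card_aut_eq_finrank F L,
    Nat.card_eq_fintype_card]

/-- the Galois basis of `End_F(L)` over `L` -/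
noncomputable def galBasis : Basis (L ≃ₐ[F] L) L (L →ₗ[F] L) :=
  basisOfLinearIndependentOfCardEqFinrank galFam_linearIndependent card_gal_eq

theorem galBasis_apply (h : L ≃ₐ[F] L) : (galBasis (F := F) (L := L)) h = galFam h := by
  rw [galBasis, coe_basisOfLinearIndependentOfCardEqFinrank]

/-- every endomorphism is an `L`-combination of automorphisms -/
theorem exists_coeffs (θ : L →ₗ[F] L) :
    ∃ c : (L ≃ₐ[F] L) → L, θ = ∑ h, c h • galFam h := by
  refine ⟨fun h => (galBasis (F := F) (L := L)).repr θ h, ?_⟩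
  conv_lhs => rw [← (galBasis (F := F) (L := L)).sum_repr θ]
  exact Finset.sum_congr rfl (fun h _ => by rw [galBasis_apply])

/-- uniqueness of the coefficients -/
theorem coeffs_unique (c c' : (L ≃ₐ[F] L) → L)
    (h : ∑ k, c k • galFam k = ∑ k, c' k • galFam k) : c = c' := by
  have h0 : ∑ k, (c k - c' k) • galFam (F := F) (L := L) k = 0 := by
    have e : ∑ k, (c k - c' k) • galFam (F := F) (L := L) k =
        ∑ k, c k • galFam k - ∑ k, c' k • galFam k := by
      rw [← Finset.sum_sub_distrib]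
      exact Finset.sum_congr rfl (fun k _ => sub_smul (c k) (c' k) (galFam k))
    rw [e, h, sub_self]
  have := Fintype.linearIndependent_iff.mp (galFam_linearIndependent (F := F) (L := L)) _ h0
  ext k
  exact sub_eq_zero.mp (this k)

theorem coeffs_eq_zero (c : (L ≃ₐ[F] L) → L) (h : ∑ k, c k • galFam k = 0) (k : L ≃ₐ[F] L) :
    c k = 0 :=
  Fintype.linearIndependent_iff.mp (galFam_linearIndependent (F := F) (L := L)) _ h k

/-- right multiplication twists the coefficients -/
theorem sum_comp_mulLeft (c : (L ≃ₐ[F] L) → L) (d : L) :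
    (∑ k, c k • galFam k) ∘ₗ LinearMap.mulLeft F d = ∑ k, (c k * k d) • galFam k := by
  ext x
  simp only [LinearMap.comp_apply, LinearMap.mulLeft_apply, LinearMap.sum_apply,
    LinearMap.smul_apply, galFam_apply, map_mul, smul_eq_mul]
  exact Finset.sum_congr rfl (fun k _ => by ring)

theorem mulLeft_comp_eq_smul (d : L) (θ : L →ₗ[F] L) : LinearMap.mulLeft F d ∘ₗ θ = d • θ := by
  ext x
  simp

end galois

section main
variable [FiniteDimensional F L] [IsGalois F L]

/-- component extraction: a sub-bimodule containing an element with non-zero `g`-coefficient contains `g` -/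
theorem gal_mem_of_coeff_ne (𝓕 : AddSubgroup (L →ₗ[F] L))
    (hl : ∀ θ ∈ 𝓕, ∀ c : L, LinearMap.mulLeft F c ∘ₗ θ ∈ 𝓕)
    (hrt : ∀ θ ∈ 𝓕, ∀ c : L, θ ∘ₗ LinearMap.mulLeft F c ∈ 𝓕)
    (g : L ≃ₐ[F] L) (c : (L ≃ₐ[F] L) → L) (hc : c g ≠ 0)
    (hmem : ∑ h, c h • galFam h ∈ 𝓕) : galFam g ∈ 𝓕 := by
  classical
  -- kill the coefficients in `S` one at a time
  have step : ∀ S : Finset (L ≃ₐ[F] L), g ∉ S →
      ∃ c' : (L ≃ₐ[F] L) → L, c' g ≠ 0 ∧ (∀ h ∈ S, c' h = 0) ∧ ∑ h, c' h • galFam h ∈ 𝓕 := by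
    intro S
    induction S using Finset.induction_on with
    | empty => intro _; exact ⟨c, hc, fun h hh => absurd hh (Finset.notMem_empty h), hmem⟩
    | insert h₀ S hh₀ ih =>
      intro hg
      have hgS : g ∉ S := fun h => hg (Finset.mem_insert_of_mem h)
      have hgh₀ : h₀ ≠ g := fun h => hg (h ▸ Finset.mem_insert_self _ _)
      obtain ⟨c', hc'g, hc'S, hc'mem⟩ := ih hgS
      obtain ⟨κ, hκ⟩ : ∃ κ : L, h₀ κ ≠ g κ := by
        by_contra hall
        push Not at hall
        exact hgh₀ (AlgEquiv.ext hall)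
      refine ⟨fun h => (h₀ κ - h κ) * c' h, ?_, ?_, ?_⟩
      · exact mul_ne_zero (sub_ne_zero.mpr hκ) hc'g
      · intro h hh
        rcases Finset.mem_insert.mp hh with rfl | hh
        · simp
        · simp only [hc'S h hh, mul_zero]
      · have h1 := hl _ hc'mem (h₀ κ)
        have h2 := hrt _ hc'mem κ
        rw [mulLeft_comp_eq_smul, Finset.smul_sum] at h1
        rw [sum_comp_mulLeft] at h2
        have h3 := 𝓕.sub_mem h1 h2
        rw [← Finset.sum_sub_distrib] at h3
        convert h3 using 1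
        apply Finset.sum_congr rfl
        intro h _
        rw [smul_smul, ← sub_smul]
        congr 1
        ring
  obtain ⟨c', hc'g, hc'S, hc'mem⟩ := step (Finset.univ.erase g) (Finset.notMem_erase g _)
  have hsum : ∑ h, c' h • galFam h = c' g • galFam g := by
    rw [Finset.sum_eq_single g]
    · intro h _ hne
      rw [hc'S h (Finset.mem_erase.mpr ⟨hne, Finset.mem_univ h⟩), zero_smul]
    · intro hg; exact absurd (Finset.mem_univ g) hg
  rw [hsum] at hc'mem
  have := hl _ hc'mem (c' g)⁻¹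
  rwa [mulLeft_comp_eq_smul, smul_smul, inv_mul_cancel₀ hc'g, one_smul] at this

/-- a sub-bimodule of `End_F(L)` meeting every Galois component is everything -/
theorem bimod_top (𝓕 : AddSubgroup (L →ₗ[F] L))
    (hl : ∀ θ ∈ 𝓕, ∀ c : L, LinearMap.mulLeft F c ∘ₗ θ ∈ 𝓕)
    (hrt : ∀ θ ∈ 𝓕, ∀ c : L, θ ∘ₗ LinearMap.mulLeft F c ∈ 𝓕)
    (hcomp : ∀ g : L ≃ₐ[F] L, ∃ θ ∈ 𝓕, ∃ c : (L ≃ₐ[F] L) → L, c g ≠ 0 ∧
      θ = ∑ h, c h • h.toLinearMap) : 𝓕 = ⊤ := by
  have hall : ∀ g : L ≃ₐ[F] L, galFam g ∈ 𝓕 := by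
    intro g
    obtain ⟨θ, hθ, c, hc, rfl⟩ := hcomp g
    exact gal_mem_of_coeff_ne 𝓕 hl hrt g c hc hθ
  rw [eq_top_iff]
  intro θ _
  obtain ⟨c, rfl⟩ := exists_coeffs (F := F) θ
  apply 𝓕.sum_mem
  intro h _
  have := hl _ (hall h) (c h)
  rwa [mulLeft_comp_eq_smul] at this

end main

section extras

/-- `h2` of FO-ALG plus FO-NORM: the additive group is a sub-bimodule -/
theorem bimodule_of_norm [Fintype F] {r : ℕ} (hrk : finrank F L = r) (hr : 2 ≤ r)
    (𝓕 : AddSubgroup (L →ₗ[F] L))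
    (h2 : ∀ θ ∈ 𝓕, ∀ ν : L, Algebra.norm F ν = 1 →
      (LinearMap.mulLeft F ν) ∘ₗ θ ∈ 𝓕 ∧ θ ∘ₗ (LinearMap.mulLeft F ν) ∈ 𝓕) :
    (∀ θ ∈ 𝓕, ∀ c : L, LinearMap.mulLeft F c ∘ₗ θ ∈ 𝓕) ∧
      (∀ θ ∈ 𝓕, ∀ c : L, θ ∘ₗ LinearMap.mulLeft F c ∈ 𝓕) := by
  constructor
  · intro θ hθ c
    let S : AddSubgroup L :=
      { carrier := {c | LinearMap.mulLeft F c ∘ₗ θ ∈ 𝓕}
        add_mem' := by
          intro a b ha hb
          have e : LinearMap.mulLeft F (a + b) ∘ₗ θ =
              LinearMap.mulLeft F a ∘ₗ θ + LinearMap.mulLeft F b ∘ₗ θ := by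
            ext x; simp [add_mul]
          change LinearMap.mulLeft F (a + b) ∘ₗ θ ∈ 𝓕
          rw [e]; exact 𝓕.add_mem ha hb
        zero_mem' := by
          have e : LinearMap.mulLeft F (0 : L) ∘ₗ θ = 0 := by ext x; simp
          change LinearMap.mulLeft F (0 : L) ∘ₗ θ ∈ 𝓕
          rw [e]; exact 𝓕.zero_mem
        neg_mem' := by
          intro a ha
          have e : LinearMap.mulLeft F (-a) ∘ₗ θ = -(LinearMap.mulLeft F a ∘ₗ θ) := by
            ext x; simp
          change LinearMap.mulLeft F (-a) ∘ₗ θ ∈ 𝓕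
          rw [e]; exact 𝓕.neg_mem ha }
    have hle : AddSubgroup.closure {ν : L | Algebra.norm F ν = 1} ≤ S := by
      rw [AddSubgroup.closure_le]
      intro ν hν
      exact (h2 θ hθ ν hν).1
    exact hle (mem_closure_norm_one hrk hr c)
  · intro θ hθ c
    let S : AddSubgroup L :=
      { carrier := {c | θ ∘ₗ LinearMap.mulLeft F c ∈ 𝓕}
        add_mem' := by
          intro a b ha hb
          have e : θ ∘ₗ LinearMap.mulLeft F (a + b) =
              θ ∘ₗ LinearMap.mulLeft F a + θ ∘ₗ LinearMap.mulLeft F b := by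
            ext x; simp [add_mul]
          change θ ∘ₗ LinearMap.mulLeft F (a + b) ∈ 𝓕
          rw [e]; exact 𝓕.add_mem ha hb
        zero_mem' := by
          have e : θ ∘ₗ LinearMap.mulLeft F (0 : L) = 0 := by ext x; simp
          change θ ∘ₗ LinearMap.mulLeft F (0 : L) ∈ 𝓕
          rw [e]; exact 𝓕.zero_mem
        neg_mem' := by
          intro a ha
          have e : θ ∘ₗ LinearMap.mulLeft F (-a) = -(θ ∘ₗ LinearMap.mulLeft F a) := by
            ext x; simp
          change θ ∘ₗ LinearMap.mulLeft F (-a) ∈ 𝓕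
          rw [e]; exact 𝓕.neg_mem ha }
    have hle : AddSubgroup.closure {ν : L | Algebra.norm F ν = 1} ≤ S := by
      rw [AddSubgroup.closure_le]
      intro ν hν
      exact (h2 θ hθ ν hν).2
    exact hle (mem_closure_norm_one hrk hr c)

variable [FiniteDimensional F L] [IsGalois F L]

/-- every `F`-functional on `L` is a trace functional -/
theorem exists_trace_rep (φ : L →ₗ[F] F) : ∃ t : L, ∀ x, φ x = Algebra.trace F L (t * x) := by
  have hnd := traceForm_nondegenerate F L
  obtain ⟨t, ht⟩ := (LinearMap.BilinForm.toDual (Algebra.traceForm F L) hnd).surjective φ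
  refine ⟨t, fun x => ?_⟩
  rw [← ht, LinearMap.BilinForm.toDual_def, Algebra.traceForm_apply]

/-- the rank one operator `x ↦ Tr(t x) • a` in the Galois basis -/
theorem rankOne_eq_sum (a t : L) (θ : L →ₗ[F] L) (hθ : ∀ x, θ x = Algebra.trace F L (t * x) • a) :
    θ = ∑ h : L ≃ₐ[F] L, (a * h t) • galFam h := by
  apply LinearMap.ext
  intro x
  rw [hθ, Algebra.smul_def, trace_eq_sum_automorphisms, Finset.sum_mul]
  simp only [LinearMap.sum_apply, LinearMap.smul_apply, galFam_apply, smul_eq_mul, map_mul]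
  exact Finset.sum_congr rfl (fun h _ => by ring)

/-- the identity in the Galois basis -/
theorem id_eq_sum [DecidableEq (L ≃ₐ[F] L)] :
    (LinearMap.id : L →ₗ[F] L) = ∑ h : L ≃ₐ[F] L, (if h = 1 then (1 : L) else 0) • galFam h := by
  rw [Finset.sum_eq_single (1 : L ≃ₐ[F] L)]
  · apply LinearMap.ext
    intro x
    simp [galFam_apply]
  · intro h _ hne
    rw [if_neg hne]
    apply LinearMap.ext
    intro x
    simp
  · intro h; exact absurd (Finset.mem_univ _) h

end extras

end Cfsg.H5.S5886
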