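import Mathlib
import Cfsg.Agent.Lib.Helper17.ExtFDefs
import Cfsg.Agent.H5.S5886FOALGa

/-!
# S5886 FO-ALG: `alg_top`
-/

set_option autoImplicit false

namespace Cfsg.H5.S5886

open Module Cfsg.Agent.Lib.Helper17.ExtF

variable {F : Type*} [Field F] {L : Type*} [Field L] [Algebra F L]

section
variable [FiniteDimensional F L] [IsGalois F L]

/-- an operator `x ↦ a₀ x + Tr(t₁ x) a₁ - Tr(t₂ x) a₂` in the Galois basis -/
theorem decomp3 [DecidableEq (L ≃ₐ[F] L)] (a₀ a₁ a₂ t₁ t₂ : L) (θ : L →ₗ[F] L)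
    (hθ : ∀ x, θ x = a₀ * x + Algebra.trace F L (t₁ * x) • a₁ - Algebra.trace F L (t₂ * x) • a₂) :
    θ = ∑ h : L ≃ₐ[F] L, ((if h = 1 then a₀ else 0) + a₁ * h t₁ - a₂ * h t₂) • galFam h := by
  apply LinearMap.ext
  intro x
  rw [hθ, Algebra.smul_def, Algebra.smul_def, trace_eq_sum_automorphisms,
    trace_eq_sum_automorphisms]
  simp only [LinearMap.sum_apply, LinearMap.smul_apply, galFam_apply, smul_eq_mul, map_mul,
    add_mul, sub_mul, Finset.sum_add_distrib, Finset.sum_sub_distrib, ite_mul, zero_mul,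
    Finset.sum_ite_eq', Finset.mem_univ, if_true, AlgEquiv.one_apply, Finset.sum_mul]
  congr 1
  · congr 1
    exact Finset.sum_congr rfl (fun h _ => by ring)
  · exact Finset.sum_congr rfl (fun h _ => by ring)

end

theorem alg_top [Fintype F] (hr : (finrank F L).Prime)
    (hq : ¬ (finrank F L = 2 ∧ Fintype.card F = 2))
    (𝓕 : AddSubgroup (L →ₗ[F] L))
    (h1 : ∀ c : L, LinearMap.mulLeft F c ∈ 𝓕)
    (h2 : ∀ θ ∈ 𝓕, ∀ ν : L, Algebra.norm F ν = 1 →
      (LinearMap.mulLeft F ν) ∘ₗ θ ∈ 𝓕 ∧ θ ∘ₗ (LinearMap.mulLeft F ν) ∈ 𝓕)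
    (τ : L →ₗ[F] F) (hτ : τ ≠ 0)
    (h3 : ∀ b : L, b ≠ 0 → τ b = 0 → ∃ β : L →ₗ[F] F, β ≠ 0 ∧ β 1 = 0 ∧
      ∀ θ ∈ 𝓕, (addRk τ b) ∘ₗ θ ∘ₗ (subRk β) ∈ 𝓕) :
    𝓕 = ⊤ := by
  classical
  have hfin : Module.Finite F L := Module.finite_of_finrank_pos hr.pos
  have hLfin : Finite L := Module.finite_of_finite F
  have hgal : IsGalois F L := inferInstance
  obtain ⟨hl, hrt⟩ := bimodule_of_norm rfl hr.two_le 𝓕 h2
  obtain ⟨t, ht⟩ := exists_trace_rep τ
  have ht0 : t ≠ 0 := by
    rintro rfl
    apply hτ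
    ext x
    simp [ht]
  -- three distinct elements of the kernel of τ
  have hker3 : 2 < Nat.card (LinearMap.ker τ) := by
    letI := Fintype.ofFinite L
    have hrn := LinearMap.finrank_range_add_finrank_ker τ
    have hrange : finrank F (LinearMap.range τ) ≤ 1 := by
      have := Submodule.finrank_le (LinearMap.range τ)
      rwa [finrank_self] at this
    have hk : finrank F L - 1 ≤ finrank F (LinearMap.ker τ) := by omega
    have hcard : Nat.card (LinearMap.ker τ) = Fintype.card F ^ finrank F (LinearMap.ker τ) := by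
      rw [Nat.card_eq_fintype_card]
      exact Module.card_eq_pow_finrank
    rw [hcard]
    have hq2 : 2 ≤ Fintype.card F := Fintype.one_lt_card
    have hr2 := hr.two_le
    by_cases hq3 : 3 ≤ Fintype.card F
    · calc 2 < Fintype.card F ^ 1 := by rw [pow_one]; omega
        _ ≤ Fintype.card F ^ finrank F (LinearMap.ker τ) :=
          Nat.pow_le_pow_right (by omega) (by omega)
    · have hq' : Fintype.card F = 2 := by omega
      have hr3 : 3 ≤ finrank F L := by
        rcases Nat.lt_or_ge (finrank F L) 3 with h | h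
        · exfalso; exact hq ⟨by omega, hq'⟩
        · exact h
      calc 2 < Fintype.card F ^ 2 := by rw [hq']; norm_num
        _ ≤ Fintype.card F ^ finrank F (LinearMap.ker τ) :=
          Nat.pow_le_pow_right (by omega) (by omega)
  obtain ⟨b, hb0, hτb, hbt⟩ : ∃ b : L, b ≠ 0 ∧ τ b = 0 ∧ 1 + b * t ≠ 0 := by
    haveI : Finite (LinearMap.ker τ) := inferInstance
    letI := Fintype.ofFinite (LinearMap.ker τ)
    rw [Nat.card_eq_fintype_card, Fintype.two_lt_card_iff] at hker3
    obtain ⟨x₁, x₂, x₃, h12, h13, h23⟩ := hker3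
    have good : ∀ x : LinearMap.ker τ, (x : L) ≠ 0 → (x : L) ≠ -t⁻¹ →
        ∃ b : L, b ≠ 0 ∧ τ b = 0 ∧ 1 + b * t ≠ 0 := by
      intro x hx0 hxt
      refine ⟨x, hx0, LinearMap.mem_ker.mp x.2, ?_⟩
      intro h0
      apply hxt
      have : (x : L) * t = -1 := by linear_combination h0
      field_simp
      linear_combination this
    have hne : ∀ x y : LinearMap.ker τ, x ≠ y → (x : L) ≠ (y : L) :=
      fun x y h he => h (Subtype.ext he)
    by_cases c1 : (x₁ : L) ≠ 0 ∧ (x₁ : L) ≠ -t⁻¹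
    · exact good x₁ c1.1 c1.2
    by_cases c2 : (x₂ : L) ≠ 0 ∧ (x₂ : L) ≠ -t⁻¹
    · exact good x₂ c2.1 c2.2
    by_cases c3 : (x₃ : L) ≠ 0 ∧ (x₃ : L) ≠ -t⁻¹
    · exact good x₃ c3.1 c3.2
    exfalso
    have e1 : (x₁ : L) = 0 ∨ (x₁ : L) = -t⁻¹ := by
      by_contra h; push Not at h; exact c1 h
    have e2 : (x₂ : L) = 0 ∨ (x₂ : L) = -t⁻¹ := by
      by_contra h; push Not at h; exact c2 h
    have e3 : (x₃ : L) = 0 ∨ (x₃ : L) = -t⁻¹ := by
      by_contra h; push Not at h; exact c3 h
    have n12 := hne _ _ h12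
    have n13 := hne _ _ h13
    have n23 := hne _ _ h23
    rcases e1 with e1 | e1 <;> rcases e2 with e2 | e2 <;> rcases e3 with e3 | e3 <;>
      simp_all
  obtain ⟨β, hβ0, hβ1, hβ⟩ := h3 b hb0 hτb
  obtain ⟨z, hz⟩ := exists_trace_rep β
  have hz0 : z ≠ 0 := by
    rintro rfl
    apply hβ0
    ext x
    simp [hz]
  apply bimod_top 𝓕 hl hrt
  intro g
  by_cases hg : g = 1
  · subst hg
    refine ⟨LinearMap.mulLeft F 1, h1 1, fun h => (if h = 1 then (1 : L) else 0) + 0 * h 0 - 0 * h 0,
      by simp, ?_⟩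
    apply decomp3 1 0 0 0 0
    intro x
    simp
  · -- the `g`-coefficient of `s ∘ λ ∘ s'` vanishes for every `λ`, otherwise we are done
    by_contra hcon
    push Not at hcon
    have hzero : ∀ lam : L, b * g (t * lam) - (lam + τ lam • b) * g z = 0 := by
      intro lam
      by_contra hne
      refine hcon (addRk τ b ∘ₗ LinearMap.mulLeft F lam ∘ₗ subRk β) (hβ _ (h1 lam))
        (fun h => (if h = 1 then lam else 0) + b * h (t * lam) - (lam + τ lam • b) * h z) ?_ ?_
      · simp only [if_neg hg, zero_add]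
        exact hne
      · apply decomp3 lam b (lam + τ lam • b) (t * lam) z
        intro x
        simp only [LinearMap.comp_apply, addRk_apply, subRk_apply, LinearMap.mulLeft_apply]
        rw [← hz x, mul_assoc t lam x, ← ht (lam * x)]
        have e : τ (lam * (x - β x • (1 : L))) = τ (lam * x) - β x * τ lam := by
          rw [mul_sub, map_sub, mul_smul_comm, mul_one, map_smul, smul_eq_mul]
        rw [e]
        simp only [Algebra.smul_def, map_sub, map_mul]
        ring
    -- the operator `λ ↦ b g(tλ) - (λ + τ(λ) b) g(z)` is zero; look at its `1`-coefficient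
    have hf : ∑ h : L ≃ₐ[F] L, ((if h = 1 then (-(g z)) else 0) + (b * g t) * (if h = g then 1 else 0)
        - (g z * b) * h t) • galFam h = 0 := by
      apply LinearMap.ext
      intro lam
      have hl0 := hzero lam
      rw [ht lam, Algebra.smul_def, trace_eq_sum_automorphisms] at hl0
      simp only [LinearMap.sum_apply, LinearMap.smul_apply, galFam_apply, smul_eq_mul,
        LinearMap.zero_apply, add_mul, sub_mul, Finset.sum_add_distrib, Finset.sum_sub_distrib,
        ite_mul, zero_mul, mul_ite, mul_one, mul_zero, Finset.sum_ite_eq', Finset.mem_univ, if_true,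
        AlgEquiv.one_apply]
      rw [map_mul] at hl0
      have e : ∑ h : L ≃ₐ[F] L, g z * b * h t * h lam = g z * b * ∑ h : L ≃ₐ[F] L, h (t * lam) := by
        rw [Finset.mul_sum]
        exact Finset.sum_congr rfl (fun h _ => by rw [map_mul]; ring)
      rw [e]
      linear_combination hl0
    have h1c := coeffs_eq_zero _ hf 1
    have hg' : (1 : L ≃ₐ[F] L) ≠ g := fun h => hg h.symm
    simp only [if_true, if_neg hg', mul_zero, add_zero, AlgEquiv.one_apply] at h1c
    have hgz : g z ≠ 0 := by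
      intro h0
      exact hz0 ((map_eq_zero_iff g g.injective).mp h0)
    apply hbt
    have : g z * (1 + b * t) = 0 := by linear_combination -h1c
    exact (mul_eq_zero.mp this).resolve_left hgz

end Cfsg.H5.S5886
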