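import Mathlib

/-!
# S5886 FO-CNT: a dichotomy lemma in a field extension of prime degree

If `Y, D ≤ L` are nonzero `F`-subspaces of complementary dimension and for every `a ≠ 0` either
`aY ∩ D = 0` or `aY ⊆ D`, then `dim Y = 1`.  (No counting is needed: `A₀ = {a | aY ⊆ D}` satisfies
`A₀ y = D` for every `y ∈ Y ∖ 0`, so `{x | A₀ x ⊆ A₀}` is a subalgebra containing all quotients `y/y₀`.)
-/

set_option autoImplicit false

namespace Cfsg.H5.S5886

open Module

variable {F : Type*} [Field F] {L : Type*} [Field L] [Algebra F L]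

theorem finrank_eq_one_of_dichotomy (hr : (finrank F L).Prime) (Y D : Submodule F L)
    (hY : Y ≠ ⊥) (hD : D ≠ ⊥) (hsum : finrank F Y + finrank F D = finrank F L)
    (h : ∀ a : L, a ≠ 0 → Y.map (LinearMap.mulLeft F a) ⊓ D = ⊥ ∨
      Y.map (LinearMap.mulLeft F a) ≤ D) :
    finrank F Y = 1 := by
  have hfin : Module.Finite F L := Module.finite_of_finrank_pos hr.pos
  -- the key consequence of the dichotomy
  have key : ∀ a : L, ∀ y₀ ∈ Y, a * y₀ ∈ D → a * y₀ ≠ 0 → ∀ y ∈ Y, a * y ∈ D := by
    intro a y₀ hy₀ hay hne y hy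
    have ha : a ≠ 0 := by
      intro h0; apply hne; rw [h0, zero_mul]
    rcases h a ha with h1 | h1
    · exfalso
      apply hne
      have hmem : a * y₀ ∈ Y.map (LinearMap.mulLeft F a) ⊓ D :=
        ⟨Submodule.mem_map_of_mem (f := LinearMap.mulLeft F a) hy₀, hay⟩
      rw [h1] at hmem
      exact (Submodule.mem_bot F).mp hmem
    · exact h1 (Submodule.mem_map_of_mem (f := LinearMap.mulLeft F a) hy)
  -- A₀ as a predicate
  let A₀ : L → Prop := fun a => ∀ y ∈ Y, a * y ∈ D
  -- the subalgebra B
  let B : Subalgebra F L :=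
    { carrier := {x | ∀ a, A₀ a → A₀ (a * x)}
      mul_mem' := by
        intro x x' hx hx' a ha
        rw [← mul_assoc]
        exact hx' _ (hx a ha)
      one_mem' := by
        intro a ha
        rw [mul_one]; exact ha
      add_mem' := by
        intro x x' hx hx' a ha y hy
        rw [mul_add, add_mul]
        exact D.add_mem (hx a ha y hy) (hx' a ha y hy)
      zero_mem' := by
        intro a _ y _
        rw [mul_zero, zero_mul]
        exact D.zero_mem
      algebraMap_mem' := by
        intro c a ha y hy
        have e : a * (algebraMap F L c) * y = c • (a * y) := by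
          rw [Algebra.smul_def]; ring
        rw [e]
        exact D.smul_mem c (ha y hy) }
  obtain ⟨y₀, hy₀, hy₀0⟩ := Submodule.exists_mem_ne_zero_of_ne_bot hY
  obtain ⟨d, hd, hd0⟩ := Submodule.exists_mem_ne_zero_of_ne_bot hD
  -- quotients of elements of Y lie in B
  have hquot : ∀ y ∈ Y, y ≠ 0 → y / y₀ ∈ B := by
    intro y hy hy0 a ha
    by_cases ha0 : a = 0
    · intro z _
      rw [ha0, zero_mul, zero_mul]; exact D.zero_mem
    · have e : a * (y / y₀) * y₀ = a * y := by field_simp
      apply key (a * (y / y₀)) y₀ hy₀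
      · rw [e]; exact ha y hy
      · rw [e]; exact mul_ne_zero ha0 hy0
  have hsimple := Subalgebra.isSimpleOrder_of_finrank_prime F L hr
  rcases hsimple.eq_bot_or_eq_top B with hB | hB
  · -- B = ⊥: Y is a line
    have hle : Y ≤ Submodule.span F {y₀} := by
      intro y hy
      by_cases hy0 : y = 0
      · rw [hy0]; exact Submodule.zero_mem _
      · have hmem : y / y₀ ∈ B := hquot y hy hy0
        rw [hB, Algebra.mem_bot] at hmem
        obtain ⟨c, hc⟩ := hmem
        rw [Submodule.mem_span_singleton]
        refine ⟨c, ?_⟩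
        rw [Algebra.smul_def, hc]
        field_simp
    have h1 : finrank F Y ≤ 1 := by
      have := Submodule.finrank_mono hle
      rwa [finrank_span_singleton hy₀0] at this
    have h2 : 0 < finrank F Y := by
      rw [Nat.pos_iff_ne_zero]
      intro h0
      exact hY (Submodule.finrank_eq_zero.mp h0)
    omega
  · -- B = ⊤: D = ⊤, contradiction
    exfalso
    have ha₀ : A₀ (d / y₀) := by
      apply key (d / y₀) y₀ hy₀
      · rw [div_mul_cancel₀ d hy₀0]; exact hd
      · rw [div_mul_cancel₀ d hy₀0]; exact hd0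
    have hDtop : D = ⊤ := by
      rw [eq_top_iff]
      intro z _
      have hz : z / d ∈ B := by rw [hB]; exact Algebra.mem_top
      have := hz (d / y₀) ha₀ y₀ hy₀
      have e : d / y₀ * (z / d) * y₀ = z := by field_simp
      rwa [e] at this
    rw [hDtop, finrank_top] at hsum
    have h0 : finrank F Y = 0 := by omega
    exact hY (Submodule.finrank_eq_zero.mp h0)

end Cfsg.H5.S5886
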