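import Mathlib
import Cfsg.Agent.Lib.Helper9.SURUDefs
import Cfsg.Agent.Lib.Helper7.SURUA12
import Cfsg.Agent.Lib.Helper7.SURUA3
import Cfsg.Agent.Lib.Helper6.SURUA4
import Cfsg.Agent.Lib.Helper6.SURUA5
import Cfsg.Agent.Lib.Helper6.SURUA7

/-!
# S2282 FO-A6 (architect helper9): the third generator `u3` on the frame vectors.
(`av_u3_e0`, `av_u3_w` are helper6's, re-exported here.)
-/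

set_option autoImplicit false
set_option linter.unusedSectionVars false
set_option linter.unusedVariables false

namespace Cfsg.H5.SURU

open Matrix Cfsg.Agent.Lib.Helper6 Cfsg.Agent.S0779 Cfsg.Agent.S0781
open Cfsg.Agent.Lib.Helper6.SUG Cfsg.Agent.Lib.Helper13 Cfsg.Agent.Lib.Helper9.SUGen
open Cfsg.Agent.Lib.Helper9.SURU Cfsg.Agent.Lib.Helper7.SURU
open Cfsg.Agent.Lib.Helper6.SURUA4 Cfsg.Agent.Lib.Helper6.SURUA5 Cfsg.Agent.Lib.Helper6.SURUA7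

section A
variable {F : Type*} [Field F] [Fintype F] {q n m : ℕ}

local notation "hh" => Cfsg.hermForm n F q

variable (hF : Fintype.card F = q ^ 2) (𝔉 : Frm F q n m)

theorem av_u3_e0 (hm : 1 < m) (l κ : F) (hκ : κ ^ q = -κ) (hκ0 : κ ≠ 0) (hl : l ≠ 0) (t d : F)
    (hd : HP q t d) :
    av (u3 hF 𝔉 l κ hκ t d) (𝔉.e 0) = l • (𝔉.e 0 + 𝔉.e 1) :=
  Cfsg.Agent.Lib.Helper6.SURUA7.av_u3_e0 hF 𝔉 hm l κ hκ hκ0 hl t d hd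

theorem av_u3_w (hm : 1 < m) (l κ : F) (hκ : κ ^ q = -κ) (hκ0 : κ ≠ 0) (hl : l ≠ 0) (t d : F)
    (hd : HP q t d) :
    av (u3 hF 𝔉 l κ hκ t d) 𝔉.w = 𝔉.w + (l / l ^ q * κ⁻¹ * t ^ q) • (𝔉.f 0 - 𝔉.f 1) :=
  Cfsg.Agent.Lib.Helper6.SURUA7.av_u3_w hF 𝔉 hm l κ hκ hκ0 hl t d hd

/-- `u3` on `e 1` -/
theorem av_u3_e1 (hm : 1 < m) (l κ : F) (hκ : κ ^ q = -κ) (hκ0 : κ ≠ 0) (hl : l ≠ 0) (t d : F)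
    (hd : HP q t d) :
    av (u3 hF 𝔉 l κ hκ t d) (𝔉.e 1) =
      (2 - l⁻¹ - l) • 𝔉.e 0 + (2 - l) • 𝔉.e 1 - (κ⁻¹ * t * l ^ q / l ^ 2) • 𝔉.w -
        (κ⁻¹ ^ 2 * d / l) • (𝔉.f 0 - 𝔉.f 1) := by
  have hlq : l ^ q ≠ 0 := pow_ne_zero _ hl
  have e1 : ((1 - l) / l) ^ q = (1 - l ^ q) / l ^ q := by
    rw [div_pow, sub_pow_q hF, one_pow]
  have h0 : 0 < m := by omega
  rw [av_u3, av_g3_inv_e1 hF 𝔉 hm l hl]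
  simp only [av_smul, av_add, av_sub, av_neg, av_Wp_inv_e hF 𝔉 κ hκ hκ0, if_pos hm, if_pos h0,
    av_uh_f0 hF 𝔉 h0 t d hd, av_uh_f1 hF 𝔉 hm t d hd, av_Wp_f hF 𝔉 κ hκ hκ0, av_Wp_w,
    av_Wp_e hF 𝔉 κ hκ hκ0, av_g3_e0 hF 𝔉 hm l hl, av_g3_e1 hF 𝔉 hm l hl, av_g3_w hF 𝔉 hm l hl,
    av_g3_f0 hF 𝔉 hm l hl, av_g3_f1 hF 𝔉 hm l hl, e1]
  match_scalars <;> field_simp <;> ring

theorem av_u3_a1 (hm : 1 < m) (l κ : F) (hκ : κ ^ q = -κ) (hκ0 : κ ≠ 0) (hl : l ≠ 0) (t d : F)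
    (hd : HP q t d) :
    av (u3 hF 𝔉 l κ hκ t d) (𝔉.e 0 + 𝔉.e 1) =
      (2 - l⁻¹) • 𝔉.e 0 + (2 : F) • 𝔉.e 1 - (κ⁻¹ * t * l ^ q / l ^ 2) • 𝔉.w -
        (κ⁻¹ ^ 2 * d / l) • (𝔉.f 0 - 𝔉.f 1) := by
  rw [av_add, av_u3_e0 hF 𝔉 hm l κ hκ hκ0 hl t d hd, av_u3_e1 hF 𝔉 hm l κ hκ hκ0 hl t d hd]
  match_scalars <;> ring

/-- unfolding `u3⁻¹` on a vector -/
theorem av_u3_inv (l κ : F) (hκ : κ ^ q = -κ) (t d : F) (x : Fin n → F) :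
    av (u3 hF 𝔉 l κ hκ t d)⁻¹ x =
      av (g3 hF 𝔉 l) (av (Wp hF 𝔉 κ hκ m) (av (uh hF 𝔉 t d)⁻¹
        (av (Wp hF 𝔉 κ hκ m)⁻¹ (av (g3 hF 𝔉 l)⁻¹ x)))) := by
  unfold u3 gNP
  have e : (g3 hF 𝔉 l * Wp hF 𝔉 κ hκ m * uh hF 𝔉 t d * (g3 hF 𝔉 l * Wp hF 𝔉 κ hκ m)⁻¹)⁻¹ =
      g3 hF 𝔉 l * (Wp hF 𝔉 κ hκ m * ((uh hF 𝔉 t d)⁻¹ * ((Wp hF 𝔉 κ hκ m)⁻¹ * (g3 hF 𝔉 l)⁻¹))) := by
    group
  rw [e, av_mul, av_mul, av_mul, av_mul]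

theorem av_u3_inv_e0 (hm : 1 < m) (l κ : F) (hκ : κ ^ q = -κ) (hκ0 : κ ≠ 0) (hl : l ≠ 0)
    (t d : F) (hd : HP q t d) :
    av (u3 hF 𝔉 l κ hκ t d)⁻¹ (𝔉.e 0) =
      (2 - l) • 𝔉.e 0 - l • 𝔉.e 1 - (κ⁻¹ * t * l ^ q / l) • 𝔉.w +
        (-(κ⁻¹ ^ 2 * d ^ q / l ^ q)) • 𝔉.f 1 := by
  have hlq : l ^ q ≠ 0 := pow_ne_zero _ hl
  have h0 : 0 < m := by omega
  rw [av_u3_inv, av_g3_inv_e0 hF 𝔉 hm l hl]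
  simp only [av_smul, av_add, av_sub, av_neg, av_Wp_inv_e hF 𝔉 κ hκ hκ0, if_pos hm, if_pos h0,
    av_uh_inv_f1 hF 𝔉 hm t d hd, av_Wp_f hF 𝔉 κ hκ hκ0, av_Wp_w,
    av_Wp_e hF 𝔉 κ hκ hκ0, av_g3_e0 hF 𝔉 hm l hl, av_g3_e1 hF 𝔉 hm l hl, av_g3_w hF 𝔉 hm l hl,
    av_g3_f0 hF 𝔉 hm l hl, av_g3_f1 hF 𝔉 hm l hl]
  match_scalars <;> field_simp <;> ring

/-- `g3` fixes the frame vectors `f j`, `j ≥ 2` -/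
theorem av_g3_f_of_two_le (hm : 1 < m) (l : F) (hl : l ≠ 0) (j : ℕ) (hj : 2 ≤ j) :
    av (g3 hF 𝔉 l) (𝔉.f j) = 𝔉.f j := by
  apply av_g3_fix hF 𝔉 hm l hl
  · rw [𝔉.hfe hF, if_neg (by omega)]
  · rw [𝔉.hfe hF, if_neg (by omega)]
  · exact 𝔉.hff _ _
  · exact 𝔉.hff _ _
  · exact 𝔉.hfw _

theorem av_u3_f (hm : 1 < m) (l κ : F) (hκ : κ ^ q = -κ) (hκ0 : κ ≠ 0) (hl : l ≠ 0) (t d : F)
    (hd : HP q t d) (j : ℕ) (hj : 2 ≤ j) (hjm : j + 1 < m) :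
    av (u3 hF 𝔉 l κ hκ t d) (𝔉.f j) = 𝔉.f j + 𝔉.f (j + 1) := by
  have hjm' : j < m := by omega
  rw [av_u3, av_inv_eq_of (av_g3_f_of_two_le hF 𝔉 hm l hl j hj)]
  simp only [av_smul, av_add, av_sub, av_neg, av_Wp_inv_f hF 𝔉 κ hκ hκ0, if_pos hjm', if_pos hjm,
    av_uh_e hF 𝔉 t d hd, av_Wp_e hF 𝔉 κ hκ hκ0,
    av_g3_f_of_two_le hF 𝔉 hm l hl j hj, av_g3_f_of_two_le hF 𝔉 hm l hl (j + 1) (by omega)]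
  match_scalars <;> field_simp

theorem av_u3_f0 (hm : 2 < m) (l κ : F) (hκ : κ ^ q = -κ) (hκ0 : κ ≠ 0) (hl : l ≠ 0) (t d : F)
    (hd : HP q t d) :
    av (u3 hF 𝔉 l κ hκ t d) (𝔉.f 0) =
      (2 - l ^ q) • 𝔉.f 0 + (((1 - l) ^ 2 / l) ^ q) • 𝔉.f 1 + 𝔉.f 2 := by
  have hlq : l ^ q ≠ 0 := pow_ne_zero _ hl
  have hm1 : 1 < m := by omega
  have h0 : 0 < m := by omega
  have e1 : ((1 - l) / l) ^ q = (1 - l ^ q) / l ^ q := by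
    rw [div_pow, sub_pow_q hF, one_pow]
  have e2 : ((1 - l) ^ 2 / l) ^ q = (1 - l ^ q) ^ 2 / l ^ q := by
    rw [div_pow, ← pow_mul, mul_comm, pow_mul, sub_pow_q hF, one_pow]
  have e3 : (1 - l) ^ q = 1 - l ^ q := by rw [sub_pow_q hF, one_pow]
  rw [av_u3, av_g3_inv_f0 hF 𝔉 hm1 l hl]
  simp only [av_smul, av_add, av_sub, av_neg, av_Wp_inv_f hF 𝔉 κ hκ hκ0, if_pos hm1, if_pos h0,
    if_pos hm, av_uh_e hF 𝔉 t d hd, av_Wp_e hF 𝔉 κ hκ hκ0,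
    av_g3_f0 hF 𝔉 hm1 l hl, av_g3_f1 hF 𝔉 hm1 l hl,
    av_g3_f_of_two_le hF 𝔉 hm1 l hl 2 (le_refl 2), e1, e2, e3]
  match_scalars <;> field_simp <;> ring

end A

end Cfsg.H5.SURU
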