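import Mathlib
import Cfsg.Agent.Lib.Helper9.SURUDefs

/-!
# S2282 FO-E0 (architect helper9): the concrete frames span.
-/

set_option autoImplicit false
set_option linter.unusedSectionVars false
set_option linter.unusedVariables false

namespace Cfsg.H5.SURU

open Matrix Cfsg.Agent.Lib.Helper6 Cfsg.Agent.S0779 Cfsg.Agent.S0781
open Cfsg.Agent.Lib.Helper6.SUG Cfsg.Agent.Lib.Helper13 Cfsg.Agent.Lib.Helper9.SUGen
open Cfsg.Agent.Lib.Helper9.SURU

variable {F : Type*} [Field F] [Fintype F] {q : ℕ}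

/-- a vector orthogonal to both vectors of a hyperbolic plane vanishes on the plane -/
theorem plane_zero (hF : Fintype.card F = q ^ 2) (C : Hyp F q) {n : ℕ} (k : ℕ) (hk : k + 1 < n)
    (x : Fin n → F) (h1 : Cfsg.hermForm n F q x (ev C n k) = 0)
    (h2 : Cfsg.hermForm n F q x (fv C n k) = 0) :
    x ⟨k, by omega⟩ = 0 ∧ x ⟨k + 1, hk⟩ = 0 := by
  unfold ev at h1
  unfold fv at h2
  rw [herm_pl_right hF k hk] at h1 h2
  obtain ⟨⟨c00, c01⟩, ⟨c10, c11⟩⟩ := C.complete hF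
  constructor
  · linear_combination C.v0 * h1 + C.u0 * h2 - x ⟨k, by omega⟩ * c00 - x ⟨k + 1, hk⟩ * c01
  · linear_combination C.v1 * h1 + C.u1 * h2 - x ⟨k, by omega⟩ * c10 - x ⟨k + 1, hk⟩ * c11

/-- pairing with a standard basis vector -/
theorem herm_sv_right (hF : Fintype.card F = q ^ 2) {n : ℕ} (wp : ℕ) (hwp : wp < n) (x : Fin n → F) :
    Cfsg.hermForm n F q x (sv n wp) = x ⟨wp, hwp⟩ := by
  unfold Cfsg.hermForm sv
  have key : ∀ j : Fin n, x j * (if j.val = wp then (1 : F) else 0) ^ q =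
      if j = ⟨wp, hwp⟩ then x ⟨wp, hwp⟩ else 0 := by
    intro j
    by_cases h : j.val = wp
    · have : j = ⟨wp, hwp⟩ := Fin.ext h
      simp [this]
    · have : j ≠ ⟨wp, hwp⟩ := fun h' => h (congrArg Fin.val h')
      simp [h, this, (q_pos hF).ne']
  simp only [key, Finset.sum_ite_eq', Finset.mem_univ, if_true]

/-- a concrete frame covering all the coordinates spans -/
theorem mkFrm_span (hF : Fintype.card F = q ^ 2) (C : Hyp F q) (n m : ℕ) (pos : ℕ → ℕ) (wp : ℕ)
    (hpos : ∀ k, k < m → pos k + 1 < n) (hwp : wp < n)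
    (hsep : ∀ i j, i < m → j < m → i ≠ j → pos i + 2 ≤ pos j ∨ pos j + 2 ≤ pos i)
    (hw : ∀ i, i < m → pos i ≠ wp ∧ pos i + 1 ≠ wp)
    (hcover : ∀ a : ℕ, a < n → a = wp ∨ ∃ i, i < m ∧ (a = pos i ∨ a = pos i + 1))
    (x : Fin n → F)
    (h1 : ∀ i, i < m → Cfsg.hermForm n F q x ((mkFrm C hF n m pos wp hpos hwp hsep hw).e i) = 0)
    (h2 : ∀ i, i < m → Cfsg.hermForm n F q x ((mkFrm C hF n m pos wp hpos hwp hsep hw).f i) = 0)
    (h3 : Cfsg.hermForm n F q x (mkFrm C hF n m pos wp hpos hwp hsep hw).w = 0) : x = 0 := by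
  funext a
  rw [Pi.zero_apply]
  rcases hcover a.val a.isLt with h | ⟨i, hi, h⟩
  · have e : (mkFrm C hF n m pos wp hpos hwp hsep hw).w = sv n wp := rfl
    rw [e, herm_sv_right hF wp hwp] at h3
    have : a = ⟨wp, hwp⟩ := Fin.ext h
    rw [this]; exact h3
  · have e1 : (mkFrm C hF n m pos wp hpos hwp hsep hw).e i = ev C n (pos i) := by
      show (if i < m then ev C n (pos i) else 0) = _
      rw [if_pos hi]
    have e2 : (mkFrm C hF n m pos wp hpos hwp hsep hw).f i = fv C n (pos i) := by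
      show (if i < m then fv C n (pos i) else 0) = _
      rw [if_pos hi]
    have k1 := h1 i hi
    have k2 := h2 i hi
    rw [e1] at k1
    rw [e2] at k2
    obtain ⟨z1, z2⟩ := plane_zero hF C (pos i) (hpos i hi) x k1 k2
    rcases h with h | h
    · have : a = ⟨pos i, by have := hpos i hi; omega⟩ := Fin.ext h
      rw [this]; exact z1
    · have : a = ⟨pos i + 1, hpos i hi⟩ := Fin.ext h
      rw [this]; exact z2

/-- E0.  the concrete frames span. -/
theorem frmN_span (hF : Fintype.card F = q ^ 2) (C : Hyp F q) (m : ℕ) (hm : 2 ≤ m)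
    (x : Fin (2 * m + 1) → F)
    (h1 : ∀ i, i < m → Cfsg.hermForm (2 * m + 1) F q x ((frmN C hF m hm).e i) = 0)
    (h2 : ∀ i, i < m → Cfsg.hermForm (2 * m + 1) F q x ((frmN C hF m hm).f i) = 0)
    (h3 : Cfsg.hermForm (2 * m + 1) F q x (frmN C hF m hm).w = 0) : x = 0 := by
  unfold frmN at h1 h2 h3
  refine mkFrm_span hF C (2 * m + 1) m (posN m) (2 * m - 2) _ _ _ _ ?_ x h1 h2 h3
  intro a ha
  by_cases h : a = 2 * m - 2
  · exact Or.inl h
  right
  by_cases h' : 2 * m - 1 ≤ a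
  · refine ⟨0, by omega, ?_⟩
    unfold posN
    rw [if_pos rfl]
    omega
  · refine ⟨m - 1 - a / 2, by omega, ?_⟩
    unfold posN
    rw [if_neg (by omega)]
    omega

theorem frmP_span (hF : Fintype.card F = q ^ 2) (C : Hyp F q) (m : ℕ) (hm : 2 ≤ m)
    (x : Fin (2 * m + 1) → F)
    (h1 : ∀ i, i < m → Cfsg.hermForm (2 * m + 1) F q x ((frmP C hF m hm).e i) = 0)
    (h2 : ∀ i, i < m → Cfsg.hermForm (2 * m + 1) F q x ((frmP C hF m hm).f i) = 0)
    (h3 : Cfsg.hermForm (2 * m + 1) F q x (frmP C hF m hm).w = 0) : x = 0 := by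
  unfold frmP at h1 h2 h3
  refine mkFrm_span hF C (2 * m + 1) m (posP m) (2 * m - 4) _ _ _ _ ?_ x h1 h2 h3
  intro a ha
  by_cases h : a = 2 * m - 4
  · exact Or.inl h
  right
  by_cases h' : 2 * m - 1 ≤ a
  · refine ⟨0, by omega, ?_⟩
    unfold posP
    rw [if_pos rfl]
    omega
  · by_cases h'' : 2 * m - 3 ≤ a
    · refine ⟨1, by omega, ?_⟩
      unfold posP
      rw [if_neg (by omega), if_pos rfl]
      omega
    · refine ⟨m - 1 - a / 2, by omega, ?_⟩
      unfold posP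
      rw [if_neg (by omega), if_neg (by omega)]
      omega

end Cfsg.H5.SURU
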