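import Mathlib

set_option autoImplicit false

namespace Cfsg.H5

/-- the points on which a group acts freely -/
def freePoints (U : Type*) [Group U] (X : Type*) [MulAction U X] : SubMulAction U X where
  carrier := {ω | ∀ u : U, u • ω = ω → u = 1}
  smul_mem' := by
    intro l ω hω u hu
    have h1 : (l⁻¹ * u * l) • ω = ω := by
      rw [mul_smul, mul_smul, hu, inv_smul_smul]
    have h2 := hω _ h1
    calc u = l * (l⁻¹ * u * l) * l⁻¹ := by group
      _ = 1 := by rw [h2]; group

theorem stabilizer_freePoints (U : Type*) [Group U] (X : Type*) [MulAction U X]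
    (b : freePoints U X) : MulAction.stabilizer U b = ⊥ := by
  rw [SubMulAction.stabilizer_of_subMul, eq_bot_iff]
  intro u hu
  rw [Subgroup.mem_bot]
  exact b.2 u (MulAction.mem_stabilizer_iff.mp hu)

/-- A nontrivial finite group acting on a finite set of size `≡ 1` modulo the group order such that
nonidentity elements fix at most one point has a global fixed point. -/
theorem exists_fixed_of_fix_le_one {U : Type*} [Group U] [Finite U] {X : Type*} [MulAction U X]
    [Finite X] (hfix : ∀ u : U, u ≠ 1 → ∀ a b : X, u • a = a → u • b = b → a = b)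
    (hcard : Nat.card X % Nat.card U = 1 % Nat.card U) (hU : Nontrivial U) :
    ∃ a : X, ∀ u : U, u • a = a := by
  classical
  have hU2 : 2 ≤ Nat.card U := Finite.one_lt_card_iff_nontrivial.mpr hU
  -- free part has cardinality divisible by |U|
  have e := MulAction.selfEquivOrbitsQuotientProd (stabilizer_freePoints U X)
  have h1 := Nat.card_congr e
  rw [Nat.card_prod] at h1
  -- the non-free part
  have hsplit : Nat.card {ω : X // ω ∈ freePoints U X} + Nat.card {ω : X // ω ∉ freePoints U X} =
      Nat.card X := by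
    have : Fintype X := Fintype.ofFinite X
    rw [Nat.card_eq_fintype_card, Nat.card_eq_fintype_card, Nat.card_eq_fintype_card,
      Fintype.card_subtype_compl]
    have := Fintype.card_subtype_le (fun ω : X => ω ∈ freePoints U X)
    omega
  have hex : ∀ ω : {ω : X // ω ∉ freePoints U X}, ∃ u : U, u ≠ 1 ∧ u • (ω : X) = ω := by
    rintro ⟨ω, hω⟩
    have : ¬ ∀ u : U, u • ω = ω → u = 1 := hω
    push Not at this
    obtain ⟨u, hu, hu1⟩ := this
    exact ⟨u, hu1, hu⟩
  choose f hf1 hf using hex
  have hinj : Function.Injective (fun ω => (⟨f ω, hf1 ω⟩ : {u : U // u ≠ 1})) := by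
    intro ω ω' h
    have h' : f ω = f ω' := congrArg Subtype.val h
    apply Subtype.ext
    apply hfix (f ω) (hf1 ω) _ _ (hf ω)
    rw [h']
    exact hf ω'
  have hle := Nat.card_le_card_of_injective _ hinj
  have hne : Nat.card {u : U // u ≠ 1} + 1 = Nat.card U := by
    rw [← Nat.card_congr (Equiv.optionSubtypeNe (1 : U)), Finite.card_option]
  have h2 : Nat.card {ω : X // ω ∈ freePoints U X} = Nat.card (freePoints U X) := rfl
  -- |X₁| ≡ 1 mod |U| and |X₁| < |U|
  have hmod : Nat.card {ω : X // ω ∉ freePoints U X} % Nat.card U = 1 % Nat.card U := by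
    rw [← hcard, ← hsplit, h2, h1, Nat.add_comm]
    exact (Nat.add_mul_mod_self_right _ _ _).symm
  have hlt : Nat.card {ω : X // ω ∉ freePoints U X} < Nat.card U := by omega
  rw [Nat.mod_eq_of_lt hlt, Nat.mod_eq_of_lt (by omega)] at hmod
  -- unique point
  have hsub : Subsingleton {ω : X // ω ∉ freePoints U X} :=
    (Nat.card_eq_one_iff_unique.mp hmod).1
  have hnon : Nonempty {ω : X // ω ∉ freePoints U X} :=
    (Nat.card_eq_one_iff_unique.mp hmod).2
  obtain ⟨⟨ω, hω⟩⟩ := hnon
  refine ⟨ω, ?_⟩
  intro l
  have hlω : l • ω ∉ freePoints U X := by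
    intro h
    apply hω
    have := (freePoints U X).smul_mem l⁻¹ h
    rwa [inv_smul_smul] at this
  have := hsub.elim ⟨l • ω, hlω⟩ ⟨ω, hω⟩
  exact congrArg Subtype.val this

end Cfsg.H5
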