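import Mathlib
import Cfsg.Agent.H5.SmallOrdBasic
import Cfsg.Agent.S0985

/-!
# Two Sylow subgroups with a large intersection (helper5, for S0496)

`exists_inter`: if `n_p ≢ 1 (mod p²)` there are Sylow `p`-subgroups `P ≠ R` with `P ∩ R` of
index `p` in both, hence normalised by both (uses S0985).
`kill_inter`: certificate form, killing e.g. the orders 900 and 960.
-/

set_option autoImplicit false
set_option linter.unusedSectionVars false

namespace Cfsg.H5.SmallOrd

open scoped Nat

variable {G : Type*} [Group G] [Finite G]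

theorem card_subgroupOf_eq_card_inf (H K : Subgroup G) :
    Nat.card (H.subgroupOf K) = Nat.card (K ⊓ H : Subgroup G) := by
  rw [← Subgroup.inf_subgroupOf_left H K]
  exact Nat.card_congr (Subgroup.subgroupOfEquivOfLe (inf_le_left : K ⊓ H ≤ K)).toEquiv

theorem sylow_eq_of_le (p : ℕ) [hp : Fact p.Prime] (P R : Sylow p G)
    (h : (P : Subgroup G) ≤ (R : Subgroup G)) : P = R := by
  apply Sylow.ext
  apply Subgroup.eq_of_le_of_card_ge h
  rw [P.card_eq_multiplicity, R.card_eq_multiplicity]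

theorem inter_of_index_le (p : ℕ) [hp : Fact p.Prime] (a m : ℕ) (ha : 1 ≤ a) (hm : ¬ p ∣ m)
    (hcard : Nat.card G = p ^ a * m) (P R : Sylow p G) (hPR : P ≠ R)
    (hidx' : ((R : Subgroup G).subgroupOf (P : Subgroup G)).index ≤ p) :
      Nat.card ((P : Subgroup G) ⊓ (R : Subgroup G) : Subgroup G) * p = p ^ a ∧
      (P : Subgroup G) ≤
        Subgroup.normalizer (((P : Subgroup G) ⊓ (R : Subgroup G) : Subgroup G) : Set G) ∧
      (R : Subgroup G) ≤
        Subgroup.normalizer (((P : Subgroup G) ⊓ (R : Subgroup G) : Subgroup G) : Set G) := by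
  have hPc := sylow_card p a m hm hcard P
  have hRc := sylow_card p a m hm hcard R
  have h1 := Subgroup.card_mul_index ((R : Subgroup G).subgroupOf (P : Subgroup G))
  rw [card_subgroupOf_eq_card_inf, hPc] at h1
  -- the index is `p`
  have hdvd : ((R : Subgroup G).subgroupOf (P : Subgroup G)).index ∣ p ^ a :=
    Dvd.intro_left _ h1
  obtain ⟨j, hj, hij⟩ := (Nat.dvd_prime_pow hp.out).mp hdvd
  have hj1 : j ≤ 1 := by
    by_contra hj2
    push Not at hj2
    have : p ^ 2 ≤ p ^ j := Nat.pow_le_pow_right hp.out.pos hj2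
    rw [← hij] at this
    have : p ^ 2 ≤ p := this.trans hidx'
    have h3 : p * p ≤ p * 1 := by rw [mul_one, ← sq]; exact this
    have := Nat.le_of_mul_le_mul_left h3 hp.out.pos
    have := hp.out.one_lt
    omega
  have hj0 : j ≠ 0 := by
    rintro rfl
    rw [pow_zero, Subgroup.index_eq_one, Subgroup.subgroupOf_eq_top] at hij
    exact hPR (sylow_eq_of_le p P R hij)
  have hj' : j = 1 := by omega
  subst hj'
  rw [pow_one] at hij
  rw [hij] at h1
  refine ⟨h1, ?_, ?_⟩
  · rw [← Subgroup.normal_subgroupOf_iff_le_normalizer inf_le_left]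
    apply Subgroup.normal_of_index_eq_minFac_card
    rw [Subgroup.inf_subgroupOf_left, hij, hPc, Nat.Prime.pow_minFac hp.out (by omega)]
  · rw [← Subgroup.normal_subgroupOf_iff_le_normalizer inf_le_right]
    apply Subgroup.normal_of_index_eq_minFac_card
    rw [hRc, Nat.Prime.pow_minFac hp.out (by omega)]
    have h2 := Subgroup.card_mul_index
      (((P : Subgroup G) ⊓ (R : Subgroup G)).subgroupOf (R : Subgroup G))
    rw [Nat.card_congr (Subgroup.subgroupOfEquivOfLe
      (inf_le_right : (P : Subgroup G) ⊓ (R : Subgroup G) ≤ (R : Subgroup G))).toEquiv, hRc,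
      ← h1] at h2
    have hpos : 0 < Nat.card ((P : Subgroup G) ⊓ (R : Subgroup G) : Subgroup G) := Nat.card_pos
    exact Nat.eq_of_mul_eq_mul_left hpos h2

theorem exists_inter (p : ℕ) [hp : Fact p.Prime] (a m : ℕ) (ha : 1 ≤ a) (hm : ¬ p ∣ m)
    (hcard : Nat.card G = p ^ a * m) (hmod : Nat.card (Sylow p G) % p ^ 2 ≠ 1) :
    ∃ P R : Sylow p G, P ≠ R ∧
      Nat.card ((P : Subgroup G) ⊓ (R : Subgroup G) : Subgroup G) * p = p ^ a ∧
      (P : Subgroup G) ≤
        Subgroup.normalizer (((P : Subgroup G) ⊓ (R : Subgroup G) : Subgroup G) : Set G) ∧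
      (R : Subgroup G) ≤
        Subgroup.normalizer (((P : Subgroup G) ⊓ (R : Subgroup G) : Subgroup G) : Set G) := by
  have hp2 : 1 < p ^ 2 := Nat.one_lt_pow (by norm_num) hp.out.one_lt
  have hnot : ¬ Nat.card (Sylow p G) ≡ 1 [MOD p ^ 2] := by
    intro h
    unfold Nat.ModEq at h
    rw [Nat.mod_eq_of_lt hp2] at h
    exact hmod h
  obtain ⟨P, R, hPR, hidx⟩ := Cfsg.Agent.S0985.result p 2 hnot
  have hidx' : ((R : Subgroup G).subgroupOf (P : Subgroup G)).index ≤ p := by
    simpa using hidx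
  exact ⟨P, R, hPR, inter_of_index_le p a m ha hm hcard P R hPR hidx'⟩

/-- Data about the normalizer of a proper nontrivial subgroup normalised by two distinct Sylow
`p`-subgroups of a non-abelian simple group. -/
theorem normalizer_data [IsSimpleGroup G] (hG : ¬ IsMulCommutative G) (p : ℕ)
    [hp : Fact p.Prime] (a m : ℕ) (hm : ¬ p ∣ m) (hcard : Nat.card G = p ^ a * m)
    (P R : Sylow p G) (hPR : P ≠ R) (D : Subgroup G) (hD1 : D ≠ ⊥) (hD2 : D ≠ ⊤)
    (hP : (P : Subgroup G) ≤ Subgroup.normalizer (D : Set G))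
    (hR : (R : Subgroup G) ≤ Subgroup.normalizer (D : Set G)) :
    ∃ d i : ℕ, 1 < d ∧ d % p = 1 ∧ d * i ∣ m ∧ i ≠ 1 ∧ 2 * Nat.card G ∣ i ! ∧
      (Subgroup.normalizer (D : Set G)).index = i ∧
      Nat.card (Subgroup.normalizer (D : Set G)) * i = Nat.card G ∧
      p ^ a * d ∣ Nat.card (Subgroup.normalizer (D : Set G)) := by
  obtain ⟨d, hd1, hdp, hdK⟩ := two_sylow_le p P R hPR _ hP hR
  rw [sylow_card p a m hm hcard P] at hdK
  have hKtop : Subgroup.normalizer (D : Set G) ≠ ⊤ := by
    intro h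
    rw [Subgroup.normalizer_eq_top_iff] at h
    exact Cfsg.Agent.S0493.false_of_normal D h hD1 hD2
  have hidx := Subgroup.card_mul_index (Subgroup.normalizer (D : Set G))
  refine ⟨d, (Subgroup.normalizer (D : Set G)).index, hd1, hdp, ?_, ?_,
    two_card_dvd_factorial_index hG _ hKtop, rfl, hidx, hdK⟩
  · obtain ⟨j, hj⟩ := hdK
    rw [hj, hcard] at hidx
    have h2 : p ^ a * (d * (Subgroup.normalizer (D : Set G)).index * j) = p ^ a * m := by
      rw [← hidx]
      ring
    have h3 := Nat.eq_of_mul_eq_mul_left (pow_pos hp.out.pos a) h2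
    exact ⟨j, h3.symm⟩
  · intro h
    exact hKtop (Subgroup.index_eq_one.mp h)

/-- Boolean form of the constraints on `(d, i)` in `normalizer_data`. -/
def interOk (n p m d i : ℕ) : Bool :=
  decide (1 < d) && decide (d % p = 1) && decide (d * i ∣ m) && decide (i ≠ 1) &&
    decide (2 * n ∣ i !)

theorem interOk_of [IsSimpleGroup G] (hG : ¬ IsMulCommutative G) (n p : ℕ)
    [hp : Fact p.Prime] (a m : ℕ) (hm : ¬ p ∣ m) (hn : Nat.card G = n) (hnm : n = p ^ a * m)
    (P R : Sylow p G) (hPR : P ≠ R) (D : Subgroup G) (hD1 : D ≠ ⊥) (hD2 : D ≠ ⊤)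
    (hP : (P : Subgroup G) ≤ Subgroup.normalizer (D : Set G))
    (hR : (R : Subgroup G) ≤ Subgroup.normalizer (D : Set G)) :
    ∃ d i : ℕ, d ∈ List.range (m + 1) ∧ i ∈ List.range (m + 1) ∧ interOk n p m d i = true ∧
      Nat.card (Subgroup.normalizer (D : Set G)) * i = n ∧
      p ^ a * d ∣ Nat.card (Subgroup.normalizer (D : Set G)) := by
  obtain ⟨d, i, h1, h2, h3, h4, h5, -, h7, h8⟩ :=
    normalizer_data hG p a m hm (hn.trans hnm) P R hPR D hD1 hD2 hP hR
  have hm0 : 0 < m := by
    rcases Nat.eq_zero_or_pos m with h | h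
    · subst h
      exact absurd (dvd_zero p) hm
    · exact h
  have hi0 : i ≠ 0 := by
    rintro rfl
    rw [mul_zero] at h7
    exact Nat.card_pos.ne h7
  have hle := Nat.le_of_dvd hm0 h3
  have hd0 : 0 < d := by omega
  have hi0' : 0 < i := Nat.pos_of_ne_zero hi0
  refine ⟨d, i, ?_, ?_, ?_, hn ▸ h7, h8⟩
  · rw [List.mem_range]
    have : d * 1 ≤ d * i := Nat.mul_le_mul_left d hi0'
    omega
  · rw [List.mem_range]
    have : 1 * i ≤ d * i := Nat.mul_le_mul_right i hd0
    omega
  · unfold interOk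
    rw [hn] at h5
    simp only [Bool.and_eq_true, decide_eq_true_eq]
    exact ⟨⟨⟨⟨h1, h2⟩, h3⟩, h4⟩, h5⟩

/-- Kill an order `n = p^a m` (`a ≥ 2`) for which every admissible Sylow number is `≢ 1 mod p²`
and the normalizer of the resulting intersection would have too small an index. -/
theorem kill_inter [IsSimpleGroup G] (hG : ¬ IsMulCommutative G) (n p a m : ℕ) (hp : p.Prime)
    (ha : 2 ≤ a) (hm1 : 1 < m) (hm : ¬ p ∣ m) (hnm : n = p ^ a * m)
    (cert1 : (List.range (m + 1)).all
      (fun k => !(f1ok n p m k && decide (k % p ^ 2 = 1))) = true)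
    (cert2 : (List.range (m + 1)).all
      (fun d => (List.range (m + 1)).all (fun i => !interOk n p m d i)) = true) :
    Nat.card G ≠ n := by
  intro hn
  have : Fact p.Prime := ⟨hp⟩
  have h1 := f1ok_sylow hG n p a m (by omega) hm1 hm hn hnm
  have h2 := sylow_num_le hG p a m (by omega) hm1 hm (hn.trans hnm)
  rw [List.all_eq_true] at cert1
  have h3 := cert1 _ h2
  rw [h1] at h3
  have hmod : Nat.card (Sylow p G) % p ^ 2 ≠ 1 := by
    intro h
    simp [h] at h3
  obtain ⟨P, R, hPR, hDc, hPN, hRN⟩ := exists_inter p a m (by omega) hm (hn.trans hnm) hmod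
  have hD1 : (P : Subgroup G) ⊓ (R : Subgroup G) ≠ ⊥ := by
    intro h
    rw [h, Subgroup.card_bot, one_mul] at hDc
    have : p ^ 1 = p ^ a := by rw [pow_one]; exact hDc
    have := Nat.pow_right_injective hp.two_le this
    omega
  have hD2 : (P : Subgroup G) ⊓ (R : Subgroup G) ≠ ⊤ := by
    intro h
    have hle : (⊤ : Subgroup G) ≤ (P : Subgroup G) := by rw [← h]; exact inf_le_left
    have h5 : (P : Subgroup G) = ⊤ := top_le_iff.mp hle
    have h6 := sylow_index p a m hm (hn.trans hnm) P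
    rw [h5, Subgroup.index_top] at h6
    omega
  obtain ⟨d, i, hd, hi, hok, -, -⟩ :=
    interOk_of hG n p a m hm hn hnm P R hPR _ hD1 hD2 hPN hRN
  rw [List.all_eq_true] at cert2
  have h7 := cert2 d hd
  rw [List.all_eq_true] at h7
  have h8 := h7 i hi
  rw [hok] at h8
  exact absurd h8 (by decide)

end Cfsg.H5.SmallOrd
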