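import Mathlib
import Cfsg.Agent.H5.SmallOrdBasic

/-!
# Parity of involutions and Sylow subgroups normalised by an involution (helper5, for S0496)

* `sign_toPerm_eq_one`: a non-abelian simple group acts by even permutations.
* `four_dvd_moved`: an involution moves a multiple of 4 points.
* `invol_normalizes_le_two`: if `|P| = p`, `C(P) = P`, `n_p = p + 1`, an involution normalising
  `P` normalises at most one further Sylow `p`-subgroup.
-/

set_option autoImplicit false
set_option linter.unusedSectionVars false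

namespace Cfsg.H5.SmallOrd

open scoped Nat

variable {G : Type*} [Group G] [Finite G]

/-- A non-abelian simple group acts by even permutations on any finite set. -/
theorem sign_toPerm_eq_one [IsSimpleGroup G] (hG : ¬ IsMulCommutative G) {Ω : Type*}
    [MulAction G Ω] [Fintype Ω] [DecidableEq Ω] (g : G) :
    Equiv.Perm.sign (MulAction.toPermHom G Ω g) = 1 := by
  let s : G →* ℤˣ := (Equiv.Perm.sign).comp (MulAction.toPermHom G Ω)
  have hker : s.ker = ⊤ := by
    rcases (MonoidHom.normal_ker s).eq_bot_or_eq_top with h | h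
    · exfalso
      apply hG
      have hinj : Function.Injective s := (MonoidHom.ker_eq_bot_iff s).mp h
      refine ⟨⟨fun a b => hinj ?_⟩⟩
      rw [map_mul, map_mul, mul_comm]
    · exact h
  have : g ∈ s.ker := by rw [hker]; trivial
  exact MonoidHom.mem_ker.mp this

/-- In a non-abelian simple group acting on a finite set, an involution moves a multiple of four
points. -/
theorem four_dvd_moved [IsSimpleGroup G] (hG : ¬ IsMulCommutative G) {Ω : Type*}
    [MulAction G Ω] [Fintype Ω] [DecidableEq Ω] (t : G) (ht : t * t = 1) :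
    4 ∣ (Finset.univ.filter (fun ω : Ω => t • ω ≠ ω)).card := by
  have hsign := sign_toPerm_eq_one hG (Ω := Ω) t
  have hsupp : (MulAction.toPermHom G Ω t).support =
      Finset.univ.filter (fun ω : Ω => t • ω ≠ ω) := by
    ext ω
    simp [Equiv.Perm.mem_support]
  rw [← hsupp]
  by_cases h1 : MulAction.toPermHom G Ω t = 1
  · rw [h1, Equiv.Perm.support_one, Finset.card_empty]
    exact dvd_zero 4
  · have hsq : (MulAction.toPermHom G Ω t) ^ 2 = 1 := by
      rw [sq, ← map_mul, ht, map_one]
    have hord : orderOf (MulAction.toPermHom G Ω t) = 2 := orderOf_eq_prime hsq h1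
    obtain ⟨n, hn⟩ := Equiv.Perm.cycleType_prime_order
      (σ := MulAction.toPermHom G Ω t) (by rw [hord]; exact Nat.prime_two)
    rw [hord] at hn
    rw [Equiv.Perm.sign_of_cycleType, hn, Multiset.sum_replicate, Multiset.card_replicate] at hsign
    have hev : Even ((n + 1) • 2 + (n + 1)) := by
      by_contra hodd
      rw [Nat.not_even_iff_odd] at hodd
      rw [hodd.neg_one_pow] at hsign
      exact absurd hsign (by decide)
    rw [← Equiv.Perm.sum_cycleType, hn, Multiset.sum_replicate]
    rw [smul_eq_mul] at hev ⊢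
    have : Even (n + 1) := by
      rcases Nat.even_or_odd (n + 1) with h | h
      · exact h
      · exfalso
        rw [← Nat.not_odd_iff_even] at hev
        apply hev
        obtain ⟨j, hj⟩ := h
        exact ⟨3 * j + 1, by rw [hj]; ring⟩
    obtain ⟨j, hj⟩ := this
    exact ⟨j, by rw [hj]; ring⟩


theorem zpowers_eq_of_card_prime (p : ℕ) [hp : Fact p.Prime] (P : Subgroup G)
    (hP : Nat.card P = p) (x : G) (hx : x ∈ P) (hx1 : x ≠ 1) : Subgroup.zpowers x = P := by
  apply Subgroup.eq_of_le_of_card_ge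
  · rw [Subgroup.zpowers_le]
    exact hx
  · rw [hP, Nat.card_zpowers]
    have h1 : orderOf x ∣ p := by
      have := Subgroup.orderOf_dvd_natCard P hx
      rwa [hP] at this
    rcases (Nat.dvd_prime hp.out).mp h1 with h | h
    · exact absurd (orderOf_eq_one_iff.mp h) hx1
    · exact h.ge

theorem sylow_card_eq (p : ℕ) [hp : Fact p.Prime] (P Q : Sylow p G) :
    Nat.card (Q : Subgroup G) = Nat.card (P : Subgroup G) := by
  rw [P.card_eq_multiplicity, Q.card_eq_multiplicity]

/-- A nonidentity element of a Sylow subgroup `P` of prime order normalising a Sylow subgroup `Q`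
forces `Q = P`. -/
theorem sylow_eq_of_normalizes (p : ℕ) [hp : Fact p.Prime] (P Q : Sylow p G)
    (hPc : Nat.card (P : Subgroup G) = p) (w : G) (hwP : w ∈ (P : Subgroup G)) (hw1 : w ≠ 1)
    (hwQ : w • Q = Q) : Q = P := by
  have hwN : w ∈ Subgroup.normalizer ((Q : Subgroup G) : Set G) :=
    Sylow.smul_eq_iff_mem_normalizer.mp hwQ
  have h1 := IsPGroup.inf_normalizer_sylow P.isPGroup' Q
  have hwQ' : w ∈ (Q : Subgroup G) := by
    have : w ∈ ((P : Subgroup G) ⊓ (Q : Subgroup G) : Subgroup G) := by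
      rw [← h1]
      exact Subgroup.mem_inf.mpr ⟨hwP, hwN⟩
    exact (Subgroup.mem_inf.mp this).2
  have hQc : Nat.card (Q : Subgroup G) = p := by rw [sylow_card_eq p P Q, hPc]
  apply Sylow.ext
  rw [← zpowers_eq_of_card_prime p _ hQc w hwQ' hw1, zpowers_eq_of_card_prime p _ hPc w hwP hw1]

/-- If `|P₁| = p` odd, `C(P₁) = P₁` and `n_p = p + 1`, then an involution normalising `P₁`
normalises at most one further Sylow `p`-subgroup. -/
theorem invol_normalizes_le_two (p : ℕ) [hp : Fact p.Prime] (hp2 : p ≠ 2)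
    (hk : Nat.card (Sylow p G) = p + 1) (P1 P2 P3 : Sylow p G)
    (hP1c : Nat.card (P1 : Subgroup G) = p)
    (hcent : Subgroup.centralizer ((P1 : Subgroup G) : Set G) = (P1 : Subgroup G))
    (t : G) (ht : t * t = 1) (ht1 : t ≠ 1) (h1 : t • P1 = P1) (h2 : t • P2 = P2)
    (h3 : t • P3 = P3) (h12 : P2 ≠ P1) (h13 : P3 ≠ P1) : P2 = P3 := by
  have hcard1 : 1 < Nat.card (P1 : Subgroup G) := by rw [hP1c]; exact hp.out.one_lt
  have hnt : Nontrivial (P1 : Subgroup G) := Finite.one_lt_card_iff_nontrivial.mp hcard1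
  obtain ⟨x', hx'⟩ := exists_ne (1 : (P1 : Subgroup G))
  obtain ⟨x, hxP⟩ := x'
  have hx1 : x ≠ 1 := by
    intro h
    apply hx'
    exact Subtype.ext h
  have hzx := zpowers_eq_of_card_prime p _ hP1c x hxP hx1
  have hordx : orderOf x = p := by
    rw [← Nat.card_zpowers, hzx, hP1c]
  have htinv : t⁻¹ = t := inv_eq_of_mul_eq_one_left ht
  have htN : t ∈ Subgroup.normalizer ((P1 : Subgroup G) : Set G) :=
    Sylow.smul_eq_iff_mem_normalizer.mp h1
  have htx : t * x * t⁻¹ ∈ (P1 : Subgroup G) := (Subgroup.mem_normalizer_iff.mp htN x).mp hxP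
  -- `P₁` is commutative
  have hcommP : ∀ a ∈ (P1 : Subgroup G), ∀ b ∈ (P1 : Subgroup G), a * b = b * a := by
    intro a ha b hb
    rw [← hzx] at ha hb
    obtain ⟨i, rfl⟩ := ha
    obtain ⟨j, rfl⟩ := hb
    rw [← zpow_add, ← zpow_add, add_comm]
  -- `t` inverts `x`
  have hinv : t * x * t⁻¹ = x⁻¹ := by
    have hy : x * (t * x * t⁻¹) ∈ (P1 : Subgroup G) := mul_mem hxP htx
    by_cases hy1 : x * (t * x * t⁻¹) = 1
    · exact (inv_eq_of_mul_eq_one_right hy1).symm
    · exfalso
      have hzy := zpowers_eq_of_card_prime p _ hP1c _ hy hy1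
      have hty : t * (x * (t * x * t⁻¹)) = (x * (t * x * t⁻¹)) * t := by
        have e1 : t * (x * (t * x * t⁻¹)) * t⁻¹ = (t * x * t⁻¹) * x := by
          calc t * (x * (t * x * t⁻¹)) * t⁻¹ = (t * x * t⁻¹) * ((t * t) * x * (t * t)⁻¹) := by
                group
            _ = (t * x * t⁻¹) * x := by rw [ht]; group
        have e2 : (t * x * t⁻¹) * x = x * (t * x * t⁻¹) := hcommP _ htx _ hxP
        calc t * (x * (t * x * t⁻¹)) = (t * (x * (t * x * t⁻¹)) * t⁻¹) * t := by group
          _ = (x * (t * x * t⁻¹)) * t := by rw [e1, e2]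
      have htC : t ∈ Subgroup.centralizer ((P1 : Subgroup G) : Set G) := by
        rw [Subgroup.mem_centralizer_iff]
        intro h hh
        have hh' : h ∈ Subgroup.zpowers (x * (t * x * t⁻¹)) := by rw [hzy]; exact hh
        obtain ⟨i, rfl⟩ := hh'
        exact (Commute.zpow_left (show Commute (x * (t * x * t⁻¹)) t from hty.symm) i).eq
      rw [hcent] at htC
      have h5 : orderOf t ∣ p := by
        have := Subgroup.orderOf_dvd_natCard _ htC
        rwa [hP1c] at this
      have h6 : orderOf t = 2 := orderOf_eq_prime (by rw [sq]; exact ht) ht1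
      rw [h6] at h5
      exact hp2 ((Nat.prime_dvd_prime_iff_eq Nat.prime_two hp.out).mp h5).symm
  -- elements of `P₁` fix `P₁`
  have hfix : ∀ w ∈ (P1 : Subgroup G), w • P1 = P1 := by
    intro w hw
    exact Sylow.smul_eq_iff_mem_normalizer.mpr (Subgroup.le_normalizer hw)
  -- the pigeonhole map
  let g : Option (Fin p) → Sylow p G := fun o => match o with
    | none => P1
    | some k => x ^ (k : ℕ) • P2
  have hpow_mem : ∀ k : ℕ, x ^ k ∈ (P1 : Subgroup G) := fun k => pow_mem hxP k
  have hginj : Function.Injective g := by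
    intro o1 o2 h
    rcases o1 with _ | k <;> rcases o2 with _ | j
    · rfl
    · exfalso
      have h' : P1 = x ^ (j : ℕ) • P2 := h
      apply h12
      have h4 : (x ^ (j : ℕ))⁻¹ • P1 = P2 := by rw [h', inv_smul_smul]
      rw [← h4]
      exact hfix _ (inv_mem (hpow_mem _))
    · exfalso
      have h' : x ^ (k : ℕ) • P2 = P1 := h
      apply h12
      have h4 : (x ^ (k : ℕ))⁻¹ • P1 = P2 := by rw [← h', inv_smul_smul]
      rw [← h4]
      exact hfix _ (inv_mem (hpow_mem _))
    · have h' : x ^ (k : ℕ) • P2 = x ^ (j : ℕ) • P2 := h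
      have h4 : ((x ^ (j : ℕ))⁻¹ * x ^ (k : ℕ)) • P2 = P2 := by
        rw [mul_smul, h', inv_smul_smul]
      have h5 : (x ^ (j : ℕ))⁻¹ * x ^ (k : ℕ) = 1 := by
        by_contra hne
        exact h12 (sylow_eq_of_normalizes p P1 P2 hP1c _
          (mul_mem (inv_mem (hpow_mem _)) (hpow_mem _)) hne h4)
      have h6 : x ^ (k : ℕ) = x ^ (j : ℕ) := by
        have := congrArg (fun y => x ^ (j : ℕ) * y) h5
        simpa using this
      have hk' : (k : ℕ) ∈ Set.Iio (orderOf x) := by rw [hordx]; exact k.2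
      have hj' : (j : ℕ) ∈ Set.Iio (orderOf x) := by rw [hordx]; exact j.2
      have := pow_injOn_Iio_orderOf hk' hj' h6
      exact congrArg some (Fin.ext this)
  have hgbij : Function.Bijective g := by
    apply hginj.bijective_of_nat_card_le
    rw [hk, Nat.card_eq_fintype_card, Fintype.card_option, Fintype.card_fin]
  obtain ⟨o, ho⟩ := hgbij.2 P3
  rcases o with _ | k
  · exact absurd ho.symm h13
  · have hP3 : x ^ (k : ℕ) • P2 = P3 := ho
    -- conjugate by `t`
    have hconj : t * x ^ (k : ℕ) * t⁻¹ = (x⁻¹) ^ (k : ℕ) := by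
      rw [← hinv, conj_pow]
    have h4 : t • P3 = (x⁻¹) ^ (k : ℕ) • P2 := by
      rw [← hP3, ← mul_smul]
      have : t * x ^ (k : ℕ) = (t * x ^ (k : ℕ) * t⁻¹) * t := by group
      rw [this, hconj, mul_smul, h2]
    rw [h3, ← hP3] at h4
    have h5 : (x ^ (k : ℕ) * x ^ (k : ℕ)) • P2 = P2 := by
      rw [mul_smul, h4, ← mul_smul, inv_pow, mul_inv_cancel, one_smul]
    have h6 : x ^ (k : ℕ) * x ^ (k : ℕ) = 1 := by
      by_contra hne
      exact h12 (sylow_eq_of_normalizes p P1 P2 hP1c _
        (mul_mem (hpow_mem _) (hpow_mem _)) hne h5)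
    rw [← pow_add] at h6
    have h7 : p ∣ (k : ℕ) + (k : ℕ) := by
      have := orderOf_dvd_of_pow_eq_one h6
      rwa [hordx] at this
    have h8 : p ∣ (k : ℕ) := by
      have : p ∣ 2 * (k : ℕ) := by rw [two_mul]; exact h7
      rcases (Nat.Prime.dvd_mul hp.out).mp this with h | h
      · exact absurd ((Nat.prime_dvd_prime_iff_eq hp.out Nat.prime_two).mp h) hp2
      · exact h
    have h9 : (k : ℕ) = 0 := Nat.eq_zero_of_dvd_of_lt h8 k.2
    rw [h9, pow_zero, one_smul] at hP3
    exact hP3

end Cfsg.H5.SmallOrd
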