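import Mathlib
import Cfsg.Agent.H5.SmallOrdBasic
import Cfsg.Agent.H5.SmallOrdC
import Cfsg.Agent.H5.SmallOrdD
import Cfsg.Agent.H5.SmallOrdE

/-!
# No simple groups of order 612 or 760 (helper5, for S0496)

Both have `n_p = p + 1` for `p = 17` resp. `19` with `C(P) = P` (S0904), `|N(P)| = 2p`; an
involution normalises at most two Sylow `p`-subgroups (`invol_normalizes_le_two`) and moves a
multiple of four points (`four_dvd_moved`).
-/

set_option autoImplicit false
set_option linter.unusedSectionVars false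

namespace Cfsg.H5.SmallOrd

open scoped Nat

variable {G : Type*} [Group G] [Finite G]

theorem no_760 [IsSimpleGroup G] (hG : ¬ IsMulCommutative G) : Nat.card G ≠ 760 := by
  classical
  intro hn
  have hp19 : Fact (Nat.Prime 19) := ⟨by norm_num⟩
  have hcard : Nat.card G = 2 ^ 3 * 5 ^ 1 * 19 := by rw [hn]; norm_num
  have hm : ¬ 19 ∣ 40 := by norm_num
  have hk : Nat.card (Sylow 19 G) = 20 := by
    have h1 := f1ok_sylow hG 760 19 1 40 (by norm_num) (by norm_num) hm hn (by norm_num)
    have h2 := sylow_num_le hG 19 1 40 (by norm_num) (by norm_num) hm (by rw [hn]; norm_num)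
    have cert : ∀ k ∈ List.range 41, f1ok 760 19 40 k = true → k = 20 := by decide +kernel
    exact cert _ h2 h1
  have hdata : ∀ P : Sylow 19 G,
      Subgroup.centralizer ((P : Subgroup G) : Set G) = (P : Subgroup G) ∧
      Nat.card (P : Subgroup G) = 19 ∧
      Nat.card (Subgroup.normalizer ((P : Subgroup G) : Set G)) = 38 := by
    intro P
    obtain ⟨e, -, -, hke, hcent, hPc, hN⟩ := sylow_prime_data3 hG 2 5 19 3 1 Nat.prime_two
      Nat.prime_five (by norm_num) (by norm_num) (by norm_num) hcard (by norm_num) P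
    rw [hk] at hke
    have he : e = 2 := by omega
    subst he
    exact ⟨hcent, hPc, hN⟩
  obtain ⟨P1⟩ : Nonempty (Sylow 19 G) := inferInstance
  obtain ⟨hcent1, hPc1, hN1⟩ := hdata P1
  -- an involution in `N(P₁)`
  have : Fact (Nat.Prime 2) := ⟨Nat.prime_two⟩
  obtain ⟨t', ht'⟩ := exists_prime_orderOf_dvd_card' (G := Subgroup.normalizer ((P1 : Subgroup G) : Set G)) 2
    (by rw [hN1]; norm_num)
  obtain ⟨t, htN⟩ := t'
  have hto : orderOf t = 2 := by
    rw [← ht']
    exact (Subgroup.orderOf_mk t htN).symm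
  have ht : t * t = 1 := by
    rw [← sq, ← hto]
    exact pow_orderOf_eq_one t
  have ht1 : t ≠ 1 := by
    intro h
    rw [h, orderOf_one] at hto
    omega
  have htP1 : t • P1 = P1 := Sylow.smul_eq_iff_mem_normalizer.mpr htN
  have : Fintype (Sylow 19 G) := Fintype.ofFinite _
  have hmoved := four_dvd_moved hG (Ω := Sylow 19 G) t ht
  have htot : (Finset.univ.filter (fun ω : Sylow 19 G => t • ω = ω)).card +
      (Finset.univ.filter (fun ω : Sylow 19 G => ¬ t • ω = ω)).card = 20 := by
    rw [Finset.card_filter_add_card_filter_not, Finset.card_univ, ← Nat.card_eq_fintype_card, hk]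
  have hfix1 : 0 < (Finset.univ.filter (fun ω : Sylow 19 G => t • ω = ω)).card := by
    apply Finset.card_pos.mpr
    exact ⟨P1, by simp [htP1]⟩
  have hfix3 : 2 < (Finset.univ.filter (fun ω : Sylow 19 G => t • ω = ω)).card := by
    obtain ⟨j, hj⟩ := hmoved
    have : (Finset.univ.filter (fun ω : Sylow 19 G => ¬ t • ω = ω)).card = 4 * j := hj
    omega
  obtain ⟨a, b, c, ha, hb, hc, hab, hac, hbc⟩ := Finset.two_lt_card_iff.mp hfix3
  simp only [Finset.mem_filter, Finset.mem_univ, true_and] at ha hb hc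
  obtain ⟨hcenta, hPca, -⟩ := hdata a
  exact hbc (invol_normalizes_le_two 19 (by norm_num) hk a b c hPca hcenta t ht ht1 ha hb hc
    (Ne.symm hab) (Ne.symm hac))


theorem no_612 [IsSimpleGroup G] (hG : ¬ IsMulCommutative G) : Nat.card G ≠ 612 := by
  classical
  intro hn
  have hp17 : Fact (Nat.Prime 17) := ⟨by norm_num⟩
  have hp3 : Fact (Nat.Prime 3) := ⟨Nat.prime_three⟩
  have hp2 : Fact (Nat.Prime 2) := ⟨Nat.prime_two⟩
  have hcard : Nat.card G = 2 ^ 2 * 3 ^ 2 * 17 := by rw [hn]; norm_num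
  have hm17 : ¬ 17 ∣ 36 := by norm_num
  have hk : Nat.card (Sylow 17 G) = 18 := by
    have h1 := f1ok_sylow hG 612 17 1 36 (by norm_num) (by norm_num) hm17 hn (by norm_num)
    have h2 := sylow_num_le hG 17 1 36 (by norm_num) (by norm_num) hm17 (by rw [hn]; norm_num)
    have cert : ∀ k ∈ List.range 37, f1ok 612 17 36 k = true → k = 18 := by decide +kernel
    exact cert _ h2 h1
  have hdata : ∀ P : Sylow 17 G,
      Subgroup.centralizer ((P : Subgroup G) : Set G) = (P : Subgroup G) ∧
      Nat.card (P : Subgroup G) = 17 ∧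
      Nat.card (Subgroup.normalizer ((P : Subgroup G) : Set G)) = 34 := by
    intro P
    obtain ⟨e, -, -, hke, hcent, hPc, hN⟩ := sylow_prime_data3 hG 2 3 17 2 2 Nat.prime_two
      Nat.prime_three (by norm_num) (by norm_num) (by norm_num) hcard (by norm_num) P
    rw [hk] at hke
    have he : e = 2 := by omega
    subst he
    exact ⟨hcent, hPc, hN⟩
  -- Sylow 3-subgroups
  have hm3 : ¬ 3 ∣ 68 := by norm_num
  have hcard3 : Nat.card G = 3 ^ 2 * 68 := by rw [hn]; norm_num
  have hk3 : Nat.card (Sylow 3 G) = 34 := by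
    have h1 := f1ok_sylow hG 612 3 2 68 (by norm_num) (by norm_num) hm3 hn (by norm_num)
    have h2 := sylow_num_le hG 3 2 68 (by norm_num) (by norm_num) hm3 hcard3
    have cert : ∀ k ∈ List.range 69, f1ok 612 3 68 k = true → k = 34 := by decide +kernel
    exact cert _ h2 h1
  obtain ⟨P, R, hPR, hDc, hPN, hRN⟩ :=
    exists_inter 3 2 68 (by norm_num) hm3 hcard3 (by rw [hk3]; norm_num)
  have hDc3 : Nat.card ((P : Subgroup G) ⊓ (R : Subgroup G) : Subgroup G) = 3 := by omega
  have hD1 : (P : Subgroup G) ⊓ (R : Subgroup G) ≠ ⊥ := by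
    intro h
    rw [h, Subgroup.card_bot] at hDc3
    omega
  have hD2 : (P : Subgroup G) ⊓ (R : Subgroup G) ≠ ⊤ := by
    intro h
    rw [h, Subgroup.card_top, hn] at hDc3
    omega
  obtain ⟨d, i, hd, hi, hok, hNi, -⟩ :=
    interOk_of hG 612 3 2 68 hm3 hn (by norm_num) P R hPR _ hD1 hD2 hPN hRN
  have cert : ∀ d ∈ List.range 69, ∀ i ∈ List.range 69, interOk 612 3 68 d i = true → i = 17 := by
    decide +kernel
  have hi17 := cert d hd i hi hok
  subst hi17
  have hN36 : Nat.card (Subgroup.normalizer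
      (((P : Subgroup G) ⊓ (R : Subgroup G) : Subgroup G) : Set G)) = 36 := by omega
  -- the centralizer of `D` has even order
  have hrel := relIndex_centralizer_normalizer_dvd_prime
    ((P : Subgroup G) ⊓ (R : Subgroup G) : Subgroup G) Nat.prime_three hDc3
  have hCN := card_mul_relIndex_of_le (Subgroup.centralizer_le_normalizer
    (((P : Subgroup G) ⊓ (R : Subgroup G) : Subgroup G) : Set G))
  rw [hN36] at hCN
  have heven : 2 ∣ Nat.card (Subgroup.centralizer
      (((P : Subgroup G) ⊓ (R : Subgroup G) : Subgroup G) : Set G)) := by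
    have h2 : (Subgroup.centralizer
      (((P : Subgroup G) ⊓ (R : Subgroup G) : Subgroup G) : Set G)).relIndex
        (Subgroup.normalizer (((P : Subgroup G) ⊓ (R : Subgroup G) : Subgroup G) : Set G)) ≤ 2 :=
      Nat.le_of_dvd (by norm_num) hrel
    interval_cases hr : (Subgroup.centralizer
      (((P : Subgroup G) ⊓ (R : Subgroup G) : Subgroup G) : Set G)).relIndex
        (Subgroup.normalizer (((P : Subgroup G) ⊓ (R : Subgroup G) : Subgroup G) : Set G))
    · omega
    · omega
    · omega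
  obtain ⟨t', ht'⟩ := exists_prime_orderOf_dvd_card' (G := Subgroup.centralizer
      (((P : Subgroup G) ⊓ (R : Subgroup G) : Subgroup G) : Set G)) 2 heven
  obtain ⟨t, htC⟩ := t'
  have hto : orderOf t = 2 := by
    rw [← ht']
    exact (Subgroup.orderOf_mk t htC).symm
  have ht : t * t = 1 := by
    rw [← sq, ← hto]
    exact pow_orderOf_eq_one t
  have ht1 : t ≠ 1 := by
    intro h
    rw [h, orderOf_one] at hto
    omega
  -- an element of order 3 commuting with `t`
  have hntD : Nontrivial ((P : Subgroup G) ⊓ (R : Subgroup G) : Subgroup G) := by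
    apply Finite.one_lt_card_iff_nontrivial.mp
    rw [hDc3]
    norm_num
  obtain ⟨d0', hd0'⟩ := exists_ne (1 : ((P : Subgroup G) ⊓ (R : Subgroup G) : Subgroup G))
  obtain ⟨d0, hd0D⟩ := d0'
  have hd01 : d0 ≠ 1 := by
    intro h
    apply hd0'
    exact Subtype.ext h
  have hcomm : d0 * t = t * d0 := (Subgroup.mem_centralizer_iff.mp htC) d0 hd0D
  have hd0o : orderOf d0 = 3 := by
    rw [← Nat.card_zpowers, zpowers_eq_of_card_prime 3 _ hDc3 d0 hd0D hd01, hDc3]
  -- a Sylow 17-subgroup normalised by `t`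
  have : Fintype (Sylow 17 G) := Fintype.ofFinite _
  have hmoved := four_dvd_moved hG (Ω := Sylow 17 G) t ht
  have htot : (Finset.univ.filter (fun ω : Sylow 17 G => t • ω = ω)).card +
      (Finset.univ.filter (fun ω : Sylow 17 G => ¬ t • ω = ω)).card = 18 := by
    rw [Finset.card_filter_add_card_filter_not, Finset.card_univ, ← Nat.card_eq_fintype_card, hk]
  have hfix1 : 0 < (Finset.univ.filter (fun ω : Sylow 17 G => t • ω = ω)).card := by
    obtain ⟨j, hj⟩ := hmoved
    have : (Finset.univ.filter (fun ω : Sylow 17 G => ¬ t • ω = ω)).card = 4 * j := hj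
    omega
  obtain ⟨P1, hP1⟩ := Finset.card_pos.mp hfix1
  simp only [Finset.mem_filter, Finset.mem_univ, true_and] at hP1
  obtain ⟨hcent1, hPc1, hN1⟩ := hdata P1
  have hfixd : ∀ g : G, g * t = t * g → t • (g • P1) = g • P1 := by
    intro g hg
    rw [← mul_smul, ← hg, mul_smul, hP1]
  have hnotN : ∀ g : G, orderOf g = 3 → g • P1 ≠ P1 := by
    intro g hg h
    have hgN : g ∈ Subgroup.normalizer ((P1 : Subgroup G) : Set G) :=
      Sylow.smul_eq_iff_mem_normalizer.mp h
    have := Subgroup.orderOf_dvd_natCard _ hgN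
    rw [hg, hN1] at this
    omega
  have hd02o : orderOf (d0 * d0) = 3 := by
    rw [← sq, orderOf_pow' d0 (by norm_num : (2 : ℕ) ≠ 0), hd0o]
    norm_num
  have hcomm2 : (d0 * d0) * t = t * (d0 * d0) := by
    rw [mul_assoc, hcomm, ← mul_assoc, hcomm, mul_assoc]
  have heq := invol_normalizes_le_two 17 (by norm_num) hk P1 (d0 • P1) ((d0 * d0) • P1) hPc1
    hcent1 t ht ht1 hP1 (hfixd d0 hcomm) (hfixd _ hcomm2) (hnotN d0 hd0o) (hnotN _ hd02o)
  apply hnotN d0 hd0o
  have := congrArg (fun Q => d0⁻¹ • Q) heq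
  simp only [inv_smul_smul, mul_smul] at this
  exact this.symm

end Cfsg.H5.SmallOrd
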