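import Mathlib
import Cfsg.Agent.H5.SmallOrdBasic
import Cfsg.Agent.H5.SmallOrdD
import Cfsg.Agent.S4216

/-!
# No simple group of order 756 (helper5, for S0496)

`n_3 = 28`, so Sylow 3-subgroups are self-normalizing of order 27.  For Sylow 3-subgroups
`P ≠ R` we show `P ∩ Z(R) = 1`; Grün's first theorem (S4216) then gives `P ∩ G' ≤ P'`.
-/

set_option autoImplicit false
set_option linter.unusedSectionVars false

namespace Cfsg.H5.SmallOrd

open scoped Nat

theorem comm_of_card_pow_le_two {Q : Type*} [Group Q] [Finite Q] (p k : ℕ) [hp : Fact p.Prime]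
    (hk : k ≤ 2) (hQ : Nat.card Q = p ^ k) : ∀ a b : Q, a * b = b * a := by
  interval_cases k
  · rw [pow_zero] at hQ
    have : Subsingleton Q := (Nat.card_eq_one_iff_unique.mp hQ).1
    intro a b
    exact Subsingleton.elim _ _
  · rw [pow_one] at hQ
    have : Fact (Nat.card Q).Prime := ⟨by rw [hQ]; exact hp.out⟩
    have hcyc : IsCyclic Q := isCyclic_of_prime_card rfl
    have := IsCyclic.isMulCommutative (α := Q)
    intro a b
    exact mul_comm' a b
  · have := IsPGroup.isMulCommutative_of_card_eq_prime_sq hQ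
    intro a b
    exact mul_comm' a b

theorem commutator_le_center_of_card_cube {Q : Type*} [Group Q] [Finite Q] (p : ℕ)
    [hp : Fact p.Prime] (hQ : Nat.card Q = p ^ 3) : commutator Q ≤ Subgroup.center Q := by
  have hpg : IsPGroup p Q := IsPGroup.of_card hQ
  have hnt : Nontrivial Q := by
    apply Finite.one_lt_card_iff_nontrivial.mp
    rw [hQ]
    exact Nat.one_lt_pow (by norm_num) hp.out.one_lt
  have hZnt : Nontrivial (Subgroup.center Q) := hpg.center_nontrivial
  obtain ⟨j, hj⟩ := IsPGroup.iff_card.mp (hpg.to_subgroup (Subgroup.center Q))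
  have hj0 : j ≠ 0 := by
    rintro rfl
    rw [pow_zero] at hj
    have := Finite.one_lt_card_iff_nontrivial.mpr hZnt
    omega
  have h1 := Subgroup.card_eq_card_quotient_mul_card_subgroup (Subgroup.center Q)
  rw [hQ, hj] at h1
  have hj3 : j ≤ 3 := by
    have hdvd : p ^ j ∣ p ^ 3 := Dvd.intro_left _ h1.symm
    exact (Nat.pow_dvd_pow_iff_le_right hp.out.one_lt).mp hdvd
  have hq : Nat.card (Q ⧸ Subgroup.center Q) = p ^ (3 - j) := by
    have h2 : p ^ 3 = p ^ (3 - j) * p ^ j := by rw [← pow_add]; congr 1; omega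
    rw [h2] at h1
    exact (Nat.eq_of_mul_eq_mul_right (pow_pos hp.out.pos j) h1).symm
  have hcomm := comm_of_card_pow_le_two p (3 - j) (by omega) hq
  rw [commutator_def, Subgroup.commutator_le]
  intro x _ y _
  rw [← QuotientGroup.eq_one_iff, commutatorElement_def, QuotientGroup.mk_mul,
    QuotientGroup.mk_mul, QuotientGroup.mk_mul, QuotientGroup.mk_inv, QuotientGroup.mk_inv,
    hcomm (QuotientGroup.mk x) (QuotientGroup.mk y)]
  group

variable {G : Type*} [Group G] [Finite G]

/-- For a subgroup `R` of order `p³`, `[R, R] ≤ C(R)`. -/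
theorem commutator_le_centralizer_of_card_cube (p : ℕ) [hp : Fact p.Prime] (R : Subgroup G)
    (hR : Nat.card R = p ^ 3) : ⁅R, R⁆ ≤ Subgroup.centralizer (R : Set G) := by
  rw [← Subgroup.map_subtype_commutator]
  rintro x ⟨y, hy, rfl⟩
  have hy' := commutator_le_center_of_card_cube p hR hy
  rw [Subgroup.mem_center_iff] at hy'
  rw [Subgroup.mem_centralizer_iff]
  intro h hh
  have := hy' ⟨h, hh⟩
  exact congrArg Subtype.val this

/-- In a Sylow `p`-subgroup of order `≥ p²`, every element has centralizer of order divisible by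
`p²`. -/
theorem sq_dvd_card_inf_centralizer (p : ℕ) [hp : Fact p.Prime] (a : ℕ) (ha : 2 ≤ a)
    (P : Sylow p G) (hPc : Nat.card (P : Subgroup G) = p ^ a) (z : G)
    (hz : z ∈ (P : Subgroup G)) :
    p ^ 2 ∣ Nat.card ((P : Subgroup G) ⊓ Subgroup.centralizer {z} : Subgroup G) := by
  have hpgP : IsPGroup p (P : Subgroup G) := P.isPGroup'
  have hpow : ∀ K : Subgroup G, K ≤ (P : Subgroup G) → ∃ i, Nat.card K = p ^ i := by
    intro K hK
    exact IsPGroup.iff_card.mp (hpgP.to_le hK)
  -- the centre of `P` inside `G`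
  have hnt : Nontrivial (P : Subgroup G) := by
    apply Finite.one_lt_card_iff_nontrivial.mp
    rw [hPc]
    exact Nat.one_lt_pow (by omega) hp.out.one_lt
  have hZnt : Nontrivial (Subgroup.center (P : Subgroup G)) := hpgP.center_nontrivial
  obtain ⟨w, hw⟩ := exists_ne (1 : Subgroup.center (P : Subgroup G))
  have hwZ : ((w : (P : Subgroup G)) : G) ∈
      ((P : Subgroup G) ⊓ Subgroup.centralizer ((P : Subgroup G) : Set G) : Subgroup G) := by
    apply Subgroup.mem_inf.mpr
    refine ⟨(w : (P : Subgroup G)).2, ?_⟩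
    rw [Subgroup.mem_centralizer_iff]
    intro h hh
    have := (Subgroup.mem_center_iff.mp w.2) ⟨h, hh⟩
    exact congrArg Subtype.val this
  have hw1 : ((w : (P : Subgroup G)) : G) ≠ 1 := by
    intro h
    apply hw
    apply Subtype.ext
    apply Subtype.ext
    exact h
  have hZC : ((P : Subgroup G) ⊓ Subgroup.centralizer ((P : Subgroup G) : Set G) : Subgroup G) ≤
      ((P : Subgroup G) ⊓ Subgroup.centralizer {z} : Subgroup G) := by
    apply inf_le_inf_left
    apply Subgroup.centralizer_le
    intro x hx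
    rw [Set.mem_singleton_iff] at hx
    rw [hx]
    exact hz
  obtain ⟨j, hj⟩ := hpow _ (inf_le_left :
    ((P : Subgroup G) ⊓ Subgroup.centralizer ((P : Subgroup G) : Set G) : Subgroup G) ≤ _)
  obtain ⟨i, hi⟩ := hpow _ (inf_le_left :
    ((P : Subgroup G) ⊓ Subgroup.centralizer {z} : Subgroup G) ≤ _)
  have hj0 : j ≠ 0 := by
    rintro rfl
    rw [pow_zero, Subgroup.card_eq_one] at hj
    rw [hj, Subgroup.mem_bot] at hwZ
    exact hw1 hwZ
  have hji : j ≤ i := by
    have := Subgroup.card_dvd_of_le hZC
    rw [hj, hi] at this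
    exact (Nat.pow_dvd_pow_iff_le_right hp.out.one_lt).mp this
  rw [hi]
  apply pow_dvd_pow
  by_contra hi2
  push Not at hi2
  have hij : i = j := by omega
  -- then the two subgroups coincide, so `z` is central in `P`, and the centralizer is all of `P`
  have heq : ((P : Subgroup G) ⊓ Subgroup.centralizer ((P : Subgroup G) : Set G) : Subgroup G) =
      ((P : Subgroup G) ⊓ Subgroup.centralizer {z} : Subgroup G) := by
    apply Subgroup.eq_of_le_of_card_ge hZC
    rw [hi, hj, hij]
  have hzC : z ∈ ((P : Subgroup G) ⊓ Subgroup.centralizer {z} : Subgroup G) := by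
    apply Subgroup.mem_inf.mpr
    refine ⟨hz, ?_⟩
    rw [Subgroup.mem_centralizer_iff]
    intro h hh
    rw [Set.mem_singleton_iff] at hh
    rw [hh]
  rw [← heq] at hzC
  have hall : (P : Subgroup G) ≤ ((P : Subgroup G) ⊓ Subgroup.centralizer {z} : Subgroup G) := by
    intro x hx
    apply Subgroup.mem_inf.mpr
    refine ⟨hx, ?_⟩
    rw [Subgroup.mem_centralizer_iff]
    intro h hh
    rw [Set.mem_singleton_iff] at hh
    rw [hh]
    have := (Subgroup.mem_centralizer_iff.mp (Subgroup.mem_inf.mp hzC).2) x hx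
    exact this.symm
  have := Subgroup.card_dvd_of_le hall
  rw [hPc, hi] at this
  have := (Nat.pow_dvd_pow_iff_le_right hp.out.one_lt).mp this
  omega


theorem mem_normalizer_zpowers_of_comm {r z : G} (h : r * z = z * r) :
    r ∈ Subgroup.normalizer (Subgroup.zpowers z : Set G) := by
  apply Subgroup.centralizer_le_normalizer
  rw [Subgroup.mem_centralizer_iff]
  rintro _ ⟨k, rfl⟩
  exact (Commute.zpow_left (show Commute z r from h.symm) k).eq

theorem mem_sylow_smul_iff (p : ℕ) [Fact p.Prime] (g x : G) (R : Sylow p G) :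
    x ∈ ((g • R : Sylow p G) : Subgroup G) ↔ g⁻¹ * x * g ∈ (R : Subgroup G) := by
  rw [Sylow.coe_subgroup_smul, Subgroup.mem_pointwise_smul_iff_inv_smul_mem]
  simp [MulAut.smul_def]

theorem map_conj_sylow (p : ℕ) [Fact p.Prime] (g : G) (R : Sylow p G) :
    (R : Subgroup G).map (MulAut.conj g).toMonoidHom = ((g • R : Sylow p G) : Subgroup G) := by
  ext x
  rw [mem_sylow_smul_iff, Subgroup.mem_map]
  constructor
  · rintro ⟨y, hy, rfl⟩
    simpa [MulAut.conj_apply, mul_assoc] using hy
  · intro h
    exact ⟨g⁻¹ * x * g, h, by simp [MulAut.conj_apply, mul_assoc]⟩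

theorem no_756 [IsSimpleGroup G] (hG : ¬ IsMulCommutative G) : Nat.card G ≠ 756 := by
  intro hn
  have hp3 : Fact (Nat.Prime 3) := ⟨Nat.prime_three⟩
  have hcard : Nat.card G = 3 ^ 3 * 28 := by rw [hn]; norm_num
  have hm : ¬ 3 ∣ 28 := by norm_num
  have hk : Nat.card (Sylow 3 G) = 28 := by
    have h1 := f1ok_sylow hG 756 3 3 28 (by norm_num) (by norm_num) hm hn (by norm_num)
    have h2 := sylow_num_le hG 3 3 28 (by norm_num) (by norm_num) hm hcard
    have cert : ∀ k ∈ List.range 29, f1ok 756 3 28 k = true → k = 28 := by decide +kernel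
    exact cert _ h2 h1
  have hPcard : ∀ P : Sylow 3 G, Nat.card (P : Subgroup G) = 3 ^ 3 :=
    fun P => sylow_card 3 3 28 hm hcard P
  have hNP : ∀ P : Sylow 3 G,
      Subgroup.normalizer ((P : Subgroup G) : Set G) = (P : Subgroup G) := by
    intro P
    symm
    apply Subgroup.eq_of_le_of_card_ge Subgroup.le_normalizer
    have h1 := Subgroup.card_mul_index (Subgroup.normalizer ((P : Subgroup G) : Set G))
    have hidx : Nat.card (Sylow 3 G) =
        (Subgroup.normalizer ((P : Subgroup G) : Set G)).index :=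
      Sylow.card_eq_index_normalizer P
    rw [← hidx, hk, hn] at h1
    rw [hPcard P]
    omega
  have hbig : ∀ (P R : Sylow 3 G), P ≠ R → ∀ D : Subgroup G, D ≠ ⊥ → D ≠ ⊤ →
      (P : Subgroup G) ≤ Subgroup.normalizer (D : Set G) →
      (R : Subgroup G) ≤ Subgroup.normalizer (D : Set G) → False := by
    intro P R hPR D hD1 hD2 hP hR
    obtain ⟨d, i, hd, hi, hok, -, -⟩ :=
      interOk_of hG 756 3 3 28 hm hn (by norm_num) P R hPR D hD1 hD2 hP hR
    have cert : ∀ d ∈ List.range 29, ∀ i ∈ List.range 29, interOk 756 3 28 d i = false := by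
      decide +kernel
    rw [cert d hd i hi] at hok
    exact absurd hok (by decide)
  -- key claim: `P ∩ Z(R) = 1` for `P ≠ R`
  have hkey : ∀ (P R : Sylow 3 G), P ≠ R → ∀ z : G, z ∈ (P : Subgroup G) →
      z ∈ (R : Subgroup G) → z ∈ Subgroup.centralizer ((R : Subgroup G) : Set G) → z = 1 := by
    intro P R hPR z hzP hzR hzC
    by_contra hz1
    have hzD1 : Subgroup.zpowers z ≠ ⊥ := by
      rw [Ne, Subgroup.zpowers_eq_bot]
      exact hz1
    have hzD2 : Subgroup.zpowers z ≠ ⊤ := by
      intro ht
      apply not_isCyclic_of_not_comm hG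
      refine ⟨⟨z, fun x => ?_⟩⟩
      have : x ∈ Subgroup.zpowers z := by rw [ht]; trivial
      exact this
    have hCR : Subgroup.centralizer {z} ≤ (R : Subgroup G) := by
      intro g hg
      by_contra hgR
      have hgN : g ∉ Subgroup.normalizer ((R : Subgroup G) : Set G) := by
        rw [hNP R]
        exact hgR
      have hne : g • R ≠ R := fun h => hgN (Sylow.smul_eq_iff_mem_normalizer.mp h)
      have hgz : g * z = z * g := by
        have := (Subgroup.mem_centralizer_iff.mp hg) z (Set.mem_singleton z)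
        exact this.symm
      apply hbig R (g • R) (Ne.symm hne) (Subgroup.zpowers z) hzD1 hzD2
      · intro r hr
        apply mem_normalizer_zpowers_of_comm
        exact (Subgroup.mem_centralizer_iff.mp hzC) r hr
      · intro x hx
        rw [mem_sylow_smul_iff] at hx
        apply mem_normalizer_zpowers_of_comm
        have h1 : (g⁻¹ * x * g) * z = z * (g⁻¹ * x * g) :=
          (Subgroup.mem_centralizer_iff.mp hzC) _ hx
        have h2 : g⁻¹ * z = z * g⁻¹ := by
          calc g⁻¹ * z = g⁻¹ * (z * g) * g⁻¹ := by group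
            _ = g⁻¹ * (g * z) * g⁻¹ := by rw [hgz]
            _ = z * g⁻¹ := by group
        have hgzg : g * z * g⁻¹ = z := by rw [hgz]; group
        calc x * z = x * (g * z * g⁻¹) := by rw [hgzg]
          _ = g * ((g⁻¹ * x * g) * z) * g⁻¹ := by group
          _ = g * (z * (g⁻¹ * x * g)) * g⁻¹ := by rw [h1]
          _ = (g * z * g⁻¹) * x := by group
          _ = z * x := by rw [hgzg]
    have h9 := sq_dvd_card_inf_centralizer 3 3 (by norm_num) P (hPcard P) z hzP
    have hle : ((P : Subgroup G) ⊓ Subgroup.centralizer {z} : Subgroup G) ≤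
        ((P : Subgroup G) ⊓ (R : Subgroup G) : Subgroup G) := inf_le_inf_left _ hCR
    have h9' : 3 ^ 2 ∣ Nat.card ((P : Subgroup G) ⊓ (R : Subgroup G) : Subgroup G) :=
      h9.trans (Subgroup.card_dvd_of_le hle)
    have h27 : Nat.card ((P : Subgroup G) ⊓ (R : Subgroup G) : Subgroup G) ∣ 3 ^ 3 := by
      rw [← hPcard P]
      exact Subgroup.card_dvd_of_le inf_le_left
    have hne27 : Nat.card ((P : Subgroup G) ⊓ (R : Subgroup G) : Subgroup G) ≠ 3 ^ 3 := by
      intro h
      have h1 : ((P : Subgroup G) ⊓ (R : Subgroup G) : Subgroup G) = (P : Subgroup G) := by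
        apply Subgroup.eq_of_le_of_card_ge inf_le_left
        rw [h, hPcard P]
      have h2 : (P : Subgroup G) ≤ (R : Subgroup G) := by
        rw [← h1]
        exact inf_le_right
      exact hPR (sylow_eq_of_le 3 P R h2)
    have hc9 : Nat.card ((P : Subgroup G) ⊓ (R : Subgroup G) : Subgroup G) = 9 := by
      obtain ⟨j, hj, hj2⟩ := (Nat.dvd_prime_pow Nat.prime_three).mp h27
      rw [hj2] at h9' hne27 ⊢
      have hj2' : 2 ≤ j := (Nat.pow_dvd_pow_iff_le_right (by norm_num)).mp h9'
      interval_cases j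
      · norm_num
      · exact absurd rfl hne27
    have hidx : ((R : Subgroup G).subgroupOf (P : Subgroup G)).index ≤ 3 := by
      have h1 := Subgroup.card_mul_index ((R : Subgroup G).subgroupOf (P : Subgroup G))
      rw [card_subgroupOf_eq_card_inf, hPcard P, hc9] at h1
      omega
    obtain ⟨-, hPN, hRN⟩ := inter_of_index_le 3 3 28 (by norm_num) hm hcard P R hPR hidx
    apply hbig P R hPR _ _ _ hPN hRN
    · intro h
      rw [h, Subgroup.card_bot] at hc9
      omega
    · intro h
      rw [h, Subgroup.card_top, hn] at hc9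
      omega
  -- Grün's first theorem
  obtain ⟨P⟩ : Nonempty (Sylow 3 G) := inferInstance
  have hgrun := Cfsg.Agent.S4216.result P
  have hcomm : commutator G = ⊤ := by
    have hnorm : (commutator G).Normal := inferInstance
    rcases hnorm.eq_bot_or_eq_top with h | h
    · exact absurd ((commutator_eq_bot_iff G).mp h) hG
    · exact h
  rw [hcomm, inf_top_eq, hNP P] at hgrun
  have hle : (P : Subgroup G) ≤ ⁅(P : Subgroup G), (P : Subgroup G)⁆ := by
    refine hgrun.le.trans ?_
    apply sup_le
    · exact inf_le_right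
    · apply iSup_le
      intro z
      rw [Subgroup.map_commutator, map_conj_sylow]
      by_cases hz : z • P = P
      · rw [hz]
        exact inf_le_right
      · intro x hx
        have hx' := Subgroup.mem_inf.mp hx
        have hxR : x ∈ ((z • P : Sylow 3 G) : Subgroup G) := by
          have : ⁅((z • P : Sylow 3 G) : Subgroup G), ((z • P : Sylow 3 G) : Subgroup G)⁆ ≤
              ((z • P : Sylow 3 G) : Subgroup G) := by
            rw [Subgroup.commutator_le]
            intro a ha b hb
            rw [commutatorElement_def]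
            exact mul_mem (mul_mem (mul_mem ha hb) (inv_mem ha)) (inv_mem hb)
          exact this hx'.2
        have hxC := commutator_le_centralizer_of_card_cube 3
          ((z • P : Sylow 3 G) : Subgroup G) (hPcard _) hx'.2
        have := hkey P (z • P) (Ne.symm hz) x hx'.1 hxR hxC
        rw [this]
        exact one_mem _
  -- a nontrivial `p`-group is not perfect
  have hpg : IsPGroup 3 (P : Subgroup G) := P.isPGroup'
  have hnil : Group.IsNilpotent (P : Subgroup G) := hpg.isNilpotent
  have hnt : Nontrivial (P : Subgroup G) := by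
    apply Finite.one_lt_card_iff_nontrivial.mp
    rw [hPcard P]
    norm_num
  have hlt := Group.IsSolvable.commutator_lt_top_of_nontrivial (P : Subgroup G)
  apply hlt.ne
  rw [eq_top_iff]
  intro y _
  have hy : (y : G) ∈ ⁅(P : Subgroup G), (P : Subgroup G)⁆ := hle y.2
  rw [← Subgroup.map_subtype_commutator] at hy
  obtain ⟨w, hw, hwy⟩ := hy
  have : w = y := Subtype.ext hwy
  rw [← this]
  exact hw

end Cfsg.H5.SmallOrd
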