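import Mathlib
import Cfsg.Agent.H5.SmallOrdD

/-!
# No simple groups of order 900 or 960 (helper5, for S0496)
-/

set_option autoImplicit false

namespace Cfsg.H5.SmallOrd

variable {G : Type*} [Group G] [Finite G] [IsSimpleGroup G]

theorem no_960 (hG : ¬ IsMulCommutative G) : Nat.card G ≠ 960 :=
  kill_inter hG 960 2 6 15 (by norm_num) (by norm_num) (by norm_num) (by norm_num) (by norm_num)
    (by decide +kernel) (by decide +kernel)

theorem no_900 (hG : ¬ IsMulCommutative G) : Nat.card G ≠ 900 :=
  kill_inter hG 900 5 2 36 (by norm_num) (by norm_num) (by norm_num) (by norm_num) (by norm_num)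
    (by decide +kernel) (by decide +kernel)

end Cfsg.H5.SmallOrd
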