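import Mathlib
import Cfsg.Agent.H5.SmallOrdBasic
import Cfsg.Agent.H5.SmallOrdC
import Cfsg.Agent.Lib.Helper2.BurnsidePQ

/-!
# Non-abelian simple groups of order 101..200: generated Sylow-filter certificates
(helper5, for S0496; generated by a script, every case checked by the kernel)
-/

set_option autoImplicit false
set_option maxHeartbeats 1600000
set_option maxRecDepth 100000

namespace Cfsg.H5.SmallOrd

open Cfsg.Agent.Lib.Helper2

universe u

theorem range_101_200 {G : Type u} [Group G] [Finite G] [IsSimpleGroup G] (hG : ¬ IsMulCommutative G)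
    (h1 : 101 ≤ Nat.card G) (h2 : Nat.card G ≤ 200) : Nat.card G = 168 := by
  have hns := Cfsg.Agent.S0493.not_isSolvable (not_isCyclic_of_not_comm hG)
  generalize hcard : Nat.card G = n at h1 h2 ⊢
  interval_cases n
  · exact absurd (isSolvable_of_card_eq_prime_pow_mul_prime_pow 101 3 (by norm_num) (by norm_num) _ G hcard ⟨1, 0, by norm_num⟩) hns
  · exact absurd hcard (Cfsg.Agent.S0493.not_card_two_mul_odd 51 (by decide) (by norm_num))
  · exact absurd (isSolvable_of_card_eq_prime_pow_mul_prime_pow 103 3 (by norm_num) (by norm_num) _ G hcard ⟨1, 0, by norm_num⟩) hns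
  · exact absurd (isSolvable_of_card_eq_prime_pow_mul_prime_pow 2 13 (by norm_num) (by norm_num) _ G hcard ⟨3, 1, by norm_num⟩) hns
  · exact absurd hcard (kill_F1 hG 105 7 1 15 (by norm_num) (by norm_num) (by norm_num) (by norm_num) (by norm_num) (by decide +kernel))
  · exact absurd (isSolvable_of_card_eq_prime_pow_mul_prime_pow 2 53 (by norm_num) (by norm_num) _ G hcard ⟨1, 1, by norm_num⟩) hns
  · exact absurd (isSolvable_of_card_eq_prime_pow_mul_prime_pow 107 3 (by norm_num) (by norm_num) _ G hcard ⟨1, 0, by norm_num⟩) hns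
  · exact absurd (isSolvable_of_card_eq_prime_pow_mul_prime_pow 2 3 (by norm_num) (by norm_num) _ G hcard ⟨2, 3, by norm_num⟩) hns
  · exact absurd (isSolvable_of_card_eq_prime_pow_mul_prime_pow 109 3 (by norm_num) (by norm_num) _ G hcard ⟨1, 0, by norm_num⟩) hns
  · exact absurd hcard (Cfsg.Agent.S0493.not_card_two_mul_odd 55 (by decide) (by norm_num))
  · exact absurd (isSolvable_of_card_eq_prime_pow_mul_prime_pow 3 37 (by norm_num) (by norm_num) _ G hcard ⟨1, 1, by norm_num⟩) hns
  · exact absurd (isSolvable_of_card_eq_prime_pow_mul_prime_pow 2 7 (by norm_num) (by norm_num) _ G hcard ⟨4, 1, by norm_num⟩) hns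
  · exact absurd (isSolvable_of_card_eq_prime_pow_mul_prime_pow 113 3 (by norm_num) (by norm_num) _ G hcard ⟨1, 0, by norm_num⟩) hns
  · exact absurd hcard (Cfsg.Agent.S0493.not_card_two_mul_odd 57 (by decide) (by norm_num))
  · exact absurd (isSolvable_of_card_eq_prime_pow_mul_prime_pow 5 23 (by norm_num) (by norm_num) _ G hcard ⟨1, 1, by norm_num⟩) hns
  · exact absurd (isSolvable_of_card_eq_prime_pow_mul_prime_pow 2 29 (by norm_num) (by norm_num) _ G hcard ⟨2, 1, by norm_num⟩) hns
  · exact absurd (isSolvable_of_card_eq_prime_pow_mul_prime_pow 3 13 (by norm_num) (by norm_num) _ G hcard ⟨2, 1, by norm_num⟩) hns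
  · exact absurd (isSolvable_of_card_eq_prime_pow_mul_prime_pow 2 59 (by norm_num) (by norm_num) _ G hcard ⟨1, 1, by norm_num⟩) hns
  · exact absurd (isSolvable_of_card_eq_prime_pow_mul_prime_pow 7 17 (by norm_num) (by norm_num) _ G hcard ⟨1, 1, by norm_num⟩) hns
  · exact absurd hcard (kill_F3 hG 120 2 5 3 3 1 (by norm_num) (by norm_num) (by norm_num) (by norm_num) (by norm_num) (by norm_num) (by norm_num) (by norm_num) (by decide +kernel))
  · exact absurd (isSolvable_of_card_eq_prime_pow_mul_prime_pow 11 3 (by norm_num) (by norm_num) _ G hcard ⟨2, 0, by norm_num⟩) hns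
  · exact absurd (isSolvable_of_card_eq_prime_pow_mul_prime_pow 2 61 (by norm_num) (by norm_num) _ G hcard ⟨1, 1, by norm_num⟩) hns
  · exact absurd (isSolvable_of_card_eq_prime_pow_mul_prime_pow 3 41 (by norm_num) (by norm_num) _ G hcard ⟨1, 1, by norm_num⟩) hns
  · exact absurd (isSolvable_of_card_eq_prime_pow_mul_prime_pow 2 31 (by norm_num) (by norm_num) _ G hcard ⟨2, 1, by norm_num⟩) hns
  · exact absurd (isSolvable_of_card_eq_prime_pow_mul_prime_pow 5 3 (by norm_num) (by norm_num) _ G hcard ⟨3, 0, by norm_num⟩) hns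
  · exact absurd hcard (Cfsg.Agent.S0493.not_card_two_mul_odd 63 (by decide) (by norm_num))
  · exact absurd (isSolvable_of_card_eq_prime_pow_mul_prime_pow 127 3 (by norm_num) (by norm_num) _ G hcard ⟨1, 0, by norm_num⟩) hns
  · exact absurd (isSolvable_of_card_eq_prime_pow_mul_prime_pow 2 3 (by norm_num) (by norm_num) _ G hcard ⟨7, 0, by norm_num⟩) hns
  · exact absurd (isSolvable_of_card_eq_prime_pow_mul_prime_pow 3 43 (by norm_num) (by norm_num) _ G hcard ⟨1, 1, by norm_num⟩) hns
  · exact absurd hcard (Cfsg.Agent.S0493.not_card_two_mul_odd 65 (by decide) (by norm_num))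
  · exact absurd (isSolvable_of_card_eq_prime_pow_mul_prime_pow 131 3 (by norm_num) (by norm_num) _ G hcard ⟨1, 0, by norm_num⟩) hns
  · exact absurd hcard (kill_F1 hG 132 3 1 44 (by norm_num) (by norm_num) (by norm_num) (by norm_num) (by norm_num) (by decide +kernel))
  · exact absurd (isSolvable_of_card_eq_prime_pow_mul_prime_pow 7 19 (by norm_num) (by norm_num) _ G hcard ⟨1, 1, by norm_num⟩) hns
  · exact absurd (isSolvable_of_card_eq_prime_pow_mul_prime_pow 2 67 (by norm_num) (by norm_num) _ G hcard ⟨1, 1, by norm_num⟩) hns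
  · exact absurd (isSolvable_of_card_eq_prime_pow_mul_prime_pow 3 5 (by norm_num) (by norm_num) _ G hcard ⟨3, 1, by norm_num⟩) hns
  · exact absurd (isSolvable_of_card_eq_prime_pow_mul_prime_pow 2 17 (by norm_num) (by norm_num) _ G hcard ⟨3, 1, by norm_num⟩) hns
  · exact absurd (isSolvable_of_card_eq_prime_pow_mul_prime_pow 137 3 (by norm_num) (by norm_num) _ G hcard ⟨1, 0, by norm_num⟩) hns
  · exact absurd hcard (Cfsg.Agent.S0493.not_card_two_mul_odd 69 (by decide) (by norm_num))
  · exact absurd (isSolvable_of_card_eq_prime_pow_mul_prime_pow 139 3 (by norm_num) (by norm_num) _ G hcard ⟨1, 0, by norm_num⟩) hns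
  · exact absurd hcard (kill_F1 hG 140 7 1 20 (by norm_num) (by norm_num) (by norm_num) (by norm_num) (by norm_num) (by decide +kernel))
  · exact absurd (isSolvable_of_card_eq_prime_pow_mul_prime_pow 3 47 (by norm_num) (by norm_num) _ G hcard ⟨1, 1, by norm_num⟩) hns
  · exact absurd (isSolvable_of_card_eq_prime_pow_mul_prime_pow 2 71 (by norm_num) (by norm_num) _ G hcard ⟨1, 1, by norm_num⟩) hns
  · exact absurd (isSolvable_of_card_eq_prime_pow_mul_prime_pow 11 13 (by norm_num) (by norm_num) _ G hcard ⟨1, 1, by norm_num⟩) hns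
  · exact absurd (isSolvable_of_card_eq_prime_pow_mul_prime_pow 2 3 (by norm_num) (by norm_num) _ G hcard ⟨4, 2, by norm_num⟩) hns
  · exact absurd (isSolvable_of_card_eq_prime_pow_mul_prime_pow 5 29 (by norm_num) (by norm_num) _ G hcard ⟨1, 1, by norm_num⟩) hns
  · exact absurd (isSolvable_of_card_eq_prime_pow_mul_prime_pow 2 73 (by norm_num) (by norm_num) _ G hcard ⟨1, 1, by norm_num⟩) hns
  · exact absurd (isSolvable_of_card_eq_prime_pow_mul_prime_pow 3 7 (by norm_num) (by norm_num) _ G hcard ⟨1, 2, by norm_num⟩) hns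
  · exact absurd (isSolvable_of_card_eq_prime_pow_mul_prime_pow 2 37 (by norm_num) (by norm_num) _ G hcard ⟨2, 1, by norm_num⟩) hns
  · exact absurd (isSolvable_of_card_eq_prime_pow_mul_prime_pow 149 3 (by norm_num) (by norm_num) _ G hcard ⟨1, 0, by norm_num⟩) hns
  · exact absurd hcard (Cfsg.Agent.S0493.not_card_two_mul_odd 75 (by decide) (by norm_num))
  · exact absurd (isSolvable_of_card_eq_prime_pow_mul_prime_pow 151 3 (by norm_num) (by norm_num) _ G hcard ⟨1, 0, by norm_num⟩) hns
  · exact absurd (isSolvable_of_card_eq_prime_pow_mul_prime_pow 2 19 (by norm_num) (by norm_num) _ G hcard ⟨3, 1, by norm_num⟩) hns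
  · exact absurd (isSolvable_of_card_eq_prime_pow_mul_prime_pow 3 17 (by norm_num) (by norm_num) _ G hcard ⟨2, 1, by norm_num⟩) hns
  · exact absurd hcard (Cfsg.Agent.S0493.not_card_two_mul_odd 77 (by decide) (by norm_num))
  · exact absurd (isSolvable_of_card_eq_prime_pow_mul_prime_pow 5 31 (by norm_num) (by norm_num) _ G hcard ⟨1, 1, by norm_num⟩) hns
  · exact absurd hcard (kill_F1 hG 156 13 1 12 (by norm_num) (by norm_num) (by norm_num) (by norm_num) (by norm_num) (by decide +kernel))
  · exact absurd (isSolvable_of_card_eq_prime_pow_mul_prime_pow 157 3 (by norm_num) (by norm_num) _ G hcard ⟨1, 0, by norm_num⟩) hns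
  · exact absurd (isSolvable_of_card_eq_prime_pow_mul_prime_pow 2 79 (by norm_num) (by norm_num) _ G hcard ⟨1, 1, by norm_num⟩) hns
  · exact absurd (isSolvable_of_card_eq_prime_pow_mul_prime_pow 3 53 (by norm_num) (by norm_num) _ G hcard ⟨1, 1, by norm_num⟩) hns
  · exact absurd (isSolvable_of_card_eq_prime_pow_mul_prime_pow 2 5 (by norm_num) (by norm_num) _ G hcard ⟨5, 1, by norm_num⟩) hns
  · exact absurd (isSolvable_of_card_eq_prime_pow_mul_prime_pow 7 23 (by norm_num) (by norm_num) _ G hcard ⟨1, 1, by norm_num⟩) hns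
  · exact absurd (isSolvable_of_card_eq_prime_pow_mul_prime_pow 2 3 (by norm_num) (by norm_num) _ G hcard ⟨1, 4, by norm_num⟩) hns
  · exact absurd (isSolvable_of_card_eq_prime_pow_mul_prime_pow 163 3 (by norm_num) (by norm_num) _ G hcard ⟨1, 0, by norm_num⟩) hns
  · exact absurd (isSolvable_of_card_eq_prime_pow_mul_prime_pow 2 41 (by norm_num) (by norm_num) _ G hcard ⟨2, 1, by norm_num⟩) hns
  · exact absurd hcard (kill_F1 hG 165 11 1 15 (by norm_num) (by norm_num) (by norm_num) (by norm_num) (by norm_num) (by decide +kernel))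
  · exact absurd (isSolvable_of_card_eq_prime_pow_mul_prime_pow 2 83 (by norm_num) (by norm_num) _ G hcard ⟨1, 1, by norm_num⟩) hns
  · exact absurd (isSolvable_of_card_eq_prime_pow_mul_prime_pow 167 3 (by norm_num) (by norm_num) _ G hcard ⟨1, 0, by norm_num⟩) hns
  · rfl
  · exact absurd (isSolvable_of_card_eq_prime_pow_mul_prime_pow 13 3 (by norm_num) (by norm_num) _ G hcard ⟨2, 0, by norm_num⟩) hns
  · exact absurd hcard (Cfsg.Agent.S0493.not_card_two_mul_odd 85 (by decide) (by norm_num))
  · exact absurd (isSolvable_of_card_eq_prime_pow_mul_prime_pow 3 19 (by norm_num) (by norm_num) _ G hcard ⟨2, 1, by norm_num⟩) hns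
  · exact absurd (isSolvable_of_card_eq_prime_pow_mul_prime_pow 2 43 (by norm_num) (by norm_num) _ G hcard ⟨2, 1, by norm_num⟩) hns
  · exact absurd (isSolvable_of_card_eq_prime_pow_mul_prime_pow 173 3 (by norm_num) (by norm_num) _ G hcard ⟨1, 0, by norm_num⟩) hns
  · exact absurd hcard (Cfsg.Agent.S0493.not_card_two_mul_odd 87 (by decide) (by norm_num))
  · exact absurd (isSolvable_of_card_eq_prime_pow_mul_prime_pow 5 7 (by norm_num) (by norm_num) _ G hcard ⟨2, 1, by norm_num⟩) hns
  · exact absurd (isSolvable_of_card_eq_prime_pow_mul_prime_pow 2 11 (by norm_num) (by norm_num) _ G hcard ⟨4, 1, by norm_num⟩) hns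
  · exact absurd (isSolvable_of_card_eq_prime_pow_mul_prime_pow 3 59 (by norm_num) (by norm_num) _ G hcard ⟨1, 1, by norm_num⟩) hns
  · exact absurd (isSolvable_of_card_eq_prime_pow_mul_prime_pow 2 89 (by norm_num) (by norm_num) _ G hcard ⟨1, 1, by norm_num⟩) hns
  · exact absurd (isSolvable_of_card_eq_prime_pow_mul_prime_pow 179 3 (by norm_num) (by norm_num) _ G hcard ⟨1, 0, by norm_num⟩) hns
  · exact absurd hcard (kill_F3 hG 180 2 3 5 2 2 (by norm_num) (by norm_num) (by norm_num) (by norm_num) (by norm_num) (by norm_num) (by norm_num) (by norm_num) (by decide +kernel))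
  · exact absurd (isSolvable_of_card_eq_prime_pow_mul_prime_pow 181 3 (by norm_num) (by norm_num) _ G hcard ⟨1, 0, by norm_num⟩) hns
  · exact absurd hcard (Cfsg.Agent.S0493.not_card_two_mul_odd 91 (by decide) (by norm_num))
  · exact absurd (isSolvable_of_card_eq_prime_pow_mul_prime_pow 3 61 (by norm_num) (by norm_num) _ G hcard ⟨1, 1, by norm_num⟩) hns
  · exact absurd (isSolvable_of_card_eq_prime_pow_mul_prime_pow 2 23 (by norm_num) (by norm_num) _ G hcard ⟨3, 1, by norm_num⟩) hns
  · exact absurd (isSolvable_of_card_eq_prime_pow_mul_prime_pow 5 37 (by norm_num) (by norm_num) _ G hcard ⟨1, 1, by norm_num⟩) hns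
  · exact absurd hcard (Cfsg.Agent.S0493.not_card_two_mul_odd 93 (by decide) (by norm_num))
  · exact absurd (isSolvable_of_card_eq_prime_pow_mul_prime_pow 11 17 (by norm_num) (by norm_num) _ G hcard ⟨1, 1, by norm_num⟩) hns
  · exact absurd (isSolvable_of_card_eq_prime_pow_mul_prime_pow 2 47 (by norm_num) (by norm_num) _ G hcard ⟨2, 1, by norm_num⟩) hns
  · exact absurd (isSolvable_of_card_eq_prime_pow_mul_prime_pow 3 7 (by norm_num) (by norm_num) _ G hcard ⟨3, 1, by norm_num⟩) hns
  · exact absurd hcard (Cfsg.Agent.S0493.not_card_two_mul_odd 95 (by decide) (by norm_num))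
  · exact absurd (isSolvable_of_card_eq_prime_pow_mul_prime_pow 191 3 (by norm_num) (by norm_num) _ G hcard ⟨1, 0, by norm_num⟩) hns
  · exact absurd (isSolvable_of_card_eq_prime_pow_mul_prime_pow 2 3 (by norm_num) (by norm_num) _ G hcard ⟨6, 1, by norm_num⟩) hns
  · exact absurd (isSolvable_of_card_eq_prime_pow_mul_prime_pow 193 3 (by norm_num) (by norm_num) _ G hcard ⟨1, 0, by norm_num⟩) hns
  · exact absurd (isSolvable_of_card_eq_prime_pow_mul_prime_pow 2 97 (by norm_num) (by norm_num) _ G hcard ⟨1, 1, by norm_num⟩) hns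
  · exact absurd hcard (kill_F1 hG 195 13 1 15 (by norm_num) (by norm_num) (by norm_num) (by norm_num) (by norm_num) (by decide +kernel))
  · exact absurd (isSolvable_of_card_eq_prime_pow_mul_prime_pow 2 7 (by norm_num) (by norm_num) _ G hcard ⟨2, 2, by norm_num⟩) hns
  · exact absurd (isSolvable_of_card_eq_prime_pow_mul_prime_pow 197 3 (by norm_num) (by norm_num) _ G hcard ⟨1, 0, by norm_num⟩) hns
  · exact absurd hcard (Cfsg.Agent.S0493.not_card_two_mul_odd 99 (by decide) (by norm_num))
  · exact absurd (isSolvable_of_card_eq_prime_pow_mul_prime_pow 199 3 (by norm_num) (by norm_num) _ G hcard ⟨1, 0, by norm_num⟩) hns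
  · exact absurd (isSolvable_of_card_eq_prime_pow_mul_prime_pow 2 5 (by norm_num) (by norm_num) _ G hcard ⟨3, 2, by norm_num⟩) hns

end Cfsg.H5.SmallOrd
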