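import Mathlib
import Cfsg.Agent.H5.SmallOrdBasic
import Cfsg.Agent.H5.SmallOrdC
import Cfsg.Agent.Lib.Helper2.BurnsidePQ

/-!
# Non-abelian simple groups of order 1001..1092: generated Sylow-filter certificates
(helper5, for S0496; generated by a script, every case checked by the kernel)
-/

set_option autoImplicit false
set_option maxHeartbeats 1600000
set_option maxRecDepth 100000

namespace Cfsg.H5.SmallOrd

open Cfsg.Agent.Lib.Helper2

universe u

theorem range_1001_1092 {G : Type u} [Group G] [Finite G] [IsSimpleGroup G] (hG : ¬ IsMulCommutative G)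
    (h1 : 1001 ≤ Nat.card G) (h2 : Nat.card G ≤ 1092) : Nat.card G = 1092 := by
  have hns := Cfsg.Agent.S0493.not_isSolvable (not_isCyclic_of_not_comm hG)
  generalize hcard : Nat.card G = n at h1 h2 ⊢
  interval_cases n
  · exact absurd hcard (kill_F1 hG 1001 13 1 77 (by norm_num) (by norm_num) (by norm_num) (by norm_num) (by norm_num) (by decide +kernel))
  · exact absurd hcard (Cfsg.Agent.S0493.not_card_two_mul_odd 501 (by decide) (by norm_num))
  · exact absurd (isSolvable_of_card_eq_prime_pow_mul_prime_pow 17 59 (by norm_num) (by norm_num) _ G hcard ⟨1, 1, by norm_num⟩) hns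
  · exact absurd (isSolvable_of_card_eq_prime_pow_mul_prime_pow 2 251 (by norm_num) (by norm_num) _ G hcard ⟨2, 1, by norm_num⟩) hns
  · exact absurd hcard (kill_F1 hG 1005 67 1 15 (by norm_num) (by norm_num) (by norm_num) (by norm_num) (by norm_num) (by decide +kernel))
  · exact absurd (isSolvable_of_card_eq_prime_pow_mul_prime_pow 2 503 (by norm_num) (by norm_num) _ G hcard ⟨1, 1, by norm_num⟩) hns
  · exact absurd (isSolvable_of_card_eq_prime_pow_mul_prime_pow 19 53 (by norm_num) (by norm_num) _ G hcard ⟨1, 1, by norm_num⟩) hns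
  · exact absurd hcard (kill_F3 hG 1008 2 3 7 4 2 (by norm_num) (by norm_num) (by norm_num) (by norm_num) (by norm_num) (by norm_num) (by norm_num) (by norm_num) (by decide +kernel))
  · exact absurd (isSolvable_of_card_eq_prime_pow_mul_prime_pow 1009 3 (by norm_num) (by norm_num) _ G hcard ⟨1, 0, by norm_num⟩) hns
  · exact absurd hcard (Cfsg.Agent.S0493.not_card_two_mul_odd 505 (by decide) (by norm_num))
  · exact absurd (isSolvable_of_card_eq_prime_pow_mul_prime_pow 3 337 (by norm_num) (by norm_num) _ G hcard ⟨1, 1, by norm_num⟩) hns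
  · exact absurd hcard (kill_F1 hG 1012 23 1 44 (by norm_num) (by norm_num) (by norm_num) (by norm_num) (by norm_num) (by decide +kernel))
  · exact absurd (isSolvable_of_card_eq_prime_pow_mul_prime_pow 1013 3 (by norm_num) (by norm_num) _ G hcard ⟨1, 0, by norm_num⟩) hns
  · exact absurd hcard (Cfsg.Agent.S0493.not_card_two_mul_odd 507 (by decide) (by norm_num))
  · exact absurd hcard (kill_F1 hG 1015 29 1 35 (by norm_num) (by norm_num) (by norm_num) (by norm_num) (by norm_num) (by decide +kernel))
  · exact absurd (isSolvable_of_card_eq_prime_pow_mul_prime_pow 2 127 (by norm_num) (by norm_num) _ G hcard ⟨3, 1, by norm_num⟩) hns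
  · exact absurd (isSolvable_of_card_eq_prime_pow_mul_prime_pow 3 113 (by norm_num) (by norm_num) _ G hcard ⟨2, 1, by norm_num⟩) hns
  · exact absurd (isSolvable_of_card_eq_prime_pow_mul_prime_pow 2 509 (by norm_num) (by norm_num) _ G hcard ⟨1, 1, by norm_num⟩) hns
  · exact absurd (isSolvable_of_card_eq_prime_pow_mul_prime_pow 1019 3 (by norm_num) (by norm_num) _ G hcard ⟨1, 0, by norm_num⟩) hns
  · exact absurd hcard (kill_F1 hG 1020 17 1 60 (by norm_num) (by norm_num) (by norm_num) (by norm_num) (by norm_num) (by decide +kernel))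
  · exact absurd (isSolvable_of_card_eq_prime_pow_mul_prime_pow 1021 3 (by norm_num) (by norm_num) _ G hcard ⟨1, 0, by norm_num⟩) hns
  · exact absurd hcard (Cfsg.Agent.S0493.not_card_two_mul_odd 511 (by decide) (by norm_num))
  · exact absurd hcard (kill_F1 hG 1023 31 1 33 (by norm_num) (by norm_num) (by norm_num) (by norm_num) (by norm_num) (by decide +kernel))
  · exact absurd (isSolvable_of_card_eq_prime_pow_mul_prime_pow 2 3 (by norm_num) (by norm_num) _ G hcard ⟨10, 0, by norm_num⟩) hns
  · exact absurd (isSolvable_of_card_eq_prime_pow_mul_prime_pow 5 41 (by norm_num) (by norm_num) _ G hcard ⟨2, 1, by norm_num⟩) hns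
  · exact absurd hcard (Cfsg.Agent.S0493.not_card_two_mul_odd 513 (by decide) (by norm_num))
  · exact absurd (isSolvable_of_card_eq_prime_pow_mul_prime_pow 13 79 (by norm_num) (by norm_num) _ G hcard ⟨1, 1, by norm_num⟩) hns
  · exact absurd (isSolvable_of_card_eq_prime_pow_mul_prime_pow 2 257 (by norm_num) (by norm_num) _ G hcard ⟨2, 1, by norm_num⟩) hns
  · exact absurd (isSolvable_of_card_eq_prime_pow_mul_prime_pow 3 7 (by norm_num) (by norm_num) _ G hcard ⟨1, 3, by norm_num⟩) hns
  · exact absurd hcard (Cfsg.Agent.S0493.not_card_two_mul_odd 515 (by decide) (by norm_num))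
  · exact absurd (isSolvable_of_card_eq_prime_pow_mul_prime_pow 1031 3 (by norm_num) (by norm_num) _ G hcard ⟨1, 0, by norm_num⟩) hns
  · exact absurd hcard (kill_F1 hG 1032 43 1 24 (by norm_num) (by norm_num) (by norm_num) (by norm_num) (by norm_num) (by decide +kernel))
  · exact absurd (isSolvable_of_card_eq_prime_pow_mul_prime_pow 1033 3 (by norm_num) (by norm_num) _ G hcard ⟨1, 0, by norm_num⟩) hns
  · exact absurd hcard (Cfsg.Agent.S0493.not_card_two_mul_odd 517 (by decide) (by norm_num))
  · exact absurd hcard (kill_F1 hG 1035 23 1 45 (by norm_num) (by norm_num) (by norm_num) (by norm_num) (by norm_num) (by decide +kernel))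
  · exact absurd hcard (kill_F1 hG 1036 37 1 28 (by norm_num) (by norm_num) (by norm_num) (by norm_num) (by norm_num) (by decide +kernel))
  · exact absurd (isSolvable_of_card_eq_prime_pow_mul_prime_pow 17 61 (by norm_num) (by norm_num) _ G hcard ⟨1, 1, by norm_num⟩) hns
  · exact absurd hcard (Cfsg.Agent.S0493.not_card_two_mul_odd 519 (by decide) (by norm_num))
  · exact absurd (isSolvable_of_card_eq_prime_pow_mul_prime_pow 1039 3 (by norm_num) (by norm_num) _ G hcard ⟨1, 0, by norm_num⟩) hns
  · exact absurd hcard (kill_F3 hG 1040 2 13 5 4 1 (by norm_num) (by norm_num) (by norm_num) (by norm_num) (by norm_num) (by norm_num) (by norm_num) (by norm_num) (by decide +kernel))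
  · exact absurd (isSolvable_of_card_eq_prime_pow_mul_prime_pow 3 347 (by norm_num) (by norm_num) _ G hcard ⟨1, 1, by norm_num⟩) hns
  · exact absurd (isSolvable_of_card_eq_prime_pow_mul_prime_pow 2 521 (by norm_num) (by norm_num) _ G hcard ⟨1, 1, by norm_num⟩) hns
  · exact absurd (isSolvable_of_card_eq_prime_pow_mul_prime_pow 7 149 (by norm_num) (by norm_num) _ G hcard ⟨1, 1, by norm_num⟩) hns
  · exact absurd hcard (kill_F1 hG 1044 29 1 36 (by norm_num) (by norm_num) (by norm_num) (by norm_num) (by norm_num) (by decide +kernel))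
  · exact absurd hcard (kill_F1 hG 1045 19 1 55 (by norm_num) (by norm_num) (by norm_num) (by norm_num) (by norm_num) (by decide +kernel))
  · exact absurd (isSolvable_of_card_eq_prime_pow_mul_prime_pow 2 523 (by norm_num) (by norm_num) _ G hcard ⟨1, 1, by norm_num⟩) hns
  · exact absurd (isSolvable_of_card_eq_prime_pow_mul_prime_pow 3 349 (by norm_num) (by norm_num) _ G hcard ⟨1, 1, by norm_num⟩) hns
  · exact absurd (isSolvable_of_card_eq_prime_pow_mul_prime_pow 2 131 (by norm_num) (by norm_num) _ G hcard ⟨3, 1, by norm_num⟩) hns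
  · exact absurd (isSolvable_of_card_eq_prime_pow_mul_prime_pow 1049 3 (by norm_num) (by norm_num) _ G hcard ⟨1, 0, by norm_num⟩) hns
  · exact absurd hcard (Cfsg.Agent.S0493.not_card_two_mul_odd 525 (by decide) (by norm_num))
  · exact absurd (isSolvable_of_card_eq_prime_pow_mul_prime_pow 1051 3 (by norm_num) (by norm_num) _ G hcard ⟨1, 0, by norm_num⟩) hns
  · exact absurd (isSolvable_of_card_eq_prime_pow_mul_prime_pow 2 263 (by norm_num) (by norm_num) _ G hcard ⟨2, 1, by norm_num⟩) hns
  · exact absurd (isSolvable_of_card_eq_prime_pow_mul_prime_pow 3 13 (by norm_num) (by norm_num) _ G hcard ⟨4, 1, by norm_num⟩) hns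
  · exact absurd hcard (Cfsg.Agent.S0493.not_card_two_mul_odd 527 (by decide) (by norm_num))
  · exact absurd (isSolvable_of_card_eq_prime_pow_mul_prime_pow 5 211 (by norm_num) (by norm_num) _ G hcard ⟨1, 1, by norm_num⟩) hns
  · exact absurd hcard (kill_F3 hG 1056 2 3 11 5 1 (by norm_num) (by norm_num) (by norm_num) (by norm_num) (by norm_num) (by norm_num) (by norm_num) (by norm_num) (by decide +kernel))
  · exact absurd (isSolvable_of_card_eq_prime_pow_mul_prime_pow 7 151 (by norm_num) (by norm_num) _ G hcard ⟨1, 1, by norm_num⟩) hns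
  · exact absurd (isSolvable_of_card_eq_prime_pow_mul_prime_pow 2 23 (by norm_num) (by norm_num) _ G hcard ⟨1, 2, by norm_num⟩) hns
  · exact absurd (isSolvable_of_card_eq_prime_pow_mul_prime_pow 3 353 (by norm_num) (by norm_num) _ G hcard ⟨1, 1, by norm_num⟩) hns
  · exact absurd hcard (kill_F1 hG 1060 53 1 20 (by norm_num) (by norm_num) (by norm_num) (by norm_num) (by norm_num) (by decide +kernel))
  · exact absurd (isSolvable_of_card_eq_prime_pow_mul_prime_pow 1061 3 (by norm_num) (by norm_num) _ G hcard ⟨1, 0, by norm_num⟩) hns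
  · exact absurd hcard (Cfsg.Agent.S0493.not_card_two_mul_odd 531 (by decide) (by norm_num))
  · exact absurd (isSolvable_of_card_eq_prime_pow_mul_prime_pow 1063 3 (by norm_num) (by norm_num) _ G hcard ⟨1, 0, by norm_num⟩) hns
  · exact absurd hcard (kill_F1 hG 1064 19 1 56 (by norm_num) (by norm_num) (by norm_num) (by norm_num) (by norm_num) (by decide +kernel))
  · exact absurd hcard (kill_F1 hG 1065 71 1 15 (by norm_num) (by norm_num) (by norm_num) (by norm_num) (by norm_num) (by decide +kernel))
  · exact absurd hcard (Cfsg.Agent.S0493.not_card_two_mul_odd 533 (by decide) (by norm_num))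
  · exact absurd (isSolvable_of_card_eq_prime_pow_mul_prime_pow 11 97 (by norm_num) (by norm_num) _ G hcard ⟨1, 1, by norm_num⟩) hns
  · exact absurd hcard (kill_F1 hG 1068 89 1 12 (by norm_num) (by norm_num) (by norm_num) (by norm_num) (by norm_num) (by decide +kernel))
  · exact absurd (isSolvable_of_card_eq_prime_pow_mul_prime_pow 1069 3 (by norm_num) (by norm_num) _ G hcard ⟨1, 0, by norm_num⟩) hns
  · exact absurd hcard (Cfsg.Agent.S0493.not_card_two_mul_odd 535 (by decide) (by norm_num))
  · exact absurd hcard (kill_F1 hG 1071 17 1 63 (by norm_num) (by norm_num) (by norm_num) (by norm_num) (by norm_num) (by decide +kernel))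
  · exact absurd (isSolvable_of_card_eq_prime_pow_mul_prime_pow 2 67 (by norm_num) (by norm_num) _ G hcard ⟨4, 1, by norm_num⟩) hns
  · exact absurd (isSolvable_of_card_eq_prime_pow_mul_prime_pow 29 37 (by norm_num) (by norm_num) _ G hcard ⟨1, 1, by norm_num⟩) hns
  · exact absurd hcard (Cfsg.Agent.S0493.not_card_two_mul_odd 537 (by decide) (by norm_num))
  · exact absurd (isSolvable_of_card_eq_prime_pow_mul_prime_pow 5 43 (by norm_num) (by norm_num) _ G hcard ⟨2, 1, by norm_num⟩) hns
  · exact absurd (isSolvable_of_card_eq_prime_pow_mul_prime_pow 2 269 (by norm_num) (by norm_num) _ G hcard ⟨2, 1, by norm_num⟩) hns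
  · exact absurd (isSolvable_of_card_eq_prime_pow_mul_prime_pow 3 359 (by norm_num) (by norm_num) _ G hcard ⟨1, 1, by norm_num⟩) hns
  · exact absurd hcard (Cfsg.Agent.S0493.not_card_two_mul_odd 539 (by decide) (by norm_num))
  · exact absurd (isSolvable_of_card_eq_prime_pow_mul_prime_pow 13 83 (by norm_num) (by norm_num) _ G hcard ⟨1, 1, by norm_num⟩) hns
  · exact absurd hcard (kill_F3 hG 1080 2 3 5 3 3 (by norm_num) (by norm_num) (by norm_num) (by norm_num) (by norm_num) (by norm_num) (by norm_num) (by norm_num) (by decide +kernel))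
  · exact absurd (isSolvable_of_card_eq_prime_pow_mul_prime_pow 23 47 (by norm_num) (by norm_num) _ G hcard ⟨1, 1, by norm_num⟩) hns
  · exact absurd (isSolvable_of_card_eq_prime_pow_mul_prime_pow 2 541 (by norm_num) (by norm_num) _ G hcard ⟨1, 1, by norm_num⟩) hns
  · exact absurd (isSolvable_of_card_eq_prime_pow_mul_prime_pow 3 19 (by norm_num) (by norm_num) _ G hcard ⟨1, 2, by norm_num⟩) hns
  · exact absurd (isSolvable_of_card_eq_prime_pow_mul_prime_pow 2 271 (by norm_num) (by norm_num) _ G hcard ⟨2, 1, by norm_num⟩) hns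
  · exact absurd hcard (kill_F1 hG 1085 31 1 35 (by norm_num) (by norm_num) (by norm_num) (by norm_num) (by norm_num) (by decide +kernel))
  · exact absurd hcard (Cfsg.Agent.S0493.not_card_two_mul_odd 543 (by decide) (by norm_num))
  · exact absurd (isSolvable_of_card_eq_prime_pow_mul_prime_pow 1087 3 (by norm_num) (by norm_num) _ G hcard ⟨1, 0, by norm_num⟩) hns
  · exact absurd (isSolvable_of_card_eq_prime_pow_mul_prime_pow 2 17 (by norm_num) (by norm_num) _ G hcard ⟨6, 1, by norm_num⟩) hns
  · exact absurd (isSolvable_of_card_eq_prime_pow_mul_prime_pow 3 11 (by norm_num) (by norm_num) _ G hcard ⟨2, 2, by norm_num⟩) hns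
  · exact absurd hcard (Cfsg.Agent.S0493.not_card_two_mul_odd 545 (by decide) (by norm_num))
  · exact absurd (isSolvable_of_card_eq_prime_pow_mul_prime_pow 1091 3 (by norm_num) (by norm_num) _ G hcard ⟨1, 0, by norm_num⟩) hns
  · rfl

end Cfsg.H5.SmallOrd
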