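import Mathlib
import Cfsg.Agent.H5.SmallOrdBasic
import Cfsg.Agent.H5.SmallOrdC
import Cfsg.Agent.Lib.Helper2.BurnsidePQ

/-!
# Non-abelian simple groups of order 201..300: generated Sylow-filter certificates
(helper5, for S0496; generated by a script, every case checked by the kernel)
-/

set_option autoImplicit false
set_option maxHeartbeats 1600000
set_option maxRecDepth 100000

namespace Cfsg.H5.SmallOrd

open Cfsg.Agent.Lib.Helper2

universe u

theorem range_201_300 {G : Type u} [Group G] [Finite G] [IsSimpleGroup G] (hG : ¬ IsMulCommutative G)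
    (h1 : 201 ≤ Nat.card G) (h2 : Nat.card G ≤ 300) : False := by
  have hns := Cfsg.Agent.S0493.not_isSolvable (not_isCyclic_of_not_comm hG)
  generalize hcard : Nat.card G = n at h1 h2 ⊢
  interval_cases n
  · exact absurd (isSolvable_of_card_eq_prime_pow_mul_prime_pow 3 67 (by norm_num) (by norm_num) _ G hcard ⟨1, 1, by norm_num⟩) hns
  · exact absurd (isSolvable_of_card_eq_prime_pow_mul_prime_pow 2 101 (by norm_num) (by norm_num) _ G hcard ⟨1, 1, by norm_num⟩) hns
  · exact absurd (isSolvable_of_card_eq_prime_pow_mul_prime_pow 7 29 (by norm_num) (by norm_num) _ G hcard ⟨1, 1, by norm_num⟩) hns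
  · exact absurd hcard (kill_F1 hG 204 17 1 12 (by norm_num) (by norm_num) (by norm_num) (by norm_num) (by norm_num) (by decide +kernel))
  · exact absurd (isSolvable_of_card_eq_prime_pow_mul_prime_pow 5 41 (by norm_num) (by norm_num) _ G hcard ⟨1, 1, by norm_num⟩) hns
  · exact absurd (isSolvable_of_card_eq_prime_pow_mul_prime_pow 2 103 (by norm_num) (by norm_num) _ G hcard ⟨1, 1, by norm_num⟩) hns
  · exact absurd (isSolvable_of_card_eq_prime_pow_mul_prime_pow 3 23 (by norm_num) (by norm_num) _ G hcard ⟨2, 1, by norm_num⟩) hns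
  · exact absurd (isSolvable_of_card_eq_prime_pow_mul_prime_pow 2 13 (by norm_num) (by norm_num) _ G hcard ⟨4, 1, by norm_num⟩) hns
  · exact absurd (isSolvable_of_card_eq_prime_pow_mul_prime_pow 11 19 (by norm_num) (by norm_num) _ G hcard ⟨1, 1, by norm_num⟩) hns
  · exact absurd hcard (Cfsg.Agent.S0493.not_card_two_mul_odd 105 (by decide) (by norm_num))
  · exact absurd (isSolvable_of_card_eq_prime_pow_mul_prime_pow 211 3 (by norm_num) (by norm_num) _ G hcard ⟨1, 0, by norm_num⟩) hns
  · exact absurd (isSolvable_of_card_eq_prime_pow_mul_prime_pow 2 53 (by norm_num) (by norm_num) _ G hcard ⟨2, 1, by norm_num⟩) hns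
  · exact absurd (isSolvable_of_card_eq_prime_pow_mul_prime_pow 3 71 (by norm_num) (by norm_num) _ G hcard ⟨1, 1, by norm_num⟩) hns
  · exact absurd (isSolvable_of_card_eq_prime_pow_mul_prime_pow 2 107 (by norm_num) (by norm_num) _ G hcard ⟨1, 1, by norm_num⟩) hns
  · exact absurd (isSolvable_of_card_eq_prime_pow_mul_prime_pow 5 43 (by norm_num) (by norm_num) _ G hcard ⟨1, 1, by norm_num⟩) hns
  · exact absurd (isSolvable_of_card_eq_prime_pow_mul_prime_pow 2 3 (by norm_num) (by norm_num) _ G hcard ⟨3, 3, by norm_num⟩) hns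
  · exact absurd (isSolvable_of_card_eq_prime_pow_mul_prime_pow 7 31 (by norm_num) (by norm_num) _ G hcard ⟨1, 1, by norm_num⟩) hns
  · exact absurd (isSolvable_of_card_eq_prime_pow_mul_prime_pow 2 109 (by norm_num) (by norm_num) _ G hcard ⟨1, 1, by norm_num⟩) hns
  · exact absurd (isSolvable_of_card_eq_prime_pow_mul_prime_pow 3 73 (by norm_num) (by norm_num) _ G hcard ⟨1, 1, by norm_num⟩) hns
  · exact absurd hcard (kill_F1 hG 220 11 1 20 (by norm_num) (by norm_num) (by norm_num) (by norm_num) (by norm_num) (by decide +kernel))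
  · exact absurd (isSolvable_of_card_eq_prime_pow_mul_prime_pow 13 17 (by norm_num) (by norm_num) _ G hcard ⟨1, 1, by norm_num⟩) hns
  · exact absurd hcard (Cfsg.Agent.S0493.not_card_two_mul_odd 111 (by decide) (by norm_num))
  · exact absurd (isSolvable_of_card_eq_prime_pow_mul_prime_pow 223 3 (by norm_num) (by norm_num) _ G hcard ⟨1, 0, by norm_num⟩) hns
  · exact absurd (isSolvable_of_card_eq_prime_pow_mul_prime_pow 2 7 (by norm_num) (by norm_num) _ G hcard ⟨5, 1, by norm_num⟩) hns
  · exact absurd (isSolvable_of_card_eq_prime_pow_mul_prime_pow 3 5 (by norm_num) (by norm_num) _ G hcard ⟨2, 2, by norm_num⟩) hns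
  · exact absurd (isSolvable_of_card_eq_prime_pow_mul_prime_pow 2 113 (by norm_num) (by norm_num) _ G hcard ⟨1, 1, by norm_num⟩) hns
  · exact absurd (isSolvable_of_card_eq_prime_pow_mul_prime_pow 227 3 (by norm_num) (by norm_num) _ G hcard ⟨1, 0, by norm_num⟩) hns
  · exact absurd hcard (kill_F1 hG 228 19 1 12 (by norm_num) (by norm_num) (by norm_num) (by norm_num) (by norm_num) (by decide +kernel))
  · exact absurd (isSolvable_of_card_eq_prime_pow_mul_prime_pow 229 3 (by norm_num) (by norm_num) _ G hcard ⟨1, 0, by norm_num⟩) hns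
  · exact absurd hcard (Cfsg.Agent.S0493.not_card_two_mul_odd 115 (by decide) (by norm_num))
  · exact absurd hcard (kill_F1 hG 231 11 1 21 (by norm_num) (by norm_num) (by norm_num) (by norm_num) (by norm_num) (by decide +kernel))
  · exact absurd (isSolvable_of_card_eq_prime_pow_mul_prime_pow 2 29 (by norm_num) (by norm_num) _ G hcard ⟨3, 1, by norm_num⟩) hns
  · exact absurd (isSolvable_of_card_eq_prime_pow_mul_prime_pow 233 3 (by norm_num) (by norm_num) _ G hcard ⟨1, 0, by norm_num⟩) hns
  · exact absurd hcard (Cfsg.Agent.S0493.not_card_two_mul_odd 117 (by decide) (by norm_num))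
  · exact absurd (isSolvable_of_card_eq_prime_pow_mul_prime_pow 5 47 (by norm_num) (by norm_num) _ G hcard ⟨1, 1, by norm_num⟩) hns
  · exact absurd (isSolvable_of_card_eq_prime_pow_mul_prime_pow 2 59 (by norm_num) (by norm_num) _ G hcard ⟨2, 1, by norm_num⟩) hns
  · exact absurd (isSolvable_of_card_eq_prime_pow_mul_prime_pow 3 79 (by norm_num) (by norm_num) _ G hcard ⟨1, 1, by norm_num⟩) hns
  · exact absurd hcard (Cfsg.Agent.S0493.not_card_two_mul_odd 119 (by decide) (by norm_num))
  · exact absurd (isSolvable_of_card_eq_prime_pow_mul_prime_pow 239 3 (by norm_num) (by norm_num) _ G hcard ⟨1, 0, by norm_num⟩) hns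
  · exact absurd hcard (kill_F2 hG 240 5 48 (by norm_num) (by norm_num) (by norm_num) (by norm_num) (by decide +kernel))
  · exact absurd (isSolvable_of_card_eq_prime_pow_mul_prime_pow 241 3 (by norm_num) (by norm_num) _ G hcard ⟨1, 0, by norm_num⟩) hns
  · exact absurd (isSolvable_of_card_eq_prime_pow_mul_prime_pow 2 11 (by norm_num) (by norm_num) _ G hcard ⟨1, 2, by norm_num⟩) hns
  · exact absurd (isSolvable_of_card_eq_prime_pow_mul_prime_pow 3 2 (by norm_num) (by norm_num) _ G hcard ⟨5, 0, by norm_num⟩) hns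
  · exact absurd (isSolvable_of_card_eq_prime_pow_mul_prime_pow 2 61 (by norm_num) (by norm_num) _ G hcard ⟨2, 1, by norm_num⟩) hns
  · exact absurd (isSolvable_of_card_eq_prime_pow_mul_prime_pow 5 7 (by norm_num) (by norm_num) _ G hcard ⟨1, 2, by norm_num⟩) hns
  · exact absurd hcard (Cfsg.Agent.S0493.not_card_two_mul_odd 123 (by decide) (by norm_num))
  · exact absurd (isSolvable_of_card_eq_prime_pow_mul_prime_pow 13 19 (by norm_num) (by norm_num) _ G hcard ⟨1, 1, by norm_num⟩) hns
  · exact absurd (isSolvable_of_card_eq_prime_pow_mul_prime_pow 2 31 (by norm_num) (by norm_num) _ G hcard ⟨3, 1, by norm_num⟩) hns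
  · exact absurd (isSolvable_of_card_eq_prime_pow_mul_prime_pow 3 83 (by norm_num) (by norm_num) _ G hcard ⟨1, 1, by norm_num⟩) hns
  · exact absurd (isSolvable_of_card_eq_prime_pow_mul_prime_pow 2 5 (by norm_num) (by norm_num) _ G hcard ⟨1, 3, by norm_num⟩) hns
  · exact absurd (isSolvable_of_card_eq_prime_pow_mul_prime_pow 251 3 (by norm_num) (by norm_num) _ G hcard ⟨1, 0, by norm_num⟩) hns
  · exact absurd hcard (kill_F2 hG 252 7 36 (by norm_num) (by norm_num) (by norm_num) (by norm_num) (by decide +kernel))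
  · exact absurd (isSolvable_of_card_eq_prime_pow_mul_prime_pow 11 23 (by norm_num) (by norm_num) _ G hcard ⟨1, 1, by norm_num⟩) hns
  · exact absurd (isSolvable_of_card_eq_prime_pow_mul_prime_pow 2 127 (by norm_num) (by norm_num) _ G hcard ⟨1, 1, by norm_num⟩) hns
  · exact absurd hcard (kill_F1 hG 255 17 1 15 (by norm_num) (by norm_num) (by norm_num) (by norm_num) (by norm_num) (by decide +kernel))
  · exact absurd (isSolvable_of_card_eq_prime_pow_mul_prime_pow 2 3 (by norm_num) (by norm_num) _ G hcard ⟨8, 0, by norm_num⟩) hns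
  · exact absurd (isSolvable_of_card_eq_prime_pow_mul_prime_pow 257 3 (by norm_num) (by norm_num) _ G hcard ⟨1, 0, by norm_num⟩) hns
  · exact absurd hcard (Cfsg.Agent.S0493.not_card_two_mul_odd 129 (by decide) (by norm_num))
  · exact absurd (isSolvable_of_card_eq_prime_pow_mul_prime_pow 7 37 (by norm_num) (by norm_num) _ G hcard ⟨1, 1, by norm_num⟩) hns
  · exact absurd hcard (kill_F1 hG 260 13 1 20 (by norm_num) (by norm_num) (by norm_num) (by norm_num) (by norm_num) (by decide +kernel))
  · exact absurd (isSolvable_of_card_eq_prime_pow_mul_prime_pow 3 29 (by norm_num) (by norm_num) _ G hcard ⟨2, 1, by norm_num⟩) hns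
  · exact absurd (isSolvable_of_card_eq_prime_pow_mul_prime_pow 2 131 (by norm_num) (by norm_num) _ G hcard ⟨1, 1, by norm_num⟩) hns
  · exact absurd (isSolvable_of_card_eq_prime_pow_mul_prime_pow 263 3 (by norm_num) (by norm_num) _ G hcard ⟨1, 0, by norm_num⟩) hns
  · exact absurd hcard (kill_F2 hG 264 3 88 (by norm_num) (by norm_num) (by norm_num) (by norm_num) (by decide +kernel))
  · exact absurd (isSolvable_of_card_eq_prime_pow_mul_prime_pow 5 53 (by norm_num) (by norm_num) _ G hcard ⟨1, 1, by norm_num⟩) hns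
  · exact absurd hcard (Cfsg.Agent.S0493.not_card_two_mul_odd 133 (by decide) (by norm_num))
  · exact absurd (isSolvable_of_card_eq_prime_pow_mul_prime_pow 3 89 (by norm_num) (by norm_num) _ G hcard ⟨1, 1, by norm_num⟩) hns
  · exact absurd (isSolvable_of_card_eq_prime_pow_mul_prime_pow 2 67 (by norm_num) (by norm_num) _ G hcard ⟨2, 1, by norm_num⟩) hns
  · exact absurd (isSolvable_of_card_eq_prime_pow_mul_prime_pow 269 3 (by norm_num) (by norm_num) _ G hcard ⟨1, 0, by norm_num⟩) hns
  · exact absurd hcard (Cfsg.Agent.S0493.not_card_two_mul_odd 135 (by decide) (by norm_num))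
  · exact absurd (isSolvable_of_card_eq_prime_pow_mul_prime_pow 271 3 (by norm_num) (by norm_num) _ G hcard ⟨1, 0, by norm_num⟩) hns
  · exact absurd (isSolvable_of_card_eq_prime_pow_mul_prime_pow 2 17 (by norm_num) (by norm_num) _ G hcard ⟨4, 1, by norm_num⟩) hns
  · exact absurd hcard (kill_F1 hG 273 13 1 21 (by norm_num) (by norm_num) (by norm_num) (by norm_num) (by norm_num) (by decide +kernel))
  · exact absurd (isSolvable_of_card_eq_prime_pow_mul_prime_pow 2 137 (by norm_num) (by norm_num) _ G hcard ⟨1, 1, by norm_num⟩) hns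
  · exact absurd (isSolvable_of_card_eq_prime_pow_mul_prime_pow 5 11 (by norm_num) (by norm_num) _ G hcard ⟨2, 1, by norm_num⟩) hns
  · exact absurd hcard (kill_F1 hG 276 23 1 12 (by norm_num) (by norm_num) (by norm_num) (by norm_num) (by norm_num) (by decide +kernel))
  · exact absurd (isSolvable_of_card_eq_prime_pow_mul_prime_pow 277 3 (by norm_num) (by norm_num) _ G hcard ⟨1, 0, by norm_num⟩) hns
  · exact absurd (isSolvable_of_card_eq_prime_pow_mul_prime_pow 2 139 (by norm_num) (by norm_num) _ G hcard ⟨1, 1, by norm_num⟩) hns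
  · exact absurd (isSolvable_of_card_eq_prime_pow_mul_prime_pow 3 31 (by norm_num) (by norm_num) _ G hcard ⟨2, 1, by norm_num⟩) hns
  · exact absurd hcard (kill_F2 hG 280 7 40 (by norm_num) (by norm_num) (by norm_num) (by norm_num) (by decide +kernel))
  · exact absurd (isSolvable_of_card_eq_prime_pow_mul_prime_pow 281 3 (by norm_num) (by norm_num) _ G hcard ⟨1, 0, by norm_num⟩) hns
  · exact absurd hcard (Cfsg.Agent.S0493.not_card_two_mul_odd 141 (by decide) (by norm_num))
  · exact absurd (isSolvable_of_card_eq_prime_pow_mul_prime_pow 283 3 (by norm_num) (by norm_num) _ G hcard ⟨1, 0, by norm_num⟩) hns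
  · exact absurd (isSolvable_of_card_eq_prime_pow_mul_prime_pow 2 71 (by norm_num) (by norm_num) _ G hcard ⟨2, 1, by norm_num⟩) hns
  · exact absurd hcard (kill_F1 hG 285 19 1 15 (by norm_num) (by norm_num) (by norm_num) (by norm_num) (by norm_num) (by decide +kernel))
  · exact absurd hcard (Cfsg.Agent.S0493.not_card_two_mul_odd 143 (by decide) (by norm_num))
  · exact absurd (isSolvable_of_card_eq_prime_pow_mul_prime_pow 7 41 (by norm_num) (by norm_num) _ G hcard ⟨1, 1, by norm_num⟩) hns
  · exact absurd (isSolvable_of_card_eq_prime_pow_mul_prime_pow 2 3 (by norm_num) (by norm_num) _ G hcard ⟨5, 2, by norm_num⟩) hns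
  · exact absurd (isSolvable_of_card_eq_prime_pow_mul_prime_pow 17 3 (by norm_num) (by norm_num) _ G hcard ⟨2, 0, by norm_num⟩) hns
  · exact absurd hcard (Cfsg.Agent.S0493.not_card_two_mul_odd 145 (by decide) (by norm_num))
  · exact absurd (isSolvable_of_card_eq_prime_pow_mul_prime_pow 3 97 (by norm_num) (by norm_num) _ G hcard ⟨1, 1, by norm_num⟩) hns
  · exact absurd (isSolvable_of_card_eq_prime_pow_mul_prime_pow 2 73 (by norm_num) (by norm_num) _ G hcard ⟨2, 1, by norm_num⟩) hns
  · exact absurd (isSolvable_of_card_eq_prime_pow_mul_prime_pow 293 3 (by norm_num) (by norm_num) _ G hcard ⟨1, 0, by norm_num⟩) hns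
  · exact absurd hcard (Cfsg.Agent.S0493.not_card_two_mul_odd 147 (by decide) (by norm_num))
  · exact absurd (isSolvable_of_card_eq_prime_pow_mul_prime_pow 5 59 (by norm_num) (by norm_num) _ G hcard ⟨1, 1, by norm_num⟩) hns
  · exact absurd (isSolvable_of_card_eq_prime_pow_mul_prime_pow 2 37 (by norm_num) (by norm_num) _ G hcard ⟨3, 1, by norm_num⟩) hns
  · exact absurd (isSolvable_of_card_eq_prime_pow_mul_prime_pow 3 11 (by norm_num) (by norm_num) _ G hcard ⟨3, 1, by norm_num⟩) hns
  · exact absurd (isSolvable_of_card_eq_prime_pow_mul_prime_pow 2 149 (by norm_num) (by norm_num) _ G hcard ⟨1, 1, by norm_num⟩) hns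
  · exact absurd (isSolvable_of_card_eq_prime_pow_mul_prime_pow 13 23 (by norm_num) (by norm_num) _ G hcard ⟨1, 1, by norm_num⟩) hns
  · exact absurd hcard (kill_F1 hG 300 5 2 12 (by norm_num) (by norm_num) (by norm_num) (by norm_num) (by norm_num) (by decide +kernel))

end Cfsg.H5.SmallOrd
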