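import Mathlib
import Cfsg.Agent.H5.SmallOrdBasic
import Cfsg.Agent.H5.SmallOrdC
import Cfsg.Agent.Lib.Helper2.BurnsidePQ

/-!
# Non-abelian simple groups of order 301..400: generated Sylow-filter certificates
(helper5, for S0496; generated by a script, every case checked by the kernel)
-/

set_option autoImplicit false
set_option maxHeartbeats 1600000
set_option maxRecDepth 100000

namespace Cfsg.H5.SmallOrd

open Cfsg.Agent.Lib.Helper2

universe u

theorem range_301_400 {G : Type u} [Group G] [Finite G] [IsSimpleGroup G] (hG : ¬ IsMulCommutative G)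
    (h1 : 301 ≤ Nat.card G) (h2 : Nat.card G ≤ 400) : Nat.card G = 360 := by
  have hns := Cfsg.Agent.S0493.not_isSolvable (not_isCyclic_of_not_comm hG)
  generalize hcard : Nat.card G = n at h1 h2 ⊢
  interval_cases n
  · exact absurd (isSolvable_of_card_eq_prime_pow_mul_prime_pow 7 43 (by norm_num) (by norm_num) _ G hcard ⟨1, 1, by norm_num⟩) hns
  · exact absurd (isSolvable_of_card_eq_prime_pow_mul_prime_pow 2 151 (by norm_num) (by norm_num) _ G hcard ⟨1, 1, by norm_num⟩) hns
  · exact absurd (isSolvable_of_card_eq_prime_pow_mul_prime_pow 3 101 (by norm_num) (by norm_num) _ G hcard ⟨1, 1, by norm_num⟩) hns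
  · exact absurd (isSolvable_of_card_eq_prime_pow_mul_prime_pow 2 19 (by norm_num) (by norm_num) _ G hcard ⟨4, 1, by norm_num⟩) hns
  · exact absurd (isSolvable_of_card_eq_prime_pow_mul_prime_pow 5 61 (by norm_num) (by norm_num) _ G hcard ⟨1, 1, by norm_num⟩) hns
  · exact absurd hcard (Cfsg.Agent.S0493.not_card_two_mul_odd 153 (by decide) (by norm_num))
  · exact absurd (isSolvable_of_card_eq_prime_pow_mul_prime_pow 307 3 (by norm_num) (by norm_num) _ G hcard ⟨1, 0, by norm_num⟩) hns
  · exact absurd hcard (kill_F1 hG 308 11 1 28 (by norm_num) (by norm_num) (by norm_num) (by norm_num) (by norm_num) (by decide +kernel))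
  · exact absurd (isSolvable_of_card_eq_prime_pow_mul_prime_pow 3 103 (by norm_num) (by norm_num) _ G hcard ⟨1, 1, by norm_num⟩) hns
  · exact absurd hcard (Cfsg.Agent.S0493.not_card_two_mul_odd 155 (by decide) (by norm_num))
  · exact absurd (isSolvable_of_card_eq_prime_pow_mul_prime_pow 311 3 (by norm_num) (by norm_num) _ G hcard ⟨1, 0, by norm_num⟩) hns
  · exact absurd hcard (kill_F1 hG 312 13 1 24 (by norm_num) (by norm_num) (by norm_num) (by norm_num) (by norm_num) (by decide +kernel))
  · exact absurd (isSolvable_of_card_eq_prime_pow_mul_prime_pow 313 3 (by norm_num) (by norm_num) _ G hcard ⟨1, 0, by norm_num⟩) hns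
  · exact absurd (isSolvable_of_card_eq_prime_pow_mul_prime_pow 2 157 (by norm_num) (by norm_num) _ G hcard ⟨1, 1, by norm_num⟩) hns
  · exact absurd hcard (kill_F1 hG 315 7 1 45 (by norm_num) (by norm_num) (by norm_num) (by norm_num) (by norm_num) (by decide +kernel))
  · exact absurd (isSolvable_of_card_eq_prime_pow_mul_prime_pow 2 79 (by norm_num) (by norm_num) _ G hcard ⟨2, 1, by norm_num⟩) hns
  · exact absurd (isSolvable_of_card_eq_prime_pow_mul_prime_pow 317 3 (by norm_num) (by norm_num) _ G hcard ⟨1, 0, by norm_num⟩) hns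
  · exact absurd hcard (Cfsg.Agent.S0493.not_card_two_mul_odd 159 (by decide) (by norm_num))
  · exact absurd (isSolvable_of_card_eq_prime_pow_mul_prime_pow 11 29 (by norm_num) (by norm_num) _ G hcard ⟨1, 1, by norm_num⟩) hns
  · exact absurd (isSolvable_of_card_eq_prime_pow_mul_prime_pow 2 5 (by norm_num) (by norm_num) _ G hcard ⟨6, 1, by norm_num⟩) hns
  · exact absurd (isSolvable_of_card_eq_prime_pow_mul_prime_pow 3 107 (by norm_num) (by norm_num) _ G hcard ⟨1, 1, by norm_num⟩) hns
  · exact absurd hcard (Cfsg.Agent.S0493.not_card_two_mul_odd 161 (by decide) (by norm_num))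
  · exact absurd (isSolvable_of_card_eq_prime_pow_mul_prime_pow 17 19 (by norm_num) (by norm_num) _ G hcard ⟨1, 1, by norm_num⟩) hns
  · exact absurd (isSolvable_of_card_eq_prime_pow_mul_prime_pow 2 3 (by norm_num) (by norm_num) _ G hcard ⟨2, 4, by norm_num⟩) hns
  · exact absurd (isSolvable_of_card_eq_prime_pow_mul_prime_pow 5 13 (by norm_num) (by norm_num) _ G hcard ⟨2, 1, by norm_num⟩) hns
  · exact absurd (isSolvable_of_card_eq_prime_pow_mul_prime_pow 2 163 (by norm_num) (by norm_num) _ G hcard ⟨1, 1, by norm_num⟩) hns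
  · exact absurd (isSolvable_of_card_eq_prime_pow_mul_prime_pow 3 109 (by norm_num) (by norm_num) _ G hcard ⟨1, 1, by norm_num⟩) hns
  · exact absurd (isSolvable_of_card_eq_prime_pow_mul_prime_pow 2 41 (by norm_num) (by norm_num) _ G hcard ⟨3, 1, by norm_num⟩) hns
  · exact absurd (isSolvable_of_card_eq_prime_pow_mul_prime_pow 7 47 (by norm_num) (by norm_num) _ G hcard ⟨1, 1, by norm_num⟩) hns
  · exact absurd hcard (Cfsg.Agent.S0493.not_card_two_mul_odd 165 (by decide) (by norm_num))
  · exact absurd (isSolvable_of_card_eq_prime_pow_mul_prime_pow 331 3 (by norm_num) (by norm_num) _ G hcard ⟨1, 0, by norm_num⟩) hns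
  · exact absurd (isSolvable_of_card_eq_prime_pow_mul_prime_pow 2 83 (by norm_num) (by norm_num) _ G hcard ⟨2, 1, by norm_num⟩) hns
  · exact absurd (isSolvable_of_card_eq_prime_pow_mul_prime_pow 3 37 (by norm_num) (by norm_num) _ G hcard ⟨2, 1, by norm_num⟩) hns
  · exact absurd (isSolvable_of_card_eq_prime_pow_mul_prime_pow 2 167 (by norm_num) (by norm_num) _ G hcard ⟨1, 1, by norm_num⟩) hns
  · exact absurd (isSolvable_of_card_eq_prime_pow_mul_prime_pow 5 67 (by norm_num) (by norm_num) _ G hcard ⟨1, 1, by norm_num⟩) hns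
  · exact absurd hcard (kill_F3 hG 336 2 7 3 4 1 (by norm_num) (by norm_num) (by norm_num) (by norm_num) (by norm_num) (by norm_num) (by norm_num) (by norm_num) (by decide +kernel))
  · exact absurd (isSolvable_of_card_eq_prime_pow_mul_prime_pow 337 3 (by norm_num) (by norm_num) _ G hcard ⟨1, 0, by norm_num⟩) hns
  · exact absurd (isSolvable_of_card_eq_prime_pow_mul_prime_pow 2 13 (by norm_num) (by norm_num) _ G hcard ⟨1, 2, by norm_num⟩) hns
  · exact absurd (isSolvable_of_card_eq_prime_pow_mul_prime_pow 3 113 (by norm_num) (by norm_num) _ G hcard ⟨1, 1, by norm_num⟩) hns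
  · exact absurd hcard (kill_F1 hG 340 17 1 20 (by norm_num) (by norm_num) (by norm_num) (by norm_num) (by norm_num) (by decide +kernel))
  · exact absurd (isSolvable_of_card_eq_prime_pow_mul_prime_pow 11 31 (by norm_num) (by norm_num) _ G hcard ⟨1, 1, by norm_num⟩) hns
  · exact absurd hcard (Cfsg.Agent.S0493.not_card_two_mul_odd 171 (by decide) (by norm_num))
  · exact absurd (isSolvable_of_card_eq_prime_pow_mul_prime_pow 7 3 (by norm_num) (by norm_num) _ G hcard ⟨3, 0, by norm_num⟩) hns
  · exact absurd (isSolvable_of_card_eq_prime_pow_mul_prime_pow 2 43 (by norm_num) (by norm_num) _ G hcard ⟨3, 1, by norm_num⟩) hns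
  · exact absurd hcard (kill_F1 hG 345 23 1 15 (by norm_num) (by norm_num) (by norm_num) (by norm_num) (by norm_num) (by decide +kernel))
  · exact absurd (isSolvable_of_card_eq_prime_pow_mul_prime_pow 2 173 (by norm_num) (by norm_num) _ G hcard ⟨1, 1, by norm_num⟩) hns
  · exact absurd (isSolvable_of_card_eq_prime_pow_mul_prime_pow 347 3 (by norm_num) (by norm_num) _ G hcard ⟨1, 0, by norm_num⟩) hns
  · exact absurd hcard (kill_F1 hG 348 29 1 12 (by norm_num) (by norm_num) (by norm_num) (by norm_num) (by norm_num) (by decide +kernel))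
  · exact absurd (isSolvable_of_card_eq_prime_pow_mul_prime_pow 349 3 (by norm_num) (by norm_num) _ G hcard ⟨1, 0, by norm_num⟩) hns
  · exact absurd hcard (Cfsg.Agent.S0493.not_card_two_mul_odd 175 (by decide) (by norm_num))
  · exact absurd (isSolvable_of_card_eq_prime_pow_mul_prime_pow 3 13 (by norm_num) (by norm_num) _ G hcard ⟨3, 1, by norm_num⟩) hns
  · exact absurd (isSolvable_of_card_eq_prime_pow_mul_prime_pow 2 11 (by norm_num) (by norm_num) _ G hcard ⟨5, 1, by norm_num⟩) hns
  · exact absurd (isSolvable_of_card_eq_prime_pow_mul_prime_pow 353 3 (by norm_num) (by norm_num) _ G hcard ⟨1, 0, by norm_num⟩) hns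
  · exact absurd hcard (Cfsg.Agent.S0493.not_card_two_mul_odd 177 (by decide) (by norm_num))
  · exact absurd (isSolvable_of_card_eq_prime_pow_mul_prime_pow 5 71 (by norm_num) (by norm_num) _ G hcard ⟨1, 1, by norm_num⟩) hns
  · exact absurd (isSolvable_of_card_eq_prime_pow_mul_prime_pow 2 89 (by norm_num) (by norm_num) _ G hcard ⟨2, 1, by norm_num⟩) hns
  · exact absurd hcard (kill_F1 hG 357 17 1 21 (by norm_num) (by norm_num) (by norm_num) (by norm_num) (by norm_num) (by decide +kernel))
  · exact absurd (isSolvable_of_card_eq_prime_pow_mul_prime_pow 2 179 (by norm_num) (by norm_num) _ G hcard ⟨1, 1, by norm_num⟩) hns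
  · exact absurd (isSolvable_of_card_eq_prime_pow_mul_prime_pow 359 3 (by norm_num) (by norm_num) _ G hcard ⟨1, 0, by norm_num⟩) hns
  · rfl
  · exact absurd (isSolvable_of_card_eq_prime_pow_mul_prime_pow 19 3 (by norm_num) (by norm_num) _ G hcard ⟨2, 0, by norm_num⟩) hns
  · exact absurd (isSolvable_of_card_eq_prime_pow_mul_prime_pow 2 181 (by norm_num) (by norm_num) _ G hcard ⟨1, 1, by norm_num⟩) hns
  · exact absurd (isSolvable_of_card_eq_prime_pow_mul_prime_pow 3 11 (by norm_num) (by norm_num) _ G hcard ⟨1, 2, by norm_num⟩) hns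
  · exact absurd hcard (kill_F1 hG 364 7 1 52 (by norm_num) (by norm_num) (by norm_num) (by norm_num) (by norm_num) (by decide +kernel))
  · exact absurd (isSolvable_of_card_eq_prime_pow_mul_prime_pow 5 73 (by norm_num) (by norm_num) _ G hcard ⟨1, 1, by norm_num⟩) hns
  · exact absurd hcard (Cfsg.Agent.S0493.not_card_two_mul_odd 183 (by decide) (by norm_num))
  · exact absurd (isSolvable_of_card_eq_prime_pow_mul_prime_pow 367 3 (by norm_num) (by norm_num) _ G hcard ⟨1, 0, by norm_num⟩) hns
  · exact absurd (isSolvable_of_card_eq_prime_pow_mul_prime_pow 2 23 (by norm_num) (by norm_num) _ G hcard ⟨4, 1, by norm_num⟩) hns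
  · exact absurd (isSolvable_of_card_eq_prime_pow_mul_prime_pow 3 41 (by norm_num) (by norm_num) _ G hcard ⟨2, 1, by norm_num⟩) hns
  · exact absurd hcard (Cfsg.Agent.S0493.not_card_two_mul_odd 185 (by decide) (by norm_num))
  · exact absurd (isSolvable_of_card_eq_prime_pow_mul_prime_pow 7 53 (by norm_num) (by norm_num) _ G hcard ⟨1, 1, by norm_num⟩) hns
  · exact absurd hcard (kill_F1 hG 372 31 1 12 (by norm_num) (by norm_num) (by norm_num) (by norm_num) (by norm_num) (by decide +kernel))
  · exact absurd (isSolvable_of_card_eq_prime_pow_mul_prime_pow 373 3 (by norm_num) (by norm_num) _ G hcard ⟨1, 0, by norm_num⟩) hns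
  · exact absurd hcard (Cfsg.Agent.S0493.not_card_two_mul_odd 187 (by decide) (by norm_num))
  · exact absurd (isSolvable_of_card_eq_prime_pow_mul_prime_pow 3 5 (by norm_num) (by norm_num) _ G hcard ⟨1, 3, by norm_num⟩) hns
  · exact absurd (isSolvable_of_card_eq_prime_pow_mul_prime_pow 2 47 (by norm_num) (by norm_num) _ G hcard ⟨3, 1, by norm_num⟩) hns
  · exact absurd (isSolvable_of_card_eq_prime_pow_mul_prime_pow 13 29 (by norm_num) (by norm_num) _ G hcard ⟨1, 1, by norm_num⟩) hns
  · exact absurd hcard (Cfsg.Agent.S0493.not_card_two_mul_odd 189 (by decide) (by norm_num))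
  · exact absurd (isSolvable_of_card_eq_prime_pow_mul_prime_pow 379 3 (by norm_num) (by norm_num) _ G hcard ⟨1, 0, by norm_num⟩) hns
  · exact absurd hcard (kill_F2 hG 380 19 20 (by norm_num) (by norm_num) (by norm_num) (by norm_num) (by decide +kernel))
  · exact absurd (isSolvable_of_card_eq_prime_pow_mul_prime_pow 3 127 (by norm_num) (by norm_num) _ G hcard ⟨1, 1, by norm_num⟩) hns
  · exact absurd (isSolvable_of_card_eq_prime_pow_mul_prime_pow 2 191 (by norm_num) (by norm_num) _ G hcard ⟨1, 1, by norm_num⟩) hns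
  · exact absurd (isSolvable_of_card_eq_prime_pow_mul_prime_pow 383 3 (by norm_num) (by norm_num) _ G hcard ⟨1, 0, by norm_num⟩) hns
  · exact absurd (isSolvable_of_card_eq_prime_pow_mul_prime_pow 2 3 (by norm_num) (by norm_num) _ G hcard ⟨7, 1, by norm_num⟩) hns
  · exact absurd hcard (kill_F1 hG 385 11 1 35 (by norm_num) (by norm_num) (by norm_num) (by norm_num) (by norm_num) (by decide +kernel))
  · exact absurd (isSolvable_of_card_eq_prime_pow_mul_prime_pow 2 193 (by norm_num) (by norm_num) _ G hcard ⟨1, 1, by norm_num⟩) hns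
  · exact absurd (isSolvable_of_card_eq_prime_pow_mul_prime_pow 3 43 (by norm_num) (by norm_num) _ G hcard ⟨2, 1, by norm_num⟩) hns
  · exact absurd (isSolvable_of_card_eq_prime_pow_mul_prime_pow 2 97 (by norm_num) (by norm_num) _ G hcard ⟨2, 1, by norm_num⟩) hns
  · exact absurd (isSolvable_of_card_eq_prime_pow_mul_prime_pow 389 3 (by norm_num) (by norm_num) _ G hcard ⟨1, 0, by norm_num⟩) hns
  · exact absurd hcard (Cfsg.Agent.S0493.not_card_two_mul_odd 195 (by decide) (by norm_num))
  · exact absurd (isSolvable_of_card_eq_prime_pow_mul_prime_pow 17 23 (by norm_num) (by norm_num) _ G hcard ⟨1, 1, by norm_num⟩) hns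
  · exact absurd (isSolvable_of_card_eq_prime_pow_mul_prime_pow 2 7 (by norm_num) (by norm_num) _ G hcard ⟨3, 2, by norm_num⟩) hns
  · exact absurd (isSolvable_of_card_eq_prime_pow_mul_prime_pow 3 131 (by norm_num) (by norm_num) _ G hcard ⟨1, 1, by norm_num⟩) hns
  · exact absurd (isSolvable_of_card_eq_prime_pow_mul_prime_pow 2 197 (by norm_num) (by norm_num) _ G hcard ⟨1, 1, by norm_num⟩) hns
  · exact absurd (isSolvable_of_card_eq_prime_pow_mul_prime_pow 5 79 (by norm_num) (by norm_num) _ G hcard ⟨1, 1, by norm_num⟩) hns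
  · exact absurd hcard (kill_F1 hG 396 3 2 44 (by norm_num) (by norm_num) (by norm_num) (by norm_num) (by norm_num) (by decide +kernel))
  · exact absurd (isSolvable_of_card_eq_prime_pow_mul_prime_pow 397 3 (by norm_num) (by norm_num) _ G hcard ⟨1, 0, by norm_num⟩) hns
  · exact absurd (isSolvable_of_card_eq_prime_pow_mul_prime_pow 2 199 (by norm_num) (by norm_num) _ G hcard ⟨1, 1, by norm_num⟩) hns
  · exact absurd hcard (kill_F1 hG 399 19 1 21 (by norm_num) (by norm_num) (by norm_num) (by norm_num) (by norm_num) (by decide +kernel))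
  · exact absurd (isSolvable_of_card_eq_prime_pow_mul_prime_pow 2 5 (by norm_num) (by norm_num) _ G hcard ⟨4, 2, by norm_num⟩) hns

end Cfsg.H5.SmallOrd
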