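import Mathlib
import Cfsg.Agent.H5.SmallOrdBasic
import Cfsg.Agent.H5.SmallOrdC
import Cfsg.Agent.Lib.Helper2.BurnsidePQ

/-!
# Non-abelian simple groups of order 401..500: generated Sylow-filter certificates
(helper5, for S0496; generated by a script, every case checked by the kernel)
-/

set_option autoImplicit false
set_option maxHeartbeats 1600000
set_option maxRecDepth 100000

namespace Cfsg.H5.SmallOrd

open Cfsg.Agent.Lib.Helper2

universe u

theorem range_401_500 {G : Type u} [Group G] [Finite G] [IsSimpleGroup G] (hG : ¬ IsMulCommutative G)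
    (h1 : 401 ≤ Nat.card G) (h2 : Nat.card G ≤ 500) : False := by
  have hns := Cfsg.Agent.S0493.not_isSolvable (not_isCyclic_of_not_comm hG)
  generalize hcard : Nat.card G = n at h1 h2 ⊢
  interval_cases n
  · exact absurd (isSolvable_of_card_eq_prime_pow_mul_prime_pow 401 3 (by norm_num) (by norm_num) _ G hcard ⟨1, 0, by norm_num⟩) hns
  · exact absurd hcard (Cfsg.Agent.S0493.not_card_two_mul_odd 201 (by decide) (by norm_num))
  · exact absurd (isSolvable_of_card_eq_prime_pow_mul_prime_pow 13 31 (by norm_num) (by norm_num) _ G hcard ⟨1, 1, by norm_num⟩) hns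
  · exact absurd (isSolvable_of_card_eq_prime_pow_mul_prime_pow 2 101 (by norm_num) (by norm_num) _ G hcard ⟨2, 1, by norm_num⟩) hns
  · exact absurd (isSolvable_of_card_eq_prime_pow_mul_prime_pow 3 5 (by norm_num) (by norm_num) _ G hcard ⟨4, 1, by norm_num⟩) hns
  · exact absurd hcard (Cfsg.Agent.S0493.not_card_two_mul_odd 203 (by decide) (by norm_num))
  · exact absurd (isSolvable_of_card_eq_prime_pow_mul_prime_pow 11 37 (by norm_num) (by norm_num) _ G hcard ⟨1, 1, by norm_num⟩) hns
  · exact absurd hcard (kill_F1 hG 408 17 1 24 (by norm_num) (by norm_num) (by norm_num) (by norm_num) (by norm_num) (by decide +kernel))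
  · exact absurd (isSolvable_of_card_eq_prime_pow_mul_prime_pow 409 3 (by norm_num) (by norm_num) _ G hcard ⟨1, 0, by norm_num⟩) hns
  · exact absurd hcard (Cfsg.Agent.S0493.not_card_two_mul_odd 205 (by decide) (by norm_num))
  · exact absurd (isSolvable_of_card_eq_prime_pow_mul_prime_pow 3 137 (by norm_num) (by norm_num) _ G hcard ⟨1, 1, by norm_num⟩) hns
  · exact absurd (isSolvable_of_card_eq_prime_pow_mul_prime_pow 2 103 (by norm_num) (by norm_num) _ G hcard ⟨2, 1, by norm_num⟩) hns
  · exact absurd (isSolvable_of_card_eq_prime_pow_mul_prime_pow 7 59 (by norm_num) (by norm_num) _ G hcard ⟨1, 1, by norm_num⟩) hns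
  · exact absurd hcard (Cfsg.Agent.S0493.not_card_two_mul_odd 207 (by decide) (by norm_num))
  · exact absurd (isSolvable_of_card_eq_prime_pow_mul_prime_pow 5 83 (by norm_num) (by norm_num) _ G hcard ⟨1, 1, by norm_num⟩) hns
  · exact absurd (isSolvable_of_card_eq_prime_pow_mul_prime_pow 2 13 (by norm_num) (by norm_num) _ G hcard ⟨5, 1, by norm_num⟩) hns
  · exact absurd (isSolvable_of_card_eq_prime_pow_mul_prime_pow 3 139 (by norm_num) (by norm_num) _ G hcard ⟨1, 1, by norm_num⟩) hns
  · exact absurd hcard (Cfsg.Agent.S0493.not_card_two_mul_odd 209 (by decide) (by norm_num))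
  · exact absurd (isSolvable_of_card_eq_prime_pow_mul_prime_pow 419 3 (by norm_num) (by norm_num) _ G hcard ⟨1, 0, by norm_num⟩) hns
  · exact absurd hcard (kill_F1 hG 420 7 1 60 (by norm_num) (by norm_num) (by norm_num) (by norm_num) (by norm_num) (by decide +kernel))
  · exact absurd (isSolvable_of_card_eq_prime_pow_mul_prime_pow 421 3 (by norm_num) (by norm_num) _ G hcard ⟨1, 0, by norm_num⟩) hns
  · exact absurd (isSolvable_of_card_eq_prime_pow_mul_prime_pow 2 211 (by norm_num) (by norm_num) _ G hcard ⟨1, 1, by norm_num⟩) hns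
  · exact absurd (isSolvable_of_card_eq_prime_pow_mul_prime_pow 3 47 (by norm_num) (by norm_num) _ G hcard ⟨2, 1, by norm_num⟩) hns
  · exact absurd (isSolvable_of_card_eq_prime_pow_mul_prime_pow 2 53 (by norm_num) (by norm_num) _ G hcard ⟨3, 1, by norm_num⟩) hns
  · exact absurd (isSolvable_of_card_eq_prime_pow_mul_prime_pow 5 17 (by norm_num) (by norm_num) _ G hcard ⟨2, 1, by norm_num⟩) hns
  · exact absurd hcard (Cfsg.Agent.S0493.not_card_two_mul_odd 213 (by decide) (by norm_num))
  · exact absurd (isSolvable_of_card_eq_prime_pow_mul_prime_pow 7 61 (by norm_num) (by norm_num) _ G hcard ⟨1, 1, by norm_num⟩) hns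
  · exact absurd (isSolvable_of_card_eq_prime_pow_mul_prime_pow 2 107 (by norm_num) (by norm_num) _ G hcard ⟨2, 1, by norm_num⟩) hns
  · exact absurd hcard (kill_F1 hG 429 13 1 33 (by norm_num) (by norm_num) (by norm_num) (by norm_num) (by norm_num) (by decide +kernel))
  · exact absurd hcard (Cfsg.Agent.S0493.not_card_two_mul_odd 215 (by decide) (by norm_num))
  · exact absurd (isSolvable_of_card_eq_prime_pow_mul_prime_pow 431 3 (by norm_num) (by norm_num) _ G hcard ⟨1, 0, by norm_num⟩) hns
  · exact absurd (isSolvable_of_card_eq_prime_pow_mul_prime_pow 2 3 (by norm_num) (by norm_num) _ G hcard ⟨4, 3, by norm_num⟩) hns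
  · exact absurd (isSolvable_of_card_eq_prime_pow_mul_prime_pow 433 3 (by norm_num) (by norm_num) _ G hcard ⟨1, 0, by norm_num⟩) hns
  · exact absurd hcard (Cfsg.Agent.S0493.not_card_two_mul_odd 217 (by decide) (by norm_num))
  · exact absurd hcard (kill_F1 hG 435 29 1 15 (by norm_num) (by norm_num) (by norm_num) (by norm_num) (by norm_num) (by decide +kernel))
  · exact absurd (isSolvable_of_card_eq_prime_pow_mul_prime_pow 2 109 (by norm_num) (by norm_num) _ G hcard ⟨2, 1, by norm_num⟩) hns
  · exact absurd (isSolvable_of_card_eq_prime_pow_mul_prime_pow 19 23 (by norm_num) (by norm_num) _ G hcard ⟨1, 1, by norm_num⟩) hns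
  · exact absurd hcard (Cfsg.Agent.S0493.not_card_two_mul_odd 219 (by decide) (by norm_num))
  · exact absurd (isSolvable_of_card_eq_prime_pow_mul_prime_pow 439 3 (by norm_num) (by norm_num) _ G hcard ⟨1, 0, by norm_num⟩) hns
  · exact absurd hcard (kill_F1 hG 440 11 1 40 (by norm_num) (by norm_num) (by norm_num) (by norm_num) (by norm_num) (by decide +kernel))
  · exact absurd (isSolvable_of_card_eq_prime_pow_mul_prime_pow 3 7 (by norm_num) (by norm_num) _ G hcard ⟨2, 2, by norm_num⟩) hns
  · exact absurd hcard (Cfsg.Agent.S0493.not_card_two_mul_odd 221 (by decide) (by norm_num))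
  · exact absurd (isSolvable_of_card_eq_prime_pow_mul_prime_pow 443 3 (by norm_num) (by norm_num) _ G hcard ⟨1, 0, by norm_num⟩) hns
  · exact absurd hcard (kill_F1 hG 444 37 1 12 (by norm_num) (by norm_num) (by norm_num) (by norm_num) (by norm_num) (by decide +kernel))
  · exact absurd (isSolvable_of_card_eq_prime_pow_mul_prime_pow 5 89 (by norm_num) (by norm_num) _ G hcard ⟨1, 1, by norm_num⟩) hns
  · exact absurd (isSolvable_of_card_eq_prime_pow_mul_prime_pow 2 223 (by norm_num) (by norm_num) _ G hcard ⟨1, 1, by norm_num⟩) hns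
  · exact absurd (isSolvable_of_card_eq_prime_pow_mul_prime_pow 3 149 (by norm_num) (by norm_num) _ G hcard ⟨1, 1, by norm_num⟩) hns
  · exact absurd (isSolvable_of_card_eq_prime_pow_mul_prime_pow 2 7 (by norm_num) (by norm_num) _ G hcard ⟨6, 1, by norm_num⟩) hns
  · exact absurd (isSolvable_of_card_eq_prime_pow_mul_prime_pow 449 3 (by norm_num) (by norm_num) _ G hcard ⟨1, 0, by norm_num⟩) hns
  · exact absurd hcard (Cfsg.Agent.S0493.not_card_two_mul_odd 225 (by decide) (by norm_num))
  · exact absurd (isSolvable_of_card_eq_prime_pow_mul_prime_pow 11 41 (by norm_num) (by norm_num) _ G hcard ⟨1, 1, by norm_num⟩) hns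
  · exact absurd (isSolvable_of_card_eq_prime_pow_mul_prime_pow 2 113 (by norm_num) (by norm_num) _ G hcard ⟨2, 1, by norm_num⟩) hns
  · exact absurd (isSolvable_of_card_eq_prime_pow_mul_prime_pow 3 151 (by norm_num) (by norm_num) _ G hcard ⟨1, 1, by norm_num⟩) hns
  · exact absurd (isSolvable_of_card_eq_prime_pow_mul_prime_pow 2 227 (by norm_num) (by norm_num) _ G hcard ⟨1, 1, by norm_num⟩) hns
  · exact absurd hcard (kill_F1 hG 455 13 1 35 (by norm_num) (by norm_num) (by norm_num) (by norm_num) (by norm_num) (by decide +kernel))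
  · exact absurd hcard (kill_F1 hG 456 19 1 24 (by norm_num) (by norm_num) (by norm_num) (by norm_num) (by norm_num) (by decide +kernel))
  · exact absurd (isSolvable_of_card_eq_prime_pow_mul_prime_pow 457 3 (by norm_num) (by norm_num) _ G hcard ⟨1, 0, by norm_num⟩) hns
  · exact absurd (isSolvable_of_card_eq_prime_pow_mul_prime_pow 2 229 (by norm_num) (by norm_num) _ G hcard ⟨1, 1, by norm_num⟩) hns
  · exact absurd (isSolvable_of_card_eq_prime_pow_mul_prime_pow 3 17 (by norm_num) (by norm_num) _ G hcard ⟨3, 1, by norm_num⟩) hns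
  · exact absurd hcard (kill_F1 hG 460 23 1 20 (by norm_num) (by norm_num) (by norm_num) (by norm_num) (by norm_num) (by decide +kernel))
  · exact absurd (isSolvable_of_card_eq_prime_pow_mul_prime_pow 461 3 (by norm_num) (by norm_num) _ G hcard ⟨1, 0, by norm_num⟩) hns
  · exact absurd hcard (Cfsg.Agent.S0493.not_card_two_mul_odd 231 (by decide) (by norm_num))
  · exact absurd (isSolvable_of_card_eq_prime_pow_mul_prime_pow 463 3 (by norm_num) (by norm_num) _ G hcard ⟨1, 0, by norm_num⟩) hns
  · exact absurd (isSolvable_of_card_eq_prime_pow_mul_prime_pow 2 29 (by norm_num) (by norm_num) _ G hcard ⟨4, 1, by norm_num⟩) hns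
  · exact absurd hcard (kill_F1 hG 465 31 1 15 (by norm_num) (by norm_num) (by norm_num) (by norm_num) (by norm_num) (by decide +kernel))
  · exact absurd (isSolvable_of_card_eq_prime_pow_mul_prime_pow 2 233 (by norm_num) (by norm_num) _ G hcard ⟨1, 1, by norm_num⟩) hns
  · exact absurd (isSolvable_of_card_eq_prime_pow_mul_prime_pow 467 3 (by norm_num) (by norm_num) _ G hcard ⟨1, 0, by norm_num⟩) hns
  · exact absurd hcard (kill_F1 hG 468 13 1 36 (by norm_num) (by norm_num) (by norm_num) (by norm_num) (by norm_num) (by decide +kernel))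
  · exact absurd (isSolvable_of_card_eq_prime_pow_mul_prime_pow 7 67 (by norm_num) (by norm_num) _ G hcard ⟨1, 1, by norm_num⟩) hns
  · exact absurd hcard (Cfsg.Agent.S0493.not_card_two_mul_odd 235 (by decide) (by norm_num))
  · exact absurd (isSolvable_of_card_eq_prime_pow_mul_prime_pow 3 157 (by norm_num) (by norm_num) _ G hcard ⟨1, 1, by norm_num⟩) hns
  · exact absurd (isSolvable_of_card_eq_prime_pow_mul_prime_pow 2 59 (by norm_num) (by norm_num) _ G hcard ⟨3, 1, by norm_num⟩) hns
  · exact absurd (isSolvable_of_card_eq_prime_pow_mul_prime_pow 11 43 (by norm_num) (by norm_num) _ G hcard ⟨1, 1, by norm_num⟩) hns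
  · exact absurd hcard (Cfsg.Agent.S0493.not_card_two_mul_odd 237 (by decide) (by norm_num))
  · exact absurd (isSolvable_of_card_eq_prime_pow_mul_prime_pow 5 19 (by norm_num) (by norm_num) _ G hcard ⟨2, 1, by norm_num⟩) hns
  · exact absurd hcard (kill_F1 hG 476 17 1 28 (by norm_num) (by norm_num) (by norm_num) (by norm_num) (by norm_num) (by decide +kernel))
  · exact absurd (isSolvable_of_card_eq_prime_pow_mul_prime_pow 3 53 (by norm_num) (by norm_num) _ G hcard ⟨2, 1, by norm_num⟩) hns
  · exact absurd (isSolvable_of_card_eq_prime_pow_mul_prime_pow 2 239 (by norm_num) (by norm_num) _ G hcard ⟨1, 1, by norm_num⟩) hns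
  · exact absurd (isSolvable_of_card_eq_prime_pow_mul_prime_pow 479 3 (by norm_num) (by norm_num) _ G hcard ⟨1, 0, by norm_num⟩) hns
  · exact absurd hcard (kill_F3 hG 480 2 3 5 5 1 (by norm_num) (by norm_num) (by norm_num) (by norm_num) (by norm_num) (by norm_num) (by norm_num) (by norm_num) (by decide +kernel))
  · exact absurd (isSolvable_of_card_eq_prime_pow_mul_prime_pow 13 37 (by norm_num) (by norm_num) _ G hcard ⟨1, 1, by norm_num⟩) hns
  · exact absurd (isSolvable_of_card_eq_prime_pow_mul_prime_pow 2 241 (by norm_num) (by norm_num) _ G hcard ⟨1, 1, by norm_num⟩) hns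
  · exact absurd hcard (kill_F1 hG 483 23 1 21 (by norm_num) (by norm_num) (by norm_num) (by norm_num) (by norm_num) (by decide +kernel))
  · exact absurd (isSolvable_of_card_eq_prime_pow_mul_prime_pow 2 11 (by norm_num) (by norm_num) _ G hcard ⟨2, 2, by norm_num⟩) hns
  · exact absurd (isSolvable_of_card_eq_prime_pow_mul_prime_pow 5 97 (by norm_num) (by norm_num) _ G hcard ⟨1, 1, by norm_num⟩) hns
  · exact absurd (isSolvable_of_card_eq_prime_pow_mul_prime_pow 2 3 (by norm_num) (by norm_num) _ G hcard ⟨1, 5, by norm_num⟩) hns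
  · exact absurd (isSolvable_of_card_eq_prime_pow_mul_prime_pow 487 3 (by norm_num) (by norm_num) _ G hcard ⟨1, 0, by norm_num⟩) hns
  · exact absurd (isSolvable_of_card_eq_prime_pow_mul_prime_pow 2 61 (by norm_num) (by norm_num) _ G hcard ⟨3, 1, by norm_num⟩) hns
  · exact absurd (isSolvable_of_card_eq_prime_pow_mul_prime_pow 3 163 (by norm_num) (by norm_num) _ G hcard ⟨1, 1, by norm_num⟩) hns
  · exact absurd hcard (Cfsg.Agent.S0493.not_card_two_mul_odd 245 (by decide) (by norm_num))
  · exact absurd (isSolvable_of_card_eq_prime_pow_mul_prime_pow 491 3 (by norm_num) (by norm_num) _ G hcard ⟨1, 0, by norm_num⟩) hns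
  · exact absurd hcard (kill_F1 hG 492 41 1 12 (by norm_num) (by norm_num) (by norm_num) (by norm_num) (by norm_num) (by decide +kernel))
  · exact absurd (isSolvable_of_card_eq_prime_pow_mul_prime_pow 17 29 (by norm_num) (by norm_num) _ G hcard ⟨1, 1, by norm_num⟩) hns
  · exact absurd hcard (Cfsg.Agent.S0493.not_card_two_mul_odd 247 (by decide) (by norm_num))
  · exact absurd hcard (kill_F2 hG 495 11 45 (by norm_num) (by norm_num) (by norm_num) (by norm_num) (by decide +kernel))
  · exact absurd (isSolvable_of_card_eq_prime_pow_mul_prime_pow 2 31 (by norm_num) (by norm_num) _ G hcard ⟨4, 1, by norm_num⟩) hns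
  · exact absurd (isSolvable_of_card_eq_prime_pow_mul_prime_pow 7 71 (by norm_num) (by norm_num) _ G hcard ⟨1, 1, by norm_num⟩) hns
  · exact absurd hcard (Cfsg.Agent.S0493.not_card_two_mul_odd 249 (by decide) (by norm_num))
  · exact absurd (isSolvable_of_card_eq_prime_pow_mul_prime_pow 499 3 (by norm_num) (by norm_num) _ G hcard ⟨1, 0, by norm_num⟩) hns
  · exact absurd (isSolvable_of_card_eq_prime_pow_mul_prime_pow 2 5 (by norm_num) (by norm_num) _ G hcard ⟨2, 3, by norm_num⟩) hns

end Cfsg.H5.SmallOrd
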