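import Mathlib
import Cfsg.Agent.H5.SmallOrdD
import Cfsg.Agent.S4236

/-!
# Extra small-order kills for S0983: 4500, 4760, 4900, 5292, 6000 (helper5)
-/

set_option autoImplicit false

namespace Cfsg.H5.SmallOrd

variable {G : Type*} [Group G] [Finite G] [IsSimpleGroup G]

theorem no_4500 (hG : ¬ IsMulCommutative G) : Nat.card G ≠ 4500 :=
  kill_inter hG 4500 5 3 36 (by norm_num) (by norm_num) (by norm_num) (by norm_num) (by norm_num)
    (by decide +kernel) (by decide +kernel)

theorem no_4900 (hG : ¬ IsMulCommutative G) : Nat.card G ≠ 4900 :=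
  kill_inter hG 4900 5 2 196 (by norm_num) (by norm_num) (by norm_num) (by norm_num) (by norm_num)
    (by decide +kernel) (by decide +kernel)

theorem no_5292 (hG : ¬ IsMulCommutative G) : Nat.card G ≠ 5292 :=
  kill_inter hG 5292 7 2 108 (by norm_num) (by norm_num) (by norm_num) (by norm_num) (by norm_num)
    (by decide +kernel) (by decide +kernel)

theorem no_6000 (hG : ¬ IsMulCommutative G) : Nat.card G ≠ 6000 :=
  kill_inter hG 6000 5 3 48 (by norm_num) (by norm_num) (by norm_num) (by norm_num) (by norm_num)
    (by decide +kernel) (by decide +kernel)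

/-- `4760 = 2³·5·7·17`: the only admissible Sylow 17-number is 35, excluded by S4236. -/
theorem no_4760 (hG : ¬ IsMulCommutative G) : Nat.card G ≠ 4760 := by
  intro hn
  have : Fact (Nat.Prime 17) := ⟨by norm_num⟩
  have h1 := f1ok_sylow hG 4760 17 1 280 one_pos (by norm_num) (by norm_num) hn (by norm_num)
  have h2 := sylow_num_le hG 17 1 280 one_pos (by norm_num) (by norm_num) (hn.trans (by norm_num))
  have h35 : Nat.card (Sylow 17 G) ≠ 35 := Cfsg.Agent.S4236.result
  have cert : (List.range (280 + 1)).all (fun k => !f1ok 4760 17 280 k || decide (k = 35)) = true := by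
    decide +kernel
  rw [List.all_eq_true] at cert
  have h3 := cert _ h2
  rw [h1] at h3
  simp at h3
  exact h35 h3

end Cfsg.H5.SmallOrd
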