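import Mathlib
import Cfsg.Agent.H5.SmallOrdT1
import Cfsg.Agent.H5.SmallOrdT2
import Cfsg.Agent.H5.SmallOrdT3
import Cfsg.Agent.H5.SmallOrdT4
import Cfsg.Agent.H5.SmallOrdT5
import Cfsg.Agent.H5.SmallOrdT6
import Cfsg.Agent.H5.SmallOrdT7
import Cfsg.Agent.H5.SmallOrdT8
import Cfsg.Agent.H5.SmallOrdT9
import Cfsg.Agent.H5.SmallOrdT10
import Cfsg.Agent.H5.SmallOrdT11
import Cfsg.Agent.H5.SmallOrdT12
import Cfsg.Agent.H5.SmallOrdT13
import Cfsg.Agent.H5.SmallOrdT14
import Cfsg.Agent.H5.SmallOrdT15
import Cfsg.Agent.H5.SmallOrdT16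
import Cfsg.Agent.H5.SmallOrdT17
import Cfsg.Agent.H5.SmallOrdT18
import Cfsg.Agent.H5.SmallOrdT19
import Cfsg.Agent.H5.SmallOrdT20
import Cfsg.Agent.H5.SmallOrdT21
import Cfsg.Agent.H5.SmallOrdT22
import Cfsg.Agent.H5.SmallOrdT23
import Cfsg.Agent.H5.SmallOrdT24
import Cfsg.Agent.H5.SmallOrdT25
import Cfsg.Agent.H5.SmallOrdT26
import Cfsg.Agent.H5.SmallOrdTX

/-!
# Non-abelian simple groups of order 3641..6232: assembly of the generated certificates
(helper5, for S0983).  The remaining orders need individual arguments.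
-/

set_option autoImplicit false

namespace Cfsg.H5.SmallOrd

universe u

theorem range_3641_6232 {G : Type u} [Group G] [Finite G] [IsSimpleGroup G] (hG : ¬ IsMulCommutative G)
    (h1 : 3641 ≤ Nat.card G) (h2 : Nat.card G ≤ 6232) : Nat.card G ∈ ([3744, 3960, 4032, 4080, 4200, 4320, 4680, 4960, 5040, 5104, 5400, 5472, 5600, 5616, 5724, 5760, 5880, 6048, 6072] : List ℕ) := by
  by_cases hb1 : Nat.card G ≤ 3740
  · exact (range_3641_3740 hG (by omega) hb1).elim
  by_cases hb2 : Nat.card G ≤ 3840
  · have h := range_3741_3840 hG (by omega) hb2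
    rw [h]; decide
  by_cases hb3 : Nat.card G ≤ 3940
  · exact (range_3841_3940 hG (by omega) hb3).elim
  by_cases hb4 : Nat.card G ≤ 4040
  · have h := range_3941_4040 hG (by omega) hb4
    rcases h with h | h
    · rw [h]; decide
    · rw [h]; decide
  by_cases hb5 : Nat.card G ≤ 4140
  · have h := range_4041_4140 hG (by omega) hb5
    rw [h]; decide
  by_cases hb6 : Nat.card G ≤ 4240
  · have h := range_4141_4240 hG (by omega) hb6
    rw [h]; decide
  by_cases hb7 : Nat.card G ≤ 4340
  · have h := range_4241_4340 hG (by omega) hb7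
    rw [h]; decide
  by_cases hb8 : Nat.card G ≤ 4440
  · exact (range_4341_4440 hG (by omega) hb8).elim
  by_cases hb9 : Nat.card G ≤ 4540
  · have h := range_4441_4540 hG (by omega) hb9
    exact absurd h (no_4500 hG)
  by_cases hb10 : Nat.card G ≤ 4640
  · exact (range_4541_4640 hG (by omega) hb10).elim
  by_cases hb11 : Nat.card G ≤ 4740
  · have h := range_4641_4740 hG (by omega) hb11
    rw [h]; decide
  by_cases hb12 : Nat.card G ≤ 4840
  · have h := range_4741_4840 hG (by omega) hb12
    exact absurd h (no_4760 hG)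
  by_cases hb13 : Nat.card G ≤ 4940
  · have h := range_4841_4940 hG (by omega) hb13
    exact absurd h (no_4900 hG)
  by_cases hb14 : Nat.card G ≤ 5040
  · have h := range_4941_5040 hG (by omega) hb14
    rcases h with h | h
    · rw [h]; decide
    · rw [h]; decide
  by_cases hb15 : Nat.card G ≤ 5140
  · have h := range_5041_5140 hG (by omega) hb15
    rw [h]; decide
  by_cases hb16 : Nat.card G ≤ 5240
  · exact (range_5141_5240 hG (by omega) hb16).elim
  by_cases hb17 : Nat.card G ≤ 5340
  · have h := range_5241_5340 hG (by omega) hb17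
    exact absurd h (no_5292 hG)
  by_cases hb18 : Nat.card G ≤ 5440
  · have h := range_5341_5440 hG (by omega) hb18
    rw [h]; decide
  by_cases hb19 : Nat.card G ≤ 5540
  · have h := range_5441_5540 hG (by omega) hb19
    rw [h]; decide
  by_cases hb20 : Nat.card G ≤ 5640
  · have h := range_5541_5640 hG (by omega) hb20
    rcases h with h | h
    · rw [h]; decide
    · rw [h]; decide
  by_cases hb21 : Nat.card G ≤ 5740
  · have h := range_5641_5740 hG (by omega) hb21
    rw [h]; decide
  by_cases hb22 : Nat.card G ≤ 5840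
  · have h := range_5741_5840 hG (by omega) hb22
    rw [h]; decide
  by_cases hb23 : Nat.card G ≤ 5940
  · have h := range_5841_5940 hG (by omega) hb23
    rw [h]; decide
  by_cases hb24 : Nat.card G ≤ 6040
  · have h := range_5941_6040 hG (by omega) hb24
    exact absurd h (no_6000 hG)
  by_cases hb25 : Nat.card G ≤ 6140
  · have h := range_6041_6140 hG (by omega) hb25
    rcases h with h | h
    · rw [h]; decide
    · rw [h]; decide
  by_cases hb26 : Nat.card G ≤ 6232
  · exact (range_6141_6232 hG (by omega) hb26).elim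
  omega

end Cfsg.H5.SmallOrd
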