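import Cfsg.Agent.H5.Sp43BFi

/-!
# `Sp_4(3)`: brute-force facts over `ZMod 3`, in pieces to keep the kernel's memory small (helper5)
`bf_blk` with the first two entries fixed
-/

set_option autoImplicit false

namespace Cfsg.H5.Sp43

theorem bf_blk_00 : ∀ (b11 b21 a12 a22 b12 b22 : ZMod 3),
    (IsSp4 (blk 0 a12 0 a22 b11 b12 b21 b22 1) → MapsPl spread (blk 0 a12 0 a22 b11 b12 b21 b22 1)) ∧
    (IsSp4 (blk 0 a12 0 a22 b11 b12 b21 b22 (-1)) →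
      MapsPl spread (blk 0 a12 0 a22 b11 b12 b21 b22 (-1))) := by
  decide +kernel

theorem bf_blk_01 : ∀ (b11 b21 a12 a22 b12 b22 : ZMod 3),
    (IsSp4 (blk 0 a12 1 a22 b11 b12 b21 b22 1) → MapsPl spread (blk 0 a12 1 a22 b11 b12 b21 b22 1)) ∧
    (IsSp4 (blk 0 a12 1 a22 b11 b12 b21 b22 (-1)) →
      MapsPl spread (blk 0 a12 1 a22 b11 b12 b21 b22 (-1))) := by
  decide +kernel

theorem bf_blk_02 : ∀ (b11 b21 a12 a22 b12 b22 : ZMod 3),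
    (IsSp4 (blk 0 a12 2 a22 b11 b12 b21 b22 1) → MapsPl spread (blk 0 a12 2 a22 b11 b12 b21 b22 1)) ∧
    (IsSp4 (blk 0 a12 2 a22 b11 b12 b21 b22 (-1)) →
      MapsPl spread (blk 0 a12 2 a22 b11 b12 b21 b22 (-1))) := by
  decide +kernel

theorem bf_blk_10 : ∀ (b11 b21 a12 a22 b12 b22 : ZMod 3),
    (IsSp4 (blk 1 a12 0 a22 b11 b12 b21 b22 1) → MapsPl spread (blk 1 a12 0 a22 b11 b12 b21 b22 1)) ∧
    (IsSp4 (blk 1 a12 0 a22 b11 b12 b21 b22 (-1)) →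
      MapsPl spread (blk 1 a12 0 a22 b11 b12 b21 b22 (-1))) := by
  decide +kernel

theorem bf_blk_11 : ∀ (b11 b21 a12 a22 b12 b22 : ZMod 3),
    (IsSp4 (blk 1 a12 1 a22 b11 b12 b21 b22 1) → MapsPl spread (blk 1 a12 1 a22 b11 b12 b21 b22 1)) ∧
    (IsSp4 (blk 1 a12 1 a22 b11 b12 b21 b22 (-1)) →
      MapsPl spread (blk 1 a12 1 a22 b11 b12 b21 b22 (-1))) := by
  decide +kernel

theorem bf_blk_12 : ∀ (b11 b21 a12 a22 b12 b22 : ZMod 3),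
    (IsSp4 (blk 1 a12 2 a22 b11 b12 b21 b22 1) → MapsPl spread (blk 1 a12 2 a22 b11 b12 b21 b22 1)) ∧
    (IsSp4 (blk 1 a12 2 a22 b11 b12 b21 b22 (-1)) →
      MapsPl spread (blk 1 a12 2 a22 b11 b12 b21 b22 (-1))) := by
  decide +kernel

theorem bf_blk_20 : ∀ (b11 b21 a12 a22 b12 b22 : ZMod 3),
    (IsSp4 (blk 2 a12 0 a22 b11 b12 b21 b22 1) → MapsPl spread (blk 2 a12 0 a22 b11 b12 b21 b22 1)) ∧
    (IsSp4 (blk 2 a12 0 a22 b11 b12 b21 b22 (-1)) →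
      MapsPl spread (blk 2 a12 0 a22 b11 b12 b21 b22 (-1))) := by
  decide +kernel

theorem bf_blk_21 : ∀ (b11 b21 a12 a22 b12 b22 : ZMod 3),
    (IsSp4 (blk 2 a12 1 a22 b11 b12 b21 b22 1) → MapsPl spread (blk 2 a12 1 a22 b11 b12 b21 b22 1)) ∧
    (IsSp4 (blk 2 a12 1 a22 b11 b12 b21 b22 (-1)) →
      MapsPl spread (blk 2 a12 1 a22 b11 b12 b21 b22 (-1))) := by
  decide +kernel

theorem bf_blk_22 : ∀ (b11 b21 a12 a22 b12 b22 : ZMod 3),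
    (IsSp4 (blk 2 a12 2 a22 b11 b12 b21 b22 1) → MapsPl spread (blk 2 a12 2 a22 b11 b12 b21 b22 1)) ∧
    (IsSp4 (blk 2 a12 2 a22 b11 b12 b21 b22 (-1)) →
      MapsPl spread (blk 2 a12 2 a22 b11 b12 b21 b22 (-1))) := by
  decide +kernel

end Cfsg.H5.Sp43
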