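import Cfsg.Agent.H5.Sp43BFi

/-!
# `Sp_4(3)`: brute-force facts over `ZMod 3`, in pieces to keep the kernel's memory small (helper5)
`bf_bdiag` with the first two entries fixed
-/

set_option autoImplicit false

namespace Cfsg.H5.Sp43

theorem bf_bdiag_00 : ∀ (a21 a22 d11 d12 d21 d22 : ZMod 3),
    IsSp4 (bdiag 0 0 a21 a22 d11 d12 d21 d22) → MapsPl wpm (bdiag 0 0 a21 a22 d11 d12 d21 d22) := by
  decide +kernel

theorem bf_bdiag_01 : ∀ (a21 a22 d11 d12 d21 d22 : ZMod 3),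
    IsSp4 (bdiag 0 1 a21 a22 d11 d12 d21 d22) → MapsPl wpm (bdiag 0 1 a21 a22 d11 d12 d21 d22) := by
  decide +kernel

theorem bf_bdiag_02 : ∀ (a21 a22 d11 d12 d21 d22 : ZMod 3),
    IsSp4 (bdiag 0 2 a21 a22 d11 d12 d21 d22) → MapsPl wpm (bdiag 0 2 a21 a22 d11 d12 d21 d22) := by
  decide +kernel

theorem bf_bdiag_10 : ∀ (a21 a22 d11 d12 d21 d22 : ZMod 3),
    IsSp4 (bdiag 1 0 a21 a22 d11 d12 d21 d22) → MapsPl wpm (bdiag 1 0 a21 a22 d11 d12 d21 d22) := by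
  decide +kernel

theorem bf_bdiag_11 : ∀ (a21 a22 d11 d12 d21 d22 : ZMod 3),
    IsSp4 (bdiag 1 1 a21 a22 d11 d12 d21 d22) → MapsPl wpm (bdiag 1 1 a21 a22 d11 d12 d21 d22) := by
  decide +kernel

theorem bf_bdiag_12 : ∀ (a21 a22 d11 d12 d21 d22 : ZMod 3),
    IsSp4 (bdiag 1 2 a21 a22 d11 d12 d21 d22) → MapsPl wpm (bdiag 1 2 a21 a22 d11 d12 d21 d22) := by
  decide +kernel

theorem bf_bdiag_20 : ∀ (a21 a22 d11 d12 d21 d22 : ZMod 3),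
    IsSp4 (bdiag 2 0 a21 a22 d11 d12 d21 d22) → MapsPl wpm (bdiag 2 0 a21 a22 d11 d12 d21 d22) := by
  decide +kernel

theorem bf_bdiag_21 : ∀ (a21 a22 d11 d12 d21 d22 : ZMod 3),
    IsSp4 (bdiag 2 1 a21 a22 d11 d12 d21 d22) → MapsPl wpm (bdiag 2 1 a21 a22 d11 d12 d21 d22) := by
  decide +kernel

theorem bf_bdiag_22 : ∀ (a21 a22 d11 d12 d21 d22 : ZMod 3),
    IsSp4 (bdiag 2 2 a21 a22 d11 d12 d21 d22) → MapsPl wpm (bdiag 2 2 a21 a22 d11 d12 d21 d22) := by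
  decide +kernel

end Cfsg.H5.Sp43
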