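import Cfsg.Agent.H5.Sp43BFi

/-!
# `Sp_4(3)`: brute-force facts over `ZMod 3`, in pieces to keep the kernel's memory small (helper5)
`bf_banti` with the first two entries fixed
-/

set_option autoImplicit false

namespace Cfsg.H5.Sp43

theorem bf_banti_00 : ∀ (b21 b22 c11 c12 c21 c22 : ZMod 3),
    IsSp4 (banti 0 0 b21 b22 c11 c12 c21 c22) → MapsPl wpm (banti 0 0 b21 b22 c11 c12 c21 c22) := by
  decide +kernel

theorem bf_banti_01 : ∀ (b21 b22 c11 c12 c21 c22 : ZMod 3),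
    IsSp4 (banti 0 1 b21 b22 c11 c12 c21 c22) → MapsPl wpm (banti 0 1 b21 b22 c11 c12 c21 c22) := by
  decide +kernel

theorem bf_banti_02 : ∀ (b21 b22 c11 c12 c21 c22 : ZMod 3),
    IsSp4 (banti 0 2 b21 b22 c11 c12 c21 c22) → MapsPl wpm (banti 0 2 b21 b22 c11 c12 c21 c22) := by
  decide +kernel

theorem bf_banti_10 : ∀ (b21 b22 c11 c12 c21 c22 : ZMod 3),
    IsSp4 (banti 1 0 b21 b22 c11 c12 c21 c22) → MapsPl wpm (banti 1 0 b21 b22 c11 c12 c21 c22) := by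
  decide +kernel

theorem bf_banti_11 : ∀ (b21 b22 c11 c12 c21 c22 : ZMod 3),
    IsSp4 (banti 1 1 b21 b22 c11 c12 c21 c22) → MapsPl wpm (banti 1 1 b21 b22 c11 c12 c21 c22) := by
  decide +kernel

theorem bf_banti_12 : ∀ (b21 b22 c11 c12 c21 c22 : ZMod 3),
    IsSp4 (banti 1 2 b21 b22 c11 c12 c21 c22) → MapsPl wpm (banti 1 2 b21 b22 c11 c12 c21 c22) := by
  decide +kernel

theorem bf_banti_20 : ∀ (b21 b22 c11 c12 c21 c22 : ZMod 3),
    IsSp4 (banti 2 0 b21 b22 c11 c12 c21 c22) → MapsPl wpm (banti 2 0 b21 b22 c11 c12 c21 c22) := by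
  decide +kernel

theorem bf_banti_21 : ∀ (b21 b22 c11 c12 c21 c22 : ZMod 3),
    IsSp4 (banti 2 1 b21 b22 c11 c12 c21 c22) → MapsPl wpm (banti 2 1 b21 b22 c11 c12 c21 c22) := by
  decide +kernel

theorem bf_banti_22 : ∀ (b21 b22 c11 c12 c21 c22 : ZMod 3),
    IsSp4 (banti 2 2 b21 b22 c11 c12 c21 c22) → MapsPl wpm (banti 2 2 b21 b22 c11 c12 c21 c22) := by
  decide +kernel

end Cfsg.H5.Sp43
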