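import Mathlib

/-!
# `Sp_4(3)`: scalar-level vocabulary for brute-force checks (helper5)

Vectors of `F^4` are functions `Fin 4 → R` (coordinates `0, 1 = inl 0, inl 1`, `2, 3 = inr 0, inr 1`), matrices are
`Fin 4 → Fin 4 → R`.  Everything is stated for an arbitrary ring `R` so that it can be transported along a ring
isomorphism `F ≃+* ZMod 3`, where the statements are decided by the kernel.  Constant tables are integer tables cast
into `R`.
-/

set_option autoImplicit false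

namespace Cfsg.H5.Sp43

/-- `4 × 4` matrices as functions -/
abbrev M4 (R : Type*) := Fin 4 → Fin 4 → R

/-- an integer table cast into `R` -/
def castM (T : Fin 4 → Fin 4 → ℤ) (R : Type*) [Ring R] : M4 R := fun x y => ((T x y : ℤ) : R)

/-- matrix times vector -/
def act {R : Type*} [Ring R] (m : M4 R) (v : Fin 4 → R) : Fin 4 → R :=
  fun x => m x 0 * v 0 + m x 1 * v 1 + m x 2 * v 2 + m x 3 * v 3

/-- matrix product -/
def mul4 {R : Type*} [Ring R] (m n : M4 R) : M4 R :=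
  fun x y => m x 0 * n 0 y + m x 1 * n 1 y + m x 2 * n 2 y + m x 3 * n 3 y

/-- the standard alternating form `u ⬝ J v` in coordinates -/
def form4 {R : Type*} [Ring R] (u v : Fin 4 → R) : R := u 2 * v 0 + u 3 * v 1 - u 0 * v 2 - u 1 * v 3

/-- the Gram matrix of `form4`, integer table -/
def jjZ : Fin 4 → Fin 4 → ℤ := ![![0, 0, -1, 0], ![0, 0, 0, -1], ![1, 0, 0, 0], ![0, 1, 0, 0]]

/-- the Gram matrix of `form4` -/
def jj (R : Type*) [Ring R] : M4 R := castM jjZ R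

/-- the identity, integer table -/
def one4Z : Fin 4 → Fin 4 → ℤ := ![![1, 0, 0, 0], ![0, 1, 0, 0], ![0, 0, 1, 0], ![0, 0, 0, 1]]

/-- the identity -/
def one4 (R : Type*) [Ring R] : M4 R := castM one4Z R

/-- the columns of `m` form a symplectic basis -/
def IsSp4 {R : Type*} [Ring R] (m : M4 R) : Prop :=
  ∀ x y : Fin 4, form4 (fun z => m z x) (fun z => m z y) = jj R x y

/-- a family of `t` planes of `F^4`, each given by a basis in reduced echelon form: `pa j` has `1` at the pivot `ca j`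
and `0` at the pivot `cb j`, `pb j` has `0` at `ca j` and `1` at `cb j` -/
structure PlaneData (t : ℕ) where
  pa : Fin t → Fin 4 → ℤ
  pb : Fin t → Fin 4 → ℤ
  ca : Fin t → Fin 4
  cb : Fin t → Fin 4

/-- the vector `w` lies in the `j`-th plane (its coefficients are read off at the pivots) -/
def InPl {t : ℕ} (D : PlaneData t) {R : Type*} [Ring R] (j : Fin t) (w : Fin 4 → R) : Prop :=
  ∀ x : Fin 4, w x = w (D.ca j) * ((D.pa j x : ℤ) : R) + w (D.cb j) * ((D.pb j x : ℤ) : R)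

/-- the first basis vector of the `j`-th plane -/
def vecA {t : ℕ} (D : PlaneData t) (R : Type*) [Ring R] (j : Fin t) : Fin 4 → R := fun x => ((D.pa j x : ℤ) : R)

/-- the second basis vector of the `j`-th plane -/
def vecB {t : ℕ} (D : PlaneData t) (R : Type*) [Ring R] (j : Fin t) : Fin 4 → R := fun x => ((D.pb j x : ℤ) : R)

/-- the pivot conditions -/
def PlaneData.Pivot {t : ℕ} (D : PlaneData t) : Prop :=
  ∀ j, D.pa j (D.ca j) = 1 ∧ D.pa j (D.cb j) = 0 ∧ D.pb j (D.ca j) = 0 ∧ D.pb j (D.cb j) = 1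

/-- `m` maps every plane of the family into a plane of the family -/
def MapsPl {t : ℕ} (D : PlaneData t) {R : Type*} [Ring R] (m : M4 R) : Prop :=
  ∀ i : Fin t, ∃ j : Fin t, InPl D j (act m (vecA D R i)) ∧ InPl D j (act m (vecB D R i))

/-- `m` moves some plane of the family off the family -/
def MovesPl {t : ℕ} (D : PlaneData t) {R : Type*} [Ring R] (m : M4 R) : Prop :=
  ∃ i : Fin t, ∀ j : Fin t, ¬ (InPl D j (act m (vecA D R i)) ∧ InPl D j (act m (vecB D R i)))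

/-- the spread of ten planes of `F_3^4` stabilised by `2_-^{1+4}.A_5` -/
def spread : PlaneData 10 where
  pa := ![![1, -1, 0, 0], ![1, 0, 0, -1], ![1, 0, 1, 1], ![0, 1, 0, 0], ![1, 0, -1, 1], ![1, 1, 0, 0], ![1, 0, 1, -1],
    ![1, 0, -1, -1], ![1, 0, 0, 0], ![1, 0, 0, 1]]
  pb := ![![0, 0, 1, -1], ![0, 1, 1, 0], ![0, 1, -1, 1], ![0, 0, 0, 1], ![0, 1, -1, -1], ![0, 0, 1, 1], ![0, 1, 1, 1],
    ![0, 1, 1, -1], ![0, 0, 1, 0], ![0, 1, -1, 0]]
  ca := ![0, 0, 0, 1, 0, 0, 0, 0, 0, 0]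
  cb := ![2, 1, 1, 3, 1, 2, 1, 1, 2, 1]

/-- the two non-degenerate planes `W± = {(a, ± J₂ a)}` -/
def wpm : PlaneData 2 where
  pa := ![![1, 0, 0, -1], ![1, 0, 0, 1]]
  pb := ![![0, 1, 1, 0], ![0, 1, -1, 0]]
  ca := ![0, 0]
  cb := ![1, 1]

/-- the block matrix `[[A, B], [-εB, εA]]` -/
def blk {R : Type*} [Ring R] (a11 a12 a21 a22 b11 b12 b21 b22 ε : R) : M4 R :=
  ![![a11, a12, b11, b12], ![a21, a22, b21, b22], ![-ε * b11, -ε * b12, ε * a11, ε * a12],
    ![-ε * b21, -ε * b22, ε * a21, ε * a22]]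

/-- block diagonal -/
def bdiag {R : Type*} [Ring R] (a11 a12 a21 a22 d11 d12 d21 d22 : R) : M4 R :=
  ![![a11, a12, 0, 0], ![a21, a22, 0, 0], ![0, 0, d11, d12], ![0, 0, d21, d22]]

/-- block antidiagonal -/
def banti {R : Type*} [Ring R] (b11 b12 b21 b22 c11 c12 c21 c22 : R) : M4 R :=
  ![![0, 0, b11, b12], ![0, 0, b21, b22], ![c11, c12, 0, 0], ![c21, c22, 0, 0]]

/-- the transvection `1 + E_{0,2}` -/
def t0Z : Fin 4 → Fin 4 → ℤ := ![![1, 0, 1, 0], ![0, 1, 0, 0], ![0, 0, 1, 0], ![0, 0, 0, 1]]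

/-- an element of the stabiliser of the spread which does not normalise `F[J]` -/
def x0Z : Fin 4 → Fin 4 → ℤ := ![![1, 0, 0, 0], ![0, 1, 0, -1], ![0, 0, 1, 0], ![0, -1, 0, -1]]

/-- its inverse -/
def x0iZ : Fin 4 → Fin 4 → ℤ := ![![1, 0, 0, 0], ![0, -1, 0, 1], ![0, 0, 1, 0], ![0, 1, 0, 1]]

/-- an element of the stabiliser of `W±` which does not stabilise the pair of coordinate planes -/
def x1Z : Fin 4 → Fin 4 → ℤ := ![![0, 1, 0, 0], ![1, 0, 1, 0], ![0, -1, 0, 1], ![0, 0, 1, 0]]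

/-- its inverse -/
def x1iZ : Fin 4 → Fin 4 → ℤ := ![![0, 1, 0, -1], ![1, 0, 0, 0], ![0, 0, 0, 1], ![1, 0, 1, 0]]

end Cfsg.H5.Sp43
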