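import Mathlib
import Cfsg.Agent.H5.Sp43Defs

/-!
# `Sp_4(3)`: decidability instances for the brute-force facts (helper5)
-/

set_option autoImplicit false

namespace Cfsg.H5.Sp43

instance decInPl {t : ℕ} (D : PlaneData t) (j : Fin t) (w : Fin 4 → ZMod 3) : Decidable (InPl D j w) := by
  unfold InPl; infer_instance

instance decIsSp4 (m : M4 (ZMod 3)) : Decidable (IsSp4 m) := by
  unfold IsSp4; infer_instance

instance decMapsPl {t : ℕ} (D : PlaneData t) (m : M4 (ZMod 3)) : Decidable (MapsPl D m) := by
  unfold MapsPl; infer_instance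

instance decMovesPl {t : ℕ} (D : PlaneData t) (m : M4 (ZMod 3)) : Decidable (MovesPl D m) := by
  unfold MovesPl; infer_instance

instance decPivot {t : ℕ} (D : PlaneData t) : Decidable D.Pivot := by
  unfold PlaneData.Pivot; infer_instance

end Cfsg.H5.Sp43
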