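import Mathlib
import Cfsg.Agent.H5.Sp43Defs
import Cfsg.Agent.H5.Sp43BFi
import Cfsg.Agent.H5.Sp43BFa
import Cfsg.Agent.H5.Sp43BFb
import Cfsg.Agent.H5.Sp43BFc

/-!
# `Sp_4(3)`: the brute-force facts over `ZMod 3` (helper5)

All statements are closed propositions over `ZMod 3`, decided by the kernel.
-/

set_option autoImplicit false

namespace Cfsg.H5.Sp43

theorem pivot_spread : spread.Pivot := by decide +kernel

theorem pivot_wpm : wpm.Pivot := by decide +kernel

/-- the normaliser of `F[J]` in `Sp_4(3)` stabilises the spread -/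
theorem bf_blk : ∀ (a11 a21 b11 b21 a12 a22 b12 b22 : ZMod 3),
    (IsSp4 (blk a11 a12 a21 a22 b11 b12 b21 b22 1) → MapsPl spread (blk a11 a12 a21 a22 b11 b12 b21 b22 1)) ∧
    (IsSp4 (blk a11 a12 a21 a22 b11 b12 b21 b22 (-1)) →
      MapsPl spread (blk a11 a12 a21 a22 b11 b12 b21 b22 (-1))) := by
  intro x y
  fin_cases x <;> fin_cases y
  · exact bf_blk_00
  · exact bf_blk_01
  · exact bf_blk_02
  · exact bf_blk_10
  · exact bf_blk_11
  · exact bf_blk_12
  · exact bf_blk_20
  · exact bf_blk_21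
  · exact bf_blk_22

/-- the block diagonal symplectic matrices stabilise `{W+, W-}` -/
theorem bf_bdiag : ∀ (a11 a12 a21 a22 d11 d12 d21 d22 : ZMod 3),
    IsSp4 (bdiag a11 a12 a21 a22 d11 d12 d21 d22) → MapsPl wpm (bdiag a11 a12 a21 a22 d11 d12 d21 d22) := by
  intro x y
  fin_cases x <;> fin_cases y
  · exact bf_bdiag_00
  · exact bf_bdiag_01
  · exact bf_bdiag_02
  · exact bf_bdiag_10
  · exact bf_bdiag_11
  · exact bf_bdiag_12
  · exact bf_bdiag_20
  · exact bf_bdiag_21
  · exact bf_bdiag_22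

/-- the block antidiagonal symplectic matrices stabilise `{W+, W-}` -/
theorem bf_banti : ∀ (b11 b12 b21 b22 c11 c12 c21 c22 : ZMod 3),
    IsSp4 (banti b11 b12 b21 b22 c11 c12 c21 c22) → MapsPl wpm (banti b11 b12 b21 b22 c11 c12 c21 c22) := by
  intro x y
  fin_cases x <;> fin_cases y
  · exact bf_banti_00
  · exact bf_banti_01
  · exact bf_banti_02
  · exact bf_banti_10
  · exact bf_banti_11
  · exact bf_banti_12
  · exact bf_banti_20
  · exact bf_banti_21
  · exact bf_banti_22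

theorem bf_t0_sp : IsSp4 (castM t0Z (ZMod 3)) := by decide +kernel
theorem bf_x0_sp : IsSp4 (castM x0Z (ZMod 3)) := by decide +kernel
theorem bf_x1_sp : IsSp4 (castM x1Z (ZMod 3)) := by decide +kernel

theorem bf_t0_spread : MovesPl spread (castM t0Z (ZMod 3)) := by decide +kernel
theorem bf_t0_wpm : MovesPl wpm (castM t0Z (ZMod 3)) := by decide +kernel

theorem bf_x0_spread : MapsPl spread (castM x0Z (ZMod 3)) := by decide +kernel
theorem bf_x0i_spread : MapsPl spread (castM x0iZ (ZMod 3)) := by decide +kernel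
theorem bf_x1_wpm : MapsPl wpm (castM x1Z (ZMod 3)) := by decide +kernel
theorem bf_x1i_wpm : MapsPl wpm (castM x1iZ (ZMod 3)) := by decide +kernel

theorem bf_x0_inv : mul4 (castM x0Z (ZMod 3)) (castM x0iZ (ZMod 3)) = one4 (ZMod 3) := by decide +kernel
theorem bf_x1_inv : mul4 (castM x1Z (ZMod 3)) (castM x1iZ (ZMod 3)) = one4 (ZMod 3) := by decide +kernel

/-- `x0` does not normalise `F[J]` -/
theorem bf_x0_jj : ¬ (mul4 (castM x0Z (ZMod 3)) (jj (ZMod 3)) = mul4 (jj (ZMod 3)) (castM x0Z (ZMod 3))) ∧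
    ¬ (mul4 (castM x0Z (ZMod 3)) (jj (ZMod 3)) = fun x y => - mul4 (jj (ZMod 3)) (castM x0Z (ZMod 3)) x y) := by
  decide +kernel

end Cfsg.H5.Sp43
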