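import Mathlib
import Cfsg.Prelude.Def_GeometricClasses
import Cfsg.Agent.Lib.Helper13.SpMax

/-!
# Corollaries of the symplectic hub S5662 (rows S5787, S5790, S5805, ...): generic pieces, part A  (helper5)

For `I := spGL m F` inside `GL (Fin m ⊕ Fin m) F`:
* `hproper_of_max` (SpG-a): a maximal subgroup `H` of `I` satisfies the hypothesis `hproper` of the hub.
  No perfectness is needed: `scalars ⊓ I = ±1`, so `t ^ 2 ∈ H` for every transvection `t`.
* `eq_of_le_member` (SpG-c).
* `not_sp_le_subspaceStabilizer` (SpG-b1) and the two ways a class-1 member has `W ≠ ⊤`.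
-/

set_option autoImplicit false
set_option linter.unusedSectionVars false
set_option linter.unusedVariables false

namespace Cfsg.H5.SpCor

open Cfsg Cfsg.Geo Matrix
open Cfsg.Agent.Lib.Helper13 (sympTransvGL sympTransvGL_mulVec sympTransvGL_mem spGL_le_of_transvections)
open Cfsg.Agent.Lib.Helper6 (sympForm_add_left sympForm_add_right sympForm_smul_left sympForm_smul_right
  sympForm_self sympForm_swap sympForm_zero_left sympForm_zero_right sympTransvection_mul)
open scoped MatrixGroups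

variable {F : Type*} [Field F] {m : ℕ}

local notation "ff" => Cfsg.sympForm m F

/-- the standard symplectic form is non-degenerate -/
theorem eq_zero_of_forall_right (x : Fin m ⊕ Fin m → F) (h : ∀ y, ff x y = 0) : x = 0 :=
  Cfsg.Agent.Lib.Helper15.stdSymp_nondeg x h

theorem eq_zero_of_forall_left (x : Fin m ⊕ Fin m → F) (h : ∀ y, ff y x = 0) : x = 0 := by
  apply eq_zero_of_forall_right
  intro y
  rw [sympForm_swap, h, neg_zero]

/-- membership in the symplectic group -/
theorem mem_spGL_iff (g : GL (Fin m ⊕ Fin m) F) :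
    g ∈ Cfsg.spGL m F ↔ ∀ x y, ff ((g : Matrix (Fin m ⊕ Fin m) (Fin m ⊕ Fin m) F) *ᵥ x)
      ((g : Matrix (Fin m ⊕ Fin m) (Fin m ⊕ Fin m) F) *ᵥ y) = ff x y := Iff.rfl

theorem exists_pair (hm : 1 ≤ m) : ∃ x y : Fin m ⊕ Fin m → F, ff x y ≠ 0 := by
  set x : Fin m ⊕ Fin m → F := Pi.single (Sum.inl ⟨0, by omega⟩) 1 with hx
  have hx0 : x ≠ 0 := by
    intro h
    have := congrFun h (Sum.inl ⟨0, by omega⟩)
    rw [hx, Pi.single_eq_same] at this
    exact one_ne_zero this
  by_contra hcon
  push Not at hcon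
  exact hx0 (eq_zero_of_forall_right x (hcon x))

theorem sympTransvGL_mul_self (a : Fin m ⊕ Fin m → F) (c : F) :
    sympTransvGL a c * sympTransvGL a c = sympTransvGL a (c + c) := by
  apply Units.ext
  rw [Units.val_mul]
  exact sympTransvection_mul a c c

/-- a scalar matrix in the symplectic group has square one -/
theorem scalar_sq_of_mem (hm : 1 ≤ m) (z : GL (Fin m ⊕ Fin m) F) (hz : z ∈ scalars (Fin m ⊕ Fin m) F)
    (hzI : z ∈ Cfsg.spGL m F) : ∃ c : Fˣ, (z : Matrix (Fin m ⊕ Fin m) (Fin m ⊕ Fin m) F) =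
      (c : F) • (1 : Matrix (Fin m ⊕ Fin m) (Fin m ⊕ Fin m) F) ∧ (c : F) * (c : F) = 1 := by
  rw [mem_scalars_iff] at hz
  obtain ⟨c, hc⟩ := hz
  refine ⟨c, hc, ?_⟩
  obtain ⟨x, y, hxy⟩ := exists_pair (F := F) hm
  have h := (mem_spGL_iff z).mp hzI x y
  rw [hc, Matrix.smul_mulVec, Matrix.one_mulVec, Matrix.smul_mulVec, Matrix.one_mulVec, sympForm_smul_left,
    sympForm_smul_right, ← mul_assoc] at h
  have h2 : ((c : F) * (c : F) - 1) * ff x y = 0 := by linear_combination h
  rcases mul_eq_zero.mp h2 with h3 | h3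
  · linear_combination h3
  · exact absurd h3 hxy

/-- (SpG-a) a maximal subgroup of `Sp` does not cover `PSp` -/
theorem hproper_of_max (hm : 1 ≤ m) (H : Subgroup (GL (Fin m ⊕ Fin m) F))
    (hH : IsMaximalIn (Cfsg.spGL m F) H) :
    H ⊔ (scalars (Fin m ⊕ Fin m) F ⊓ Cfsg.spGL m F) ≠ Cfsg.spGL m F := by
  intro heq
  have hle : H ⊔ (scalars (Fin m ⊕ Fin m) F ⊓ Cfsg.spGL m F) ≤ H ⊔ scalars (Fin m ⊕ Fin m) F :=
    sup_le_sup_left inf_le_left H
  -- every element of `Sp` is `h * z`
  have hdec : ∀ g ∈ Cfsg.spGL m F, ∃ h ∈ H, ∃ z ∈ scalars (Fin m ⊕ Fin m) F, z ∈ Cfsg.spGL m F ∧ h * z = g := by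
    intro g hg
    have hg' : g ∈ H ⊔ scalars (Fin m ⊕ Fin m) F := hle (by rw [heq]; exact hg)
    rw [Subgroup.mem_sup_of_normal_right] at hg'
    obtain ⟨h, hh, z, hz, rfl⟩ := hg'
    refine ⟨h, hh, z, hz, ?_, rfl⟩
    have : z = h⁻¹ * (h * z) := by group
    rw [this]
    exact (Cfsg.spGL m F).mul_mem ((Cfsg.spGL m F).inv_mem (hH.1.le hh)) hg
  -- the square of every element of `Sp` is in `H`
  have hsq : ∀ g ∈ Cfsg.spGL m F, g * g ∈ H := by
    intro g hg
    obtain ⟨h, hh, z, hz, hzI, rfl⟩ := hdec g hg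
    obtain ⟨c, hc, hcc⟩ := scalar_sq_of_mem hm z hz hzI
    have hzz : z * z = 1 := by
      apply Units.ext
      rw [Units.val_mul, hc, Matrix.smul_mul, Matrix.mul_smul, Matrix.one_mul, smul_smul, hcc, one_smul,
        Units.val_one]
    have hcomm : z * h = h * z := by
      apply Units.ext
      rw [Units.val_mul, Units.val_mul, hc, Matrix.smul_mul, Matrix.mul_smul, Matrix.one_mul, Matrix.mul_one]
    have : h * z * (h * z) = h * h := by
      calc h * z * (h * z) = h * (z * h) * z := by group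
        _ = h * (h * z) * z := by rw [hcomm]
        _ = h * h * (z * z) := by group
        _ = h * h := by rw [hzz, mul_one]
    rw [this]
    exact H.mul_mem hh hh
  have hall : ∀ a c, sympTransvGL a c ∈ H := by
    intro a c
    by_cases h2 : (2 : F) = 0
    · -- characteristic two: the scalars of `Sp` are trivial
      obtain ⟨h, hh, z, hz, hzI, hhz⟩ := hdec _ (sympTransvGL_mem (m := m) (F := F) a c)
      obtain ⟨d, hd, hdd⟩ := scalar_sq_of_mem hm z hz hzI
      have hd1 : (d : F) = 1 := by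
        have h3 : ((d : F) - 1) * ((d : F) - 1) = 0 := by
          have : ((d : F) - 1) * ((d : F) - 1) = (d : F) * (d : F) - 2 * (d : F) + 1 := by ring
          rw [this, hdd, h2]; ring_nf
          rw [h2]
        have := mul_self_eq_zero.mp h3
        linear_combination this
      have hz1 : z = 1 := by
        apply Units.ext
        rw [hd, hd1, one_smul, Units.val_one]
      rw [hz1, mul_one] at hhz
      rw [← hhz]
      exact hh
    · have h := hsq _ (sympTransvGL_mem (m := m) (F := F) a (c / 2))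
      rw [sympTransvGL_mul_self] at h
      have : c / 2 + c / 2 = c := by field_simp; ring
      rwa [this] at h
  have : Cfsg.spGL m F ≤ H := spGL_le_of_transvections H hall
  exact absurd this (not_le_of_gt hH.1)

/-- (SpG-c) a maximal subgroup inside a proper member is that member -/
theorem eq_of_le_member (H X : Subgroup (GL (Fin m ⊕ Fin m) F))
    (hH : IsMaximalIn (Cfsg.spGL m F) H) (hHX : H ≤ X)
    (hX : ¬ Cfsg.spGL m F ≤ X) : H = X ⊓ Cfsg.spGL m F := by
  have h1 : H ≤ X ⊓ Cfsg.spGL m F := le_inf hHX hH.1.le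
  rcases hH.2 _ h1 inf_le_right with h | h
  · exact h.symm
  · exact absurd (h ▸ inf_le_left) hX

theorem mem_subspaceStabilizer_iff (W : Submodule F (Fin m ⊕ Fin m → F)) (g : GL (Fin m ⊕ Fin m) F) :
    g ∈ subspaceStabilizer W ↔
      ∀ x, x ∈ W ↔ (g : Matrix (Fin m ⊕ Fin m) (Fin m ⊕ Fin m) F) *ᵥ x ∈ W := Iff.rfl

/-- (SpG-b1) `Sp` stabilises no proper non-zero subspace -/
theorem not_sp_le_subspaceStabilizer (W : Submodule F (Fin m ⊕ Fin m → F)) (h0 : W ≠ ⊥) (h1 : W ≠ ⊤) :
    ¬ Cfsg.spGL m F ≤ subspaceStabilizer W := by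
  intro hle
  obtain ⟨w, hwW, hw0⟩ := Submodule.exists_mem_ne_zero_of_ne_bot h0
  have hv : ∃ v, v ∉ W := by
    by_contra hcon
    push Not at hcon
    exact h1 (eq_top_iff.mpr fun x _ => hcon x)
  obtain ⟨v, hv⟩ := hv
  have hex : ∃ a, a ∉ W ∧ ff w a ≠ 0 := by
    by_contra hcon
    push Not at hcon
    apply hw0
    apply eq_zero_of_forall_right
    intro y
    by_cases hy : y ∈ W
    · have h2 : y + v ∉ W := fun h => hv (by
        have := W.sub_mem h hy
        rwa [add_sub_cancel_left] at this)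
      have h3 := hcon (y + v) h2
      rw [sympForm_add_right, hcon v hv, add_zero] at h3
      exact h3
    · exact hcon y hy
  obtain ⟨a, haW, hwa⟩ := hex
  have ht := hle (sympTransvGL_mem (m := m) (F := F) a 1)
  have h2 := ((mem_subspaceStabilizer_iff W _).mp ht w).mp hwW
  rw [sympTransvGL_mulVec, one_mul] at h2
  have h3 : ff w a • a ∈ W := by
    have := W.sub_mem h2 hwW
    rwa [add_sub_cancel_left] at this
  exact haW ((W.smul_mem_iff hwa).mp h3)

/-- a non-zero totally singular subspace is proper -/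
theorem ne_top_of_totallySingular (hm : 1 ≤ m) (W : Submodule F (Fin m ⊕ Fin m → F))
    (hW : IsTotallySingularFor (Cfsg.sympForm m F) W) : W ≠ ⊤ := by
  rintro rfl
  obtain ⟨x, y, hxy⟩ := exists_pair (F := F) hm
  exact hxy (hW x Submodule.mem_top y Submodule.mem_top)

/-- a subspace of dimension less than `m` is proper -/
theorem ne_top_of_finrank_lt (W : Submodule F (Fin m ⊕ Fin m → F)) (hW : Module.finrank F W < m) : W ≠ ⊤ := by
  rintro rfl
  rw [finrank_top, Module.finrank_fintype_fun_eq_card, Fintype.card_sum, Fintype.card_fin] at hW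
  omega

/-- a non-zero subspace on which the form is non-degenerate has dimension at least two -/
theorem two_le_finrank_of_nondegenerateOn (W : Submodule F (Fin m ⊕ Fin m → F)) (h0 : W ≠ ⊥)
    (hW : IsNondegenerateOn (Cfsg.sympForm m F) W) : 2 ≤ Module.finrank F W := by
  obtain ⟨w, hwW, hw0⟩ := Submodule.exists_mem_ne_zero_of_ne_bot h0
  obtain ⟨⟨x, hxW, hx⟩, -⟩ := hW w hwW hw0
  by_contra hlt
  push Not at hlt
  have h1 : Module.finrank F W ≤ 1 := by omega
  -- `x` and `w` are multiples of one vector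
  obtain ⟨v, hv⟩ := finrank_le_one_iff.mp h1
  obtain ⟨c1, hc1⟩ := hv ⟨w, hwW⟩
  obtain ⟨c2, hc2⟩ := hv ⟨x, hxW⟩
  have e1 : c1 • (v : Fin m ⊕ Fin m → F) = w := congrArg Subtype.val hc1
  have e2 : c2 • (v : Fin m ⊕ Fin m → F) = x := congrArg Subtype.val hc2
  apply hx
  rw [← e1, ← e2, sympForm_smul_left, sympForm_smul_right, sympForm_self, mul_zero, mul_zero]

end Cfsg.H5.SpCor
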