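import Mathlib
import Cfsg.Prelude.Def_GeometricClasses
import Cfsg.Agent.H5.SpCorA

/-!
# Symplectic groups: elements from symplectic bases, and the "in between" contradiction (helper5)
-/

set_option autoImplicit false
set_option linter.unusedSectionVars false
set_option linter.unusedVariables false

namespace Cfsg.H5.Sp43

open Matrix Cfsg Cfsg.Geo
open Cfsg.Agent.Lib.Helper6 (sympForm_add_left sympForm_add_right sympForm_smul_left sympForm_smul_right
  sympForm_self sympForm_swap sympForm_zero_left sympForm_zero_right sympForm_def sympForm_eq_sum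
  mem_symplecticGroup_iff_preserves)

variable {F : Type*} [Field F] {m : ℕ}

local notation "ff" => Cfsg.sympForm m F

/-- the form on the standard basis -/
theorem sympForm_single_single (a b : Fin m ⊕ Fin m) :
    ff (Pi.single a 1) (Pi.single b 1) = Matrix.J (Fin m) F a b := by
  rw [sympForm_def, Matrix.mulVec_single_one, single_one_dotProduct]
  rfl

/-- a matrix whose columns form a symplectic basis gives an element of the symplectic group -/
theorem exists_sp_of_cols (c : Fin m ⊕ Fin m → (Fin m ⊕ Fin m → F))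
    (hc : ∀ a b, ff (c a) (c b) = Matrix.J (Fin m) F a b) :
    ∃ g : GL (Fin m ⊕ Fin m) F, g ∈ Cfsg.spGL m F ∧
      ∀ a, (g : Matrix (Fin m ⊕ Fin m) (Fin m ⊕ Fin m) F) *ᵥ Pi.single a 1 = c a := by
  set M : Matrix (Fin m ⊕ Fin m) (Fin m ⊕ Fin m) F := Matrix.of (fun r a => c a r) with hM
  have hcol : ∀ a, M *ᵥ Pi.single a 1 = c a := by
    intro a
    rw [Matrix.mulVec_single_one]
    rfl
  have h1 : Mᵀ * Matrix.J (Fin m) F * M = Matrix.J (Fin m) F := by
    ext a b
    rw [← hc a b, sympForm_def, Matrix.mul_assoc]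
    rfl
  have h2 : M ∈ Matrix.symplecticGroup (Fin m) F := by
    rw [SymplecticGroup.mem_iff']
    exact h1
  have h3 : IsUnit M.det := SymplecticGroup.symplectic_det h2
  refine ⟨Matrix.GeneralLinearGroup.mk'' M h3, ?_, ?_⟩
  · intro u v
    exact (mem_symplecticGroup_iff_preserves M).1 h2 u v
  · intro a
    exact hcol a

/-- an element of the symplectic group from a matrix preserving the form -/
theorem exists_sp_of_preserves (M : Matrix (Fin m ⊕ Fin m) (Fin m ⊕ Fin m) F)
    (hM : ∀ u v, ff (M *ᵥ u) (M *ᵥ v) = ff u v) :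
    ∃ g : GL (Fin m ⊕ Fin m) F, g ∈ Cfsg.spGL m F ∧ (g : Matrix (Fin m ⊕ Fin m) (Fin m ⊕ Fin m) F) = M := by
  have h2 : M ∈ Matrix.symplecticGroup (Fin m) F := (mem_symplecticGroup_iff_preserves M).2 hM
  have h3 : IsUnit M.det := SymplecticGroup.symplectic_det h2
  exact ⟨Matrix.GeneralLinearGroup.mk'' M h3, fun u v => hM u v, rfl⟩

/-- the contradiction: a maximal subgroup strictly between -/
theorem false_of_between (H X : Subgroup (GL (Fin m ⊕ Fin m) F)) (hH : IsMaximalIn (Cfsg.spGL m F) H)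
    (hHX : H ≤ X) (t x : GL (Fin m ⊕ Fin m) F) (ht : t ∈ Cfsg.spGL m F) (htX : t ∉ X)
    (hx : x ∈ Cfsg.spGL m F) (hxX : x ∈ X) (hxH : x ∉ H) : False := by
  have h := Cfsg.H5.SpCor.eq_of_le_member H X hH hHX (fun h => htX (h ht))
  apply hxH
  rw [h]
  exact ⟨hxX, hx⟩

/-- moving an isometry to the other side -/
theorem sympForm_mulVec_left (g : GL (Fin m ⊕ Fin m) F) (hg : g ∈ Cfsg.spGL m F) (u v : Fin m ⊕ Fin m → F) :
    ff ((g : Matrix (Fin m ⊕ Fin m) (Fin m ⊕ Fin m) F) *ᵥ u) v =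
      ff u (((g⁻¹ : GL (Fin m ⊕ Fin m) F) : Matrix (Fin m ⊕ Fin m) (Fin m ⊕ Fin m) F) *ᵥ v) := by
  have h := (Cfsg.spGL m F).inv_mem hg ((g : Matrix (Fin m ⊕ Fin m) (Fin m ⊕ Fin m) F) *ᵥ u) v
  simp only [Units.coeHom_apply] at h
  rw [Matrix.mulVec_mulVec, ← Units.val_mul, inv_mul_cancel, Units.val_one, Matrix.one_mulVec] at h
  exact h.symm

theorem sympForm_single_inl_left (i : Fin m) (w : Fin m ⊕ Fin m → F) :
    ff (Pi.single (Sum.inl i) 1) w = - w (Sum.inr i) := by
  rw [sympForm_eq_sum]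
  simp [Pi.single_apply]

theorem sympForm_single_inr_left (i : Fin m) (w : Fin m ⊕ Fin m → F) :
    ff (Pi.single (Sum.inr i) 1) w = w (Sum.inl i) := by
  rw [sympForm_eq_sum]
  simp [Pi.single_apply]

end Cfsg.H5.Sp43
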