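import Mathlib
import Cfsg.Agent.H5.Sp43BF

/-!
# `Sp_4(3)`: ring-level algebra of the vocabulary of `Sp43Defs`, transfer along ring homomorphisms, and the
brute-force facts over an arbitrary field with three elements (helper5)
-/

set_option autoImplicit false
set_option linter.unusedSectionVars false
set_option linter.unusedVariables false
set_option linter.unreachableTactic false
set_option linter.unusedTactic false

namespace Cfsg.H5.Sp43

section ring

variable {R : Type*} [CommRing R]

theorem act_add (m : M4 R) (u v : Fin 4 → R) : act m (u + v) = act m u + act m v := by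
  funext x
  simp only [act, Pi.add_apply]
  ring

theorem act_smul (m : M4 R) (c : R) (u : Fin 4 → R) : act m (c • u) = c • act m u := by
  funext x
  simp only [act, Pi.smul_apply, smul_eq_mul]
  ring

theorem act_mul4 (m n : M4 R) (v : Fin 4 → R) : act (mul4 m n) v = act m (act n v) := by
  funext x
  simp only [act, mul4]
  ring

theorem InPl.add {t : ℕ} {D : PlaneData t} {j : Fin t} {u v : Fin 4 → R} (hu : InPl D j u) (hv : InPl D j v) :
    InPl D j (u + v) := by
  intro x
  simp only [Pi.add_apply]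
  linear_combination hu x + hv x

theorem InPl.smul {t : ℕ} {D : PlaneData t} {j : Fin t} {u : Fin 4 → R} (c : R) (hu : InPl D j u) :
    InPl D j (c • u) := by
  intro x
  simp only [Pi.smul_apply, smul_eq_mul]
  linear_combination c * hu x

theorem InPl.eq_comb {t : ℕ} {D : PlaneData t} {j : Fin t} {u : Fin 4 → R} (hu : InPl D j u) :
    u = u (D.ca j) • vecA D R j + u (D.cb j) • vecB D R j := by
  funext x
  simp only [Pi.add_apply, Pi.smul_apply, smul_eq_mul, vecA, vecB]
  exact hu x

/-- a matrix mapping the family into itself preserves the relation "in a common plane of the family" -/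
theorem MapsPl.rel {t : ℕ} {D : PlaneData t} {m : M4 R} (hm : MapsPl D m) {u v : Fin 4 → R}
    (h : ∃ i, InPl D i u ∧ InPl D i v) : ∃ j, InPl D j (act m u) ∧ InPl D j (act m v) := by
  obtain ⟨i, hu, hv⟩ := h
  obtain ⟨j, ha, hb⟩ := hm i
  refine ⟨j, ?_, ?_⟩
  · rw [hu.eq_comb, act_add, act_smul, act_smul]
    exact (ha.smul _).add (hb.smul _)
  · rw [hv.eq_comb, act_add, act_smul, act_smul]
    exact (ha.smul _).add (hb.smul _)

theorem pivot_inPl {t : ℕ} {D : PlaneData t} (hD : D.Pivot) (j : Fin t) :
    InPl D j (vecA D R j) ∧ InPl D j (vecB D R j) := by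
  obtain ⟨h1, h2, h3, h4⟩ := hD j
  constructor
  · intro x
    simp only [vecA]
    rw [h1, h2]
    simp
  · intro x
    simp only [vecB]
    rw [h3, h4]
    simp

/-- a matrix commuting with `J` has the block form with `ε = 1` -/
theorem blk_of_comm (M : M4 R) (h : mul4 M (jj R) = mul4 (jj R) M) :
    M = blk (M 0 0) (M 0 1) (M 1 0) (M 1 1) (M 0 2) (M 0 3) (M 1 2) (M 1 3) 1 := by
  have e00 := congrFun (congrFun h 0) 0
  have e01 := congrFun (congrFun h 0) 1
  have e20 := congrFun (congrFun h 2) 0
  have e21 := congrFun (congrFun h 2) 1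
  have e10 := congrFun (congrFun h 1) 0
  have e11 := congrFun (congrFun h 1) 1
  have e30 := congrFun (congrFun h 3) 0
  have e31 := congrFun (congrFun h 3) 1
  simp [mul4, jj, castM, jjZ] at e00 e01 e20 e21 e10 e11 e30 e31
  funext x y
  fin_cases x <;> fin_cases y <;> simp [blk] <;>
    first
    | (linear_combination e00)
    | (linear_combination e01)
    | (linear_combination e20)
    | (linear_combination e21)
    | (linear_combination e10)
    | (linear_combination e11)
    | (linear_combination e30)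
    | (linear_combination e31)
    | (linear_combination (-1 : R) * e00)
    | (linear_combination (-1 : R) * e01)
    | (linear_combination (-1 : R) * e20)
    | (linear_combination (-1 : R) * e21)
    | (linear_combination (-1 : R) * e10)
    | (linear_combination (-1 : R) * e11)
    | (linear_combination (-1 : R) * e30)
    | (linear_combination (-1 : R) * e31)

/-- a matrix anticommuting with `J` has the block form with `ε = -1` -/
theorem blk_of_anticomm (M : M4 R) (h : mul4 M (jj R) = fun x y => - mul4 (jj R) M x y) :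
    M = blk (M 0 0) (M 0 1) (M 1 0) (M 1 1) (M 0 2) (M 0 3) (M 1 2) (M 1 3) (-1) := by
  have e00 := congrFun (congrFun h 0) 0
  have e01 := congrFun (congrFun h 0) 1
  have e20 := congrFun (congrFun h 2) 0
  have e21 := congrFun (congrFun h 2) 1
  have e10 := congrFun (congrFun h 1) 0
  have e11 := congrFun (congrFun h 1) 1
  have e30 := congrFun (congrFun h 3) 0
  have e31 := congrFun (congrFun h 3) 1
  simp [mul4, jj, castM, jjZ] at e00 e01 e20 e21 e10 e11 e30 e31
  funext x y
  fin_cases x <;> fin_cases y <;> simp [blk] <;>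
    first
    | (linear_combination e00)
    | (linear_combination e01)
    | (linear_combination e20)
    | (linear_combination e21)
    | (linear_combination e10)
    | (linear_combination e11)
    | (linear_combination e30)
    | (linear_combination e31)
    | (linear_combination (-1 : R) * e00)
    | (linear_combination (-1 : R) * e01)
    | (linear_combination (-1 : R) * e20)
    | (linear_combination (-1 : R) * e21)
    | (linear_combination (-1 : R) * e10)
    | (linear_combination (-1 : R) * e11)
    | (linear_combination (-1 : R) * e30)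
    | (linear_combination (-1 : R) * e31)

end ring

section transfer

variable {R : Type*} [CommRing R] {S : Type*} [CommRing S] (φ : R →+* S)

/-- entrywise image of a matrix -/
def mapM (m : M4 R) : M4 S := fun x y => φ (m x y)

/-- entrywise image of a vector -/
def mapV (v : Fin 4 → R) : Fin 4 → S := fun x => φ (v x)

theorem mapV_act (m : M4 R) (v : Fin 4 → R) : mapV φ (act m v) = act (mapM φ m) (mapV φ v) := by
  funext x
  simp [mapV, mapM, act]

theorem mapM_mul4 (m n : M4 R) : mapM φ (mul4 m n) = mul4 (mapM φ m) (mapM φ n) := by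
  funext x y
  simp [mapM, mul4]

theorem mapM_castM (T : Fin 4 → Fin 4 → ℤ) : mapM φ (castM T R) = castM T S := by
  funext x y
  simp [mapM, castM]

theorem mapM_neg (m : M4 R) : mapM φ (fun x y => - m x y) = fun x y => - mapM φ m x y := by
  funext x y
  simp [mapM]

theorem mapV_vecA {t : ℕ} (D : PlaneData t) (j : Fin t) : mapV φ (vecA D R j) = vecA D S j := by
  funext x
  simp [mapV, vecA]

theorem mapV_vecB {t : ℕ} (D : PlaneData t) (j : Fin t) : mapV φ (vecB D R j) = vecB D S j := by
  funext x
  simp [mapV, vecB]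

theorem map_form4 (u v : Fin 4 → R) : φ (form4 u v) = form4 (mapV φ u) (mapV φ v) := by
  simp [form4, mapV]

theorem map_jj (x y : Fin 4) : φ (jj R x y) = jj S x y := by
  simp [jj, castM]

theorem IsSp4.map {m : M4 R} (h : IsSp4 m) : IsSp4 (mapM φ m) := by
  intro x y
  have := congrArg φ (h x y)
  rw [map_form4, map_jj] at this
  exact this

theorem IsSp4.of_map (hφ : Function.Injective φ) {m : M4 R} (h : IsSp4 (mapM φ m)) : IsSp4 m := by
  intro x y
  apply hφ
  rw [map_form4, map_jj]
  exact h x y

theorem InPl.map {t : ℕ} {D : PlaneData t} {j : Fin t} {w : Fin 4 → R} (h : InPl D j w) : InPl D j (mapV φ w) := by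
  intro x
  have := congrArg φ (h x)
  simpa [mapV] using this

theorem InPl.of_map (hφ : Function.Injective φ) {t : ℕ} {D : PlaneData t} {j : Fin t} {w : Fin 4 → R}
    (h : InPl D j (mapV φ w)) : InPl D j w := by
  intro x
  apply hφ
  have := h x
  simpa [mapV] using this

theorem MapsPl.of_map (hφ : Function.Injective φ) {t : ℕ} {D : PlaneData t} {m : M4 R}
    (h : MapsPl D (mapM φ m)) : MapsPl D m := by
  intro i
  obtain ⟨j, ha, hb⟩ := h i
  refine ⟨j, InPl.of_map φ hφ ?_, InPl.of_map φ hφ ?_⟩
  · rw [mapV_act, mapV_vecA]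
    exact ha
  · rw [mapV_act, mapV_vecB]
    exact hb

theorem MovesPl.of_map {t : ℕ} {D : PlaneData t} {m : M4 R} (h : MovesPl D (mapM φ m)) : MovesPl D m := by
  obtain ⟨i, hi⟩ := h
  refine ⟨i, fun j hj => hi j ⟨?_, ?_⟩⟩
  · have := hj.1.map φ
    rwa [mapV_act, mapV_vecA] at this
  · have := hj.2.map φ
    rwa [mapV_act, mapV_vecB] at this

theorem mapM_blk (a11 a12 a21 a22 b11 b12 b21 b22 ε : R) :
    mapM φ (blk a11 a12 a21 a22 b11 b12 b21 b22 ε) =
      blk (φ a11) (φ a12) (φ a21) (φ a22) (φ b11) (φ b12) (φ b21) (φ b22) (φ ε) := by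
  funext x y
  fin_cases x <;> fin_cases y <;> simp [mapM, blk]

theorem mapM_bdiag (a11 a12 a21 a22 d11 d12 d21 d22 : R) :
    mapM φ (bdiag a11 a12 a21 a22 d11 d12 d21 d22) =
      bdiag (φ a11) (φ a12) (φ a21) (φ a22) (φ d11) (φ d12) (φ d21) (φ d22) := by
  funext x y
  fin_cases x <;> fin_cases y <;> simp [mapM, bdiag]

theorem mapM_banti (b11 b12 b21 b22 c11 c12 c21 c22 : R) :
    mapM φ (banti b11 b12 b21 b22 c11 c12 c21 c22) =
      banti (φ b11) (φ b12) (φ b21) (φ b22) (φ c11) (φ c12) (φ c21) (φ c22) := by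
  funext x y
  fin_cases x <;> fin_cases y <;> simp [mapM, banti]

end transfer

section F3

variable {F : Type*} [Field F] [Fintype F]

/-- a field with three elements is `ZMod 3` -/
noncomputable def toZ3 (hq : Fintype.card F = 3) : F ≃+* ZMod 3 :=
  have : Fact (Nat.Prime 3) := ⟨Nat.prime_three⟩
  (ZMod.ringEquivOfPrime F Nat.prime_three hq).symm

theorem f3_cases (hq : Fintype.card F = 3) (a : F) : a = 0 ∨ a = 1 ∨ a = -1 := by
  have key : ∀ z : ZMod 3, z = 0 ∨ z = 1 ∨ z = -1 := by decide
  rcases key (toZ3 hq a) with h | h | h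
  · left
    exact (toZ3 hq).injective (by rw [h, map_zero])
  · right; left
    exact (toZ3 hq).injective (by rw [h, map_one])
  · right; right
    exact (toZ3 hq).injective (by rw [h, map_neg, map_one])

theorem f3_two_ne_zero (hq : Fintype.card F = 3) : (2 : F) ≠ 0 := by
  intro h
  have := congrArg (toZ3 hq) h
  rw [map_ofNat, map_zero] at this
  revert this
  decide

theorem f3_neg_two (hq : Fintype.card F = 3) : (-2 : F) = 1 := by
  apply (toZ3 hq).injective
  rw [map_neg, map_ofNat, map_one]
  decide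

theorem f3_sq_ne_neg_one (hq : Fintype.card F = 3) (a : F) : a * a ≠ -1 := by
  intro h
  have := congrArg (toZ3 hq) h
  rw [map_mul, map_neg, map_one] at this
  revert this
  generalize toZ3 hq a = z
  revert z
  decide

theorem blk_maps (hq : Fintype.card F = 3) (a11 a12 a21 a22 b11 b12 b21 b22 ε : F) (hε : ε = 1 ∨ ε = -1)
    (hsp : IsSp4 (blk a11 a12 a21 a22 b11 b12 b21 b22 ε)) :
    MapsPl spread (blk a11 a12 a21 a22 b11 b12 b21 b22 ε) := by
  apply MapsPl.of_map (toZ3 hq : F →+* ZMod 3) (toZ3 hq).injective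
  have h1 := hsp.map (toZ3 hq : F →+* ZMod 3)
  rw [mapM_blk] at h1 ⊢
  rcases hε with rfl | rfl
  · rw [map_one] at h1 ⊢
    exact (bf_blk _ _ _ _ _ _ _ _).1 h1
  · rw [map_neg, map_one] at h1 ⊢
    exact (bf_blk _ _ _ _ _ _ _ _).2 h1

theorem bdiag_maps (hq : Fintype.card F = 3) (a11 a12 a21 a22 d11 d12 d21 d22 : F)
    (hsp : IsSp4 (bdiag a11 a12 a21 a22 d11 d12 d21 d22)) :
    MapsPl wpm (bdiag a11 a12 a21 a22 d11 d12 d21 d22) := by
  apply MapsPl.of_map (toZ3 hq : F →+* ZMod 3) (toZ3 hq).injective
  have h1 := hsp.map (toZ3 hq : F →+* ZMod 3)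
  rw [mapM_bdiag] at h1 ⊢
  exact bf_bdiag _ _ _ _ _ _ _ _ h1

theorem banti_maps (hq : Fintype.card F = 3) (b11 b12 b21 b22 c11 c12 c21 c22 : F)
    (hsp : IsSp4 (banti b11 b12 b21 b22 c11 c12 c21 c22)) :
    MapsPl wpm (banti b11 b12 b21 b22 c11 c12 c21 c22) := by
  apply MapsPl.of_map (toZ3 hq : F →+* ZMod 3) (toZ3 hq).injective
  have h1 := hsp.map (toZ3 hq : F →+* ZMod 3)
  rw [mapM_banti] at h1 ⊢
  exact bf_banti _ _ _ _ _ _ _ _ h1

theorem isSp4_castM (hq : Fintype.card F = 3) (T : Fin 4 → Fin 4 → ℤ) (h : IsSp4 (castM T (ZMod 3))) :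
    IsSp4 (castM T F) := by
  apply IsSp4.of_map (toZ3 hq : F →+* ZMod 3) (toZ3 hq).injective
  rw [mapM_castM]
  exact h

theorem mapsPl_castM (hq : Fintype.card F = 3) {t : ℕ} (D : PlaneData t) (T : Fin 4 → Fin 4 → ℤ)
    (h : MapsPl D (castM T (ZMod 3))) : MapsPl D (castM T F) := by
  apply MapsPl.of_map (toZ3 hq : F →+* ZMod 3) (toZ3 hq).injective
  rw [mapM_castM]
  exact h

theorem movesPl_castM (hq : Fintype.card F = 3) {t : ℕ} (D : PlaneData t) (T : Fin 4 → Fin 4 → ℤ)
    (h : MovesPl D (castM T (ZMod 3))) : MovesPl D (castM T F) := by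
  apply MovesPl.of_map (toZ3 hq : F →+* ZMod 3)
  rw [mapM_castM]
  exact h

theorem mul4_castM_eq_one (hq : Fintype.card F = 3) (T T' : Fin 4 → Fin 4 → ℤ)
    (h : mul4 (castM T (ZMod 3)) (castM T' (ZMod 3)) = one4 (ZMod 3)) :
    mul4 (castM T F) (castM T' F) = one4 F := by
  funext x y
  apply (toZ3 hq).injective
  have h1 := congrFun (congrFun (mapM_mul4 (toZ3 hq : F →+* ZMod 3) (castM T F) (castM T' F)) x) y
  rw [mapM_castM, mapM_castM, h] at h1
  have h2 := congrFun (congrFun (mapM_castM (toZ3 hq : F →+* ZMod 3) (R := F) one4Z) x) y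
  simp only [mapM, RingHom.coe_coe] at h1 h2
  rw [h1, one4, one4, h2]

/-- `x0` does not normalise `F[J]` -/
theorem x0_jj (hq : Fintype.card F = 3) :
    ¬ (mul4 (castM x0Z F) (jj F) = mul4 (jj F) (castM x0Z F)) ∧
    ¬ (mul4 (castM x0Z F) (jj F) = fun x y => - mul4 (jj F) (castM x0Z F) x y) := by
  constructor
  · intro h
    apply bf_x0_jj.1
    have := congrArg (mapM (toZ3 hq : F →+* ZMod 3)) h
    rw [mapM_mul4, mapM_mul4, mapM_castM, jj, mapM_castM] at this
    exact this
  · intro h
    apply bf_x0_jj.2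
    have := congrArg (mapM (toZ3 hq : F →+* ZMod 3)) h
    rw [mapM_neg, mapM_mul4, mapM_mul4, mapM_castM, jj, mapM_castM] at this
    exact this

end F3

end Cfsg.H5.Sp43
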