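import Mathlib
import Cfsg.Agent.H5.Sp43Tr
import Cfsg.Agent.H5.Sp43Gen

/-!
# `Sp_4(3)`: the two non-maximality statements in standard coordinates (helper5)

* `e2_std`: a subgroup `H` of `Sp_4(3)`, a conjugate of which by an element of `Sp_4(3)` normalises `F[J]` up to sign,
  is not maximal (it lies in the stabiliser of a spread of ten planes, of order `1920`).
* `e1_std`: a subgroup `H` of `Sp_4(3)`, a conjugate of which consists of block diagonal and block antidiagonal matrices,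
  is not maximal (it lies in the stabiliser of a pair of non-degenerate planes).
-/

set_option autoImplicit false
set_option linter.unusedSectionVars false
set_option linter.unusedVariables false

namespace Cfsg.H5.Sp43

open Matrix Cfsg Cfsg.Geo
open Cfsg.Agent.Lib.Helper6 (sympForm_eq_sum)

variable {F : Type*} [Field F]

local notation "VV" => (Fin 2 ⊕ Fin 2 → F)
local notation "MM" => Matrix (Fin 2 ⊕ Fin 2) (Fin 2 ⊕ Fin 2) F
local notation "GG" => GL (Fin 2 ⊕ Fin 2) F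

/-- the numbering of the coordinates -/
def idx : Fin 4 ≃ Fin 2 ⊕ Fin 2 where
  toFun := ![Sum.inl 0, Sum.inl 1, Sum.inr 0, Sum.inr 1]
  invFun := Sum.elim ![0, 1] ![2, 3]
  left_inv := by decide
  right_inv := by decide

/-- coordinates of a vector -/
def cF (v : VV) : Fin 4 → F := fun x => v (idx x)

/-- the table of a matrix -/
def mat4 (M : MM) : M4 F := fun x y => M (idx x) (idx y)

/-- the vector with given coordinates -/
def unV (w : Fin 4 → F) : VV := fun a => w (idx.symm a)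

/-- the matrix with a given table -/
def unM (T : M4 F) : MM := Matrix.of fun a b => T (idx.symm a) (idx.symm b)

theorem cF_unV (w : Fin 4 → F) : cF (unV w) = w := by
  funext x
  simp [cF, unV]

theorem mat4_unM (T : M4 F) : mat4 (unM T) = T := by
  funext x y
  simp [mat4, unM]

theorem mat4_injective : Function.Injective (mat4 (F := F)) := by
  intro A B h
  ext a b
  have := congrFun (congrFun h (idx.symm a)) (idx.symm b)
  simpa [mat4] using this

theorem sum_idx (f : Fin 2 ⊕ Fin 2 → F) : ∑ a, f a = f (idx 0) + f (idx 1) + f (idx 2) + f (idx 3) := by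
  rw [← Equiv.sum_comp idx, Fin.sum_univ_four]

theorem cF_mulVec (M : MM) (v : VV) : cF (M *ᵥ v) = act (mat4 M) (cF v) := by
  funext x
  simp only [cF, act, mat4, Matrix.mulVec, dotProduct]
  rw [sum_idx]

theorem mat4_mul (A B : MM) : mat4 (A * B) = mul4 (mat4 A) (mat4 B) := by
  funext x y
  simp only [mat4, mul4, Matrix.mul_apply]
  rw [sum_idx]

theorem mat4_neg (A : MM) : mat4 (-A) = fun x y => - mat4 A x y := by
  funext x y
  simp [mat4]

theorem form4_cF (u v : VV) : form4 (cF u) (cF v) = Cfsg.sympForm 2 F u v := by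
  rw [sympForm_eq_sum, Fin.sum_univ_two]
  simp only [form4, cF, idx, Equiv.coe_fn_mk]
  simp
  ring

theorem mat4_J : mat4 (Matrix.J (Fin 2) F) = jj F := by
  funext x y
  fin_cases x <;> fin_cases y <;> simp [mat4, idx, jj, castM, jjZ, Matrix.J]

theorem mat4_one : mat4 (1 : MM) = one4 F := by
  funext x y
  fin_cases x <;> fin_cases y <;> simp [mat4, idx, one4, castM, one4Z, Equiv.coe_fn_mk, Matrix.one_apply]

theorem jj_eq_form4 (x y : Fin 4) : jj F x y = form4 (cF (Pi.single (idx x) 1)) (cF (Pi.single (idx y) (1 : F))) := by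
  rw [form4_cF, sympForm_single_single, ← mat4_J]
  rfl

/-- the table of an element of the symplectic group -/
theorem isSp4_mat4 (g : GG) (hg : g ∈ Cfsg.spGL 2 F) : IsSp4 (mat4 (g : MM)) := by
  intro x y
  have h := hg (Pi.single (idx x) 1) (Pi.single (idx y) 1)
  simp only [Units.coeHom_apply] at h
  rw [jj_eq_form4, form4_cF, ← h, ← form4_cF, Matrix.mulVec_single_one, Matrix.mulVec_single_one]
  rfl

/-- an element of the symplectic group with a given table -/
theorem exists_sp_of_table (T : M4 F) (hT : IsSp4 T) : ∃ g : GG, g ∈ Cfsg.spGL 2 F ∧ mat4 (g : MM) = T := by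
  obtain ⟨g, hg, hcol⟩ := exists_sp_of_cols (m := 2) (F := F) (fun a => unV (fun z => T z (idx.symm a))) (by
    intro a b
    rw [← form4_cF, cF_unV, cF_unV]
    have := hT (idx.symm a) (idx.symm b)
    rw [this, ← mat4_J]
    simp [mat4])
  refine ⟨g, hg, ?_⟩
  funext x y
  have := congrFun (hcol (idx y)) (idx x)
  rw [Matrix.mulVec_single_one] at this
  simpa [mat4, unV] using this

/-- the relation "in a common plane of the family" -/
def relP {t : ℕ} (D : PlaneData t) (u v : VV) : Prop := ∃ j, InPl D j (cF u) ∧ InPl D j (cF v)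

/-- the stabiliser of a relation on vectors -/
def relStab (Rel : VV → VV → Prop) : Subgroup GG where
  carrier := {g | ∀ u v, Rel u v ↔ Rel ((g : MM) *ᵥ u) ((g : MM) *ᵥ v)}
  mul_mem' := by
    intro a b ha hb u v
    rw [Units.val_mul, ← Matrix.mulVec_mulVec, ← Matrix.mulVec_mulVec]
    exact (hb u v).trans (ha _ _)
  one_mem' := by
    intro u v
    simp
  inv_mem' := by
    intro a ha u v
    have := ha (((a⁻¹ : GG) : MM) *ᵥ u) (((a⁻¹ : GG) : MM) *ᵥ v)
    rw [Matrix.mulVec_mulVec, Matrix.mulVec_mulVec, ← Units.val_mul, mul_inv_cancel, Units.val_one,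
      Matrix.one_mulVec, Matrix.one_mulVec] at this
    exact this.symm

theorem mem_relStab_of_maps {t : ℕ} (D : PlaneData t) (g : GG) (h1 : MapsPl D (mat4 (g : MM)))
    (h2 : MapsPl D (mat4 ((g⁻¹ : GG) : MM))) : g ∈ relStab (relP (F := F) D) := by
  intro u v
  constructor
  · intro h
    obtain ⟨j, hj⟩ := h1.rel h
    exact ⟨j, by rw [cF_mulVec]; exact hj.1, by rw [cF_mulVec]; exact hj.2⟩
  · intro h
    obtain ⟨j, hj1, hj2⟩ := h2.rel h
    rw [← cF_mulVec, Matrix.mulVec_mulVec, ← Units.val_mul, inv_mul_cancel, Units.val_one,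
      Matrix.one_mulVec] at hj1 hj2
    exact ⟨j, hj1, hj2⟩

theorem not_mem_relStab_of_moves {t : ℕ} (D : PlaneData t) (hD : D.Pivot) (g : GG)
    (h : MovesPl D (mat4 (g : MM))) : g ∉ relStab (relP (F := F) D) := by
  intro hg
  obtain ⟨i, hi⟩ := h
  have hp := pivot_inPl (R := F) hD i
  have h3 := (hg (unV (vecA D F i)) (unV (vecB D F i))).1
    ⟨i, by rw [cF_unV]; exact hp.1, by rw [cF_unV]; exact hp.2⟩
  obtain ⟨j, h1, h2⟩ := h3
  rw [cF_mulVec, cF_unV] at h1 h2
  exact hi j ⟨h1, h2⟩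

/-- the table of the inverse -/
theorem mat4_inv_of_mul4 (g : GG) (T : M4 F) (h : mul4 (mat4 (g : MM)) T = one4 F) :
    mat4 ((g⁻¹ : GG) : MM) = T := by
  have h1 : (g : MM) * unM T = 1 := by
    apply mat4_injective
    rw [mat4_mul, mat4_unM, h, mat4_one]
  have h2 : ((g⁻¹ : GG) : MM) = unM T := by
    have := congrArg (fun X => ((g⁻¹ : GG) : MM) * X) h1
    simp only [← Matrix.mul_assoc, ← Units.val_mul, inv_mul_cancel, Units.val_one, Matrix.one_mul,
      Matrix.mul_one] at this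
    exact this.symm
  rw [h2, mat4_unM]

variable [Fintype F]

/-- the generic argument: `H` is conjugate into the set `P`, all symplectic elements of `P` stabilise the family `D`, the
transvection `t0` does not, and the stabiliser contains a symplectic element `x` outside `P` -/
theorem std_contra (hq : Fintype.card F = 3) {t : ℕ} (D : PlaneData t) (hD : D.Pivot) (P : GG → Prop)
    (hPmaps : ∀ h' : GG, h' ∈ Cfsg.spGL 2 F → P h' → MapsPl D (mat4 (h' : MM)))
    (ht0 : MovesPl D (castM t0Z (ZMod 3)))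
    (xZ xiZ : Fin 4 → Fin 4 → ℤ) (hxsp : IsSp4 (castM xZ (ZMod 3))) (hxmaps : MapsPl D (castM xZ (ZMod 3)))
    (hximaps : MapsPl D (castM xiZ (ZMod 3)))
    (hxinv : mul4 (castM xZ (ZMod 3)) (castM xiZ (ZMod 3)) = one4 (ZMod 3))
    (hxP : ∀ g : GG, mat4 (g : MM) = castM xZ F → ¬ P g)
    (H : Subgroup GG) (hH : IsMaximalIn (Cfsg.spGL 2 F) H) (g₀ : GG) (hg₀ : g₀ ∈ Cfsg.spGL 2 F)
    (hsub : ∀ h ∈ H, P (g₀⁻¹ * h * g₀)) : False := by
  obtain ⟨tg, htg, htT⟩ := exists_sp_of_table (castM t0Z F) (isSp4_castM hq t0Z bf_t0_sp)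
  obtain ⟨xg, hxg, hxT⟩ := exists_sp_of_table (castM xZ F) (isSp4_castM hq xZ hxsp)
  set X : Subgroup GG := (relStab (relP (F := F) D)).comap (MulAut.conj g₀⁻¹).toMonoidHom with hX
  have hmemX : ∀ g : GG, g ∈ X ↔ g₀⁻¹ * g * g₀ ∈ relStab (relP (F := F) D) := by
    intro g
    rw [hX, Subgroup.mem_comap]
    simp
  have hg₀i : g₀⁻¹ ∈ Cfsg.spGL 2 F := (Cfsg.spGL 2 F).inv_mem hg₀
  refine false_of_between H X hH ?_ (g₀ * tg * g₀⁻¹) (g₀ * xg * g₀⁻¹) ?_ ?_ ?_ ?_ ?_
  · intro h hh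
    rw [hmemX]
    have hhS : h ∈ Cfsg.spGL 2 F := hH.1.le hh
    have h1 : g₀⁻¹ * h * g₀ ∈ Cfsg.spGL 2 F :=
      (Cfsg.spGL 2 F).mul_mem ((Cfsg.spGL 2 F).mul_mem hg₀i hhS) hg₀
    have h2 : g₀⁻¹ * h⁻¹ * g₀ ∈ Cfsg.spGL 2 F :=
      (Cfsg.spGL 2 F).mul_mem ((Cfsg.spGL 2 F).mul_mem hg₀i ((Cfsg.spGL 2 F).inv_mem hhS)) hg₀
    apply mem_relStab_of_maps D _ (hPmaps _ h1 (hsub h hh))
    have h3 : (g₀⁻¹ * h * g₀)⁻¹ = g₀⁻¹ * h⁻¹ * g₀ := by group
    rw [h3]
    exact hPmaps _ h2 (hsub h⁻¹ (H.inv_mem hh))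
  · exact (Cfsg.spGL 2 F).mul_mem ((Cfsg.spGL 2 F).mul_mem hg₀ htg) hg₀i
  · rw [hmemX]
    have h3 : g₀⁻¹ * (g₀ * tg * g₀⁻¹) * g₀ = tg := by group
    rw [h3]
    apply not_mem_relStab_of_moves D hD
    rw [htT]
    exact movesPl_castM hq D t0Z ht0
  · exact (Cfsg.spGL 2 F).mul_mem ((Cfsg.spGL 2 F).mul_mem hg₀ hxg) hg₀i
  · rw [hmemX]
    have h3 : g₀⁻¹ * (g₀ * xg * g₀⁻¹) * g₀ = xg := by group
    rw [h3]
    apply mem_relStab_of_maps D
    · rw [hxT]
      exact mapsPl_castM hq D xZ hxmaps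
    · rw [mat4_inv_of_mul4 xg (castM xiZ F) (by rw [hxT]; exact mul4_castM_eq_one hq xZ xiZ hxinv)]
      exact mapsPl_castM hq D xiZ hximaps
  · intro hh
    have := hsub _ hh
    have h3 : g₀⁻¹ * (g₀ * xg * g₀⁻¹) * g₀ = xg := by group
    rw [h3] at this
    exact hxP xg hxT this

/-- normalising `F[J]` up to sign -/
def NormJ (h : GG) : Prop :=
  (h : MM) * Matrix.J (Fin 2) F = Matrix.J (Fin 2) F * (h : MM) ∨
    (h : MM) * Matrix.J (Fin 2) F = -(Matrix.J (Fin 2) F * (h : MM))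

/-- block diagonal or block antidiagonal -/
def BlockDA (h : GG) : Prop :=
  (∀ i j, (h : MM) (Sum.inr i) (Sum.inl j) = 0 ∧ (h : MM) (Sum.inl i) (Sum.inr j) = 0) ∨
    (∀ i j, (h : MM) (Sum.inl i) (Sum.inl j) = 0 ∧ (h : MM) (Sum.inr i) (Sum.inr j) = 0)

/-- **E2 in standard coordinates** -/
theorem e2_std (hq : Fintype.card F = 3) (H : Subgroup GG) (hH : IsMaximalIn (Cfsg.spGL 2 F) H) (g₀ : GG)
    (hg₀ : g₀ ∈ Cfsg.spGL 2 F) (hsub : ∀ h ∈ H, NormJ (g₀⁻¹ * h * g₀)) : False := by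
  refine std_contra hq spread pivot_spread NormJ ?_ bf_t0_spread x0Z x0iZ bf_x0_sp bf_x0_spread bf_x0i_spread
    bf_x0_inv ?_ H hH g₀ hg₀ hsub
  · intro h' hh' hP
    have hsp := isSp4_mat4 h' hh'
    rcases hP with hP | hP
    · have h1 : mul4 (mat4 (h' : MM)) (jj F) = mul4 (jj F) (mat4 (h' : MM)) := by
        rw [← mat4_J, ← mat4_mul, ← mat4_mul, hP]
      have h2 := blk_of_comm _ h1
      rw [h2] at hsp ⊢
      exact blk_maps hq _ _ _ _ _ _ _ _ 1 (Or.inl rfl) hsp
    · have h1 : mul4 (mat4 (h' : MM)) (jj F) = fun x y => - mul4 (jj F) (mat4 (h' : MM)) x y := by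
        rw [← mat4_J, ← mat4_mul, ← mat4_mul, hP, mat4_neg]
      have h2 := blk_of_anticomm _ h1
      rw [h2] at hsp ⊢
      exact blk_maps hq _ _ _ _ _ _ _ _ (-1) (Or.inr rfl) hsp
  · intro g hg hP
    rcases hP with hP | hP
    · apply (x0_jj hq).1
      rw [← hg, ← mat4_J, ← mat4_mul, ← mat4_mul, hP]
    · apply (x0_jj hq).2
      rw [← hg, ← mat4_J, ← mat4_mul, ← mat4_mul, hP, mat4_neg]

/-- **E1 in standard coordinates** -/
theorem e1_std (hq : Fintype.card F = 3) (H : Subgroup GG) (hH : IsMaximalIn (Cfsg.spGL 2 F) H) (g₀ : GG)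
    (hg₀ : g₀ ∈ Cfsg.spGL 2 F) (hsub : ∀ h ∈ H, BlockDA (g₀⁻¹ * h * g₀)) : False := by
  refine std_contra hq wpm pivot_wpm BlockDA ?_ bf_t0_wpm x1Z x1iZ bf_x1_sp bf_x1_wpm bf_x1i_wpm
    bf_x1_inv ?_ H hH g₀ hg₀ hsub
  · intro h' hh' hP
    have hsp := isSp4_mat4 h' hh'
    rcases hP with hP | hP
    · have h2 : mat4 (h' : MM) = bdiag (mat4 (h' : MM) 0 0) (mat4 (h' : MM) 0 1) (mat4 (h' : MM) 1 0)
          (mat4 (h' : MM) 1 1) (mat4 (h' : MM) 2 2) (mat4 (h' : MM) 2 3) (mat4 (h' : MM) 3 2)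
          (mat4 (h' : MM) 3 3) := by
        funext x y
        fin_cases x <;> fin_cases y <;> simp [bdiag, mat4, idx, (hP _ _).1, (hP _ _).2]
      rw [h2] at hsp ⊢
      exact bdiag_maps hq _ _ _ _ _ _ _ _ hsp
    · have h2 : mat4 (h' : MM) = banti (mat4 (h' : MM) 0 2) (mat4 (h' : MM) 0 3) (mat4 (h' : MM) 1 2)
          (mat4 (h' : MM) 1 3) (mat4 (h' : MM) 2 0) (mat4 (h' : MM) 2 1) (mat4 (h' : MM) 3 0)
          (mat4 (h' : MM) 3 1) := by
        funext x y
        fin_cases x <;> fin_cases y <;> simp [banti, mat4, idx, (hP _ _).1, (hP _ _).2]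
      rw [h2] at hsp ⊢
      exact banti_maps hq _ _ _ _ _ _ _ _ hsp
  · intro g hg hP
    have e10 : (g : MM) (Sum.inl 1) (Sum.inl 0) = 1 := by
      have := congrFun (congrFun hg 1) 0
      simpa [mat4, idx, castM, x1Z] using this
    have e12 : (g : MM) (Sum.inl 1) (Sum.inr 0) = 1 := by
      have := congrFun (congrFun hg 1) 2
      simpa [mat4, idx, castM, x1Z] using this
    rcases hP with hP | hP
    · rw [(hP 1 0).2] at e12
      exact zero_ne_one e12
    · rw [(hP 1 0).1] at e10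
      exact zero_ne_one e10

end Cfsg.H5.Sp43
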