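import Mathlib
import Cfsg.Agent.H5.Sp43Std

/-!
# `Sp_4(3)`: the stabiliser of a pair of complementary totally singular planes is not maximal (helper5)
-/

set_option autoImplicit false
set_option linter.unusedSectionVars false
set_option linter.unusedVariables false

namespace Cfsg.H5.Sp43

open Matrix Cfsg Cfsg.Geo
open Cfsg.Agent.Lib.Helper6 (sympForm_add_left sympForm_add_right sympForm_smul_left sympForm_smul_right
  sympForm_self sympForm_swap sympForm_zero_left sympForm_zero_right sympForm_def sympForm_eq_sum)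

variable {F : Type*} [Field F] [Fintype F]

local notation "VV" => (Fin 2 ⊕ Fin 2 → F)
local notation "MM" => Matrix (Fin 2 ⊕ Fin 2) (Fin 2 ⊕ Fin 2) F
local notation "GG" => GL (Fin 2 ⊕ Fin 2) F
local notation "ff" => Cfsg.sympForm 2 F

/-- a symplectic basis adapted to a pair of complementary totally singular planes -/
theorem exists_adapted_basis (D : Fin 2 → Submodule F VV) (hD : IsMDecomposition 2 D)
    (hts : ∀ i, IsTotallySingularFor ff (D i)) :
    ∃ x y : Fin 2 → VV, (∀ i, x i ∈ D 0) ∧ (∀ i, y i ∈ D 1) ∧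
      ∀ i j, ff (x i) (y j) = if i = j then -1 else 0 := by
  classical
  let x := Module.finBasisOfFinrankEq F (D 0) (hD.finrank_eq 0)
  let Ψ : D 1 →ₗ[F] (Fin 2 → F) :=
    { toFun := fun y i => ff (x i : VV) (y : VV)
      map_add' := by
        intro a b
        funext i
        simp [sympForm_add_right]
      map_smul' := by
        intro c a
        funext i
        simp [sympForm_smul_right] }
  have hx_span : ∀ y : VV, (∀ i, ff (x i : VV) y = 0) → ∀ d ∈ D 0, ff d y = 0 := by
    intro y hy d hd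
    have h1 := x.sum_repr ⟨d, hd⟩
    have h2 : d = x.repr ⟨d, hd⟩ 0 • (x 0 : VV) + x.repr ⟨d, hd⟩ 1 • (x 1 : VV) := by
      have := congrArg Subtype.val h1
      rw [Fin.sum_univ_two] at this
      simpa using this.symm
    rw [h2, sympForm_add_left, sympForm_smul_left, sympForm_smul_left, hy 0, hy 1]
    ring
  have hsup : ∀ v : VV, ∃ d0 ∈ D 0, ∃ d1 ∈ D 1, v = d0 + d1 := by
    intro v
    have h1 : v ∈ iSup D := by
      rw [hD.iSup_eq_top]
      trivial
    have h2 : iSup D = D 0 ⊔ D 1 := by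
      apply le_antisymm
      · apply iSup_le
        intro i
        fin_cases i
        · exact le_sup_left
        · exact le_sup_right
      · exact sup_le (le_iSup D 0) (le_iSup D 1)
    rw [h2, Submodule.mem_sup] at h1
    obtain ⟨d0, h0, d1, hd1, rfl⟩ := h1
    exact ⟨d0, h0, d1, hd1, rfl⟩
  have hΨinj : Function.Injective Ψ := by
    rw [← LinearMap.ker_eq_bot, LinearMap.ker_eq_bot']
    intro y hy
    have h1 : ∀ i, ff (x i : VV) (y : VV) = 0 := fun i => congrFun hy i
    have h2 : (y : VV) = 0 := by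
      apply Cfsg.H5.SpCor.eq_zero_of_forall_left
      intro v
      obtain ⟨d0, h0, d1, hd1, rfl⟩ := hsup v
      rw [sympForm_add_left, hx_span y h1 d0 h0, hts 1 d1 hd1 y y.2, add_zero]
    exact Subtype.ext h2
  have hΨsurj : Function.Surjective Ψ := by
    refine (LinearMap.injective_iff_surjective_of_finrank_eq_finrank ?_).1 hΨinj
    rw [hD.finrank_eq 1]
    simp
  choose y hy using fun j : Fin 2 => hΨsurj (Pi.single j (-1))
  refine ⟨fun i => (x i : VV), fun j => (y j : VV), fun i => (x i).2, fun j => (y j).2, ?_⟩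
  intro i j
  have := congrFun (hy j) i
  simp only [Pi.single_apply] at this
  exact this

/-- **E1**: for `q = 3` the stabiliser of a pair of complementary totally singular planes is not maximal -/
theorem e1 (hq : Fintype.card F = 3) (D : Fin 2 → Submodule F VV) (hD : IsMDecomposition 2 D)
    (hts : ∀ i, IsTotallySingularFor ff (D i)) (H : Subgroup GG)
    (hHe : H = decompositionStabilizer D ⊓ Cfsg.spGL 2 F) (hH : IsMaximalIn (Cfsg.spGL 2 F) H) : False := by
  obtain ⟨x, y, hx, hy, hxy⟩ := exists_adapted_basis D hD hts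
  have hc : ∀ a b, ff (Sum.elim x y a) (Sum.elim x y b) = Matrix.J (Fin 2) F a b := by
    intro a b
    rcases a with i | i <;> rcases b with j | j
    · simp only [Sum.elim_inl, Matrix.J, Matrix.fromBlocks_apply₁₁, Matrix.zero_apply]
      exact hts 0 _ (hx i) _ (hx j)
    · simp only [Sum.elim_inl, Sum.elim_inr, Matrix.J, Matrix.fromBlocks_apply₁₂, Matrix.neg_apply,
        Matrix.one_apply]
      rw [hxy]
      split_ifs <;> simp
    · simp only [Sum.elim_inl, Sum.elim_inr, Matrix.J, Matrix.fromBlocks_apply₂₁, Matrix.one_apply]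
      rw [sympForm_swap, hxy]
      by_cases h : i = j
      · subst h
        simp
      · rw [if_neg h, if_neg (Ne.symm h)]
        simp
    · simp only [Sum.elim_inr, Matrix.J, Matrix.fromBlocks_apply₂₂, Matrix.zero_apply]
      exact hts 1 _ (hy i) _ (hy j)
  obtain ⟨g₀, hg₀, hcol⟩ := exists_sp_of_cols (m := 2) (F := F) (Sum.elim x y) hc
  have hinr : ∀ (w : VV) (i : Fin 2), (((g₀⁻¹ : GG) : MM) *ᵥ w) (Sum.inr i) = - ff (x i) w := by
    intro w i
    have h1 := sympForm_single_inl_left (m := 2) (F := F) i (((g₀⁻¹ : GG) : MM) *ᵥ w)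
    rw [← sympForm_mulVec_left g₀ hg₀, hcol] at h1
    simp only [Sum.elim_inl] at h1
    rw [h1, neg_neg]
  have hinl : ∀ (w : VV) (i : Fin 2), (((g₀⁻¹ : GG) : MM) *ᵥ w) (Sum.inl i) = ff (y i) w := by
    intro w i
    have h1 := sympForm_single_inr_left (m := 2) (F := F) i (((g₀⁻¹ : GG) : MM) *ᵥ w)
    rw [← sympForm_mulVec_left g₀ hg₀, hcol] at h1
    simp only [Sum.elim_inr] at h1
    rw [h1]
  refine e1_std hq H hH g₀ hg₀ ?_
  intro h hh
  rw [hHe] at hh
  obtain ⟨σ, hσ⟩ := hh.1
  have hmap : ∀ i, ∀ v ∈ D i, (h : MM) *ᵥ v ∈ D (σ i) := by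
    intro i v hv
    rw [← hσ i]
    exact ⟨v, hv, by rw [Matrix.toLin'_apply]⟩
  have hentry : ∀ r a, ((g₀⁻¹ * h * g₀ : GG) : MM) r a =
      (((g₀⁻¹ : GG) : MM) *ᵥ ((h : MM) *ᵥ Sum.elim x y a)) r := by
    intro r a
    have h1 : ((g₀⁻¹ * h * g₀ : GG) : MM) r a = (((g₀⁻¹ * h * g₀ : GG) : MM) *ᵥ Pi.single a 1) r := by
      rw [Matrix.mulVec_single_one]
      rfl
    rw [h1, Units.val_mul, Units.val_mul, ← Matrix.mulVec_mulVec, ← Matrix.mulVec_mulVec, hcol]
  have key : ∀ a b : Fin 2, a ≠ b → (a = 0 ∧ b = 1) ∨ (a = 1 ∧ b = 0) := by decide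
  have hne : σ 0 ≠ σ 1 := fun h => absurd (σ.injective h) (by decide)
  rcases key _ _ hne with ⟨h0, h1⟩ | ⟨h0, h1⟩
  · left
    intro i j
    constructor
    · rw [hentry, hinr]
      simp only [Sum.elim_inl]
      rw [hts 0 _ (hx i) _ (h0 ▸ hmap 0 _ (hx j)), neg_zero]
    · rw [hentry, hinl]
      simp only [Sum.elim_inr]
      exact hts 1 _ (hy i) _ (h1 ▸ hmap 1 _ (hy j))
  · right
    intro i j
    constructor
    · rw [hentry, hinl]
      simp only [Sum.elim_inl]
      exact hts 1 _ (hy i) _ (h0 ▸ hmap 0 _ (hx j))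
    · rw [hentry, hinr]
      simp only [Sum.elim_inr]
      rw [hts 0 _ (hx i) _ (h1 ▸ hmap 1 _ (hy j)), neg_zero]

end Cfsg.H5.Sp43
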