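import Mathlib
import Cfsg.Agent.H5.Sp43Std

/-!
# `Sp_4(3)`: the normaliser of a quadratic field closed under adjoints but not self-adjoint is not maximal (helper5)
-/

set_option autoImplicit false
set_option linter.unusedSectionVars false
set_option linter.unusedVariables false

namespace Cfsg.H5.Sp43

open Matrix Cfsg Cfsg.Geo
open Cfsg.Agent.Lib.Helper6 (sympForm_add_left sympForm_add_right sympForm_smul_left sympForm_smul_right
  sympForm_self sympForm_swap sympForm_zero_left sympForm_zero_right sympForm_def sympForm_eq_sum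
  sympForm_neg_left sympForm_neg_right sympForm_sub_left sympForm_sub_right matrix_ext_mulVec)

variable {F : Type*} [Field F] [Fintype F]

local notation "VV" => (Fin 2 ⊕ Fin 2 → F)
local notation "MM" => Matrix (Fin 2 ⊕ Fin 2) (Fin 2 ⊕ Fin 2) F
local notation "GG" => GL (Fin 2 ⊕ Fin 2) F
local notation "ff" => Cfsg.sympForm 2 F

/-- skew-adjoint -/
def IsSkew (s : MM) : Prop := ∀ u v : VV, ff (s *ᵥ u) v = - ff u (s *ᵥ v)

/-- a field subalgebra has no zero divisors -/
theorem eq_zero_or_of_mul (K : Subalgebra F MM) (hK : IsFieldSubalgebra 2 K) (a b : MM) (ha : a ∈ K) (hb : b ∈ K)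
    (hab : a * b = 0) : a = 0 ∨ b = 0 := by
  by_cases h : a = 0
  · exact Or.inl h
  · right
    obtain ⟨y, hy, hay⟩ := hK.inv a ha h
    have h1 : y * a = 1 := by rw [← hK.comm a ha y hy, hay]
    calc b = (y * a) * b := by rw [h1, one_mul]
      _ = y * (a * b) := by rw [mul_assoc]
      _ = 0 := by rw [hab, mul_zero]

/-- a non-zero skew-adjoint element of `K` -/
theorem exists_skew (K : Subalgebra F MM) (hac : IsAdjointClosedFor ff K) (hnsa : ¬ IsSelfAdjointFor ff K) :
    ∃ s ∈ K, s ≠ 0 ∧ IsSkew s := by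
  unfold IsSelfAdjointFor at hnsa
  push Not at hnsa
  obtain ⟨k, hk, u₀, v₀, hne⟩ := hnsa
  obtain ⟨k', hk', hadj⟩ := hac k hk
  have hadj' : ∀ u v : VV, ff (k' *ᵥ u) v = ff u (k *ᵥ v) := by
    intro u v
    rw [sympForm_swap, ← hadj, sympForm_swap, neg_neg]
  refine ⟨k - k', K.sub_mem hk hk', ?_, ?_⟩
  · intro h
    have : k = k' := sub_eq_zero.1 h
    apply hne
    rw [hadj, ← this]
  · intro u v
    rw [Matrix.sub_mulVec, Matrix.sub_mulVec, sympForm_sub_left, sympForm_sub_right, hadj, hadj']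
    ring

/-- the square of a non-zero skew-adjoint element of a quadratic field subalgebra is a scalar -/
theorem sq_scalar (h2 : (2 : F) ≠ 0) (K : Subalgebra F MM) (hK : IsFieldSubalgebra 2 K) (s : MM) (hs : s ∈ K)
    (hs0 : s ≠ 0) (hskew : IsSkew s) : ∃ δ : F, s * s = δ • (1 : MM) := by
  classical
  let v : Fin 3 → K := ![1, ⟨s, hs⟩, ⟨s * s, K.mul_mem hs hs⟩]
  have hdep : ¬ LinearIndependent F v := by
    intro hli
    have := hli.fintype_card_le_finrank
    rw [hK.finrank_eq] at this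
    simp at this
  obtain ⟨g, hg, i, hi⟩ := Fintype.not_linearIndependent_iff.1 hdep
  have hg' : g 0 • (1 : MM) + g 1 • s + g 2 • (s * s) = 0 := by
    have := congrArg Subtype.val hg
    simpa [Fin.sum_univ_three, v] using this
  have hN : g 0 • (1 : MM) - g 1 • s + g 2 • (s * s) = 0 := by
    apply matrix_ext_mulVec
    intro w
    rw [Matrix.zero_mulVec]
    apply Cfsg.H5.SpCor.eq_zero_of_forall_left
    intro u
    have h1 : ff ((g 0 • (1 : MM) + g 1 • s + g 2 • (s * s)) *ᵥ u) w =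
        ff u ((g 0 • (1 : MM) - g 1 • s + g 2 • (s * s)) *ᵥ w) := by
      simp only [Matrix.add_mulVec, Matrix.sub_mulVec, Matrix.smul_mulVec, Matrix.one_mulVec,
        ← Matrix.mulVec_mulVec, sympForm_add_left, sympForm_add_right, sympForm_sub_right, sympForm_smul_left,
        sympForm_smul_right]
      rw [hskew (s *ᵥ u) w, hskew u (s *ᵥ w), hskew u w]
      ring
    rw [← h1, hg', Matrix.zero_mulVec, sympForm_zero_left]
  have hb : g 1 = 0 := by
    have h3 : (2 * g 1) • s = 0 := by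
      have : (2 * g 1) • s = (g 0 • (1 : MM) + g 1 • s + g 2 • (s * s)) - (g 0 • (1 : MM) - g 1 • s + g 2 • (s * s)) := by
        rw [mul_smul, two_smul]
        abel
      rw [this, hg', hN, sub_zero]
    rcases smul_eq_zero.1 h3 with h | h
    · rcases mul_eq_zero.1 h with h | h
      · exact absurd h h2
      · exact h
    · exact absurd h hs0
  rw [hb, zero_smul, add_zero] at hg'
  have hc : g 2 ≠ 0 := by
    intro hc
    rw [hc, zero_smul, add_zero] at hg'
    have h0 : g 0 = 0 := by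
      rcases smul_eq_zero.1 hg' with h | h
      · exact h
      · exact absurd h one_ne_zero
    fin_cases i
    · exact hi h0
    · exact hi hb
    · exact hi hc
  refine ⟨-(g 0 / g 2), ?_⟩
  have h4 : g 2 • (s * s) = -(g 0 • (1 : MM)) := by
    rw [eq_neg_iff_add_eq_zero, add_comm]
    exact hg'
  calc s * s = (g 2)⁻¹ • (g 2 • (s * s)) := by rw [smul_smul, inv_mul_cancel₀ hc, one_smul]
    _ = -(g 0 / g 2) • (1 : MM) := by
        rw [h4, smul_neg, smul_smul, neg_smul, div_eq_inv_mul]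

/-- an element `om` of `K` with `om² = -1`, skew-adjoint -/
theorem exists_omega (hq : Fintype.card F = 3) (K : Subalgebra F MM) (hK : IsFieldSubalgebra 2 K)
    (hac : IsAdjointClosedFor ff K) (hnsa : ¬ IsSelfAdjointFor ff K) :
    ∃ om ∈ K, om * om = -1 ∧ IsSkew om := by
  obtain ⟨s, hs, hs0, hskew⟩ := exists_skew K hac hnsa
  obtain ⟨δ, hδ⟩ := sq_scalar (f3_two_ne_zero hq) K hK s hs hs0 hskew
  rcases f3_cases hq δ with h | h | h
  · exfalso
    rw [h, zero_smul] at hδ
    rcases eq_zero_or_of_mul K hK s s hs hs hδ with h' | h' <;> exact hs0 h'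
  · exfalso
    rw [h, one_smul] at hδ
    have h1 : (s - 1) * (s + 1) = 0 := by
      have : (s - 1) * (s + 1) = s * s - 1 := by noncomm_ring
      rw [this, hδ, sub_self]
    have hpm : s = 1 ∨ s = -1 := by
      rcases eq_zero_or_of_mul K hK _ _ (K.sub_mem hs K.one_mem) (K.add_mem hs K.one_mem) h1 with h' | h'
      · exact Or.inl (sub_eq_zero.1 h')
      · exact Or.inr (eq_neg_of_add_eq_zero_left h')
    obtain ⟨x, y, hxy⟩ := Cfsg.H5.SpCor.exists_pair (F := F) (m := 2) (by norm_num)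
    apply hxy
    have h3 := hskew x y
    have h4 : (2 : F) * ff x y = 0 := by
      rcases hpm with h' | h'
      · rw [h', Matrix.one_mulVec, Matrix.one_mulVec] at h3
        linear_combination h3
      · rw [h', Matrix.neg_mulVec, Matrix.neg_mulVec, Matrix.one_mulVec, Matrix.one_mulVec, sympForm_neg_left,
          sympForm_neg_right] at h3
        linear_combination -h3
    rcases mul_eq_zero.1 h4 with h' | h'
    · exact absurd h' (f3_two_ne_zero hq)
    · exact h'
  · refine ⟨s, hs, ?_, hskew⟩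
    rw [hδ, h, neg_smul, one_smul]



theorem omega_omega (om : MM) (hom : om * om = -1) (u : VV) : om *ᵥ (om *ᵥ u) = -u := by
  rw [Matrix.mulVec_mulVec, hom, Matrix.neg_mulVec, Matrix.one_mulVec]

/-- `om` is an isometry -/
theorem omega_isom (om : MM) (hom : om * om = -1) (hskew : IsSkew om) (u v : VV) : ff (om *ᵥ u) (om *ᵥ v) = ff u v := by
  rw [hskew, omega_omega om hom, sympForm_neg_right, neg_neg]

/-- the form `b(u, v) = f(om u, v)` is symmetric -/
theorem omega_symm (om : MM) (hskew : IsSkew om) (u v : VV) : ff (om *ᵥ u) v = ff (om *ᵥ v) u := by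
  rw [hskew, sympForm_swap, neg_neg]

/-- polarisation -/
theorem diag_of_ne (om : MM) (hskew : IsSkew om) (h2 : (2 : F) ≠ 0) (u v : VV) (h : ff (om *ᵥ u) v ≠ 0) :
    ff (om *ᵥ u) u ≠ 0 ∨ ff (om *ᵥ v) v ≠ 0 ∨ ff (om *ᵥ (u + v)) (u + v) ≠ 0 := by
  by_contra hcon
  push Not at hcon
  obtain ⟨h1, h3, h4⟩ := hcon
  rw [Matrix.mulVec_add, sympForm_add_left, sympForm_add_right, sympForm_add_right, h1, h3,
    ← omega_symm om hskew u v] at h4
  apply h
  have : (2 : F) * ff (om *ᵥ u) v = 0 := by linear_combination h4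
  rcases mul_eq_zero.1 this with h' | h'
  · exact absurd h' h2
  · exact h'

/-- normalising the value of the quadratic form to `1` -/
theorem normalize (om : MM) (hom : om * om = -1) (hskew : IsSkew om) (hq : Fintype.card F = 3) (z : VV) (h : ff (om *ᵥ z) z ≠ 0) :
    ∃ z' : VV, (z' = z ∨ z' = z + om *ᵥ z) ∧ ff (om *ᵥ z') z' = 1 := by
  rcases f3_cases hq (ff (om *ᵥ z) z) with h' | h' | h'
  · exact absurd h' h
  · exact ⟨z, Or.inl rfl, h'⟩
  · refine ⟨z + om *ᵥ z, Or.inr rfl, ?_⟩
    rw [Matrix.mulVec_add, omega_omega om hom, sympForm_add_left, sympForm_add_right, sympForm_add_right,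
      sympForm_self, sympForm_neg_left, sympForm_neg_left, sympForm_self, hskew z z] at *
    have h5 := f3_neg_two hq
    have h6 : ff z (om *ᵥ z) = 1 := by linear_combination -h'
    rw [h6]
    linear_combination h5

/-- two orthogonal vectors of norm one for the form `f(om u, v)` -/
theorem exists_frame (hq : Fintype.card F = 3) (om : MM) (hom : om * om = -1) (hskew : IsSkew om) :
    ∃ u1 u2 : VV, ff (om *ᵥ u1) u1 = 1 ∧ ff (om *ᵥ u2) u2 = 1 ∧ ff u2 u1 = 0 ∧ ff u2 (om *ᵥ u1) = 0 := by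
  classical
  have h2 := f3_two_ne_zero hq
  -- a first vector
  obtain ⟨x, y, hxy⟩ := Cfsg.H5.SpCor.exists_pair (F := F) (m := 2) (by norm_num)
  have hx : om *ᵥ (-(om *ᵥ x)) = x := by
    rw [Matrix.mulVec_neg, omega_omega om hom, neg_neg]
  have h0 : ∃ z : VV, ff (om *ᵥ z) z ≠ 0 := by
    rcases diag_of_ne om hskew h2 (-(om *ᵥ x)) y (by rw [hx]; exact hxy) with h | h | h
    · exact ⟨_, h⟩
    · exact ⟨_, h⟩
    · exact ⟨_, h⟩
  obtain ⟨z, hz⟩ := h0
  obtain ⟨u1, -, hu1⟩ := normalize om hom hskew hq z hz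
  have hu1' : ff u1 (om *ᵥ u1) = -1 := by
    rw [sympForm_swap, hu1]
  -- the projection onto the orthogonal complement of the plane of `u1`, `om u1`
  set P : VV → VV := fun w => w + ff w (om *ᵥ u1) • u1 - ff w u1 • (om *ᵥ u1) with hP
  have hP1 : ∀ w, ff (P w) u1 = 0 := by
    intro w
    simp only [hP, sympForm_sub_left, sympForm_add_left, sympForm_smul_left, sympForm_self, hu1]
    ring
  have hP2 : ∀ w, ff (P w) (om *ᵥ u1) = 0 := by
    intro w
    simp only [hP, sympForm_sub_left, sympForm_add_left, sympForm_smul_left, sympForm_self, hu1']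
    ring
  have hPadd : ∀ w1 w2, P (w1 + w2) = P w1 + P w2 := by
    intro w1 w2
    simp only [hP, sympForm_add_left, add_smul]
    abel
  have hPom1 : ∀ w, ff (om *ᵥ P w) u1 = 0 := by
    intro w
    rw [hskew, hP2, neg_zero]
  have hPom2 : ∀ w, ff (om *ᵥ P w) (om *ᵥ u1) = 0 := by
    intro w
    rw [omega_isom om hom hskew, hP1]
  -- the projection is not zero
  have h3 : ∃ w1, P w1 ≠ 0 := by
    by_contra hcon
    push Not at hcon
    have hle : (⊤ : Submodule F VV) ≤ Submodule.span F (({u1, om *ᵥ u1} : Finset VV) : Set VV) := by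
      intro w _
      have hw : w = -(ff w (om *ᵥ u1) • u1) + ff w u1 • (om *ᵥ u1) := by
        have h5 := hcon w
        simp only [hP] at h5
        rw [← sub_eq_zero, ← h5]
        abel
      rw [hw]
      apply Submodule.add_mem
      · apply Submodule.neg_mem
        apply Submodule.smul_mem
        apply Submodule.subset_span
        simp
      · apply Submodule.smul_mem
        apply Submodule.subset_span
        simp
    have h4 := Submodule.finrank_mono hle
    rw [finrank_top, Module.finrank_fintype_fun_eq_card] at h4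
    have h5 := finrank_span_finset_le_card (R := F) ({u1, om *ᵥ u1} : Finset VV)
    unfold Set.finrank at h5
    have h6 : ({u1, om *ᵥ u1} : Finset VV).card ≤ 2 := Finset.card_le_two
    simp at h4
    omega
  obtain ⟨w1, hw1⟩ := h3
  have h4 : om *ᵥ P w1 ≠ 0 := by
    intro h
    apply hw1
    have := omega_omega om hom (P w1)
    rw [h, Matrix.mulVec_zero] at this
    rw [← neg_eq_zero, ← this]
  have h5 : ∃ w2, ff (om *ᵥ P w1) w2 ≠ 0 := by
    by_contra hcon
    push Not at hcon
    exact h4 (Cfsg.H5.SpCor.eq_zero_of_forall_right _ hcon)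
  obtain ⟨w2, hw2⟩ := h5
  have h6 : ff (om *ᵥ P w1) (P w2) ≠ 0 := by
    have : ff (om *ᵥ P w1) (P w2) = ff (om *ᵥ P w1) w2 := by
      have hPw2 : P w2 = w2 + ff w2 (om *ᵥ u1) • u1 - ff w2 u1 • (om *ᵥ u1) := by rw [hP]
      rw [hPw2]
      simp only [sympForm_sub_right, sympForm_add_right, sympForm_smul_right, hPom1, hPom2]
      ring
    rw [this]
    exact hw2
  have h7 : ∃ w, ff (om *ᵥ P w) (P w) ≠ 0 := by
    rcases diag_of_ne om hskew h2 (P w1) (P w2) h6 with h | h | h
    · exact ⟨_, h⟩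
    · exact ⟨_, h⟩
    · exact ⟨w1 + w2, by rw [hPadd]; exact h⟩
  obtain ⟨w, hw⟩ := h7
  obtain ⟨u2, hu2c, hu2⟩ := normalize om hom hskew hq (P w) hw
  refine ⟨u1, u2, hu1, hu2, ?_, ?_⟩
  · rcases hu2c with h | h
    · rw [h, hP1]
    · rw [h, sympForm_add_left, hP1, hPom1, add_zero]
  · rcases hu2c with h | h
    · rw [h, hP2]
    · rw [h, sympForm_add_left, hP2, hPom2, add_zero]

theorem J_mulVec_single_inl (i : Fin 2) :
    Matrix.J (Fin 2) F *ᵥ Pi.single (Sum.inl i) 1 = Pi.single (Sum.inr i) 1 := by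
  rw [Matrix.mulVec_single_one]
  funext r
  rcases r with j | j
  · simp [Matrix.J]
  · simp [Matrix.J, Matrix.one_apply, Pi.single_apply]

theorem J_mulVec_single_inr (i : Fin 2) :
    Matrix.J (Fin 2) F *ᵥ Pi.single (Sum.inr i) 1 = -Pi.single (Sum.inl i) 1 := by
  rw [Matrix.mulVec_single_one]
  funext r
  rcases r with j | j
  · simp [Matrix.J, Matrix.one_apply, Pi.single_apply]
  · simp [Matrix.J]

/-- the symplectic normal form of `om` -/
theorem exists_g0 (hq : Fintype.card F = 3) (om : MM) (hom : om * om = -1) (hskew : IsSkew om) :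
    ∃ g₀ : GG, g₀ ∈ Cfsg.spGL 2 F ∧ om * (g₀ : MM) = (g₀ : MM) * Matrix.J (Fin 2) F := by
  obtain ⟨u1, u2, h1, h2, h3, h4⟩ := exists_frame hq om hom hskew
  have f1 : ff u1 (om *ᵥ u1) = -1 := by rw [sympForm_swap, h1]
  have f2 : ff u2 (om *ᵥ u2) = -1 := by rw [sympForm_swap, h2]
  have f3 : ff u1 u2 = 0 := by rw [sympForm_swap, h3, neg_zero]
  have f4 : ff (om *ᵥ u1) u2 = 0 := by rw [sympForm_swap, h4, neg_zero]
  have f5 : ff (om *ᵥ u2) u1 = 0 := by rw [hskew, h4, neg_zero]
  have f6 : ff u1 (om *ᵥ u2) = 0 := by rw [sympForm_swap, f5, neg_zero]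
  have f7 : ff (om *ᵥ u2) (om *ᵥ u1) = 0 := by rw [omega_isom om hom hskew, h3]
  have f8 : ff (om *ᵥ u1) (om *ᵥ u2) = 0 := by rw [omega_isom om hom hskew, f3]
  have hc : ∀ a b, ff (Sum.elim ![u1, u2] ![om *ᵥ u1, om *ᵥ u2] a) (Sum.elim ![u1, u2] ![om *ᵥ u1, om *ᵥ u2] b) =
      Matrix.J (Fin 2) F a b := by
    intro a b
    rcases a with i | i <;> rcases b with j | j <;> fin_cases i <;> fin_cases j <;>
      simp [Matrix.J, sympForm_self, h1, h2, h3, h4, f1, f2, f3, f4, f5, f6, f7, f8]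
  obtain ⟨g₀, hg₀, hcol⟩ := exists_sp_of_cols (m := 2) (F := F) _ hc
  refine ⟨g₀, hg₀, ?_⟩
  have key : ∀ a, (om * (g₀ : MM)) *ᵥ Pi.single a 1 = ((g₀ : MM) * Matrix.J (Fin 2) F) *ᵥ Pi.single a 1 := by
    intro a
    rw [← Matrix.mulVec_mulVec, ← Matrix.mulVec_mulVec, hcol]
    rcases a with i | i
    · rw [J_mulVec_single_inl, hcol]
      fin_cases i <;> simp
    · rw [J_mulVec_single_inr, Matrix.mulVec_neg, hcol]
      fin_cases i <;> simp [omega_omega om hom]
  ext r a
  have := congrFun (key a) r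
  rw [Matrix.mulVec_single_one, Matrix.mulVec_single_one] at this
  exact this

/-- an element normalising `K` conjugates to an element normalising `F[J]` up to sign -/
theorem normJ_of_normalizer (K : Subalgebra F MM) (hK : IsFieldSubalgebra 2 K) (om : MM) (homK : om ∈ K)
    (hom : om * om = -1) (g₀ : GG) (hg : om * (g₀ : MM) = (g₀ : MM) * Matrix.J (Fin 2) F) (h : GG)
    (hh : h ∈ subalgebraNormalizer K) : NormJ (g₀⁻¹ * h * g₀) := by
  have hGi : ((g₀⁻¹ : GG) : MM) * (g₀ : MM) = 1 := by rw [← Units.val_mul, inv_mul_cancel, Units.val_one]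
  have hG : (g₀ : MM) * ((g₀⁻¹ : GG) : MM) = 1 := by rw [← Units.val_mul, mul_inv_cancel, Units.val_one]
  have hHi : ((h⁻¹ : GG) : MM) * (h : MM) = 1 := by rw [← Units.val_mul, inv_mul_cancel, Units.val_one]
  have hJ : ((g₀⁻¹ : GG) : MM) * om = Matrix.J (Fin 2) F * ((g₀⁻¹ : GG) : MM) := by
    calc ((g₀⁻¹ : GG) : MM) * om = ((g₀⁻¹ : GG) : MM) * om * ((g₀ : MM) * ((g₀⁻¹ : GG) : MM)) := by
          rw [hG, mul_one]
      _ = ((g₀⁻¹ : GG) : MM) * (om * (g₀ : MM)) * ((g₀⁻¹ : GG) : MM) := by simp only [mul_assoc]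
      _ = ((g₀⁻¹ : GG) : MM) * ((g₀ : MM) * Matrix.J (Fin 2) F) * ((g₀⁻¹ : GG) : MM) := by rw [hg]
      _ = (((g₀⁻¹ : GG) : MM) * (g₀ : MM)) * Matrix.J (Fin 2) F * ((g₀⁻¹ : GG) : MM) := by
          simp only [mul_assoc]
      _ = Matrix.J (Fin 2) F * ((g₀⁻¹ : GG) : MM) := by rw [hGi, one_mul]
  set om' : MM := (h : MM) * om * ((h⁻¹ : GG) : MM) with hom'
  have hom'K : om' ∈ K := (hh om).1 homK
  have hsq : om' * om' = -1 := by
    calc om' * om' = (h : MM) * om * (((h⁻¹ : GG) : MM) * (h : MM)) * om * ((h⁻¹ : GG) : MM) := by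
          rw [hom']
          simp only [mul_assoc]
      _ = (h : MM) * (om * om) * ((h⁻¹ : GG) : MM) := by
          rw [hHi, mul_one]
          simp only [mul_assoc]
      _ = -1 := by
          rw [hom, mul_neg, mul_one, neg_mul, ← Units.val_mul, mul_inv_cancel, Units.val_one]
  have hprod : (om' - om) * (om' + om) = 0 := by
    have hcomm := hK.comm om' hom'K om homK
    have : (om' - om) * (om' + om) = om' * om' + (om' * om - om * om') - om * om := by noncomm_ring
    rw [this, hsq, hom, hcomm, sub_self]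
    simp
  have hcomm : (h : MM) * om = om' * (h : MM) := by
    rw [hom', mul_assoc, hHi, mul_one]
  have hconj : ((g₀⁻¹ * h * g₀ : GG) : MM) * Matrix.J (Fin 2) F =
      ((g₀⁻¹ : GG) : MM) * om' * (h : MM) * (g₀ : MM) := by
    calc ((g₀⁻¹ * h * g₀ : GG) : MM) * Matrix.J (Fin 2) F
        = ((g₀⁻¹ : GG) : MM) * (h : MM) * ((g₀ : MM) * Matrix.J (Fin 2) F) := by
          rw [Units.val_mul, Units.val_mul]
          simp only [mul_assoc]
      _ = ((g₀⁻¹ : GG) : MM) * ((h : MM) * om) * (g₀ : MM) := by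
          rw [← hg]
          simp only [mul_assoc]
      _ = ((g₀⁻¹ : GG) : MM) * om' * (h : MM) * (g₀ : MM) := by
          rw [hcomm]
          simp only [mul_assoc]
  rcases eq_zero_or_of_mul K hK _ _ (K.sub_mem hom'K homK) (K.add_mem hom'K homK) hprod with h' | h'
  · left
    have h1 : om' = om := sub_eq_zero.1 h'
    rw [hconj, h1, hJ, Units.val_mul, Units.val_mul]
    simp only [mul_assoc]
  · right
    have h1 : om' = -om := eq_neg_of_add_eq_zero_left h'
    rw [hconj, h1, mul_neg, hJ, Units.val_mul, Units.val_mul]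
    simp only [mul_assoc, neg_mul]

/-- **E2**: for `q = 3` the normaliser of a quadratic field subalgebra closed under adjoints and not self-adjoint is not
maximal -/
theorem e2 (hq : Fintype.card F = 3) (K : Subalgebra F MM) (hK : IsFieldSubalgebra 2 K)
    (hac : IsAdjointClosedFor ff K) (hnsa : ¬ IsSelfAdjointFor ff K) (H : Subgroup GG)
    (hHe : H = subalgebraNormalizer K ⊓ Cfsg.spGL 2 F) (hH : IsMaximalIn (Cfsg.spGL 2 F) H) : False := by
  obtain ⟨om, homK, hom, hskew⟩ := exists_omega hq K hK hac hnsa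
  obtain ⟨g₀, hg₀, hg⟩ := exists_g0 hq om hom hskew
  refine e2_std hq H hH g₀ hg₀ ?_
  intro h hh
  rw [hHe] at hh
  exact normJ_of_normalizer K hK om homK hom g₀ hg h hh.1

end Cfsg.H5.Sp43
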