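import Mathlib
import Cfsg.Prelude.Def_GeometricClasses
import Cfsg.Agent.H5.SpCorA
import Cfsg.Agent.Lib.Helper9.HubCorA1
import Cfsg.Agent.Lib.Helper29.S5814AFLD

/-!
# Sp hub corollaries: the rows `Sp_4(q)` (helper5)

`cases4even` = the verbatim conclusion of the frozen S5790 (`Sp_4(q)`, `q` even) from the fact that a maximal subgroup
is itself a member of the symplectic class or residual (`member_of_max` of helper27's skeleton).
-/

set_option autoImplicit false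
set_option linter.unusedSectionVars false
set_option linter.unusedVariables false

namespace Cfsg.H5.SpCor

open Matrix Module Cfsg Cfsg.Geo

variable {F : Type*} [Field F] [Fintype F]

/-- the arithmetic of a non-degenerate decomposition of the `4`-space: `(t, k) = (2, 2)` -/
theorem dec4_arith {t k : ℕ} (D : Fin t → Submodule F (Fin 2 ⊕ Fin 2 → F))
    (hD : IsNondegenerateMDecomposition (Cfsg.sympForm 2 F) k D) : t = 2 ∧ k = 2 := by
  have h1 := Cfsg.Agent.Lib.Helper9.HubCor.mul_eq_card_of_isMDecomposition D hD.decomp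
  rw [Fintype.card_sum, Fintype.card_fin] at h1
  have h2 := hD.decomp.two_le
  have h3 : 2 ≤ k := by
    have hne : D ⟨0, by omega⟩ ≠ ⊥ := by
      intro h
      have := hD.decomp.finrank_eq ⟨0, by omega⟩
      rw [h, finrank_bot] at this
      have := hD.decomp.pos
      omega
    have := two_le_finrank_of_nondegenerateOn (D ⟨0, by omega⟩) hne (hD.nondegenerate ⟨0, by omega⟩)
    rwa [hD.decomp.finrank_eq] at this
  have h4 : t * k ≥ 2 * k := Nat.mul_le_mul_right k h2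
  have h5 : t * k ≥ t * 2 := Nat.mul_le_mul_left t h3
  constructor <;> omega

/-- the degree of a field subalgebra of prime degree of `M_4(F)` is `2` -/
theorem field4_arith {r : ℕ} (hr : r.Prime) (K : Subalgebra F (Matrix (Fin 2 ⊕ Fin 2) (Fin 2 ⊕ Fin 2) F))
    (hK : IsFieldSubalgebra r K) : r = 2 := by
  have : Nonempty (Fin 2 ⊕ Fin 2) := ⟨Sum.inl 0⟩
  have h := Cfsg.Agent.Lib.Helper29.S5814.field_degree_dvd r K hK
  rw [Fintype.card_sum, Fintype.card_fin] at h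
  have h4 : r ∣ 2 ^ 2 := by simpa using h
  exact (Nat.prime_dvd_prime_iff_eq hr Nat.prime_two).1 (hr.dvd_of_dvd_pow h4)

/-- S5790 (`Sp_4(q)`, `q` even) from membership -/
theorem cases4even (heven : ¬ Odd (Fintype.card F))
    (H : Subgroup (Matrix.GeneralLinearGroup (Fin 2 ⊕ Fin 2) F))
    (hmem : InSymplecticClass 2 F H ∨ InSymplecticResidualClass H) :
    (∃ W : Submodule F (Fin 2 ⊕ Fin 2 → F), W ≠ ⊥ ∧ Cfsg.Geo.IsTotallySingularFor (Cfsg.sympForm 2 F) W ∧ H = Cfsg.Geo.subspaceStabilizer W ⊓ Cfsg.spGL 2 F) ∨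
    (∃ D : Fin 2 → Submodule F (Fin 2 ⊕ Fin 2 → F), Cfsg.Geo.IsNondegenerateMDecomposition (Cfsg.sympForm 2 F) 2 D ∧ H = Cfsg.Geo.decompositionStabilizer D ⊓ Cfsg.spGL 2 F) ∨
    (∃ K : Subalgebra F (Matrix (Fin 2 ⊕ Fin 2) (Fin 2 ⊕ Fin 2) F), Cfsg.Geo.IsFieldSubalgebra 2 K ∧ Cfsg.Geo.IsSelfAdjointFor (Cfsg.sympForm 2 F) K ∧ (∀ k ∈ K, ∀ v : (Fin 2 ⊕ Fin 2 → F), (Cfsg.sympForm 2 F) (Matrix.mulVec k v) v = 0) ∧ H = Cfsg.Geo.subalgebraNormalizer K ⊓ Cfsg.spGL 2 F) ∨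
    (∃ (F₀ : Subfield F) (r : ℕ) (P : Matrix.GeneralLinearGroup (Fin 2 ⊕ Fin 2) F) (ζ : F), r.Prime ∧ Fintype.card F = Nat.card F₀ ^ r ∧ ζ ≠ 0 ∧ Cfsg.Geo.IsFormRationalStructure (Cfsg.sympForm 2 F) F₀ ζ P ∧ H = Cfsg.Geo.subfieldSubgroup F₀ P ⊓ Cfsg.spGL 2 F) ∨
    (∃ Q : (Fin 2 ⊕ Fin 2 → F) → F, Cfsg.Geo.IsNondegenerateQuadraticForm Q ∧ (∀ u v : (Fin 2 ⊕ Fin 2 → F), QuadraticMap.polar Q u v = (Cfsg.sympForm 2 F) u v) ∧ H = Cfsg.Geo.quadSimilarityGroup Q ⊓ Cfsg.spGL 2 F) ∨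
    Cfsg.Geo.InSymplecticResidualClass H := by
  rcases hmem with hM | hres
  swap
  · exact Or.inr (Or.inr (Or.inr (Or.inr (Or.inr hres))))
  rcases hM with (⟨W, h0, hW, hMe⟩ | ⟨W, h0, hW, hlt, hMe⟩ | ⟨t, k, D, hD, hMe⟩ | ⟨D, hodd, hD, hts, hMe⟩ |
      ⟨F₀, r, P, ζ, hr, hcard, hζ, hP, hMe⟩ | ⟨R, p, k, hR, hirr, hsim, hp, hpo, hFp, hRc, hcen, hmin, hMe⟩ |
      ⟨Q, heven', hQ, hpol, hMe⟩) | ⟨r, K, hr, hK, hsa, halt, hMe⟩ | ⟨K, hodd, hK, hac, hnsa, hMe⟩ |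
      ⟨n₁, n₂, e, P, f₁, f₂, hodd, hn₂, hf₁, hf₂, hT, hMe⟩ | ⟨k, t, e, P, f₁, hodd, hto, ht, hex, hf₁, hT, hMe⟩
  · exact Or.inl ⟨W, h0, hW, hMe⟩
  · exfalso
    have := two_le_finrank_of_nondegenerateOn W h0 hW
    omega
  · obtain ⟨rfl, rfl⟩ := dec4_arith D hD
    exact Or.inr (Or.inl ⟨D, hD, hMe⟩)
  · exact absurd hodd heven
  · exact Or.inr (Or.inr (Or.inr (Or.inl ⟨F₀, r, P, ζ, hr, hcard, hζ, hP, hMe⟩)))
  · exact absurd (hFp ▸ hpo) heven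
  · exact Or.inr (Or.inr (Or.inr (Or.inr (Or.inl ⟨Q, hQ, hpol, hMe⟩))))
  · obtain rfl := field4_arith hr K hK
    exact Or.inr (Or.inr (Or.inl ⟨K, hK, hsa, halt, hMe⟩))
  · exact absurd hodd heven
  · exact absurd hodd heven
  · exact absurd hodd heven

end Cfsg.H5.SpCor
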