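import Mathlib
import Cfsg.Prelude.Def_GeometricClasses
import Cfsg.Agent.Lib.Helper13.SpMax
import Cfsg.Agent.H5.SpCorA

/-!
# Corollaries of the symplectic hub S5662: generic pieces, part B  (helper5)

* `not_sp_le_decompositionStabilizer` (SpG-b2): `Sp` stabilises no decomposition into `t ≥ 2` subspaces.
* `not_sp_le_subalgebraNormalizer` (SpG-b3): `Sp_{2m}`, `m ≥ 2`, normalises no field subalgebra of prime degree.
-/

set_option autoImplicit false
set_option linter.unusedSectionVars false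
set_option linter.unusedVariables false

namespace Cfsg.H5.SpCor

open Cfsg Cfsg.Geo Matrix
open Cfsg.Agent.Lib.Helper13 (sympTransvGL sympTransvGL_mulVec sympTransvGL_mem spGL_le_of_transvections sympL
  sympL_apply)
open Cfsg.Agent.Lib.Helper6 (sympForm_add_left sympForm_add_right sympForm_smul_left sympForm_smul_right
  sympForm_self sympForm_swap sympForm_zero_left sympForm_zero_right sympTransvection_mul)
open scoped MatrixGroups

variable {F : Type*} [Field F] {m : ℕ}

local notation "ff" => Cfsg.sympForm m F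

theorem exists_ne_zero_of_decomposition {t k : ℕ} (D : Fin t → Submodule F (Fin m ⊕ Fin m → F))
    (hD : IsMDecomposition k D) (i : Fin t) : ∃ x ∈ D i, x ≠ 0 := by
  apply Submodule.exists_mem_ne_zero_of_ne_bot
  intro h
  have h1 := hD.finrank_eq i
  rw [h, finrank_bot] at h1
  have := hD.pos
  omega

/-- (SpG-b2) `Sp` stabilises no decomposition -/
theorem not_sp_le_decompositionStabilizer {t k : ℕ} (D : Fin t → Submodule F (Fin m ⊕ Fin m → F))
    (hD : IsMDecomposition k D) : ¬ Cfsg.spGL m F ≤ decompositionStabilizer D := by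
  intro hle
  have ht := hD.two_le
  set i0 : Fin t := ⟨0, by omega⟩ with hi0
  set i1 : Fin t := ⟨1, by omega⟩ with hi1
  have h01 : i1 ≠ i0 := by
    rw [hi0, hi1]; intro h; simpa using congrArg Fin.val h
  set E : Submodule F (Fin m ⊕ Fin m → F) := ⨆ (j) (_ : j ≠ i0), D j with hE
  have hdisj : Disjoint (D i0) E := hD.indep i0
  have hDE : ∀ j, j ≠ i0 → D j ≤ E := fun j hj => le_iSup₂ (f := fun j (_ : j ≠ i0) => D j) j hj
  have hsup : D i0 ⊔ E = ⊤ := by
    rw [eq_top_iff, ← hD.iSup_eq_top]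
    apply iSup_le
    intro j
    by_cases hj : j = i0
    · rw [hj]; exact le_sup_left
    · exact (hDE j hj).trans le_sup_right
  have hzero : ∀ v, v ∈ D i0 → v ∈ E → v = 0 := fun v h1 h2 =>
    (Submodule.disjoint_def.mp hdisj) v h1 h2
  obtain ⟨x, hx, hx0⟩ := exists_ne_zero_of_decomposition D hD i0
  obtain ⟨z, hz1, hz0⟩ := exists_ne_zero_of_decomposition D hD i1
  have hz : z ∈ E := hDE i1 h01 hz1
  have hy : ∃ y, ff x y ≠ 0 := by
    by_contra hcon
    push Not at hcon
    exact hx0 (eq_zero_of_forall_right x hcon)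
  obtain ⟨y, hy⟩ := hy
  have hyt : y ∈ D i0 ⊔ E := by rw [hsup]; exact Submodule.mem_top
  obtain ⟨y0, hy0, yE, hyE, rfl⟩ := Submodule.mem_sup.mp hyt
  -- step 1
  have step1 : ∃ b0 ∈ D i0, ∃ bE ∈ E, bE ≠ 0 ∧ ff x (b0 + bE) ≠ 0 := by
    by_cases h1 : ff x yE = 0
    · rw [sympForm_add_right, h1, add_zero] at hy
      by_cases h2 : ff x z = 0
      · exact ⟨y0, hy0, z, hz, hz0, by rw [sympForm_add_right, h2, add_zero]; exact hy⟩
      · exact ⟨0, (D i0).zero_mem, z, hz, hz0, by rw [zero_add]; exact h2⟩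
    · refine ⟨0, (D i0).zero_mem, yE, hyE, ?_, by rw [zero_add]; exact h1⟩
      rintro rfl
      exact h1 (sympForm_zero_right x)
  obtain ⟨b0, hb0, bE, hbE, hbE0, hb⟩ := step1
  -- step 2
  have step2 : ∃ a0 ∈ D i0, ff x (a0 + bE) ≠ 0 ∧ x + ff x (a0 + bE) • a0 ≠ 0 := by
    by_cases h1 : x + ff x (b0 + bE) • b0 = 0
    · refine ⟨b0 + x, (D i0).add_mem hb0 hx, ?_, ?_⟩
      · have : ff x (b0 + x + bE) = ff x (b0 + bE) := by
          rw [sympForm_add_right, sympForm_add_right, sympForm_self, add_zero, ← sympForm_add_right]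
        rw [this]; exact hb
      · have e1 : ff x (b0 + x + bE) = ff x (b0 + bE) := by
          rw [sympForm_add_right, sympForm_add_right, sympForm_self, add_zero, ← sympForm_add_right]
        rw [e1]
        have e2 : x + ff x (b0 + bE) • (b0 + x) = (x + ff x (b0 + bE) • b0) + ff x (b0 + bE) • x := by
          rw [smul_add]; abel
        rw [e2, h1, zero_add]
        exact smul_ne_zero hb hx0
    · exact ⟨b0, hb0, hb, h1⟩
  obtain ⟨a0, ha0, hl, hp⟩ := step2
  set l := ff x (a0 + bE) with hl'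
  obtain ⟨σ, hσ⟩ := hle (sympTransvGL_mem (m := m) (F := F) (a0 + bE) 1)
  have hgx : ((sympTransvGL (a0 + bE) 1 : GL (Fin m ⊕ Fin m) F) : Matrix (Fin m ⊕ Fin m) (Fin m ⊕ Fin m) F) *ᵥ x ∈ D (σ i0) := by
    rw [← hσ i0]
    exact Submodule.mem_map.mpr ⟨x, hx, by rw [Matrix.toLin'_apply]⟩
  rw [sympTransvGL_mulVec, one_mul, ← hl'] at hgx
  have hsplit : x + l • (a0 + bE) = (x + l • a0) + l • bE := by rw [smul_add]; abel
  rw [hsplit] at hgx
  have hpD : x + l • a0 ∈ D i0 := (D i0).add_mem hx ((D i0).smul_mem l ha0)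
  have hrE : l • bE ∈ E := E.smul_mem l hbE
  have hr0 : l • bE ≠ 0 := smul_ne_zero hl hbE0
  by_cases hs : σ i0 = i0
  · rw [hs] at hgx
    have : l • bE ∈ D i0 := by
      have := (D i0).sub_mem hgx hpD
      rwa [add_sub_cancel_left] at this
    exact hr0 (hzero _ this hrE)
  · have hgE : (x + l • a0) + l • bE ∈ E := hDE _ hs hgx
    have : x + l • a0 ∈ E := by
      have := E.sub_mem hgE hrE
      rwa [add_sub_cancel_right] at this
    exact hp (hzero _ hpD this)

/-- a non-zero vector killed by two linear functionals, in dimension at least three -/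
theorem exists_ne_zero_two_ker {V : Type*} [AddCommGroup V] [Module F V] [FiniteDimensional F V]
    (h3 : 3 ≤ Module.finrank F V) (φ ψ : V →ₗ[F] F) : ∃ v : V, v ≠ 0 ∧ φ v = 0 ∧ ψ v = 0 := by
  set L : V →ₗ[F] (F × F) := φ.prod ψ with hL
  have hlt : Module.finrank F (F × F) < Module.finrank F V := by
    rw [Module.finrank_prod, Module.finrank_self]; omega
  have hker := LinearMap.ker_ne_bot_of_finrank_lt (f := L) hlt
  obtain ⟨v, hv, hv0⟩ := (Submodule.ne_bot_iff _).mp hker
  have h : (φ v, ψ v) = 0 := LinearMap.mem_ker.mp hv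
  have h' := Prod.mk_eq_zero.mp h
  exact ⟨v, hv0, h'.1, h'.2⟩

/-- a matrix for which every vector is an eigenvector is scalar -/
theorem scalar_of_forall_eigen {ι : Type} [Fintype ι] [DecidableEq ι] (x : Matrix ι ι F)
    (h : ∀ a : ι → F, ∃ l : F, x *ᵥ a = l • a) : ∃ c : F, x = c • (1 : Matrix ι ι F) := by
  rcases isEmpty_or_nonempty ι with he | ⟨⟨i0⟩⟩
  · exact ⟨0, Subsingleton.elim _ _⟩
  choose l hl using h
  set c := l (Pi.single i0 1) with hc
  have hall : ∀ j, l (Pi.single j 1) = c := by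
    intro j
    by_cases hj : j = i0
    · rw [hj]
    · have h1 := hl (Pi.single i0 1 + Pi.single j 1)
      rw [Matrix.mulVec_add, hl, hl, smul_add] at h1
      have e0 := congrFun h1 i0
      have ej := congrFun h1 j
      simp only [Pi.add_apply, Pi.smul_apply, Pi.single_eq_same, Pi.single_eq_of_ne (Ne.symm hj),
        Pi.single_eq_of_ne hj, smul_eq_mul, mul_one, mul_zero, add_zero, zero_add] at e0 ej
      rw [ej, ← e0]
  refine ⟨c, ?_⟩
  ext i j
  have h1 := congrFun (hl (Pi.single j 1)) i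
  rw [Matrix.mulVec_single_one, hall j] at h1
  rw [Matrix.smul_apply, Matrix.one_apply, smul_eq_mul]
  rw [Matrix.col_apply] at h1
  rw [h1, Pi.smul_apply, smul_eq_mul, Pi.single_apply]

/-- every element of a field subalgebra normalised by `Sp_{2m}`, `m ≥ 2`, commutes with the symplectic
transvections -/
theorem commute_transv_of_normalizes {r : ℕ} (hm : 2 ≤ m)
    (K : Subalgebra F (Matrix (Fin m ⊕ Fin m) (Fin m ⊕ Fin m) F)) (hK : IsFieldSubalgebra r K)
    (hle : Cfsg.spGL m F ≤ subalgebraNormalizer K) (x : Matrix (Fin m ⊕ Fin m) (Fin m ⊕ Fin m) F)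
    (hx : x ∈ K) (a : Fin m ⊕ Fin m → F) (c : F) :
    ((sympTransvGL a c : GL (Fin m ⊕ Fin m) F) : Matrix (Fin m ⊕ Fin m) (Fin m ⊕ Fin m) F) * x =
      x * ((sympTransvGL a c : GL (Fin m ⊕ Fin m) F) : Matrix (Fin m ⊕ Fin m) (Fin m ⊕ Fin m) F) := by
  set T : Matrix (Fin m ⊕ Fin m) (Fin m ⊕ Fin m) F :=
    ((sympTransvGL a c : GL (Fin m ⊕ Fin m) F) : Matrix (Fin m ⊕ Fin m) (Fin m ⊕ Fin m) F) with hT
  set T' : Matrix (Fin m ⊕ Fin m) (Fin m ⊕ Fin m) F :=
    (((sympTransvGL a c)⁻¹ : GL (Fin m ⊕ Fin m) F) : Matrix (Fin m ⊕ Fin m) (Fin m ⊕ Fin m) F) with hT'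
  have hTT' : T' * T = 1 := by
    rw [hT, hT', ← Units.val_mul, inv_mul_cancel, Units.val_one]
  have hT'v : ∀ v, T' *ᵥ v = v + (-c * ff v a) • a := by
    intro v
    have : T' = ((sympTransvGL a (-c) : GL (Fin m ⊕ Fin m) F) : Matrix (Fin m ⊕ Fin m) (Fin m ⊕ Fin m) F) := rfl
    rw [this, sympTransvGL_mulVec]
  have ht := hle (sympTransvGL_mem (m := m) (F := F) a c)
  have h1 : T * x * T' ∈ K := (ht x).mp hx
  set y : Matrix (Fin m ⊕ Fin m) (Fin m ⊕ Fin m) F := T * x * T' - x with hy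
  have hyK : y ∈ K := K.sub_mem h1 hx
  have h3 : 3 ≤ Module.finrank F (Fin m ⊕ Fin m → F) := by
    rw [Module.finrank_fintype_fun_eq_card, Fintype.card_sum, Fintype.card_fin]; omega
  obtain ⟨v, hv0, hv1, hv2⟩ := exists_ne_zero_two_ker h3 (sympL a) ((sympL a).comp (Matrix.mulVecLin x))
  rw [sympL_apply] at hv1
  rw [LinearMap.comp_apply, Matrix.mulVecLin_apply, sympL_apply] at hv2
  have e1 : T' *ᵥ v = v := by rw [hT'v, hv1, mul_zero, zero_smul, add_zero]
  have e2 : T *ᵥ (x *ᵥ v) = x *ᵥ v := by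
    rw [hT, sympTransvGL_mulVec, hv2, mul_zero, zero_smul, add_zero]
  have hyv : y *ᵥ v = 0 := by
    rw [hy, Matrix.sub_mulVec, ← Matrix.mulVec_mulVec, ← Matrix.mulVec_mulVec, e1, e2, sub_self]
  have hy0 : y = 0 := by
    by_contra hne
    obtain ⟨y', _, hyy'⟩ := hK.inv y hyK hne
    have h2 : y' * y = 1 := mul_eq_one_comm.mp hyy'
    apply hv0
    calc v = (y' * y) *ᵥ v := by rw [h2, Matrix.one_mulVec]
      _ = y' *ᵥ (y *ᵥ v) := by rw [Matrix.mulVec_mulVec]
      _ = 0 := by rw [hyv, Matrix.mulVec_zero]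
  have h4 : T * x * T' = x := sub_eq_zero.mp hy0
  calc T * x = T * x * (T' * T) := by rw [hTT', mul_one]
    _ = (T * x * T') * T := by simp only [mul_assoc]
    _ = x * T := by rw [h4]

/-- (SpG-b3) `Sp_{2m}`, `m ≥ 2`, does not normalise a field subalgebra of prime degree -/
theorem not_sp_le_subalgebraNormalizer {r : ℕ} (hm : 2 ≤ m) (hr : r.Prime)
    (K : Subalgebra F (Matrix (Fin m ⊕ Fin m) (Fin m ⊕ Fin m) F)) (hK : IsFieldSubalgebra r K) :
    ¬ Cfsg.spGL m F ≤ subalgebraNormalizer K := by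
  intro hle
  have hscal : ∀ x ∈ K, ∃ c : F, x = c • (1 : Matrix (Fin m ⊕ Fin m) (Fin m ⊕ Fin m) F) := by
    intro x hx
    apply scalar_of_forall_eigen
    intro a
    by_cases ha : a = 0
    · exact ⟨0, by rw [ha, Matrix.mulVec_zero, smul_zero]⟩
    · have hv : ∃ v, ff v a ≠ 0 := by
        by_contra hcon
        push Not at hcon
        exact ha (eq_zero_of_forall_left a hcon)
      obtain ⟨v, hv⟩ := hv
      have h1 := commute_transv_of_normalizes hm K hK hle x hx a 1
      have h2 := congrArg (fun M => M *ᵥ v) h1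
      simp only [← Matrix.mulVec_mulVec, sympTransvGL_mulVec, one_mul, Matrix.mulVec_add,
        Matrix.mulVec_smul] at h2
      have h3 : ff (x *ᵥ v) a • a = ff v a • x *ᵥ a := add_left_cancel h2
      refine ⟨(ff v a)⁻¹ * ff (x *ᵥ v) a, ?_⟩
      rw [mul_smul, h3, smul_smul, inv_mul_cancel₀ hv, one_smul]
  have hbot : K = ⊥ := by
    rw [eq_bot_iff]
    intro x hx
    obtain ⟨c, rfl⟩ := hscal x hx
    rw [← Algebra.algebraMap_eq_smul_one]
    exact Subalgebra.algebraMap_mem ⊥ c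
  have hne : Nonempty (Fin m ⊕ Fin m) := ⟨Sum.inl ⟨0, by omega⟩⟩
  have hfin := hK.finrank_eq
  rw [hbot, Subalgebra.finrank_bot] at hfin
  exact hr.one_lt.ne hfin

end Cfsg.H5.SpCor
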