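import Mathlib
import Cfsg.Prelude.Def_GeometricClasses
import Cfsg.Agent.H5.SpCorRow4
import Cfsg.Agent.H5.Sp43E1
import Cfsg.Agent.H5.Sp43E2
import Cfsg.Agent.Lib.Helper27.SpCorMain
import Cfsg.Agent.Lib.Helper27.SpCorC6X

/-!
# Sp hub corollaries: the row `Sp_4(q)`, `q` odd (helper5)

`cases4odd` = the verbatim conclusion of the frozen S5787 from the fact that a maximal subgroup is itself a member of the
symplectic class or residual.  The two exceptions at `q = 3` are `Cfsg.H5.Sp43.e1` and `Cfsg.H5.Sp43.e2`.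
-/

set_option autoImplicit false
set_option linter.unusedSectionVars false
set_option linter.unusedVariables false

namespace Cfsg.H5.Sp43

open Matrix Module Cfsg Cfsg.Geo

variable {F : Type*} [Field F] [Fintype F]

/-- S5787 (`Sp_4(q)`, `q` odd) from membership -/
theorem cases4odd (hodd : Odd (Fintype.card F))
    (H : Subgroup (Matrix.GeneralLinearGroup (Fin 2 ⊕ Fin 2) F))
    (hH : Cfsg.Geo.IsMaximalIn (Cfsg.spGL 2 F) H)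
    (hmem : InSymplecticClass 2 F H ∨ InSymplecticResidualClass H) :
    (∃ W : Submodule F (Fin 2 ⊕ Fin 2 → F), W ≠ ⊥ ∧ Cfsg.Geo.IsTotallySingularFor (Cfsg.sympForm 2 F) W ∧ H = Cfsg.Geo.subspaceStabilizer W ⊓ Cfsg.spGL 2 F) ∨
    (∃ D : Fin 2 → Submodule F (Fin 2 ⊕ Fin 2 → F), Cfsg.Geo.IsNondegenerateMDecomposition (Cfsg.sympForm 2 F) 2 D ∧ H = Cfsg.Geo.decompositionStabilizer D ⊓ Cfsg.spGL 2 F) ∨
    (5 ≤ Fintype.card F ∧ ∃ D : Fin 2 → Submodule F (Fin 2 ⊕ Fin 2 → F), Cfsg.Geo.IsMDecomposition 2 D ∧ (∀ i, Cfsg.Geo.IsTotallySingularFor (Cfsg.sympForm 2 F) (D i)) ∧ H = Cfsg.Geo.decompositionStabilizer D ⊓ Cfsg.spGL 2 F) ∨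
    (∃ K : Subalgebra F (Matrix (Fin 2 ⊕ Fin 2) (Fin 2 ⊕ Fin 2) F), Cfsg.Geo.IsFieldSubalgebra 2 K ∧ Cfsg.Geo.IsSelfAdjointFor (Cfsg.sympForm 2 F) K ∧ (∀ k ∈ K, ∀ v : (Fin 2 ⊕ Fin 2 → F), (Cfsg.sympForm 2 F) (Matrix.mulVec k v) v = 0) ∧ H = Cfsg.Geo.subalgebraNormalizer K ⊓ Cfsg.spGL 2 F) ∨
    (5 ≤ Fintype.card F ∧ ∃ K : Subalgebra F (Matrix (Fin 2 ⊕ Fin 2) (Fin 2 ⊕ Fin 2) F), Cfsg.Geo.IsFieldSubalgebra 2 K ∧ Cfsg.Geo.IsAdjointClosedFor (Cfsg.sympForm 2 F) K ∧ ¬ Cfsg.Geo.IsSelfAdjointFor (Cfsg.sympForm 2 F) K ∧ H = Cfsg.Geo.subalgebraNormalizer K ⊓ Cfsg.spGL 2 F) ∨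
    (∃ (F₀ : Subfield F) (r : ℕ) (P : Matrix.GeneralLinearGroup (Fin 2 ⊕ Fin 2) F) (ζ : F), r.Prime ∧ Fintype.card F = Nat.card F₀ ^ r ∧ ζ ≠ 0 ∧ Cfsg.Geo.IsFormRationalStructure (Cfsg.sympForm 2 F) F₀ ζ P ∧ H = Cfsg.Geo.subfieldSubgroup F₀ P ⊓ Cfsg.spGL 2 F) ∨
    (∃ (p : ℕ) (R : Subgroup (Matrix.GeneralLinearGroup (Fin 2 ⊕ Fin 2) F)), p.Prime ∧ Fintype.card F = p ∧ Cfsg.Geo.IsSymplecticTypeGroup 2 R ∧ Cfsg.Geo.ActsAbsolutelyIrreducibly (Cfsg.Geo.matrixSet R) ∧ R ≤ Cfsg.Geo.similarityGroup (Cfsg.sympForm 2 F) ∧ Nat.card R = 32 ∧ Nat.card (Subgroup.center R) = 2 ∧ Cfsg.Geo.IsOfMinusType 2 R ∧ H = Cfsg.Geo.subgroupNormalizer R ⊓ Cfsg.spGL 2 F) ∨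
    Cfsg.Geo.InSymplecticResidualClass H := by
  rcases hmem with hM | hres
  swap
  · exact Or.inr (Or.inr (Or.inr (Or.inr (Or.inr (Or.inr (Or.inr hres))))))
  rcases hM with (⟨W, h0, hW, hMe⟩ | ⟨W, h0, hW, hlt, hMe⟩ | ⟨t, k, D, hD, hMe⟩ | ⟨D, hodd', hD, hts, hMe⟩ |
      ⟨F₀, r, P, ζ, hr, hcard, hζ, hP, hMe⟩ | ⟨R, p, k, hR, hirr, hsim, hp, hpo, hFp, hRc, hcen, hmin, hMe⟩ |
      ⟨Q, heven', hQ, hpol, hMe⟩) | ⟨r, K, hr, hK, hsa, halt, hMe⟩ | ⟨K, hodd', hK, hac, hnsa, hMe⟩ |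
      ⟨n₁, n₂, e, P, f₁, f₂, hodd', hn₂, hf₁, hf₂, hT, hMe⟩ | ⟨k, t, e, P, f₁, hodd', hto, ht, hex, hf₁, hT, hMe⟩
  · exact Or.inl ⟨W, h0, hW, hMe⟩
  · exfalso
    have := Cfsg.H5.SpCor.two_le_finrank_of_nondegenerateOn W h0 hW
    omega
  · obtain ⟨rfl, rfl⟩ := Cfsg.H5.SpCor.dec4_arith D hD
    exact Or.inr (Or.inl ⟨D, hD, hMe⟩)
  · by_cases h5 : 5 ≤ Fintype.card F
    · exact Or.inr (Or.inr (Or.inl ⟨h5, D, hD, hts, hMe⟩))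
    · exfalso
      have hq3 := Cfsg.Agent.Lib.Helper27.SpCorMain.card_eq_three_of_odd_lt_five hodd h5
      exact e1 hq3 D hD hts H hMe hH
  · exact Or.inr (Or.inr (Or.inr (Or.inr (Or.inr (Or.inl ⟨F₀, r, P, ζ, hr, hcard, hζ, hP, hMe⟩)))))
  · have hk4 := Cfsg.Agent.Lib.Helper27.SpCorC6X.card_eq_pow_of_c6_exact R k hR hirr hodd hRc hcen
    have hk : k = 2 := by
      have : 2 ^ k = 2 ^ 2 := by omega
      exact Nat.pow_right_injective (le_refl 2) this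
    subst hk
    exact Or.inr (Or.inr (Or.inr (Or.inr (Or.inr (Or.inr (Or.inl
      ⟨p, R, hp, hFp, hR, hirr, hsim, by rw [hRc]; norm_num, hcen, hmin, hMe⟩))))))
  · exact absurd hodd heven'
  · obtain rfl := Cfsg.H5.SpCor.field4_arith hr K hK
    exact Or.inr (Or.inr (Or.inr (Or.inl ⟨K, hK, hsa, halt, hMe⟩)))
  · by_cases h5 : 5 ≤ Fintype.card F
    · exact Or.inr (Or.inr (Or.inr (Or.inr (Or.inl ⟨h5, K, hK, hac, hnsa, hMe⟩))))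
    · exfalso
      have hq3 := Cfsg.Agent.Lib.Helper27.SpCorMain.card_eq_three_of_odd_lt_five hodd h5
      exact e2 hq3 K hK hac hnsa H hMe hH
  · exfalso
    obtain ⟨h1, ⟨j, hj⟩⟩ := Cfsg.Agent.Lib.Helper27.SpCorMain.tens_arith e f₁ hf₁
    have : j * n₂ = 2 := by nlinarith
    have hj1 : j ≤ 2 := Nat.le_of_dvd (by norm_num) ⟨n₂, this.symm⟩
    interval_cases j <;> omega
  · exfalso
    have hc := Fintype.card_congr e
    rw [Fintype.card_sum, Fintype.card_fin, Fintype.card_fun, Fintype.card_fin, Fintype.card_fin] at hc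
    have hk : 2 ≤ k := by
      rcases Nat.lt_or_ge k 2 with h | h
      · interval_cases k
        · rw [zero_pow (by omega)] at hc
          omega
        · rw [one_pow] at hc
          omega
      · exact h
    have h8 : 2 ^ 3 ≤ k ^ t :=
      (Nat.pow_le_pow_left hk 3).trans (Nat.pow_le_pow_right (by omega) ht)
    omega

end Cfsg.H5.Sp43
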