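import Mathlib
import Cfsg.Prelude.Def_GeometricClasses
import Cfsg.Agent.Lib.Helper13.SpMax
import Cfsg.Agent.H5.SpCorA

/-!
# Corollaries of the symplectic hub S5662: generic pieces, part C  (helper5)

* `entries_mem_of_mem_subfieldSubgroup` (any index type, reusable for the unitary and orthogonal families): an element
  `g` of a subfield group `subfieldSubgroup F₀ P` with `(g - 1)^2 = 0` has `P⁻¹ g P` with entries in `F₀`
  (no normality of the ambient classical group is needed).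
* `not_sp_le_subfieldSubgroup` (SpG-b5).
-/

set_option autoImplicit false
set_option linter.unusedSectionVars false
set_option linter.unusedVariables false

namespace Cfsg.H5.SpCor

open Cfsg Cfsg.Geo Matrix
open Cfsg.Agent.Lib.Helper13 (sympTransvGL sympTransvGL_mulVec sympTransvGL_mem)
open Cfsg.Agent.Lib.Helper6 (sympForm_add_left sympForm_add_right sympForm_smul_left sympForm_smul_right
  sympForm_self sympForm_swap sympForm_zero_left sympForm_zero_right matrix_ext_mulVec)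
open scoped MatrixGroups

section generic
variable {F : Type*} [Field F] {ι : Type} [Fintype ι] [DecidableEq ι]

/-- in a finite subfield of characteristic two, square roots stay in the subfield -/
theorem mem_of_sq_mem_of_two_eq_zero [Finite F] (F₀ : Subfield F) (h2 : (2 : F) = 0) (μ : F)
    (hμ : μ * μ ∈ F₀) : μ ∈ F₀ := by
  have hinj : Function.Injective (fun x : F₀ => x * x) := by
    intro x y hxy
    have h1 : (x : F) * x = y * y := congrArg Subtype.val hxy
    have h3 : ((x : F) - y) * ((x : F) - y) = 0 := by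
      have : ((x : F) - y) * ((x : F) - y) = (x : F) * x - 2 * ((x : F) * y) + y * y := by ring
      rw [this, h2, h1]; ring_nf
      rw [h2]; ring
    have := mul_self_eq_zero.mp h3
    exact Subtype.ext (sub_eq_zero.mp this)
  have hsurj := Finite.injective_iff_surjective.mp hinj
  obtain ⟨ν, hν⟩ := hsurj ⟨μ * μ, hμ⟩
  have h1 : (ν : F) * ν = μ * μ := congrArg Subtype.val hν
  have h3 : ((ν : F) - μ) * ((ν : F) - μ) = 0 := by
    have : ((ν : F) - μ) * ((ν : F) - μ) = (ν : F) * ν - 2 * ((ν : F) * μ) + μ * μ := by ring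
    rw [this, h2, h1]; ring_nf
    rw [h2]; ring
  have h4 := sub_eq_zero.mp (mul_self_eq_zero.mp h3)
  rw [← h4]
  exact ν.2

/-- the key descent: a matrix `A` over `F₀`, not equal to `μ • 1`, with `(A - μ)^2 = 0` has `μ ∈ F₀` -/
theorem mem_of_sub_smul_sq_eq_zero [Finite F] (F₀ : Subfield F) (A : Matrix ι ι F)
    (hA : ∀ i j, A i j ∈ F₀) (μ : F) (hne : A ≠ μ • (1 : Matrix ι ι F))
    (hsq : (A - μ • (1 : Matrix ι ι F)) * (A - μ • (1 : Matrix ι ι F)) = 0) : μ ∈ F₀ := by
  have hAA : ∀ i j, (A * A) i j ∈ F₀ := by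
    intro i j
    rw [Matrix.mul_apply]
    exact F₀.sum_mem fun k _ => F₀.mul_mem (hA i k) (hA k j)
  have hexp : ∀ i j, (A * A) i j - 2 * μ * A i j + μ * μ * (1 : Matrix ι ι F) i j = 0 := by
    intro i j
    have h := congrFun (congrFun hsq i) j
    have e : (A - μ • (1 : Matrix ι ι F)) * (A - μ • (1 : Matrix ι ι F)) =
        A * A - (2 * μ) • A + (μ * μ) • (1 : Matrix ι ι F) := by
      rw [sub_mul, mul_sub, mul_sub, Matrix.smul_mul, Matrix.mul_smul, Matrix.smul_mul, Matrix.mul_smul,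
        Matrix.one_mul, Matrix.mul_one, Matrix.one_mul, smul_smul, two_mul, add_smul]
      abel
    rw [e] at h
    simpa [Matrix.add_apply, Matrix.sub_apply, Matrix.smul_apply] using h
  -- an off-diagonal non-zero entry
  have hoff : ∃ i j, i ≠ j ∧ A i j ≠ 0 := by
    by_contra hcon
    push Not at hcon
    apply hne
    ext i j
    rw [Matrix.smul_apply, Matrix.one_apply, smul_eq_mul]
    by_cases hij : i = j
    · subst hij
      rw [if_pos rfl, mul_one]
      have h1 := hexp i i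
      rw [Matrix.one_apply_eq, mul_one, Matrix.mul_apply, Finset.sum_eq_single i] at h1
      · have h3 : (A i i - μ) * (A i i - μ) = 0 := by linear_combination h1
        exact sub_eq_zero.mp (mul_self_eq_zero.mp h3)
      · intro k _ hk
        rw [hcon i k (Ne.symm hk), zero_mul]
      · intro h; exact absurd (Finset.mem_univ i) h
    · rw [if_neg hij, mul_zero]
      exact hcon i j hij
  obtain ⟨i, j, hij, hAij⟩ := hoff
  have h2μ : 2 * μ ∈ F₀ := by
    have h1 := hexp i j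
    rw [Matrix.one_apply_ne hij, mul_zero, add_zero] at h1
    have : 2 * μ = (A * A) i j * (A i j)⁻¹ := by
      field_simp
      linear_combination -h1
    rw [this]
    exact F₀.mul_mem (hAA i j) (F₀.inv_mem (hA i j))
  have hμμ : μ * μ ∈ F₀ := by
    have h1 := hexp i i
    rw [Matrix.one_apply_eq, mul_one] at h1
    have : μ * μ = 2 * μ * A i i - (A * A) i i := by linear_combination h1
    rw [this]
    exact F₀.sub_mem (F₀.mul_mem h2μ (hA i i)) (hAA i i)
  by_cases h2 : (2 : F) = 0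
  · exact mem_of_sq_mem_of_two_eq_zero F₀ h2 μ hμμ
  · have : μ = (2 * μ) * (2 : F)⁻¹ := by field_simp
    rw [this]
    have h2mem : (2 : F) ∈ F₀ := by
      have : (2 : F) = 1 + 1 := by norm_num
      rw [this]; exact F₀.add_mem F₀.one_mem F₀.one_mem
    exact F₀.mul_mem h2μ (F₀.inv_mem h2mem)

/-- an element `g` of a subfield group with `(g - 1)^2 = 0`: the matrix `P⁻¹ g P` has entries in `F₀` -/
theorem entries_mem_of_mem_subfieldSubgroup [Finite F] (F₀ : Subfield F) (P g : GL ι F)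
    (hg : g ∈ subfieldSubgroup F₀ P)
    (hsq : ((g : Matrix ι ι F) - 1) * ((g : Matrix ι ι F) - 1) = 0) :
    ∀ i j, ((P⁻¹ * g * P : GL ι F) : Matrix ι ι F) i j ∈ F₀ := by
  unfold subfieldSubgroup at hg
  rw [Subgroup.mem_map] at hg
  obtain ⟨x, hx, hxe⟩ := hg
  have hxg : P⁻¹ * g * P = x := by
    have h1 : P * x * P⁻¹ = g := hxe
    rw [← h1]; group
  rw [hxg]
  rw [Subgroup.mem_sup_of_normal_right] at hx
  obtain ⟨y, ⟨y₀, rfl⟩, z, hz, hyz⟩ := hx
  rw [mem_scalars_iff] at hz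
  obtain ⟨lam, hlam⟩ := hz
  set A : Matrix ι ι F :=
    ((Matrix.GeneralLinearGroup.map (F₀.subtype : F₀ →+* F) y₀ : GL ι F) : Matrix ι ι F) with hA
  have hAent : ∀ i j, A i j ∈ F₀ := by
    intro i j
    have : A i j = ((y₀ : Matrix ι ι F₀) i j : F) := rfl
    rw [this]; exact SetLike.coe_mem _
  have hxval : (x : Matrix ι ι F) = (lam : F) • A := by
    rw [← hyz, Units.val_mul, hlam, Matrix.mul_smul, Matrix.mul_one]
  -- `(x - 1)^2 = 0`
  have hxsq : ((x : Matrix ι ι F) - 1) * ((x : Matrix ι ι F) - 1) = 0 := by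
    have e1 : (x : Matrix ι ι F) - 1 =
        ((P⁻¹ : GL ι F) : Matrix ι ι F) * ((g : Matrix ι ι F) - 1) * (P : Matrix ι ι F) := by
      have e0 : ((P⁻¹ : GL ι F) : Matrix ι ι F) * (P : Matrix ι ι F) = 1 := by
        rw [← Units.val_mul, inv_mul_cancel, Units.val_one]
      rw [← hxg, Units.val_mul, Units.val_mul, mul_sub, sub_mul, mul_one, e0]
    have e2 : (P : Matrix ι ι F) * ((P⁻¹ : GL ι F) : Matrix ι ι F) = 1 := by
      rw [← Units.val_mul, mul_inv_cancel, Units.val_one]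
    rw [e1]
    calc ((P⁻¹ : GL ι F) : Matrix ι ι F) * ((g : Matrix ι ι F) - 1) * (P : Matrix ι ι F) *
          (((P⁻¹ : GL ι F) : Matrix ι ι F) * ((g : Matrix ι ι F) - 1) * (P : Matrix ι ι F))
        = ((P⁻¹ : GL ι F) : Matrix ι ι F) * ((g : Matrix ι ι F) - 1) *
            ((P : Matrix ι ι F) * ((P⁻¹ : GL ι F) : Matrix ι ι F)) * ((g : Matrix ι ι F) - 1) *
            (P : Matrix ι ι F) := by simp only [mul_assoc]
      _ = ((P⁻¹ : GL ι F) : Matrix ι ι F) * (((g : Matrix ι ι F) - 1) * ((g : Matrix ι ι F) - 1)) *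
            (P : Matrix ι ι F) := by rw [e2, mul_one]; simp only [mul_assoc]
      _ = 0 := by rw [hsq, mul_zero, zero_mul]
  set μ : F := (lam : F)⁻¹ with hμ
  have hlam0 : (lam : F) ≠ 0 := lam.ne_zero
  have hAx : A = μ • (x : Matrix ι ι F) := by
    rw [hxval, smul_smul, hμ, inv_mul_cancel₀ hlam0, one_smul]
  by_cases hne : A = μ • (1 : Matrix ι ι F)
  · -- then `x = 1`
    have hx1 : (x : Matrix ι ι F) = 1 := by
      rw [hxval, hne, smul_smul, hμ, mul_inv_cancel₀ hlam0, one_smul]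
    intro i j
    rw [hx1, Matrix.one_apply]
    split_ifs
    · exact F₀.one_mem
    · exact F₀.zero_mem
  · have hsqA : (A - μ • (1 : Matrix ι ι F)) * (A - μ • (1 : Matrix ι ι F)) = 0 := by
      have : A - μ • (1 : Matrix ι ι F) = μ • ((x : Matrix ι ι F) - 1) := by
        rw [hAx, smul_sub]
      rw [this, Matrix.smul_mul, Matrix.mul_smul, hxsq, smul_zero, smul_zero]
    have hμmem := mem_of_sub_smul_sq_eq_zero F₀ A hAent μ hne hsqA
    have hlammem : (lam : F) ∈ F₀ := by
      have : (lam : F) = μ⁻¹ := by rw [hμ, inv_inv]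
      rw [this]; exact F₀.inv_mem hμmem
    intro i j
    rw [hxval, Matrix.smul_apply, smul_eq_mul]
    exact F₀.mul_mem hlammem (hAent i j)

end generic

variable {F : Type*} [Field F] {m : ℕ}

local notation "ff" => Cfsg.sympForm m F

theorem transv_sub_one_mulVec (a : Fin m ⊕ Fin m → F) (c : F) (v : Fin m ⊕ Fin m → F) :
    (((sympTransvGL a c : GL (Fin m ⊕ Fin m) F) : Matrix (Fin m ⊕ Fin m) (Fin m ⊕ Fin m) F) - 1) *ᵥ v =
      (c * ff v a) • a := by
  rw [Matrix.sub_mulVec, Matrix.one_mulVec, sympTransvGL_mulVec, add_sub_cancel_left]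

theorem transv_sub_one_sq (a : Fin m ⊕ Fin m → F) (c : F) :
    (((sympTransvGL a c : GL (Fin m ⊕ Fin m) F) : Matrix (Fin m ⊕ Fin m) (Fin m ⊕ Fin m) F) - 1) *
      (((sympTransvGL a c : GL (Fin m ⊕ Fin m) F) : Matrix (Fin m ⊕ Fin m) (Fin m ⊕ Fin m) F) - 1) = 0 := by
  apply matrix_ext_mulVec
  intro v
  rw [← Matrix.mulVec_mulVec, transv_sub_one_mulVec a c v, Matrix.mulVec_smul, transv_sub_one_mulVec a c a,
    sympForm_self, mul_zero, zero_smul, smul_zero, Matrix.zero_mulVec]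

theorem transv_sub_one_smul (a : Fin m ⊕ Fin m → F) (c : F) :
    ((sympTransvGL a c : GL (Fin m ⊕ Fin m) F) : Matrix (Fin m ⊕ Fin m) (Fin m ⊕ Fin m) F) - 1 =
      c • (((sympTransvGL a 1 : GL (Fin m ⊕ Fin m) F) : Matrix (Fin m ⊕ Fin m) (Fin m ⊕ Fin m) F) - 1) := by
  apply matrix_ext_mulVec
  intro v
  rw [transv_sub_one_mulVec, Matrix.smul_mulVec, transv_sub_one_mulVec, one_mul, mul_smul]

/-- (SpG-b5) `Sp` lies in no subfield group of a proper subfield -/
theorem not_sp_le_subfieldSubgroup [Finite F] (hm : 1 ≤ m) (F₀ : Subfield F) (h : F₀ ≠ ⊤)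
    (P : GL (Fin m ⊕ Fin m) F) : ¬ Cfsg.spGL m F ≤ subfieldSubgroup F₀ P := by
  intro hle
  set a : Fin m ⊕ Fin m → F := Pi.single (Sum.inl ⟨0, by omega⟩) 1 with ha
  have ha0 : a ≠ 0 := by
    intro h0
    have := congrFun h0 (Sum.inl ⟨0, by omega⟩)
    rw [ha, Pi.single_eq_same] at this
    exact one_ne_zero this
  set T : F → Matrix (Fin m ⊕ Fin m) (Fin m ⊕ Fin m) F := fun c =>
    ((sympTransvGL a c : GL (Fin m ⊕ Fin m) F) : Matrix (Fin m ⊕ Fin m) (Fin m ⊕ Fin m) F) with hT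
  set Pi' : Matrix (Fin m ⊕ Fin m) (Fin m ⊕ Fin m) F := ((P⁻¹ : GL (Fin m ⊕ Fin m) F) : Matrix (Fin m ⊕ Fin m) (Fin m ⊕ Fin m) F) with hPi
  set Pm : Matrix (Fin m ⊕ Fin m) (Fin m ⊕ Fin m) F := (P : Matrix (Fin m ⊕ Fin m) (Fin m ⊕ Fin m) F) with hPm
  have hent : ∀ c i j, (Pi' * T c * Pm) i j ∈ F₀ := by
    intro c i j
    have := entries_mem_of_mem_subfieldSubgroup F₀ P (sympTransvGL a c)
      (hle (sympTransvGL_mem (m := m) (F := F) a c)) (transv_sub_one_sq a c) i j
    rwa [Units.val_mul, Units.val_mul] at this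
  have hPP : Pi' * Pm = 1 := by rw [hPi, hPm, ← Units.val_mul, inv_mul_cancel, Units.val_one]
  set N : Matrix (Fin m ⊕ Fin m) (Fin m ⊕ Fin m) F := Pi' * (T 1 - 1) * Pm with hN
  have hcN : ∀ c i j, c * N i j ∈ F₀ := by
    intro c i j
    have e : c • N = Pi' * T c * Pm - 1 := by
      rw [hN, ← Matrix.smul_mul, ← Matrix.mul_smul, ← transv_sub_one_smul, mul_sub, sub_mul, mul_one, hPP]
    have h1 : (c • N) i j = (Pi' * T c * Pm) i j - (1 : Matrix (Fin m ⊕ Fin m) (Fin m ⊕ Fin m) F) i j := by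
      rw [e, Matrix.sub_apply]
    rw [Matrix.smul_apply, smul_eq_mul] at h1
    rw [h1]
    apply F₀.sub_mem (hent c i j)
    rw [Matrix.one_apply]
    split_ifs
    · exact F₀.one_mem
    · exact F₀.zero_mem
  have hN0 : N ≠ 0 := by
    intro h0
    have hPP' : Pm * Pi' = 1 := by rw [hPi, hPm, ← Units.val_mul, mul_inv_cancel, Units.val_one]
    have h1 : T 1 - 1 = 0 := by
      have : T 1 - 1 = Pm * N * Pi' := by
        rw [hN]
        calc T 1 - 1 = (Pm * Pi') * (T 1 - 1) * (Pm * Pi') := by rw [hPP', one_mul, mul_one]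
          _ = Pm * (Pi' * (T 1 - 1) * Pm) * Pi' := by simp only [mul_assoc]
      rw [this, h0, mul_zero, zero_mul]
    obtain ⟨v, hv⟩ : ∃ v, ff v a ≠ 0 := by
      by_contra hcon
      push Not at hcon
      exact ha0 (eq_zero_of_forall_left a hcon)
    have h2 := transv_sub_one_mulVec a 1 v
    rw [show ((sympTransvGL a 1 : GL (Fin m ⊕ Fin m) F) : Matrix (Fin m ⊕ Fin m) (Fin m ⊕ Fin m) F) = T 1
      from rfl, h1, Matrix.zero_mulVec, one_mul] at h2
    exact (smul_ne_zero hv ha0) h2.symm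
  obtain ⟨i, j, hij⟩ : ∃ i j, N i j ≠ 0 := by
    by_contra hcon
    push Not at hcon
    exact hN0 (by ext i j; exact hcon i j)
  apply h
  rw [eq_top_iff]
  intro y _
  have := hcN (y * (N i j)⁻¹) i j
  rwa [mul_assoc, inv_mul_cancel₀ hij, mul_one] at this

theorem ne_top_of_card_eq_pow [Fintype F] (F₀ : Subfield F) (r : ℕ) (hr : r.Prime)
    (hcard : Fintype.card F = Nat.card F₀ ^ r) : F₀ ≠ ⊤ := by
  rintro rfl
  have h1 : Nat.card (⊤ : Subfield F) = Fintype.card F := by
    rw [← Nat.card_eq_fintype_card]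
    exact Nat.card_congr (Subfield.topEquiv (K := F)).toEquiv
  rw [h1] at hcard
  have h2 : 1 < Fintype.card F := Fintype.one_lt_card
  have h3 : Fintype.card F ^ 1 < Fintype.card F ^ r := Nat.pow_lt_pow_right h2 hr.one_lt
  rw [pow_one] at h3
  omega

/-- helper27's exact signature of `P3` -/
theorem not_sp_le_subfieldSubgroup_of_card [Fintype F] (hm : 1 ≤ m) (F₀ : Subfield F) (r : ℕ)
    (P : GL (Fin m ⊕ Fin m) F) (ζ : F) (hr : r.Prime) (hcard : Fintype.card F = Nat.card F₀ ^ r) (hζ : ζ ≠ 0)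
    (hP : IsFormRationalStructure ff F₀ ζ P) : ¬ Cfsg.spGL m F ≤ subfieldSubgroup F₀ P :=
  not_sp_le_subfieldSubgroup hm F₀ (ne_top_of_card_eq_pow F₀ r hr hcard) P

end Cfsg.H5.SpCor
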