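import Mathlib
import Cfsg.Prelude.Def_KGroupFacts

/-!
# Stem extensions: generation by lifts and canonical lifts of perfect subgroups with trivial
multiplier (helper5)
-/

set_option autoImplicit false
set_option linter.unusedVariables false
set_option linter.unusedSectionVars false

namespace Cfsg.H5.StemLift

open Cfsg
open scoped commutatorElement

universe u v

section Basic

variable {Γ : Type u} {G : Type v} [Group Γ] [Group G]

theorem comm_mul_central_left {z : Γ} (hz : z ∈ Subgroup.center Γ) (a b : Γ) :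
    ⁅a * z, b⁆ = ⁅a, b⁆ := by
  have hzb : z * b = b * z := (Subgroup.mem_center_iff.mp hz b).symm
  rw [commutatorElement_def, commutatorElement_def, mul_inv_rev]
  calc a * z * b * (z⁻¹ * a⁻¹) * b⁻¹ = a * (z * b) * (z⁻¹ * a⁻¹) * b⁻¹ := by group
    _ = a * (b * z) * (z⁻¹ * a⁻¹) * b⁻¹ := by rw [hzb]
    _ = a * b * a⁻¹ * b⁻¹ := by group

theorem comm_mul_central_right {z : Γ} (hz : z ∈ Subgroup.center Γ) (a b : Γ) :
    ⁅a, b * z⁆ = ⁅a, b⁆ := by
  rw [← commutatorElement_inv, comm_mul_central_left hz, commutatorElement_inv]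

theorem comm_central_mul {z₁ z₂ : Γ} (hz₁ : z₁ ∈ Subgroup.center Γ)
    (hz₂ : z₂ ∈ Subgroup.center Γ) (m₁ m₂ : Γ) : ⁅m₁ * z₁, m₂ * z₂⁆ = ⁅m₁, m₂⁆ := by
  rw [comm_mul_central_left hz₁, comm_mul_central_right hz₂]

variable (σ : Γ →* G)

/-- if `M` maps onto a subgroup `H`, then every element over `H` is an element of `M` times a
kernel element -/
theorem exists_mul_ker (M : Subgroup Γ) (x : Γ) (hx : σ x ∈ M.map σ) :
    ∃ m ∈ M, ∃ z ∈ σ.ker, x = m * z := by
  obtain ⟨m, hm, hmx⟩ := hx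
  refine ⟨m, hm, m⁻¹ * x, ?_, by group⟩
  rw [MonoidHom.mem_ker, map_mul, map_inv, hmx, inv_mul_cancel]

/-- commutators of elements over `M.map σ` lie in `⁅M, M⁆` when the kernel is central -/
theorem comm_mem_of_map (hc : σ.ker ≤ Subgroup.center Γ) (M : Subgroup Γ) (x y : Γ)
    (hx : σ x ∈ M.map σ) (hy : σ y ∈ M.map σ) : ⁅x, y⁆ ∈ ⁅M, M⁆ := by
  obtain ⟨m₁, hm₁, z₁, hz₁, rfl⟩ := exists_mul_ker σ M x hx
  obtain ⟨m₂, hm₂, z₂, hz₂, rfl⟩ := exists_mul_ker σ M y hy
  rw [comm_central_mul (hc hz₁) (hc hz₂)]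
  exact Subgroup.commutator_mem_commutator hm₁ hm₂

/-- **Generation by lifts**: in a stem extension a subgroup mapping onto the base is everything. -/
theorem eq_top_of_map_eq_top (hσ : IsStemExtension σ) (M : Subgroup Γ) (hM : M.map σ = ⊤) :
    M = ⊤ := by
  obtain ⟨hsurj, hcen, hcom⟩ := hσ
  have hall : ∀ x : Γ, σ x ∈ M.map σ := fun x => by rw [hM]; trivial
  have h1 : commutator Γ ≤ M := by
    rw [commutator_def, Subgroup.commutator_le]
    intro x _ y _
    have := comm_mem_of_map σ hcen M x y (hall x) (hall y)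
    exact (Subgroup.commutator_le_self M) this |> fun h => h
  rw [eq_top_iff]
  intro x _
  obtain ⟨m, hm, z, hz, rfl⟩ := exists_mul_ker σ M x (hall x)
  exact M.mul_mem hm (h1 (hcom hz))

end Basic

section Lift

variable {Γ : Type u} {G : Type u} [Group Γ] [Group G] (σ : Γ →* G) (H : Subgroup G)

/-- the canonical lift of a perfect subgroup: the commutator subgroup of its full preimage -/
def liftSub : Subgroup Γ := ⁅H.comap σ, H.comap σ⁆

theorem map_liftSub (hsurj : Function.Surjective σ) (hperf : H ≤ ⁅H, H⁆) :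
    (liftSub σ H).map σ = H := by
  unfold liftSub
  rw [Subgroup.map_commutator, Subgroup.map_comap_eq_self_of_surjective hsurj]
  exact le_antisymm (Subgroup.commutator_le_self H) hperf

theorem liftSub_perfect (hσ : IsStemExtension σ) (hperf : H ≤ ⁅H, H⁆) :
    liftSub σ H ≤ ⁅liftSub σ H, liftSub σ H⁆ := by
  have hmap := map_liftSub σ H hσ.1 hperf
  conv_lhs => unfold liftSub
  rw [Subgroup.commutator_le]
  intro x hx y hy
  apply comm_mem_of_map σ hσ.2.1
  · rw [hmap]; exact hx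
  · rw [hmap]; exact hy

/-- the restriction of `σ` to the canonical lift, as a map onto `H` -/
def liftHom (hsurj : Function.Surjective σ) (hperf : H ≤ ⁅H, H⁆) : ↥(liftSub σ H) →* ↥H where
  toFun x := ⟨σ x.1, by
    have : σ x.1 ∈ (liftSub σ H).map σ := Subgroup.mem_map_of_mem σ x.2
    rwa [map_liftSub σ H hsurj hperf] at this⟩
  map_one' := by apply Subtype.ext; simp
  map_mul' a b := by apply Subtype.ext; simp

theorem liftHom_stem (hσ : IsStemExtension σ) (hperf : H ≤ ⁅H, H⁆) :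
    IsStemExtension (liftHom σ H hσ.1 hperf) := by
  refine ⟨?_, ?_, ?_⟩
  · rintro ⟨h, hh⟩
    have : h ∈ (liftSub σ H).map σ := by rw [map_liftSub σ H hσ.1 hperf]; exact hh
    obtain ⟨x, hx, rfl⟩ := this
    exact ⟨⟨x, hx⟩, rfl⟩
  · intro x hx
    rw [MonoidHom.mem_ker] at hx
    have h1 : σ x.1 = 1 := congrArg Subtype.val hx
    have h2 : x.1 ∈ Subgroup.center Γ := hσ.2.1 (MonoidHom.mem_ker.mpr h1)
    rw [Subgroup.mem_center_iff] at h2 ⊢
    intro g
    apply Subtype.ext
    exact h2 g.1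
  · intro x _
    have h1 : x.1 ∈ ⁅liftSub σ H, liftSub σ H⁆ := liftSub_perfect σ H hσ hperf x.2
    rw [← Subgroup.map_subtype_commutator] at h1
    obtain ⟨y, hy, hyx⟩ := h1
    have : y = x := Subtype.ext hyx
    rw [← this]; exact hy

/-- if `H` is perfect with trivial multiplier then `σ` is injective on the canonical lift -/
theorem liftSub_inj (hσ : IsStemExtension σ) (hperf : H ≤ ⁅H, H⁆)
    (hH : (liftHom σ H hσ.1 hperf).ker = ⊥) :
    ∀ x ∈ liftSub σ H, σ x = 1 → x = 1 := by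
  intro x hx h1
  have : (⟨x, hx⟩ : liftSub σ H) ∈ (liftHom σ H hσ.1 hperf).ker := by
    rw [MonoidHom.mem_ker]; apply Subtype.ext; exact h1
  rw [hH, Subgroup.mem_bot] at this
  exact congrArg Subtype.val this

theorem card_liftSub [Finite Γ] (hσ : IsStemExtension σ) (hperf : H ≤ ⁅H, H⁆)
    (hH : (liftHom σ H hσ.1 hperf).ker = ⊥) : Nat.card (liftSub σ H) = Nat.card H := by
  apply Nat.card_congr
  apply Equiv.ofBijective (liftHom σ H hσ.1 hperf)
  exact ⟨(MonoidHom.ker_eq_bot_iff _).mp hH, (liftHom_stem σ H hσ hperf).1⟩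

theorem exists_lift (hsurj : Function.Surjective σ) (hperf : H ≤ ⁅H, H⁆) (h : G) (hh : h ∈ H) :
    ∃ x ∈ liftSub σ H, σ x = h := by
  have : h ∈ (liftSub σ H).map σ := by rw [map_liftSub σ H hsurj hperf]; exact hh
  obtain ⟨x, hx, rfl⟩ := this
  exact ⟨x, hx, rfl⟩

end Lift

end Cfsg.H5.StemLift
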