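import Cfsg.Agent.H5.TCkSound
import Cfsg.Agent.H5.StemLift

/-!
# Bounding a stem extension by a coset enumeration over the canonical lift of a perfect subgroup
with trivial multiplier (helper5)
-/

set_option autoImplicit false
set_option linter.unusedVariables false
set_option linter.unusedSectionVars false

namespace Cfsg.H5.StemTC

open Cfsg Cfsg.H5.TCk Cfsg.H5.StemLift
open scoped commutatorElement

universe u

section Words

variable {Γ : Type*} {G : Type*} [Group Γ] [Group G]

theorem map_gl (σ : Γ →* G) (γ : ℕ → Γ) (l : ℕ) : σ (gl γ l) = gl (fun i => σ (γ i)) l := by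
  unfold gl
  split_ifs
  · rfl
  · rw [map_inv]

theorem map_ev (σ : Γ →* G) (γ : ℕ → Γ) (w : List ℕ) : σ (ev γ w) = ev (fun i => σ (γ i)) w := by
  induction w with
  | nil => simp [ev]
  | cons l w ih => simp only [ev, map_mul, ih, map_gl]

theorem gl_mem (γ : ℕ → Γ) (M : Subgroup Γ) (t : ℕ) (hM : ∀ i < t, γ i ∈ M) (l : ℕ)
    (hl : l < 2 * t) : gl γ l ∈ M := by
  unfold gl
  have : l / 2 < t := by omega
  split_ifs
  · exact hM _ this
  · exact M.inv_mem (hM _ this)

theorem ev_mem (γ : ℕ → Γ) (M : Subgroup Γ) (t : ℕ) (hM : ∀ i < t, γ i ∈ M) (w : List ℕ)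
    (hw : w.all (fun l => decide (l < 2 * t)) = true) : ev γ w ∈ M := by
  induction w with
  | nil => simp only [ev]; exact M.one_mem
  | cons l w ih =>
    rw [List.all_cons, Bool.and_eq_true] at hw
    simp only [ev]
    exact M.mul_mem (gl_mem γ M t hM l (of_decide_eq_true hw.1)) (ih hw.2)

/-- exponent sum of the generator `t` in a word -/
def esum (t : ℕ) : List ℕ → ℤ
  | [] => 0
  | l :: w => (if l / 2 = t then (if l % 2 = 0 then 1 else -1) else 0) + esum t w

theorem ev_update (γ : ℕ → Γ) (t : ℕ) (u : Γ) (hu : u ∈ Subgroup.center Γ) (w : List ℕ) :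
    ev (Function.update γ t (γ t * u)) w = ev γ w * u ^ esum t w := by
  have hc : ∀ g : Γ, g * u = u * g := fun g => Subgroup.mem_center_iff.mp hu g
  have hcz : ∀ (g : Γ) (n : ℤ), g * u ^ n = u ^ n * g := by
    intro g n
    have : Commute g u := hc g
    exact (this.zpow_right n)
  induction w with
  | nil => simp [ev, esum]
  | cons l w ih =>
    simp only [ev, esum, ih]
    have hgl : gl (Function.update γ t (γ t * u)) l =
        gl γ l * u ^ (if l / 2 = t then (if l % 2 = 0 then (1 : ℤ) else -1) else 0) := by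
      unfold gl
      by_cases h1 : l / 2 = t
      · by_cases h2 : l % 2 = 0
        · simp only [h1, h2, if_true, Function.update_self, zpow_one]
        · simp only [h1, h2, if_true, if_false, Function.update_self, zpow_neg, zpow_one,
            mul_inv_rev]
          have := hc (γ t)⁻¹
          have h3 : u⁻¹ * (γ t)⁻¹ = (γ t)⁻¹ * u⁻¹ := by
            have : Commute (γ t)⁻¹ u := hc _
            exact (this.inv_right).symm.eq
          exact h3
      · have h3 : Function.update γ t (γ t * u) (l / 2) = γ (l / 2) :=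
          Function.update_of_ne h1 _ _
        simp only [h1, if_false, zpow_zero, mul_one, h3]
    rw [hgl, zpow_add]
    set a := gl γ l
    set e1 := (if l / 2 = t then (if l % 2 = 0 then (1 : ℤ) else -1) else 0)
    calc a * u ^ e1 * (ev γ w * u ^ esum t w) = a * (u ^ e1 * ev γ w) * u ^ esum t w := by
          simp only [mul_assoc]
      _ = a * (ev γ w * u ^ e1) * u ^ esum t w := by rw [← hcz (ev γ w) e1]
      _ = a * ev γ w * (u ^ e1 * u ^ esum t w) := by simp only [mul_assoc]

/-- the commutator word of a word and a letter -/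
def cword (r : List ℕ) (g : ℕ) : List ℕ := r ++ [2 * g] ++ winv r ++ [2 * g + 1]

/-- all commutator words of the central relators with the generators -/
def cwords (cen : List (List ℕ)) (ng : ℕ) : List (List ℕ) :=
  cen.flatMap fun r => (List.range ng).map fun g => cword r g

theorem ev_cword (γ : ℕ → Γ) (r : List ℕ) (g : ℕ) (hr : ev γ r ∈ Subgroup.center Γ) :
    ev γ (cword r g) = 1 := by
  unfold cword
  rw [ev_append, ev_append, ev_append, ev_winv]
  simp only [ev, mul_one, gl_even, gl_odd]
  have := Subgroup.mem_center_iff.mp hr (γ g)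
  calc ev γ r * γ g * (ev γ r)⁻¹ * (γ g)⁻¹ = (γ g * ev γ r) * (ev γ r)⁻¹ * (γ g)⁻¹ := by
        rw [this]
    _ = 1 := by group

end Words

section Main

variable {Γ : Type u} {G : Type u} [Group Γ] [Group G]

/-- **Upper bound for a stem extension from a coset enumeration**: `H` a perfect subgroup of `G`
all of whose finite stem extensions are trivial, generators `γ 0, …, γ (t-1) ∈ H` and `γ t`;
relators in the `H`-letters, one relator `rho1` with exponent sum `1` in the last generator, and
relators `cen` used only through their commutators with the generators. -/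
theorem card_le_of_cert [Finite Γ] (σ : Γ →* G) (hσ : IsStemExtension σ) (H : Subgroup G)
    (hperf : H ≤ ⁅H, H⁆)
    (hH : ∀ (Λ : Type u) [Group Λ] [Finite Λ] (τ : Λ →* ↥H), IsStemExtension τ → τ.ker = ⊥)
    (γ : ℕ → G) (t : ℕ) (hγH : ∀ i < t, γ i ∈ H)
    (hgen : Subgroup.closure (Set.range fun i : Fin (t + 1) => γ i.val) = ⊤)
    (relsH : List (List ℕ))
    (hrelsH : ∀ r ∈ relsH, r.all (fun l => decide (l < 2 * t)) = true ∧ ev γ r = 1)
    (rho1 : List ℕ) (hrho1 : ev γ rho1 = 1) (hes : esum t rho1 = 1)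
    (cen : List (List ℕ)) (hcen : ∀ r ∈ cen, ev γ r = 1)
    (sgens : List (List ℕ)) (hsg : ∀ g ∈ sgens, g.all (fun l => decide (l < 2 * t)) = true)
    (D F ncos bound : ℕ) (defs : List (ℕ × ℕ)) (log : List ℕ)
    (hchk : check D F (2 * (t + 1)) ncos bound defs
      (relsH ++ [rho1] ++ cwords cen (t + 1)) sgens log = true) :
    Nat.card Γ ≤ bound * Nat.card H := by
  classical
  obtain ⟨hsurj, hcen', hcom⟩ := hσ
  have hσ' : IsStemExtension σ := ⟨hsurj, hcen', hcom⟩
  set L := liftSub σ H with hL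
  have hker : (liftHom σ H hsurj hperf).ker = ⊥ :=
    hH _ (liftHom σ H hsurj hperf) (liftHom_stem σ H hσ' hperf)
  have hinj := liftSub_inj σ H hσ' hperf hker
  -- first choice of lifts
  have hex : ∀ i : ℕ, ∃ x : Γ, σ x = γ i ∧ (i < t → x ∈ L) := by
    intro i
    by_cases hi : i < t
    · obtain ⟨x, hx, hxs⟩ := exists_lift σ H hsurj hperf (γ i) (hγH i hi)
      exact ⟨x, hxs, fun _ => hx⟩
    · obtain ⟨x, hx⟩ := hsurj (γ i)
      exact ⟨x, hx, fun h => absurd h hi⟩
  choose γ₀ hγ₀ hγ₀L using hex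
  -- correction of the last lift
  set u : Γ := (ev γ₀ rho1)⁻¹ with hu
  have hσ₀ : ∀ w, σ (ev γ₀ w) = ev γ w := by
    intro w
    rw [map_ev]
    congr 1
    funext i
    exact hγ₀ i
  have huker : u ∈ σ.ker := by
    rw [MonoidHom.mem_ker, hu, map_inv, hσ₀, hrho1, inv_one]
  have hucen : u ∈ Subgroup.center Γ := hcen' huker
  set γ₁ : ℕ → Γ := Function.update γ₀ t (γ₀ t * u) with hγ₁
  have hγ₁σ : ∀ i, σ (γ₁ i) = γ i := by
    intro i
    by_cases hi : i = t
    · subst hi
      rw [hγ₁, Function.update_self, map_mul, hγ₀, MonoidHom.mem_ker.mp huker, mul_one]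
    · rw [hγ₁, Function.update_of_ne hi, hγ₀]
  have hγ₁L : ∀ i < t, γ₁ i ∈ L := by
    intro i hi
    rw [hγ₁, Function.update_of_ne (by omega)]
    exact hγ₀L i hi
  have hσ₁ : ∀ w, σ (ev γ₁ w) = ev γ w := by
    intro w
    rw [map_ev]
    congr 1
    funext i
    exact hγ₁σ i
  -- the relators hold
  have hrel : ∀ r ∈ relsH ++ [rho1] ++ cwords cen (t + 1), ev γ₁ r = 1 := by
    intro r hr
    rw [List.mem_append, List.mem_append] at hr
    rcases hr with (hr | hr) | hr
    · obtain ⟨h1, h2⟩ := hrelsH r hr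
      apply hinj _ (ev_mem γ₁ L t hγ₁L r h1)
      rw [hσ₁, h2]
    · rw [List.mem_singleton] at hr
      subst hr
      rw [hγ₁, ev_update γ₀ t u hucen, hes, zpow_one, hu, mul_inv_cancel]
    · unfold cwords at hr
      rw [List.mem_flatMap] at hr
      obtain ⟨ρ, hρ, hr⟩ := hr
      rw [List.mem_map] at hr
      obtain ⟨g, _, rfl⟩ := hr
      apply ev_cword
      apply hcen'
      rw [MonoidHom.mem_ker, hσ₁, hcen ρ hρ]
  have hsgL : ∀ g ∈ sgens, ev γ₁ g ∈ L := fun g hg => ev_mem γ₁ L t hγ₁L g (hsg g hg)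
  have hgenΓ : Subgroup.closure (Set.range fun i : Fin (t + 1) => γ₁ i.val) = ⊤ := by
    apply eq_top_of_map_eq_top σ hσ'
    rw [MonoidHom.map_closure, ← hgen]
    congr 1
    ext x
    constructor
    · rintro ⟨_, ⟨i, rfl⟩, rfl⟩
      exact ⟨i, (hγ₁σ i.val).symm⟩
    · rintro ⟨i, rfl⟩
      exact ⟨γ₁ i.val, ⟨i, rfl⟩, hγ₁σ i.val⟩
  have hfinal := (tc_sound L γ₁ defs (relsH ++ [rho1] ++ cwords cen (t + 1)) sgens D F (t + 1)
    ncos bound log hrel hsgL hgenΓ hchk).2
  rw [card_liftSub σ H hσ' hperf hker] at hfinal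
  exact hfinal

end Main

end Cfsg.H5.StemTC
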