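import Mathlib
import Cfsg.Agent.Lib.Helper27.FusionFrobenius
import Cfsg.Agent.Lib.Helper27.FusionNormal
import Cfsg.Agent.Lib.Helper27.FusionSemidirect
import Cfsg.Agent.H26.Realized

set_option autoImplicit false

/-! General lemmas for the classification of metacyclic `p`-groups of supersoluble type:
* a saturated system in which `S` is normal and `Aut(S)` is a `p`-group is the inner system;
* in a realized system which is inner, elements fused by the realizing group are fused by `S`;
* Sylow subgroups from order computations. -/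

namespace Cfsg.H5.SupMeta

open Cfsg Cfsg.FusionSystem Cfsg.Agent.Lib.Helper27 Cfsg.Agent.H26

variable {Ω : Type*} [Group Ω] {S : Subgroup Ω}

/-- If `S` is normal in the saturated system `F` and `Aut(S)` is a `p`-group, then `F` is the inner
system. -/
theorem hom_eq_inner_of_isNormal_top [Finite S] {p : ℕ} [Fact p.Prime] (hS : IsPGroup p S)
    {F : FusionSystem S} (hF : F.IsSaturated p) (hN : F.IsNormal S)
    (hA : IsPGroup p (MulAut ↥S)) (P : Subgroup Ω) :
    F.Hom P = (innerFusionSystem S).Hom P := by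
  classical
  have hAS : IsPGroup p (F.autGroup S) := hA.to_subgroup _
  have key : ∀ R : Subgroup Ω, R ≤ S → IsPGroup p (F.autGroup R) := by
    intro R hRS a
    have : Finite R := Finite.of_injective (Subgroup.inclusion hRS) (Subgroup.inclusion_injective hRS)
    have hα : IsIso F (a.1 : R ≃* R) := (mem_autGroup_iff F hRS a.1).mp a.2
    obtain ⟨ψ, hψ, h1, β, hβ, h2⟩ := normal_exists_extension hN hα
    have hβA : (β : MulAut ↥S) ∈ F.autGroup S := (mem_autGroup_iff F le_rfl β).mpr hβ
    obtain ⟨k, hk⟩ := hAS ⟨β, hβA⟩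
    have hk' : (β : MulAut ↥S) ^ p ^ k = 1 := congrArg Subtype.val hk
    have hres : ∀ x : R, ((β ⟨x.1, hRS x.2⟩ : S) : Ω) = ((a.1 x : R) : Ω) := by
      intro x
      rw [h2]
      exact h1 x
    have hpow : ∀ n : ℕ, ∀ x : R,
        (((β : MulAut ↥S) ^ n) ⟨x.1, hRS x.2⟩ : Ω) = (((a.1 : MulAut R) ^ n) x : Ω) := by
      intro n
      induction n with
      | zero => intro x; simp
      | succ n ih =>
        intro x
        rw [pow_succ', pow_succ', MulAut.mul_apply, MulAut.mul_apply]
        have e1 : ((β : MulAut ↥S) ^ n) ⟨x.1, hRS x.2⟩ =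
            ⟨(((a.1 : MulAut R) ^ n) x : Ω), hRS (((a.1 : MulAut R) ^ n) x).2⟩ :=
          Subtype.ext (ih x)
        rw [e1]
        exact hres (((a.1 : MulAut R) ^ n) x)
    refine ⟨k, ?_⟩
    apply Subtype.ext
    rw [Subgroup.coe_pow, Subgroup.coe_one]
    ext x
    rw [← hpow (p ^ k) x, hk']
    rfl
  exact hom_eq_inner_of_autGroup_isPGroup hS hF key P

/-- In a realized system which is inner, two elements of `S` fused by the realizing group are
conjugate in `S`. -/
theorem exists_conj_of_inner {G : Type*} [Group G] {ι : S →* G} (hinj : Function.Injective ι)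
    (hin : ∀ P : Subgroup Ω, (realizedBy ι hinj).Hom P = (innerFusionSystem S).Hom P)
    {a b : S} {g : G} (h : g * ι a * g⁻¹ = ι b) : ∃ s : S, s * a * s⁻¹ = b := by
  have hP : Subgroup.zpowers (a : Ω) ≤ S := by
    rw [Subgroup.zpowers_le]
    exact a.2
  have hmem : ∀ x : ↥(Subgroup.zpowers (a : Ω)),
      ((MulAut.conj g).toMonoidHom.comp (ι.comp (Subgroup.inclusion hP))) x ∈ ι.range := by
    rintro ⟨x, hx⟩
    obtain ⟨k, rfl⟩ := Subgroup.mem_zpowers_iff.mp hx
    have e1 : (Subgroup.inclusion hP ⟨(a : Ω) ^ k, hx⟩ : S) = a ^ k := Subtype.ext (by simp)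
    show g * ι (Subgroup.inclusion hP ⟨(a : Ω) ^ k, hx⟩) * g⁻¹ ∈ ι.range
    rw [e1, map_zpow, ← conj_zpow, h, ← map_zpow]
    exact ⟨_, rfl⟩
  have hφ : (realInv hinj).comp
      (((MulAut.conj g).toMonoidHom.comp (ι.comp (Subgroup.inclusion hP))).codRestrict ι.range hmem)
      ∈ (realizedBy ι hinj).Hom (Subgroup.zpowers (a : Ω)) := by
    refine ⟨hP, fun x => realInv_mem hinj _, g, fun x => ?_⟩
    rw [ext1_of_mem ι (hP x.2)]
    have e2 := ext1_of_mem ι (realInv_mem hinj
      ((((MulAut.conj g).toMonoidHom.comp (ι.comp (Subgroup.inclusion hP))).codRestrict ι.range hmem) x))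
    have e3 := ι_realInv hinj
      ((((MulAut.conj g).toMonoidHom.comp (ι.comp (Subgroup.inclusion hP))).codRestrict ι.range hmem) x)
    show ext1 ι (realInv hinj _) = _
    rw [e2, e3]
    rfl
  rw [hin] at hφ
  obtain ⟨-, s, hs, hφs⟩ := hφ
  refine ⟨⟨s, hs⟩, Subtype.ext ?_⟩
  have h1 := hφs ⟨(a : Ω), Subgroup.mem_zpowers _⟩
  have h2 : ((realInv hinj).comp
      (((MulAut.conj g).toMonoidHom.comp (ι.comp (Subgroup.inclusion hP))).codRestrict ι.range hmem))
      ⟨(a : Ω), Subgroup.mem_zpowers _⟩ = (b : Ω) := by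
    have e4 : (((MulAut.conj g).toMonoidHom.comp (ι.comp (Subgroup.inclusion hP))).codRestrict ι.range hmem)
        ⟨(a : Ω), Subgroup.mem_zpowers _⟩ = ⟨ι b, ⟨b, rfl⟩⟩ := by
      apply Subtype.ext
      show g * ι (Subgroup.inclusion hP ⟨(a : Ω), Subgroup.mem_zpowers _⟩) * g⁻¹ = ι b
      have e5 : (Subgroup.inclusion hP ⟨(a : Ω), Subgroup.mem_zpowers _⟩ : S) = a := Subtype.ext rfl
      rw [e5, h]
    show realInv hinj _ = _
    rw [e4]
    exact realInv_ι hinj b
  rw [h2] at h1
  show (s : Ω) * (a : Ω) * (s : Ω)⁻¹ = (b : Ω)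
  exact h1.symm

/-- The order of a Sylow `2`-subgroup, from a factorization of the group order. -/
theorem card_sylow_two {G : Type*} [Group G] [Finite G] {e w : ℕ} (hG : Nat.card G = 2 ^ e * w)
    (hw : Odd w) (T : Sylow 2 G) : Nat.card T = 2 ^ e := by
  have : Fact (Nat.Prime 2) := ⟨Nat.prime_two⟩
  rw [Sylow.card_eq_multiplicity, hG]
  congr 1
  have hw0 : w ≠ 0 := by
    rintro rfl
    exact (Nat.not_odd_iff_even.mpr (by decide)) hw
  rw [Nat.factorization_mul (by positivity) hw0, Nat.Prime.factorization_pow Nat.prime_two]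
  have h2 : w.factorization 2 = 0 := by
    apply Nat.factorization_eq_zero_of_not_dvd
    intro hd
    exact (Nat.not_even_iff_odd.mpr hw) (even_iff_two_dvd.mpr hd)
  simp [h2]

/-- A subgroup of order the full `2`-part of the group order is a Sylow `2`-subgroup. -/
theorem exists_sylow_two_eq {G : Type*} [Group G] [Finite G] {e w : ℕ} (hG : Nat.card G = 2 ^ e * w)
    (hw : Odd w) (H : Subgroup G) (hH : Nat.card H = 2 ^ e) : ∃ T : Sylow 2 G, (T : Subgroup G) = H := by
  have : Fact (Nat.Prime 2) := ⟨Nat.prime_two⟩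
  have hp : IsPGroup 2 H := IsPGroup.of_card hH
  have hidx : H.index = w := by
    have h1 := H.card_mul_index
    rw [hH, hG] at h1
    exact Nat.eq_of_mul_eq_mul_left (by positivity) h1
  have hnd : ¬ 2 ∣ H.index := by
    rw [hidx]
    intro hd
    exact (Nat.not_even_iff_odd.mpr hw) (even_iff_two_dvd.mpr hd)
  exact ⟨hp.toSylow hnd, rfl⟩

end Cfsg.H5.SupMeta
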