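import Mathlib
import Cfsg.Agent.Lib.Helper3.CardSL

set_option autoImplicit false

/-! Dirichlet primes `p` with `p + 1 = 2 ^ (m + 2) * u`, `u` odd, and the orders of `SL₂(p)`, `PSL₂(p)`,
`GL₂(p)`. -/

namespace Cfsg.H5.SupMeta

open Matrix

/-- Primes `p` (arbitrarily large) with `p + 1 = 2 ^ (m + 2) * u`, `u` odd; then `p = 2 v + 1` with `v`
odd. -/
theorem exists_prime (m N : ℕ) : ∃ p u v : ℕ, N < p ∧ p.Prime ∧ Odd u ∧ Odd v ∧
    p + 1 = 2 ^ (m + 2) * u ∧ p = 2 * v + 1 := by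
  have hq : 2 ^ (m + 3) ≠ 0 := by positivity
  have h1 : 1 ≤ 2 ^ (m + 2) := Nat.one_le_two_pow
  have hcop : (2 ^ (m + 2) - 1).Coprime (2 ^ (m + 3)) := by
    apply Nat.Coprime.pow_right
    rw [Nat.coprime_two_right]
    exact Nat.Even.sub_odd h1 (by rw [pow_succ]; exact even_two.mul_left _) odd_one
  obtain ⟨p, hpN, hp, hmod⟩ := Nat.forall_exists_prime_gt_and_modEq N hq hcop
  have hlt : 2 ^ (m + 2) - 1 < 2 ^ (m + 3) := by
    have : 2 ^ (m + 3) = 2 * 2 ^ (m + 2) := by rw [pow_succ]; ring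
    omega
  have h2 : p % 2 ^ (m + 3) = 2 ^ (m + 2) - 1 := by
    have := hmod
    unfold Nat.ModEq at this
    rw [this, Nat.mod_eq_of_lt hlt]
  have h3 := Nat.div_add_mod p (2 ^ (m + 3))
  rw [h2] at h3
  have h4 : 2 ^ (m + 3) = 2 * 2 ^ (m + 2) := by rw [pow_succ]; ring
  have h5 : 2 ^ (m + 2) = 2 * 2 ^ (m + 1) := by rw [pow_succ]; ring
  refine ⟨p, 2 * (p / 2 ^ (m + 3)) + 1, 2 ^ (m + 1) * (2 * (p / 2 ^ (m + 3)) + 1) - 1, hpN, hp,
    ⟨_, rfl⟩, ?_, ?_, ?_⟩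
  · have hpos : 1 ≤ 2 ^ (m + 1) * (2 * (p / 2 ^ (m + 3)) + 1) :=
      Nat.mul_pos (by positivity) (by omega)
    apply Nat.Even.sub_odd hpos _ odd_one
    rw [pow_succ]
    exact (even_two.mul_left _).mul_right _
  · rw [h4] at h3
    have : 2 ^ (m + 2) * (2 * (p / (2 * 2 ^ (m + 2))) + 1) =
        2 * 2 ^ (m + 2) * (p / (2 * 2 ^ (m + 2))) + 2 ^ (m + 2) := by ring
    rw [h4, this]
    omega
  · have hpos : 1 ≤ 2 ^ (m + 1) * (2 * (p / 2 ^ (m + 3)) + 1) :=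
      Nat.mul_pos (by positivity) (by omega)
    rw [h4] at h3
    have : 2 * (2 ^ (m + 1) * (2 * (p / (2 * 2 ^ (m + 2))) + 1)) =
        2 * 2 ^ (m + 2) * (p / (2 * 2 ^ (m + 2))) + 2 ^ (m + 2) := by rw [h5]; ring
    rw [h4]
    omega

section cards

variable {p u v m : ℕ} [Fact p.Prime]

omit [Fact p.Prime] in
theorem sq_sub_one_eq (h1 : p + 1 = 2 ^ (m + 2) * u) (h2 : p = 2 * v + 1) :
    p ^ 2 - 1 = 2 ^ (m + 3) * (u * v) := by
  have h3 : 2 * (v + 1) = 2 ^ (m + 2) * u := by omega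
  have h4 : p ^ 2 = 2 ^ (m + 3) * (u * v) + 1 := by
    have : p ^ 2 = 2 * v * (2 * (v + 1)) + 1 := by rw [h2]; ring
    rw [this, h3]
    ring
  omega

theorem two_ne_zero_zmod (h2 : p = 2 * v + 1) : (2 : ZMod p) ≠ 0 := by
  intro h
  have h3 : ((2 : ℕ) : ZMod p) = 0 := by exact_mod_cast h
  rw [ZMod.natCast_eq_zero_iff] at h3
  have hp : p.Prime := Fact.out
  have : p = 2 := ((Nat.prime_dvd_prime_iff_eq hp Nat.prime_two).mp h3)
  omega

theorem card_SL2_zmod (h1 : p + 1 = 2 ^ (m + 2) * u) (h2 : p = 2 * v + 1) :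
    Nat.card (SpecialLinearGroup (Fin 2) (ZMod p)) = 2 ^ (m + 3) * (p * u * v) := by
  rw [Cfsg.Agent.Lib.Helper3.CardSL.card_SL2, ZMod.card, sq_sub_one_eq h1 h2]
  ring

theorem card_PSL2_zmod (h1 : p + 1 = 2 ^ (m + 2) * u) (h2 : p = 2 * v + 1) :
    Nat.card (ProjectiveSpecialLinearGroup (Fin 2) (ZMod p)) = 2 ^ (m + 2) * (p * u * v) := by
  have h3 := Cfsg.Agent.Lib.Helper3.CardSL.card_PSL_mul (F := ZMod p) 2
  rw [Cfsg.Agent.Lib.Helper3.CardSL.card_center_SL2 (two_ne_zero_zmod h2), card_SL2_zmod h1 h2] at h3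
  have : 2 ^ (m + 3) * (p * u * v) = 2 ^ (m + 2) * (p * u * v) * 2 := by rw [pow_succ]; ring
  rw [this] at h3
  exact Nat.eq_of_mul_eq_mul_right (by norm_num) h3

theorem card_GL2_zmod (h1 : p + 1 = 2 ^ (m + 2) * u) (h2 : p = 2 * v + 1) :
    Nat.card (GL (Fin 2) (ZMod p)) = 2 ^ (m + 4) * (p * u * v * v) := by
  rw [Matrix.card_GL_field, ZMod.card, Fin.prod_univ_two]
  simp only [Fin.val_zero, Fin.val_one, pow_zero, pow_one]
  rw [sq_sub_one_eq h1 h2]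
  have : p ^ 2 - p = p * (2 * v) := by
    have : p ^ 2 = p * (2 * v) + p := by
      conv_lhs => rw [pow_two]
      conv_lhs => rw [h2]
      rw [h2]
      ring
    omega
  rw [this]
  ring

omit [Fact p.Prime] in
theorem odd_puv (hu : Odd u) (hv : Odd v) (h2 : p = 2 * v + 1) : Odd (p * u * v) :=
  ((by rw [h2]; exact ⟨v, rfl⟩ : Odd p).mul hu).mul hv

omit [Fact p.Prime] in
theorem mod_four_eq (h1 : p + 1 = 2 ^ (m + 2) * u) : p % 4 = 3 := by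
  have : 2 ^ (m + 2) * u = 4 * (2 ^ m * u) := by rw [pow_add]; ring
  omega

end cards

end Cfsg.H5.SupMeta
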