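import Mathlib
import Cfsg.Agent.H5.SupMeta1
import Cfsg.Agent.H5.SupMeta2
import Cfsg.Agent.S0809
import Cfsg.Agent.S0811

set_option autoImplicit false

/-! A dihedral `2`-group of order at least `8` carries a saturated fusion system which is not inner:
that of `PSL₂(p)` for a suitable Dirichlet prime `p`. -/

namespace Cfsg.H5.SupMeta

open Cfsg Cfsg.FusionSystem Cfsg.Agent.Lib.Helper27 Cfsg.Agent.H26 Matrix DihedralGroup

/-- multiplication by `u` as an additive map `ZMod k → ZMod (k * u)` -/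
noncomputable def mulAddHom (k u : ℕ) : ZMod k →+ ZMod (k * u) :=
  ZMod.lift k ⟨(Int.castAddHom (ZMod (k * u))).comp (AddMonoidHom.mulLeft (u : ℤ)), by
    show (((u : ℤ) * (k : ℤ) : ℤ) : ZMod (k * u)) = 0
    have : ((u : ℤ) * (k : ℤ) : ℤ) = ((k * u : ℕ) : ℤ) := by push_cast; ring
    rw [this, Int.cast_natCast, ZMod.natCast_self]⟩

theorem mulAddHom_intCast (k u : ℕ) (x : ℤ) :
    mulAddHom k u (x : ZMod k) = (((u : ℤ) * x : ℤ) : ZMod (k * u)) := by
  unfold mulAddHom
  rw [ZMod.lift_coe]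
  rfl

theorem mulAddHom_injective (k u : ℕ) (hk : 0 < k) (hu : 0 < u) :
    Function.Injective (mulAddHom k u) := by
  have : NeZero k := ⟨hk.ne'⟩
  rw [injective_iff_map_eq_zero]
  intro a ha
  have h1 : a = ((a.val : ℤ) : ZMod k) := by simp
  rw [h1, mulAddHom_intCast, ZMod.intCast_zmod_eq_zero_iff_dvd] at ha
  have h2 : ((k * u : ℕ) : ℤ) = (u : ℤ) * (k : ℤ) := by push_cast; ring
  rw [h2] at ha
  have h3 : (k : ℤ) ∣ (a.val : ℤ) :=
    (mul_dvd_mul_iff_left (by exact_mod_cast hu.ne')).mp ha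
  have h4 : k ∣ a.val := by exact_mod_cast h3
  have h5 : a.val = 0 := Nat.eq_zero_of_dvd_of_lt h4 (ZMod.val_lt a)
  exact (ZMod.val_eq_zero a).mp h5

/-- the embedding `D_{2k} → D_{2ku}` -/
noncomputable def dihEmb (k u : ℕ) : DihedralGroup k →* DihedralGroup (k * u) where
  toFun
    | r i => r (mulAddHom k u i)
    | sr i => sr (mulAddHom k u i)
  map_one' := by
    show (match (r 0 : DihedralGroup k) with
      | r i => r (mulAddHom k u i)
      | sr i => sr (mulAddHom k u i)) = 1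
    simp only [map_zero]
    rfl
  map_mul' := by
    rintro (i | i) (j | j)
    · show r (mulAddHom k u (i + j)) = r (mulAddHom k u i) * r (mulAddHom k u j)
      rw [r_mul_r, map_add]
    · show sr (mulAddHom k u (j - i)) = r (mulAddHom k u i) * sr (mulAddHom k u j)
      rw [r_mul_sr, map_sub]
    · show sr (mulAddHom k u (i + j)) = sr (mulAddHom k u i) * r (mulAddHom k u j)
      rw [sr_mul_r, map_add]
    · show r (mulAddHom k u (j - i)) = sr (mulAddHom k u i) * sr (mulAddHom k u j)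
      rw [sr_mul_sr, map_sub]

theorem dihEmb_injective (k u : ℕ) (hk : 0 < k) (hu : 0 < u) : Function.Injective (dihEmb k u) := by
  have hinj := mulAddHom_injective k u hk hu
  rintro (i | i) (j | j) h
  · have h1 : r (mulAddHom k u i) = r (mulAddHom k u j) := h
    rw [r.injEq] at h1
    rw [hinj h1]
  · have h1 : r (mulAddHom k u i) = sr (mulAddHom k u j) := h
    exact absurd h1 (by simp)
  · have h1 : sr (mulAddHom k u i) = r (mulAddHom k u j) := h
    exact absurd h1 (by simp)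
  · have h1 : sr (mulAddHom k u i) = sr (mulAddHom k u j) := h
    rw [sr.injEq] at h1
    rw [hinj h1]

/-- the central involution of a dihedral group of even degree -/
theorem conj_r_half {k : ℕ} (c : ZMod k) (hc : c + c = 0) (g : DihedralGroup k) :
    g * r c * g⁻¹ = r c := by
  rcases g with i | i
  · rw [inv_r, r_mul_r, r_mul_r]
    congr 1
    ring
  · rw [inv_sr, sr_mul_r, sr_mul_sr]
    congr 1
    have h1 : -c = c := by
      rw [neg_eq_iff_add_eq_zero]
      exact hc
    have h2 : i - (i + c) = -c := by ring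
    rw [h2, h1]

variable {Ω : Type*} [Group Ω] {S : Subgroup Ω}

/-- A dihedral `2`-group of order at least `8` carries a saturated fusion system which is not the
inner one. -/
theorem exists_not_inner_dihedral [Finite S] (j : ℕ) (e : ↥S ≃* DihedralGroup (2 ^ (j + 2))) :
    ∃ F : FusionSystem S, F.IsSaturated 2 ∧
      ¬ ∀ P : Subgroup Ω, F.Hom P = (innerFusionSystem S).Hom P := by
  classical
  have : Fact (Nat.Prime 2) := ⟨Nat.prime_two⟩
  obtain ⟨p, u, v, hp9, hp, hu, hv, h1, h2⟩ := exists_prime (j + 1) 9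
  have : Fact p.Prime := ⟨hp⟩
  have hcardF : Fintype.card (ZMod p) = p := ZMod.card p
  have hpodd : Odd p := ⟨v, h2⟩
  have hq : p ∉ ({2, 7, 9} : Finset ℕ) := by
    simp only [Finset.mem_insert, Finset.mem_singleton]
    omega
  have hdiv : (p + 1) / Nat.gcd 2 (p - 1) = 2 ^ (j + 2) * u := by
    have hg : Nat.gcd 2 (p - 1) = 2 := by
      have : p - 1 = 2 * v := by omega
      rw [this]
      exact Nat.gcd_mul_right_right v 2 ▸ (by simp)
    rw [hg, h1]
    have : 2 ^ (j + 1 + 2) * u = 2 * (2 ^ (j + 2) * u) := by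
      rw [show j + 1 + 2 = (j + 2) + 1 from rfl, pow_succ]; ring
    rw [this]
    exact Nat.mul_div_cancel_left _ (by norm_num)
  obtain ⟨H, -, ⟨eH⟩⟩ := Cfsg.Agent.S0811.result (F := ZMod p) hcardF hq
  rw [hdiv] at eH
  have hu0 : 0 < u := hu.pos
  have hk0 : 0 < 2 ^ (j + 2) := by positivity
  -- the embedding
  let ι : ↥S →* ProjectiveSpecialLinearGroup (Fin 2) (ZMod p) :=
    H.subtype.comp (eH.symm.toMonoidHom.comp ((dihEmb (2 ^ (j + 2)) u).comp e.toMonoidHom))
  have hinj : Function.Injective ι := by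
    intro x y hxy
    have h3 := H.subtype_injective hxy
    have h4 := eH.symm.injective h3
    have h5 := dihEmb_injective _ _ hk0 hu0 h4
    exact e.injective h5
  have hcardS : Nat.card ↥S = 2 ^ (j + 1 + 2) := by
    rw [Nat.card_congr e.toEquiv, DihedralGroup.nat_card]
    rw [show j + 1 + 2 = (j + 2) + 1 from rfl, pow_succ]
    ring
  have hcardR : Nat.card ι.range = 2 ^ (j + 1 + 2) := by
    rw [← hcardS]
    exact (Nat.card_congr (MonoidHom.ofInjective hinj).toEquiv).symm
  obtain ⟨T, hT⟩ := exists_sylow_two_eq (card_PSL2_zmod h1 h2) (odd_puv hu hv h2) ι.range hcardR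
  refine ⟨realizedBy ι hinj, realized_saturated (realizedBy_isRealizedBy ι hinj) T hT, ?_⟩
  intro hin
  -- a subgroup of order four of `SL₂(p)`, to be able to quote S0809
  obtain ⟨A, hA⟩ : ∃ A : Subgroup (SpecialLinearGroup (Fin 2) (ZMod p)), Nat.card A = 2 ^ 2 := by
    apply Sylow.exists_subgroup_card_pow_prime 2
    rw [card_SL2_zmod h1 h2]
    have : 2 ^ (j + 1 + 3) * (p * u * v) = 2 ^ 2 * (2 ^ (j + 2) * (p * u * v)) := by
      rw [show j + 1 + 3 = 2 + (j + 2) by ring, pow_add]; ring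
    rw [this]
    exact dvd_mul_right _ _
  have hconj := (Cfsg.Agent.S0809.result (F := ZMod p) hcardF hpodd A (by rw [hA]; norm_num)).2.2.2
  -- the two involutions
  have hcc : ((2 ^ (j + 1) : ℕ) : ZMod (2 ^ (j + 2))) + ((2 ^ (j + 1) : ℕ) : ZMod (2 ^ (j + 2))) = 0 := by
    rw [← Nat.cast_add, ZMod.natCast_eq_zero_iff]
    exact ⟨1, by rw [pow_succ 2 (j + 1)]; ring⟩
  have hc0 : ((2 ^ (j + 1) : ℕ) : ZMod (2 ^ (j + 2))) ≠ 0 := by
    rw [Ne, ZMod.natCast_eq_zero_iff]
    intro hd
    have := Nat.le_of_dvd (by positivity) hd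
    rw [pow_succ 2 (j + 1)] at this
    have : 0 < 2 ^ (j + 1) := by positivity
    omega
  have hoa : orderOf (r ((2 ^ (j + 1) : ℕ) : ZMod (2 ^ (j + 2))) : DihedralGroup (2 ^ (j + 2))) = 2 := by
    apply orderOf_eq_prime
    · rw [pow_two, r_mul_r, hcc, r_zero]
    · rw [one_def, Ne, r.injEq]
      exact hc0
  have hoιa : orderOf (ι (e.symm (r ((2 ^ (j + 1) : ℕ) : ZMod (2 ^ (j + 2)))))) = 2 := by
    rw [orderOf_injective ι hinj, MulEquiv.orderOf_eq, hoa]
  have hoιb : orderOf (ι (e.symm (sr 0))) = 2 := by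
    rw [orderOf_injective ι hinj, MulEquiv.orderOf_eq, orderOf_sr]
  obtain ⟨g, hg⟩ := isConj_iff.mp (hconj _ _ hoιa hoιb)
  obtain ⟨s, hs⟩ := exists_conj_of_inner hinj hin hg
  have h6 := congrArg e hs
  rw [map_mul, map_mul, map_inv, MulEquiv.apply_symm_apply, MulEquiv.apply_symm_apply,
    conj_r_half _ hcc] at h6
  exact absurd h6 (by simp)

end Cfsg.H5.SupMeta
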