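import Mathlib
import Cfsg.Agent.H5.SupMeta1
import Cfsg.Agent.H5.SupMeta2
import Cfsg.Agent.S0809
import Cfsg.Agent.S0261

set_option autoImplicit false

/-! A generalized quaternion group of order at least `16` carries a saturated fusion system which is
not inner: that of `SL₂(p)` for a suitable Dirichlet prime `p`. -/

namespace Cfsg.H5.SupMeta

open Cfsg Cfsg.FusionSystem Cfsg.Agent.Lib.Helper27 Cfsg.Agent.H26 Matrix QuaternionGroup

/-- the cyclic subgroup of index two of the quaternion group -/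
def quatRot (n : ℕ) : Subgroup (QuaternionGroup n) where
  carrier := {g | ∃ x, g = a x}
  mul_mem' := by
    rintro _ _ ⟨x, rfl⟩ ⟨y, rfl⟩
    exact ⟨x + y, a_mul_a x y⟩
  one_mem' := ⟨0, one_def⟩
  inv_mem' := by
    rintro _ ⟨x, rfl⟩
    refine ⟨-x, ?_⟩
    rw [inv_eq_iff_mul_eq_one, a_mul_a, add_neg_cancel, a_zero]

theorem quatRot_normal (n : ℕ) (g : QuaternionGroup n) {z : QuaternionGroup n} (hz : z ∈ quatRot n) :
    g * z * g⁻¹ ∈ quatRot n := by
  obtain ⟨x, rfl⟩ := hz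
  rcases g with i | i
  · refine ⟨x, ?_⟩
    rw [mul_inv_eq_iff_eq_mul, a_mul_a, a_mul_a, add_comm]
  · refine ⟨-x, ?_⟩
    rw [mul_inv_eq_iff_eq_mul, xa_mul_a, a_mul_xa]
    congr 1
    ring

theorem xa_not_mem_quatRot (n : ℕ) (i : ZMod (2 * n)) : xa i ∉ quatRot n := by
  rintro ⟨x, hx⟩
  exact absurd hx (by simp)

variable {Ω : Type*} [Group Ω] {S : Subgroup Ω}

/-- A generalized quaternion group of order at least `16` carries a saturated fusion system which is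
not the inner one. -/
theorem exists_not_inner_quaternion [Finite S] (j : ℕ) (e : ↥S ≃* QuaternionGroup (2 ^ (j + 2))) :
    ∃ F : FusionSystem S, F.IsSaturated 2 ∧
      ¬ ∀ P : Subgroup Ω, F.Hom P = (innerFusionSystem S).Hom P := by
  classical
  have : Fact (Nat.Prime 2) := ⟨Nat.prime_two⟩
  obtain ⟨p, u, v, -, hp, hu, hv, h1, h2⟩ := exists_prime (j + 1) 0
  have : Fact p.Prime := ⟨hp⟩
  have hcardF : Fintype.card (ZMod p) = p := ZMod.card p
  have hpodd : Odd p := ⟨v, h2⟩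
  have hpodd' : Odd (Fintype.card (ZMod p)) := by rw [hcardF]; exact hpodd
  -- a Sylow subgroup of `SL₂(p)`
  obtain ⟨T⟩ : Nonempty (Sylow 2 (SpecialLinearGroup (Fin 2) (ZMod p))) := inferInstance
  have hcardT : Nat.card T = 2 ^ (j + 1 + 3) :=
    card_sylow_two (card_SL2_zmod h1 h2) (odd_puv hu hv h2) T
  obtain ⟨k, -, ⟨eT⟩⟩ := Cfsg.Agent.S0261.result hpodd' T
  have hk : k = j + 2 := by
    have h3 : Nat.card (QuaternionGroup (2 ^ k)) = 4 * 2 ^ k := by
      have : NeZero (2 ^ k) := ⟨by positivity⟩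
      rw [Nat.card_eq_fintype_card, QuaternionGroup.card]
    have h4 : Nat.card T = 4 * 2 ^ k := by rw [Nat.card_congr eT.toEquiv, h3]
    rw [hcardT] at h4
    have h5 : (2 : ℕ) ^ (j + 1 + 3) = 2 ^ (k + 2) := by
      rw [h4, pow_add]; ring
    have := Nat.pow_right_injective (le_refl 2) h5
    omega
  subst hk
  have : NeZero (2 ^ (j + 2)) := ⟨by positivity⟩
  -- the embedding
  let ι : ↥S →* SpecialLinearGroup (Fin 2) (ZMod p) :=
    (T : Subgroup (SpecialLinearGroup (Fin 2) (ZMod p))).subtype.comp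
      (eT.symm.toMonoidHom.comp e.toMonoidHom)
  have hinj : Function.Injective ι := by
    intro x y hxy
    have h3 := Subgroup.subtype_injective _ hxy
    have h4 := eT.symm.injective h3
    exact e.injective h4
  have hT : (T : Subgroup (SpecialLinearGroup (Fin 2) (ZMod p))) = ι.range := by
    ext y
    constructor
    · intro hy
      refine ⟨e.symm (eT ⟨y, hy⟩), ?_⟩
      show ((eT.symm (e (e.symm (eT ⟨y, hy⟩))) : T) : SpecialLinearGroup (Fin 2) (ZMod p)) = y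
      rw [MulEquiv.apply_symm_apply, MulEquiv.symm_apply_apply]
    · rintro ⟨x, rfl⟩
      exact (eT.symm (e x)).2
  refine ⟨realizedBy ι hinj, realized_saturated (realizedBy_isRealizedBy ι hinj) T hT, ?_⟩
  intro hin
  -- the two elements of order four
  have hc4 : (((2 ^ (j + 1) : ℕ) : ZMod (2 * 2 ^ (j + 2))) + ((2 ^ (j + 1) : ℕ) : ZMod (2 * 2 ^ (j + 2)))) +
      (((2 ^ (j + 1) : ℕ) : ZMod (2 * 2 ^ (j + 2))) + ((2 ^ (j + 1) : ℕ) : ZMod (2 * 2 ^ (j + 2)))) = 0 := by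
    rw [← Nat.cast_add, ← Nat.cast_add, ZMod.natCast_eq_zero_iff]
    exact ⟨1, by rw [pow_succ 2 (j + 1)]; ring⟩
  have hc2 : ((2 ^ (j + 1) : ℕ) : ZMod (2 * 2 ^ (j + 2))) + ((2 ^ (j + 1) : ℕ) : ZMod (2 * 2 ^ (j + 2))) ≠ 0 := by
    rw [← Nat.cast_add, Ne, ZMod.natCast_eq_zero_iff]
    intro hd
    have h3 := Nat.le_of_dvd (by positivity) hd
    rw [pow_succ 2 (j + 1)] at h3
    have : 0 < 2 ^ (j + 1) := by positivity
    omega
  have hoa : orderOf (a ((2 ^ (j + 1) : ℕ) : ZMod (2 * 2 ^ (j + 2))) : QuaternionGroup (2 ^ (j + 2))) = 2 ^ (1 + 1) := by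
    apply orderOf_eq_prime_pow
    · rw [pow_one, pow_two, a_mul_a, one_def]
      intro h3
      rw [a.injEq] at h3
      exact hc2 h3
    · rw [show (2 : ℕ) ^ (1 + 1) = 2 * 2 from rfl, pow_mul, pow_two, pow_two, a_mul_a, a_mul_a, hc4, a_zero]
  have hoιa : orderOf (ι (e.symm (a ((2 ^ (j + 1) : ℕ) : ZMod (2 * 2 ^ (j + 2)))))) = 4 := by
    rw [orderOf_injective ι hinj, MulEquiv.orderOf_eq, hoa]
    norm_num
  have hoιb : orderOf (ι (e.symm (xa 0))) = 4 := by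
    rw [orderOf_injective ι hinj, MulEquiv.orderOf_eq, orderOf_xa]
  obtain ⟨g, hg⟩ := (Cfsg.Agent.S0809.result (F := ZMod p) hcardF hpodd
    (Subgroup.zpowers (ι (e.symm (a ((2 ^ (j + 1) : ℕ) : ZMod (2 * 2 ^ (j + 2)))))))
    (by rw [Nat.card_zpowers, hoιa])).1
    (Subgroup.zpowers (ι (e.symm (xa 0)))) (by rw [Nat.card_zpowers, hoιb])
  have hmem : ι (e.symm (xa 0)) ∈ Subgroup.zpowers (ι (e.symm (xa 0))) := Subgroup.mem_zpowers _
  rw [hg] at hmem
  obtain ⟨y, hy, hyb⟩ := hmem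
  obtain ⟨i, rfl⟩ := Subgroup.mem_zpowers_iff.mp hy
  rw [← map_zpow] at hyb
  have hyb' : g * ι ((e.symm (a ((2 ^ (j + 1) : ℕ) : ZMod (2 * 2 ^ (j + 2))))) ^ i) * g⁻¹ =
      ι (e.symm (xa 0)) := hyb
  obtain ⟨s, hs⟩ := exists_conj_of_inner hinj hin hyb'
  have h6 := congrArg e hs
  rw [map_mul, map_mul, map_inv, map_zpow, MulEquiv.apply_symm_apply, MulEquiv.apply_symm_apply] at h6
  have h7 : e s * (a ((2 ^ (j + 1) : ℕ) : ZMod (2 * 2 ^ (j + 2)))) ^ i * (e s)⁻¹ ∈ quatRot (2 ^ (j + 2)) :=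
    quatRot_normal _ _ (Subgroup.zpow_mem _ (show a _ ∈ quatRot (2 ^ (j + 2)) from ⟨_, rfl⟩) i)
  rw [h6] at h7
  exact xa_not_mem_quatRot _ _ h7

end Cfsg.H5.SupMeta
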