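import Mathlib
import Cfsg.Agent.H5.SupMeta1
import Cfsg.Agent.H5.SupMeta2
import Cfsg.Agent.S0809
import Cfsg.Agent.S1217
import Cfsg.Agent.Lib.Helper9.QD.Quat
import Cfsg.Agent.Lib.Helper9.QD.Structure

set_option autoImplicit false

/-! A quasi-dihedral group carries a saturated fusion system which is not inner: that of `GL₂(p)`
for a suitable Dirichlet prime `p ≡ 3 mod 4`. -/

namespace Cfsg.H5.SupMeta

open Cfsg Cfsg.FusionSystem Cfsg.Agent.Lib.Helper27 Cfsg.Agent.H26 Matrix
open Cfsg.Agent.Lib.Helper9.QD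

section iso

variable {S T : Type*} [Group S] [Group T] {n : ℕ} {x y : S} {x' y' : T}

/-- coordinates of a quasi-dihedral group -/
def qdCoord (x y : S) : ZMod (2 ^ n) ⊕ ZMod (2 ^ n) → S
  | Sum.inl i => R x i
  | Sum.inr i => SR x y i

theorem qdCoord_bijective (h : QDData S n x y) : Function.Bijective (qdCoord (n := n) x y) := by
  constructor
  · rintro (i | i) (j | j) hij
    · rw [h.R_inj.mp hij]
    · exact absurd hij (h.R_ne_SR i j)
    · exact absurd hij.symm (h.R_ne_SR j i)
    · rw [h.SR_inj.mp hij]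
  · intro g
    rcases h.cases g with ⟨i, rfl⟩ | ⟨i, rfl⟩
    · exact ⟨Sum.inl i, rfl⟩
    · exact ⟨Sum.inr i, rfl⟩

theorem qdCoord_mul (h : QDData S n x y) (c d : ZMod (2 ^ n) ⊕ ZMod (2 ^ n)) :
    qdCoord x y c * qdCoord x y d = qdCoord x y
      (match c, d with
        | Sum.inl i, Sum.inl j => Sum.inl (i + j)
        | Sum.inl i, Sum.inr j => Sum.inr (i + j)
        | Sum.inr i, Sum.inl j => Sum.inr (i + rho n * j)
        | Sum.inr i, Sum.inr j => Sum.inl (i + rho n * j)) := by
  rcases c with i | i <;> rcases d with j | j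
  · exact (h.R_add i j).symm
  · exact h.R_mul_SR i j
  · exact h.SR_mul_R i j
  · exact h.SR_mul_SR i j

/-- two quasi-dihedral groups of the same order are isomorphic -/
noncomputable def qdEquiv (h : QDData S n x y) (h' : QDData T n x' y') : S ≃* T :=
  MulEquiv.mk' ((Equiv.ofBijective _ (qdCoord_bijective h)).symm.trans
    (Equiv.ofBijective _ (qdCoord_bijective h'))) (by
    intro s t
    obtain ⟨c, rfl⟩ := (qdCoord_bijective h).2 s
    obtain ⟨d, rfl⟩ := (qdCoord_bijective h).2 t
    have key : ∀ c : ZMod (2 ^ n) ⊕ ZMod (2 ^ n),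
        ((Equiv.ofBijective _ (qdCoord_bijective h)).symm.trans
          (Equiv.ofBijective _ (qdCoord_bijective h'))) (qdCoord x y c) = qdCoord x' y' c := by
      intro c
      rw [Equiv.trans_apply]
      have : (Equiv.ofBijective _ (qdCoord_bijective h)).symm (qdCoord x y c) = c :=
        Equiv.ofBijective_symm_apply_apply _ _ _
      rw [this]
      rfl
    rw [qdCoord_mul h, key, key, key, qdCoord_mul h'])

theorem qdEquiv_R (h : QDData S n x y) (h' : QDData T n x' y') (i : ZMod (2 ^ n)) :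
    qdEquiv h h' (R x i) = R x' i := by
  show ((Equiv.ofBijective _ (qdCoord_bijective h)).symm.trans
          (Equiv.ofBijective _ (qdCoord_bijective h'))) (qdCoord x y (Sum.inl i)) = _
  rw [Equiv.trans_apply]
  have : (Equiv.ofBijective _ (qdCoord_bijective h)).symm (qdCoord x y (Sum.inl i)) = Sum.inl i :=
    Equiv.ofBijective_symm_apply_apply _ _ _
  rw [this]
  rfl

end iso

section mat

variable {K : Type*} [Field K]

theorem mat_mul_self (M : Matrix (Fin 2) (Fin 2) K) : M * M = M.trace • M - M.det • (1 : Matrix (Fin 2) (Fin 2) K) := by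
  ext i j
  fin_cases i <;> fin_cases j <;>
    simp [Matrix.mul_apply, Fin.sum_univ_two, Matrix.trace_fin_two, Matrix.det_fin_two] <;> ring

theorem smul_one_mul_smul_one (c : K) :
    (c • (1 : Matrix (Fin 2) (Fin 2) K)) * (c • (1 : Matrix (Fin 2) (Fin 2) K)) = (c * c) • 1 := by
  rw [Matrix.smul_mul, Matrix.mul_smul, mul_one, smul_smul]

theorem smul_one_inj {c d : K} (h : c • (1 : Matrix (Fin 2) (Fin 2) K) = d • 1) : c = d := by
  have := congrFun (congrFun h 0) 0
  simpa using this

/-- a matrix whose square is `-1` has determinant one, if `-1` is not a square -/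
theorem det_eq_one_of_sq (hns : ¬ IsSquare (-1 : K)) (M : Matrix (Fin 2) (Fin 2) K) (hM : M * M = -1) :
    M.det = 1 := by
  have h1 := mat_mul_self M
  rw [hM] at h1
  have h2 : M.trace • M = (M.det - 1) • (1 : Matrix (Fin 2) (Fin 2) K) := by
    rw [sub_smul, one_smul]
    have : M.trace • M = -1 + M.det • (1 : Matrix (Fin 2) (Fin 2) K) :=
      sub_eq_iff_eq_add.mp h1.symm
    rw [this]; abel
  by_cases ht : M.trace = 0
  · rw [ht, zero_smul] at h2
    have h3 : (0 : K) • (1 : Matrix (Fin 2) (Fin 2) K) = (M.det - 1) • 1 := by rw [zero_smul]; exact h2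
    have := smul_one_inj h3
    exact (sub_eq_zero.mp this.symm)
  · exfalso
    have h3 : M = ((M.det - 1) / M.trace) • (1 : Matrix (Fin 2) (Fin 2) K) := by
      rw [div_eq_inv_mul, ← smul_smul, ← h2, smul_smul, inv_mul_cancel₀ ht, one_smul]
    apply hns
    refine ⟨(M.det - 1) / M.trace, ?_⟩
    have h4 : M * M = (((M.det - 1) / M.trace) * ((M.det - 1) / M.trace)) • (1 : Matrix (Fin 2) (Fin 2) K) := by
      conv_lhs => rw [h3]
      exact smul_one_mul_smul_one _
    rw [hM] at h4
    have h5 : ((-1 : K)) • (1 : Matrix (Fin 2) (Fin 2) K) =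
        (((M.det - 1) / M.trace) * ((M.det - 1) / M.trace)) • 1 := by
      rw [← h4, neg_smul, one_smul]
    exact smul_one_inj h5

/-- a matrix of order four squares to `-1`, if `-1` is not a square -/
theorem sq_eq_neg_one_of_order_four (hns : ¬ IsSquare (-1 : K)) (M : Matrix (Fin 2) (Fin 2) K)
    (h4 : (M * M) * (M * M) = 1) (h2 : M * M ≠ 1) : M * M = -1 := by
  have h1 := mat_mul_self (M * M)
  rw [h4] at h1
  have hd : (M * M).det = M.det * M.det := Matrix.det_mul M M
  have h3 : (M * M).trace • (M * M) = (1 + (M * M).det) • (1 : Matrix (Fin 2) (Fin 2) K) := by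
    rw [add_smul, one_smul]
    exact sub_eq_iff_eq_add.mp h1.symm
  by_cases ht : (M * M).trace = 0
  · exfalso
    rw [ht, zero_smul] at h3
    have h5 : (0 : K) • (1 : Matrix (Fin 2) (Fin 2) K) = (1 + (M * M).det) • 1 := by
      rw [zero_smul]; exact h3
    have h6 := smul_one_inj h5
    apply hns
    refine ⟨M.det, ?_⟩
    rw [← hd]
    linear_combination h6
  · have h5 : M * M = ((1 + (M * M).det) / (M * M).trace) • (1 : Matrix (Fin 2) (Fin 2) K) := by
      rw [div_eq_inv_mul, ← smul_smul, ← h3, smul_smul, inv_mul_cancel₀ ht, one_smul]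
    obtain ⟨c, hc⟩ : ∃ c : K, M * M = c • (1 : Matrix (Fin 2) (Fin 2) K) := ⟨_, h5⟩
    have h6 : (c * c) • (1 : Matrix (Fin 2) (Fin 2) K) = (1 : K) • 1 := by
      rw [← smul_one_mul_smul_one, ← hc, h4, one_smul]
    have h7 : c * c = 1 := smul_one_inj h6
    have h8 : (c - 1) * (c + 1) = 0 := by linear_combination h7
    rcases mul_eq_zero.mp h8 with h9 | h9
    · exfalso
      apply h2
      rw [hc, sub_eq_zero.mp h9, one_smul]
    · rw [hc, eq_neg_of_add_eq_zero_left h9, neg_smul, one_smul]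

/-- elements of order four of `GL₂(K)` lie in `SL₂(K)`, if `-1` is not a square -/
theorem exists_toGL_eq_of_orderOf_four (hns : ¬ IsSquare (-1 : K)) (g : GL (Fin 2) K)
    (hg : orderOf g = 4) : ∃ s : SpecialLinearGroup (Fin 2) K, SpecialLinearGroup.toGL s = g := by
  have h4 : g ^ 4 = 1 := by rw [← hg]; exact pow_orderOf_eq_one g
  have h2 : g ^ 2 ≠ 1 := by
    intro h
    have := orderOf_dvd_of_pow_eq_one h
    rw [hg] at this
    omega
  have h4' : ((g : Matrix (Fin 2) (Fin 2) K) * (g : Matrix (Fin 2) (Fin 2) K)) *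
      ((g : Matrix (Fin 2) (Fin 2) K) * (g : Matrix (Fin 2) (Fin 2) K)) = 1 := by
    have := congrArg (fun u : GL (Fin 2) K => (u : Matrix (Fin 2) (Fin 2) K)) h4
    simp only [Units.val_pow_eq_pow_val, Units.val_one] at this
    rw [← this]
    noncomm_ring
  have h2' : (g : Matrix (Fin 2) (Fin 2) K) * (g : Matrix (Fin 2) (Fin 2) K) ≠ 1 := by
    intro h
    apply h2
    apply Units.ext
    rw [Units.val_pow_eq_pow_val, Units.val_one, pow_two]
    exact h
  have h5 := sq_eq_neg_one_of_order_four hns _ h4' h2'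
  have h6 := det_eq_one_of_sq hns _ h5
  refine ⟨⟨(g : Matrix (Fin 2) (Fin 2) K), h6⟩, ?_⟩
  apply Units.ext
  rfl

end mat

variable {Ω : Type*} [Group Ω] {S : Subgroup Ω}

/-- A quasi-dihedral group carries a saturated fusion system which is not the inner one. -/
theorem exists_not_inner_quasidihedral [Finite S] (hqd : Cfsg.IsQuasiDihedral ↥S) :
    ∃ F : FusionSystem S, F.IsSaturated 2 ∧
      ¬ ∀ P : Subgroup Ω, F.Hom P = (innerFusionSystem S).Hom P := by
  classical
  have : Fact (Nat.Prime 2) := ⟨Nat.prime_two⟩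
  obtain ⟨n, x, y, h⟩ := exists_qdData hqd
  obtain ⟨m, rfl⟩ : ∃ m, n = m + 3 := ⟨n - 3, by have := h.hn; omega⟩
  obtain ⟨p, u, v, -, hp, hu, hv, h1, h2⟩ := exists_prime m 0
  have : Fact p.Prime := ⟨hp⟩
  have hcardF : Fintype.card (ZMod p) = p := ZMod.card p
  have hpodd : Odd p := ⟨v, h2⟩
  have hmod : Fintype.card (ZMod p) % 4 = 3 := by rw [hcardF]; exact mod_four_eq h1
  have hns : ¬ IsSquare (-1 : ZMod p) := by
    rw [ZMod.exists_sq_eq_neg_one_iff]
    rw [hcardF] at hmod
    simp [hmod]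
  -- a Sylow subgroup of `GL₂(p)`
  obtain ⟨T⟩ : Nonempty (Sylow 2 (GL (Fin 2) (ZMod p))) := inferInstance
  have hcardT : Nat.card T = 2 ^ (m + 4) :=
    card_sylow_two (card_GL2_zmod h1 h2) (((odd_puv hu hv h2)).mul hv) T
  obtain ⟨n', x', y', h'⟩ := exists_qdData ((Cfsg.Agent.S1217.result T).1 hmod)
  have hn' : n' = m + 3 := by
    have h3 := h'.card
    rw [hcardT] at h3
    have := Nat.pow_right_injective (le_refl 2) h3
    omega
  subst hn'
  -- the embedding
  let ι : ↥S →* GL (Fin 2) (ZMod p) :=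
    (T : Subgroup (GL (Fin 2) (ZMod p))).subtype.comp (qdEquiv h h').toMonoidHom
  have hinj : Function.Injective ι := by
    intro a b hab
    have h3 := Subgroup.subtype_injective _ hab
    exact (qdEquiv h h').injective h3
  have hT : (T : Subgroup (GL (Fin 2) (ZMod p))) = ι.range := by
    ext z
    constructor
    · intro hz
      refine ⟨(qdEquiv h h').symm ⟨z, hz⟩, ?_⟩
      show (((qdEquiv h h') ((qdEquiv h h').symm ⟨z, hz⟩) : T) : GL (Fin 2) (ZMod p)) = z
      rw [MulEquiv.apply_symm_apply]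
    · rintro ⟨a, rfl⟩
      exact ((qdEquiv h h') a).2
  refine ⟨realizedBy ι hinj, realized_saturated (realizedBy_isRealizedBy ι hinj) T hT, ?_⟩
  intro hin
  -- the two elements of order four
  have hoa : orderOf (ι (R x (Kz (m + 3)))) = 4 := by
    rw [orderOf_injective ι hinj, h.orderOf_RK]
  have hob : orderOf (ι (SR x y (1 : ZMod (2 ^ (m + 3))))) = 4 := by
    rw [orderOf_injective ι hinj, h.orderOf_SR_eq_four, mul_one]
  obtain ⟨sa, hsa⟩ := exists_toGL_eq_of_orderOf_four hns _ hoa
  obtain ⟨sb, hsb⟩ := exists_toGL_eq_of_orderOf_four hns _ hob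
  have hosa : orderOf sa = 4 := by
    rw [← orderOf_injective SpecialLinearGroup.toGL SpecialLinearGroup.toGL_injective, hsa, hoa]
  have hosb : orderOf sb = 4 := by
    rw [← orderOf_injective SpecialLinearGroup.toGL SpecialLinearGroup.toGL_injective, hsb, hob]
  obtain ⟨g, hg⟩ := (Cfsg.Agent.S0809.result (F := ZMod p) hcardF hpodd
    (Subgroup.zpowers sa) (by rw [Nat.card_zpowers, hosa])).1
    (Subgroup.zpowers sb) (by rw [Nat.card_zpowers, hosb])
  have hmem : sb ∈ Subgroup.zpowers sb := Subgroup.mem_zpowers _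
  rw [hg] at hmem
  obtain ⟨z, hz, hzb⟩ := hmem
  obtain ⟨i, rfl⟩ := Subgroup.mem_zpowers_iff.mp hz
  have hzb' : g * sa ^ i * g⁻¹ = sb := hzb
  have hzb'' : SpecialLinearGroup.toGL g * ι ((R x (Kz (m + 3))) ^ i) * (SpecialLinearGroup.toGL g)⁻¹ =
      ι (SR x y (1 : ZMod (2 ^ (m + 3)))) := by
    rw [map_zpow, ← hsa, ← hsb, ← map_zpow, ← map_inv, ← map_mul, ← map_mul, hzb']
  obtain ⟨s, hs⟩ := exists_conj_of_inner hinj hin hzb''
  have hnorm : (Subgroup.zpowers x).Normal := Subgroup.normal_of_index_eq_two h.index_zpowers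
  have h7 : s * (R x (Kz (m + 3))) ^ i * s⁻¹ ∈ Subgroup.zpowers x :=
    hnorm.conj_mem _ (Subgroup.zpow_mem _ (h.R_mem _) i) s
  rw [hs] at h7
  exact h.SR_not_mem 1 h7

end Cfsg.H5.SupMeta
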