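import Mathlib
import Cfsg.Agent.S1447
import Cfsg.Agent.H5.MetaSC1
import Cfsg.Agent.Lib.Helper10.MetaAut

set_option autoImplicit false

/-! For an odd prime `p`, a subgroup of order prime to `p` of the automorphism group of a non-abelian
metacyclic `p`-group is abelian of exponent dividing `p - 1` (it acts faithfully on the cyclic group
`[X, H]`). -/

namespace Cfsg.H5.SupMeta

open Cfsg Cfsg.H5.MetaSC

theorem comm_exp_of_metacyclic_odd {X : Type*} [Group X] [Finite X] {p : ℕ} [Fact p.Prime]
    (hp2 : p ≠ 2) (hX : IsPGroup p X) (hm : Cfsg.IsMetacyclic X)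
    (hna : ¬ IsMulCommutative X) (H : Subgroup (MulAut X)) (hcop : (Nat.card H).Coprime p) :
    IsMulCommutative ↥H ∧ ∀ h ∈ H, h ^ (p - 1) = 1 := by
  classical
  by_cases hbot : H = ⊥
  · subst hbot
    refine ⟨⟨⟨fun a b => Subsingleton.elim _ _⟩⟩, fun h hh => ?_⟩
    rw [Subgroup.mem_bot] at hh
    rw [hh, one_pow]
  have hfinA : Finite (MulAut X) := Finite.of_injective (fun e : MulAut X => (e : X → X))
    (fun a b h => MulEquiv.ext (fun x => congrFun h x))
  have hfinG : Finite (X ⋊[H.subtype] H) :=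
    Finite.of_equiv _ (SemidirectProduct.equivProd (φ := H.subtype)).symm
  have hinlinj : Function.Injective (SemidirectProduct.inl : X →* X ⋊[H.subtype] H) :=
    SemidirectProduct.inl_injective
  have hinrinj : Function.Injective (SemidirectProduct.inr : H →* X ⋊[H.subtype] H) :=
    SemidirectProduct.inr_injective
  have hconj : ∀ (h : H) (x : X), (SemidirectProduct.inr h : X ⋊[H.subtype] H) *
      SemidirectProduct.inl x * (SemidirectProduct.inr h)⁻¹ =
      SemidirectProduct.inl ((h : MulAut X) x) := by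
    intro h x
    rw [← map_inv]
    exact (SemidirectProduct.inl_aut (φ := H.subtype) h x).symm
  have hRn : ((SemidirectProduct.inl : X →* X ⋊[H.subtype] H).range).Normal := by
    rw [SemidirectProduct.range_inl_eq_ker_rightHom]
    infer_instance
  have hRp : IsPGroup p ↥(SemidirectProduct.inl : X →* X ⋊[H.subtype] H).range :=
    hX.of_surjective _ (MonoidHom.rangeRestrict_surjective _)
  have hRm : Cfsg.IsMetacyclic ↥(SemidirectProduct.inl : X →* X ⋊[H.subtype] H).range :=
    Cfsg.Agent.Lib.Helper10.isMetacyclic_of_injective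
      (MonoidHom.ofInjective hinlinj).symm.toMonoidHom (MulEquiv.injective _) hm
  have hAn : (SemidirectProduct.inr : H →* X ⋊[H.subtype] H).range ≤
      Subgroup.normalizer (((SemidirectProduct.inl : X →* X ⋊[H.subtype] H).range :
        Subgroup (X ⋊[H.subtype] H)) : Set (X ⋊[H.subtype] H)) := by
    intro a _
    rw [Subgroup.mem_normalizer_iff]
    intro x
    constructor
    · intro hx
      exact hRn.conj_mem _ hx a
    · intro hx
      have := hRn.conj_mem _ hx a⁻¹
      simpa [mul_assoc] using this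
  have hAc : (Nat.card ↥(SemidirectProduct.inr : H →* X ⋊[H.subtype] H).range).Coprime p := by
    rw [← Nat.card_congr (MonoidHom.ofInjective hinrinj).toEquiv]
    exact hcop
  obtain ⟨-, hsup, -, hlast⟩ := Cfsg.Agent.S1447.result p hp2 _ _ hRp hRm hAn hAc
  have hRna : ¬ IsMulCommutative ↥(SemidirectProduct.inl : X →* X ⋊[H.subtype] H).range := by
    intro hc
    apply hna
    refine ⟨⟨fun a b => hinlinj ?_⟩⟩
    have := hc.is_comm.comm ⟨SemidirectProduct.inl a, ⟨a, rfl⟩⟩ ⟨SemidirectProduct.inl b, ⟨b, rfl⟩⟩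
    have h2 := congrArg Subtype.val this
    simpa using h2
  have hAnc : ¬ (SemidirectProduct.inr : H →* X ⋊[H.subtype] H).range ≤
      Subgroup.centralizer (((SemidirectProduct.inl : X →* X ⋊[H.subtype] H).range :
        Subgroup (X ⋊[H.subtype] H)) : Set (X ⋊[H.subtype] H)) := by
    intro hAC
    apply hbot
    rw [eq_bot_iff]
    intro h hh
    rw [Subgroup.mem_bot]
    ext x
    have h1 := hAC (⟨⟨h, hh⟩, rfl⟩ : SemidirectProduct.inr (⟨h, hh⟩ : H) ∈
      (SemidirectProduct.inr : H →* X ⋊[H.subtype] H).range)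
    rw [Subgroup.mem_centralizer_iff] at h1
    have h2 := h1 (SemidirectProduct.inl x) ⟨x, rfl⟩
    have h3 := hconj ⟨h, hh⟩ x
    rw [← h2, mul_inv_cancel_right] at h3
    exact (hinlinj h3).symm
  obtain ⟨-, hcyc, -, -, -⟩ := hlast hRna hAnc
  -- the commutator subgroup is normalized by `H`
  have hfwd : ∀ a ∈ (SemidirectProduct.inr : H →* X ⋊[H.subtype] H).range,
      ∀ c ∈ ⁅(SemidirectProduct.inl : X →* X ⋊[H.subtype] H).range,
        (SemidirectProduct.inr : H →* X ⋊[H.subtype] H).range⁆,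
      a * c * a⁻¹ ∈ ⁅(SemidirectProduct.inl : X →* X ⋊[H.subtype] H).range,
        (SemidirectProduct.inr : H →* X ⋊[H.subtype] H).range⁆ := by
    intro a ha c hc
    have h1 : a * c * a⁻¹ ∈ (⁅(SemidirectProduct.inl : X →* X ⋊[H.subtype] H).range,
        (SemidirectProduct.inr : H →* X ⋊[H.subtype] H).range⁆).map (MulAut.conj a).toMonoidHom :=
      ⟨c, hc, rfl⟩
    rw [Subgroup.map_commutator] at h1
    refine Subgroup.commutator_mono ?_ ?_ h1
    · rintro _ ⟨r, hr, rfl⟩
      exact hRn.conj_mem r hr a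
    · rintro _ ⟨b, hb, rfl⟩
      exact Subgroup.mul_mem _ (Subgroup.mul_mem _ ha hb) (Subgroup.inv_mem _ ha)
  have hiff : ∀ a ∈ (SemidirectProduct.inr : H →* X ⋊[H.subtype] H).range, ∀ c,
      a * c * a⁻¹ ∈ ⁅(SemidirectProduct.inl : X →* X ⋊[H.subtype] H).range,
        (SemidirectProduct.inr : H →* X ⋊[H.subtype] H).range⁆ ↔
      c ∈ ⁅(SemidirectProduct.inl : X →* X ⋊[H.subtype] H).range,
        (SemidirectProduct.inr : H →* X ⋊[H.subtype] H).range⁆ := by
    intro a ha c
    constructor
    · intro h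
      have := hfwd a⁻¹ (Subgroup.inv_mem _ ha) _ h
      simpa [mul_assoc] using this
    · exact hfwd a ha c
  -- the subgroup `N = [X, H]` of `X`
  obtain ⟨N, hNdef⟩ : ∃ N : Subgroup X, N = (⁅(SemidirectProduct.inl : X →* X ⋊[H.subtype] H).range,
        (SemidirectProduct.inr : H →* X ⋊[H.subtype] H).range⁆).comap SemidirectProduct.inl := ⟨_, rfl⟩
  have hmemN : ∀ x : X, x ∈ N ↔ (SemidirectProduct.inl x : X ⋊[H.subtype] H) ∈
      ⁅(SemidirectProduct.inl : X →* X ⋊[H.subtype] H).range,
        (SemidirectProduct.inr : H →* X ⋊[H.subtype] H).range⁆ := by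
    intro x
    rw [hNdef, Subgroup.mem_comap]
  have hNcyc : IsCyclic ↥N := by
    have hcod : ∀ x : N, ((SemidirectProduct.inl : X →* X ⋊[H.subtype] H).comp N.subtype) x ∈
        ⁅(SemidirectProduct.inl : X →* X ⋊[H.subtype] H).range,
        (SemidirectProduct.inr : H →* X ⋊[H.subtype] H).range⁆ := fun x => (hmemN x.1).mp x.2
    apply isCyclic_of_injective
      (((SemidirectProduct.inl : X →* X ⋊[H.subtype] H).comp N.subtype).codRestrict _ hcod)
    intro a b hab
    have h1 := congrArg Subtype.val hab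
    exact Subtype.ext (hinlinj h1)
  have hHN : H ≤ stabSub N := by
    intro h hh x
    rw [hmemN, hmemN, ← hconj ⟨h, hh⟩ x]
    exact hiff _ ⟨_, rfl⟩ _
  -- the restriction homomorphism is injective
  have hρinj : Function.Injective ((restrictAut N).comp (Subgroup.inclusion hHN)) := by
    rw [injective_iff_map_eq_one]
    intro h hρ
    have hfixN : ∀ x ∈ N, (h : MulAut X) x = x := by
      intro x hx
      have h1 := congrArg (fun f : MulAut N => ((f ⟨x, hx⟩ : N) : X)) hρ
      exact h1
    have hle : (SemidirectProduct.inl : X →* X ⋊[H.subtype] H).range ≤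
        (((h : MulAut X) : X ≃* X).toMonoidHom.eqLocus (MonoidHom.id X)).map
          (SemidirectProduct.inl : X →* X ⋊[H.subtype] H) := by
      rw [← hsup]
      apply sup_le
      · intro c hc
        obtain ⟨x, rfl⟩ := Subgroup.commutator_le_left _ _ hc
        exact ⟨x, hfixN x ((hmemN x).mpr hc), rfl⟩
      · rintro c ⟨⟨x, rfl⟩, hc⟩
        have hc := Subgroup.mem_centralizer_iff.mp hc
        have h2 := hc (SemidirectProduct.inr h) ⟨h, rfl⟩
        have h3 := hconj h x
        rw [h2, mul_inv_cancel_right] at h3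
        exact ⟨x, (hinlinj h3).symm, rfl⟩
    apply Subtype.ext
    ext x
    obtain ⟨k, hk, hkx⟩ := hle (⟨x, rfl⟩ : SemidirectProduct.inl x ∈
      (SemidirectProduct.inl : X →* X ⋊[H.subtype] H).range)
    rw [← hinlinj hkx]
    exact hk
  constructor
  · refine ⟨⟨fun a b => hρinj ?_⟩⟩
    rw [map_mul, map_mul]
    apply (IsCyclic.mulAutMulEquiv ↥N).injective
    rw [map_mul, map_mul, mul_comm]
  · intro h hh
    have hNp : IsPGroup p ↥N := hX.to_subgroup N
    obtain ⟨e, he⟩ := hNp.exists_card_eq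
    have h1 : orderOf (⟨h, hh⟩ : H) ∣ Nat.card (MulAut ↥N) := by
      rw [← orderOf_injective _ hρinj]
      exact orderOf_dvd_natCard _
    have h2 : orderOf (⟨h, hh⟩ : H) ∣ Nat.card H := orderOf_dvd_natCard _
    have h3 : (orderOf (⟨h, hh⟩ : H)).Coprime p := Nat.Coprime.coprime_dvd_left h2 hcop
    have h4 : orderOf (⟨h, hh⟩ : H) ∣ p - 1 := by
      rw [IsCyclic.card_mulAut, he] at h1
      rcases Nat.eq_zero_or_pos e with he0 | he0
      · rw [he0, pow_zero, Nat.totient_one] at h1
        exact h1.trans (one_dvd _)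
      · rw [Nat.totient_prime_pow Fact.out he0] at h1
        exact (Nat.Coprime.pow_right _ h3).dvd_of_dvd_mul_left h1
    have h5 : (⟨h, hh⟩ : H) ^ (p - 1) = 1 := orderOf_dvd_iff_pow_eq_one.mp h4
    exact congrArg Subtype.val h5

end Cfsg.H5.SupMeta
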