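import Mathlib
import Cfsg.Agent.S1896
import Cfsg.Agent.Lib.Helper10.MetaAut

set_option autoImplicit false

/-! A metacyclic group of the form `(C_{p^n} × C_{p^n}) × H` (`n ≥ 1`, `H` a finite abelian
`p`-group) has `H = 1`.  Also: non-commutativity of dihedral, quaternion and quasi-dihedral groups, and
`D₄ ≅ C₂ × C₂`. -/

namespace Cfsg.H5.SupMeta

open Cfsg

theorem subsingleton_of_metacyclic_prod {p n : ℕ} [Fact p.Prime] (hn : 0 < n) {H : Type*}
    [CommGroup H] [Finite H] (hH : IsPGroup p H)
    (hm : Cfsg.IsMetacyclic ((Multiplicative (ZMod (p ^ n)) × Multiplicative (ZMod (p ^ n))) × H)) :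
    Subsingleton H := by
  classical
  have hp : p.Prime := Fact.out
  have hpn : NeZero (p ^ n) := ⟨pow_ne_zero _ hp.ne_zero⟩
  have hfinC : Finite (Multiplicative (ZMod (p ^ n))) := inferInstanceAs (Finite (ZMod (p ^ n)))
  -- the elements of order dividing `p`
  have hmV : Cfsg.IsMetacyclic ↥(powMonoidHom p :
      ((Multiplicative (ZMod (p ^ n)) × Multiplicative (ZMod (p ^ n))) × H) →* _).ker :=
    Cfsg.Agent.Lib.Helper10.isMetacyclic_of_injective (Subgroup.subtype _)
      (Subgroup.subtype_injective _) hm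
  have hVle : Nat.card ↥(powMonoidHom p :
      ((Multiplicative (ZMod (p ^ n)) × Multiplicative (ZMod (p ^ n))) × H) →* _).ker ≤ p * p := by
    apply Cfsg.Agent.S1896.card_le_of_isMetacyclic hmV hp.pos
    intro x
    apply Subtype.ext
    have := x.2
    rw [MonoidHom.mem_ker, powMonoidHom_apply] at this
    exact this
  -- an injection
  have hinj : Function.Injective (fun t : (↥(powMonoidHom p : Multiplicative (ZMod (p ^ n)) →* _).ker ×
        ↥(powMonoidHom p : Multiplicative (ZMod (p ^ n)) →* _).ker) × ↥(powMonoidHom p : H →* H).ker =>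
      (⟨((t.1.1.1, t.1.2.1), t.2.1), by
        rw [MonoidHom.mem_ker, powMonoidHom_apply]
        have h1 := t.1.1.2
        have h2 := t.1.2.2
        have h3 := t.2.2
        rw [MonoidHom.mem_ker, powMonoidHom_apply] at h1 h2 h3
        ext
        · exact h1
        · exact h2
        · exact h3⟩ : ↥(powMonoidHom p :
      ((Multiplicative (ZMod (p ^ n)) × Multiplicative (ZMod (p ^ n))) × H) →* _).ker)) := by
    rintro ⟨⟨a, b⟩, c⟩ ⟨⟨a', b'⟩, c'⟩ h
    have h1 := congrArg Subtype.val h
    simp only [Prod.mk.injEq] at h1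
    obtain ⟨⟨h2, h3⟩, h4⟩ := h1
    rw [Subtype.ext h2, Subtype.ext h3, Subtype.ext h4]
  have hcard := Nat.card_le_card_of_injective _ hinj
  rw [Nat.card_prod, Nat.card_prod] at hcard
  -- the kernel on the cyclic factor has at least `p` elements
  have hple : p ≤ Nat.card ↥(powMonoidHom p : Multiplicative (ZMod (p ^ n)) →* _).ker := by
    have hc0 : (Multiplicative.ofAdd (((p ^ (n - 1) : ℕ) : ZMod (p ^ n))) : Multiplicative (ZMod (p ^ n))) ^ p = 1 := by
      rw [← ofAdd_nsmul, nsmul_eq_mul, ← Nat.cast_mul, ← pow_succ', Nat.sub_add_cancel hn,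
        ZMod.natCast_self]
      rfl
    have hc1 : (Multiplicative.ofAdd (((p ^ (n - 1) : ℕ) : ZMod (p ^ n))) : Multiplicative (ZMod (p ^ n))) ≠ 1 := by
      intro h
      have h1 : (((p ^ (n - 1) : ℕ) : ZMod (p ^ n))) = 0 := h
      rw [ZMod.natCast_eq_zero_iff] at h1
      have h2 := Nat.le_of_dvd (pow_pos hp.pos _) h1
      have h3 : p ^ (n - 1) < p ^ n := Nat.pow_lt_pow_right hp.one_lt (by omega)
      omega
    have ho := orderOf_eq_prime hc0 hc1
    have hle : Subgroup.zpowers (Multiplicative.ofAdd (((p ^ (n - 1) : ℕ) : ZMod (p ^ n))) :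
        Multiplicative (ZMod (p ^ n))) ≤ (powMonoidHom p : Multiplicative (ZMod (p ^ n)) →* _).ker := by
      rw [Subgroup.zpowers_le, MonoidHom.mem_ker, powMonoidHom_apply]
      exact hc0
    have := Subgroup.card_le_of_le hle
    rw [Nat.card_zpowers, ho] at this
    exact this
  -- hence the kernel on `H` is trivial
  have hV3 : Nat.card ↥(powMonoidHom p : H →* H).ker ≤ 1 := by
    by_contra hcon
    have h2 : 2 ≤ Nat.card ↥(powMonoidHom p : H →* H).ker := by omega
    have h3 : p * p * 2 ≤ Nat.card ↥(powMonoidHom p : Multiplicative (ZMod (p ^ n)) →* _).ker *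
        Nat.card ↥(powMonoidHom p : Multiplicative (ZMod (p ^ n)) →* _).ker *
        Nat.card ↥(powMonoidHom p : H →* H).ker :=
      Nat.mul_le_mul (Nat.mul_le_mul hple hple) h2
    have h4 : 0 < p * p := Nat.mul_pos hp.pos hp.pos
    omega
  -- so `H` is trivial
  by_contra hns
  rw [not_subsingleton_iff_nontrivial] at hns
  have hcardH : Nat.card H ≠ 1 := by
    intro h
    rw [Nat.card_eq_one_iff_unique] at h
    exact (not_subsingleton H) h.1
  obtain ⟨k, hk⟩ := hH.exists_card_eq
  have hk0 : k ≠ 0 := by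
    rintro rfl
    exact hcardH (by rw [hk, pow_zero])
  have hdvd : p ∣ Nat.card H := by rw [hk]; exact dvd_pow_self p hk0
  obtain ⟨h0, hh0⟩ := exists_prime_orderOf_dvd_card' p hdvd
  have hmem : h0 ∈ (powMonoidHom p : H →* H).ker := by
    rw [MonoidHom.mem_ker, powMonoidHom_apply, ← hh0, pow_orderOf_eq_one]
  have hbot := (Subgroup.card_le_one_iff_eq_bot _).mp hV3
  rw [hbot, Subgroup.mem_bot] at hmem
  rw [hmem, orderOf_one] at hh0
  exact hp.one_lt.ne hh0

/-- a commutative dihedral group has degree at most two -/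
theorem le_two_of_comm_dihedral {n : ℕ}
    (h : ∀ a b : DihedralGroup n, a * b = b * a) : n ≤ 2 := by
  have h1 := h (DihedralGroup.r 1) (DihedralGroup.sr 0)
  rw [DihedralGroup.r_mul_sr, DihedralGroup.sr_mul_r, DihedralGroup.sr.injEq] at h1
  have h2 : ((2 : ℕ) : ZMod n) = 0 := by
    push_cast
    linear_combination -h1
  rw [ZMod.natCast_eq_zero_iff] at h2
  exact Nat.le_of_dvd (by norm_num) h2

/-- a commutative quaternion group has degree at most one -/
theorem le_one_of_comm_quaternion {n : ℕ}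
    (h : ∀ a b : QuaternionGroup n, a * b = b * a) : n ≤ 1 := by
  have h1 := h (QuaternionGroup.a 1) (QuaternionGroup.xa 0)
  rw [QuaternionGroup.a_mul_xa, QuaternionGroup.xa_mul_a, QuaternionGroup.xa.injEq] at h1
  have h2 : ((2 : ℕ) : ZMod (2 * n)) = 0 := by
    push_cast
    linear_combination -h1
  rw [ZMod.natCast_eq_zero_iff] at h2
  have := Nat.le_of_dvd (by norm_num) h2
  omega

/-- a quasi-dihedral group is not commutative -/
theorem not_comm_of_isQuasiDihedral {X : Type*} [Group X] (hq : Cfsg.IsQuasiDihedral X)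
    (h : ∀ a b : X, a * b = b * a) : False := by
  obtain ⟨n, hn, -, x, y, hx, -, hrel⟩ := hq
  rw [h y x, mul_inv_cancel_right] at hrel
  have h2 : 2 ^ 2 ≤ 2 ^ (n - 1) := Nat.pow_le_pow_right (by norm_num) (by omega)
  have h1 : x ^ (2 ^ (n - 1) - 2) = 1 := by
    have h3 : 2 ^ (n - 1) - 1 = (2 ^ (n - 1) - 2) + 1 := by omega
    rw [h3, pow_succ] at hrel
    exact (mul_eq_right.mp hrel.symm)
  have h3 := orderOf_dvd_of_pow_eq_one h1
  rw [hx] at h3
  have h4 := Nat.le_of_dvd (by omega) h3
  have h5 : 2 ^ (n - 1) < 2 ^ n := Nat.pow_lt_pow_right (by norm_num) (by omega)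
  omega

/-- the Klein four-group as a dihedral group -/
def dihTwoEquiv : DihedralGroup 2 ≃* Multiplicative (ZMod 2) × Multiplicative (ZMod 2) where
  toFun
    | DihedralGroup.r i => (Multiplicative.ofAdd i, 1)
    | DihedralGroup.sr i => (Multiplicative.ofAdd i, Multiplicative.ofAdd 1)
  invFun t := if Multiplicative.toAdd t.2 = 0 then DihedralGroup.r (Multiplicative.toAdd t.1)
    else DihedralGroup.sr (Multiplicative.toAdd t.1)
  left_inv := by decide
  right_inv := by decide
  map_mul' := by decide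

end Cfsg.H5.SupMeta
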