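import Mathlib

set_option autoImplicit false

namespace Cfsg.H5

open MulAction

/-- A Sylow `p`-subgroup of a finite group acting transitively on a set of `p`-power size
is itself transitive. -/
theorem sylow_transitive_of_card_prime_pow {G : Type*} [Group G] [Finite G] {p f : ℕ}
    [hp : Fact p.Prime] {Ω : Type*} [Finite Ω] [MulAction G Ω] [IsPretransitive G Ω]
    (hcard : Nat.card Ω = p ^ f) (P : Sylow p G) (x y : Ω) : ∃ g ∈ (P : Subgroup G), g • x = y := by
  classical
  set H : Subgroup G := stabilizer G x with hH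
  have hHidx : H.index = p ^ f := by
    rw [hH, index_stabilizer_of_transitive, hcard]
  -- the stabilizer of `x` in `P`
  have hstab : stabilizer (P : Subgroup G) x = H.subgroupOf (P : Subgroup G) := by
    ext g
    simp [hH, Subgroup.mem_subgroupOf, mem_stabilizer_iff, Subgroup.smul_def]
  have horb : (H.subgroupOf (P : Subgroup G)).index = (orbit (P : Subgroup G) x).ncard := by
    rw [← hstab, index_stabilizer]
  -- `p ^ f ∣ |P : P ∩ H|`
  have h1 : (H ⊓ (P : Subgroup G)).relIndex (P : Subgroup G) * (P : Subgroup G).index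
      = (H ⊓ (P : Subgroup G)).index := Subgroup.relIndex_mul_index inf_le_right
  have h2 : H.index ∣ (H ⊓ (P : Subgroup G)).index := Subgroup.index_dvd_of_le inf_le_left
  rw [Subgroup.inf_relIndex_right] at h1
  have h3 : p ^ f ∣ H.relIndex (P : Subgroup G) * (P : Subgroup G).index := by
    rw [h1, ← hHidx]; exact h2
  have hcop : (p ^ f).Coprime (P : Subgroup G).index := by
    apply Nat.Coprime.pow_left
    rw [Nat.Prime.coprime_iff_not_dvd hp.out]
    exact P.not_dvd_index
  have h4 : p ^ f ∣ H.relIndex (P : Subgroup G) := hcop.dvd_of_dvd_mul_right h3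
  have h5 : p ^ f ≤ (orbit (P : Subgroup G) x).ncard := by
    rw [← horb]
    apply Nat.le_of_dvd _ h4
    exact Nat.pos_of_ne_zero Subgroup.FiniteIndex.index_ne_zero
  have h6 : orbit (P : Subgroup G) x = Set.univ := by
    rw [Set.eq_univ_iff_ncard, hcard]
    apply le_antisymm _ h5
    rw [← hcard]
    exact Set.ncard_le_card _
  have hy : y ∈ orbit (P : Subgroup G) x := by rw [h6]; trivial
  obtain ⟨g, hg⟩ := hy
  exact ⟨g.1, g.2, hg⟩

end Cfsg.H5
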