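import Mathlib

/-!
# A small verified replay checker for Todd–Coxeter coset enumeration logs (helper5)

`tc_sound`: if the relators hold in `Γ`, the subgroup generators lie in `K`, the letters generate
`Γ` and the log replays to a closed table with `n` live cosets, then `|Γ| ≤ n * |K|`.

The checker only ever *adds true facts* `K τ_c · l = K τ_t` to a table; the final test only asks
that the live cosets be closed under all letters.
-/

set_option autoImplicit false
set_option linter.unusedVariables false
set_option linter.unusedSectionVars false

namespace Cfsg.H5.TCk

/-! ### a binary trie `ℕ → ℕ` -/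

inductive BT where
  | leaf : BT
  | node : BT → ℕ → BT → BT

def BT.get : BT → ℕ → ℕ
  | .leaf, _ => 0
  | .node l v r, k =>
    if k = 0 then v else if k % 2 = 1 then l.get (k / 2) else r.get (k / 2 - 1)

def BT.set : ℕ → BT → ℕ → ℕ → BT
  | 0, t, _, _ => t
  | f + 1, .leaf, k, v =>
    if k = 0 then .node .leaf v .leaf
    else if k % 2 = 1 then .node (BT.set f .leaf (k / 2) v) 0 .leaf
    else .node .leaf 0 (BT.set f .leaf (k / 2 - 1) v)
  | f + 1, .node l w r, k, v =>
    if k = 0 then .node l v r
    else if k % 2 = 1 then .node (BT.set f l (k / 2) v) w r
    else .node l w (BT.set f r (k / 2 - 1) v)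

theorem BT.get_leaf (k : ℕ) : BT.get .leaf k = 0 := rfl

/-- reading after writing gives the old value or the written one -/
theorem BT.get_set (f : ℕ) : ∀ (t : BT) (k v k' : ℕ),
    (BT.set f t k v).get k' = t.get k' ∨ ((BT.set f t k v).get k' = v ∧ k' = k) := by
  induction f with
  | zero => intro t k v k'; left; rfl
  | succ f ih =>
    intro t k v k'
    cases t with
    | leaf =>
      simp only [BT.set]
      by_cases hk : k = 0
      · simp only [hk, if_true]
        by_cases hk' : k' = 0
        · right; simp [BT.get, hk']
        · left; simp only [BT.get, hk', if_false]; split_ifs <;> rfl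
      · simp only [hk, if_false]
        by_cases hp : k % 2 = 1
        · simp only [hp, if_true]
          by_cases hk' : k' = 0
          · left; simp [BT.get, hk']
          · by_cases hp' : k' % 2 = 1
            · simp only [BT.get, hk', hp', if_false, if_true]
              rcases ih .leaf (k / 2) v (k' / 2) with h | ⟨h1, h2⟩
              · left; rw [h]; rfl
              · right; exact ⟨h1, by omega⟩
            · left; simp only [BT.get, hk', hp', if_false]
        · simp only [hp, if_false]
          by_cases hk' : k' = 0
          · left; simp [BT.get, hk']
          · by_cases hp' : k' % 2 = 1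
            · left; simp only [BT.get, hk', hp', if_false, if_true]
            · simp only [BT.get, hk', hp', if_false]
              rcases ih .leaf (k / 2 - 1) v (k' / 2 - 1) with h | ⟨h1, h2⟩
              · left; rw [h]; rfl
              · right; exact ⟨h1, by omega⟩
    | node l w r =>
      simp only [BT.set]
      by_cases hk : k = 0
      · simp only [hk, if_true]
        by_cases hk' : k' = 0
        · right; simp [BT.get, hk']
        · left; simp only [BT.get, hk', if_false]
      · simp only [hk, if_false]
        by_cases hp : k % 2 = 1
        · simp only [hp, if_true]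
          by_cases hk' : k' = 0
          · left; simp [BT.get, hk']
          · by_cases hp' : k' % 2 = 1
            · simp only [BT.get, hk', hp', if_false, if_true]
              rcases ih l (k / 2) v (k' / 2) with h | ⟨h1, h2⟩
              · left; exact h
              · right; exact ⟨h1, by omega⟩
            · left; simp only [BT.get, hk', hp', if_false]
        · simp only [hp, if_false]
          by_cases hk' : k' = 0
          · left; simp [BT.get, hk']
          · by_cases hp' : k' % 2 = 1
            · left; simp only [BT.get, hk', hp', if_false, if_true]
            · simp only [BT.get, hk', hp', if_false]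
              rcases ih r (k / 2 - 1) v (k' / 2 - 1) with h | ⟨h1, h2⟩
              · left; exact h
              · right; exact ⟨h1, by omega⟩


/-! ### the checker -/

structure St where
  tbl : BT
  rep : BT

def look (s : St) (c l : ℕ) : ℕ := s.tbl.get (Nat.pair c l)

def setE (D : ℕ) (s : St) (c l v : ℕ) : St := { s with tbl := s.tbl.set D (Nat.pair c l) v }

def setR (D : ℕ) (s : St) (c v : ℕ) : St := { s with rep := s.rep.set D c v }

def find : ℕ → St → ℕ → ℕ
  | 0, _, c => c
  | f + 1, s, c =>
    match s.rep.get c with
    | 0 => c
    | r + 1 => find f s r

def linv (l : ℕ) : ℕ := if l % 2 = 0 then l + 1 else l - 1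

def winv : List ℕ → List ℕ
  | [] => []
  | l :: w => winv w ++ [linv l]

def trace (F : ℕ) (s : St) : ℕ → List ℕ → Option ℕ
  | c, [] => some c
  | c, l :: w =>
    match look s c l with
    | 0 => none
    | t + 1 => trace F s (find F s t) w

def copyRow (D x y : ℕ) : List ℕ → St → St
  | [], s => s
  | l :: ls, s =>
    copyRow D x y ls
      (if look s x l = 0 then s else if look s y l = 0 then setE D s y l (look s x l) else s)

/-- merge the larger of two cosets into the smaller -/
def union (D nl : ℕ) (s : St) (x y : ℕ) : St :=
  if x = y then s
  else copyRow D (max x y) (min x y) (List.range nl) (setR D s (max x y) (min x y + 1))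

def addHalf (D F nl : ℕ) (s : St) (p l q : ℕ) : St :=
  match look s p l with
  | 0 => setE D s p l (q + 1)
  | t + 1 => union D nl s (find F s t) (find F s q)

def addFact (D F nl : ℕ) (s : St) (p l q : ℕ) : St :=
  let s1 := addHalf D F nl s p l q
  addHalf D F nl s1 (find F s1 q) (linv l) (find F s1 p)

inductive Step where
  | D : ℕ → Step
  | R : ℕ → ℕ → ℕ → Step
  | G : ℕ → ℕ → Step
  | C : ℕ → ℕ → ℕ → Step

def scanAt (D F nl : ℕ) (s : St) (a0 : ℕ) (w : List ℕ) (pos : ℕ) : Option St :=
  match w.drop pos with
  | [] => none
  | l :: v =>
    match trace F s a0 (w.take pos), trace F s a0 (winv v) with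
    | some p, some q => some (addFact D F nl s p l q)
    | _, _ => none

def step (D F nl : ℕ) (defs : List (ℕ × ℕ)) (rels sgens : List (List ℕ)) (s : St) :
    Step → Option St
  | .D k =>
    if (defs.getD k (0, 0)).1 ≤ k then
      some (setE D (setE D s (defs.getD k (0, 0)).1 (defs.getD k (0, 0)).2 (k + 2))
        (k + 1) (linv (defs.getD k (0, 0)).2) ((defs.getD k (0, 0)).1 + 1))
    else none
  | .R a ri pos => scanAt D F nl s (find F s a) (rels.getD ri []) pos
  | .G gi pos => scanAt D F nl s 0 (sgens.getD gi []) pos
  | .C a b l =>
    if find F s a = find F s b then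
      match look s a l, look s b l with
      | t + 1, u + 1 => some (union D nl s (find F s t) (find F s u))
      | _, _ => none
    else none

def run (D F nl : ℕ) (defs : List (ℕ × ℕ)) (rels sgens : List (List ℕ)) :
    St → List Step → Option St
  | s, [] => some s
  | s, st :: rest =>
    match step D F nl defs rels sgens s st with
    | none => none
    | some s' => run D F nl defs rels sgens s' rest

def isRoot (s : St) (c : ℕ) : Bool := s.rep.get c == 0

def closedAt (F nl ncos : ℕ) (s : St) (c : ℕ) : Bool :=
  (List.range nl).all fun l =>
    match look s c l with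
    | 0 => false
    | t + 1 => decide (find F s t < ncos) && isRoot s (find F s t)

def finalOK (F nl ncos : ℕ) (s : St) : Bool :=
  (decide (find F s 0 < ncos) && isRoot s (find F s 0)) &&
    (List.range ncos).all fun c => !isRoot s c || closedAt F nl ncos s c

def roots (ncos : ℕ) (s : St) : List ℕ := (List.range ncos).filter (isRoot s)

/-- decode a step from a number: tag in the two low bits, then three fields of 20 bits -/
def Step.ofNat (n : ℕ) : Step :=
  match n % 4 with
  | 0 => .D (n / 4)
  | 1 => .R (n / 4 % 1048576) (n / 4 / 1048576 % 1048576) (n / 4 / 1048576 / 1048576)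
  | 2 => .G (n / 4 % 1048576) (n / 4 / 1048576 % 1048576)
  | _ => .C (n / 4 % 1048576) (n / 4 / 1048576 % 1048576) (n / 4 / 1048576 / 1048576)

def check (D F nl ncos bound : ℕ) (defs : List (ℕ × ℕ)) (rels sgens : List (List ℕ))
    (log : List ℕ) : Bool :=
  match run D F nl defs rels sgens ⟨.leaf, .leaf⟩ (log.map Step.ofNat) with
  | none => false
  | some s => finalOK F nl ncos s && decide ((roots ncos s).length ≤ bound)

end Cfsg.H5.TCk
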