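import Mathlib

/-!
# A verified replay checker for Todd–Coxeter logs, tables packed into natural numbers (helper5)

Same semantics and step format as `Cfsg.H5.TCk`, but the coset table is one packed natural number per
letter (fields of `W` bits), so that kernel evaluation uses GMP arithmetic and stays small in memory.
The first parameter `D` of `check` is the field width `W`: every coset number must be `< 2 ^ W - 1`.

`tc_sound`: if the relators hold in `Γ`, the subgroup generators lie in `K`, the letters generate
`Γ` and the log replays to a closed table with `n` live cosets, then `|Γ| ≤ n * |K|`.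

The checker only ever *adds true facts* `K τ_c · l = K τ_t` to a table; the final test only asks
that the live cosets be closed under all letters.
-/

set_option autoImplicit false
set_option linter.unusedVariables false
set_option linter.unusedSectionVars false

namespace Cfsg.H5.TCk2

/-! ### packed arrays of `W`-bit fields in a natural number -/

def pget (W T k : ℕ) : ℕ := (T >>> (64 + W * k)) % 2 ^ W

/-- a pseudo-random stamp below `2 ^ 64`: the kernel hashes a numeral by its low 64 bits only, so
every write also changes the low 64 bits, which carry no data -/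
def stamp (T k v : ℕ) : ℕ :=
  ((T % 18446744073709551616) ^^^
    (((T % 18446744073709551616) * 6364136223846793005 + 1442695040888963407 + k * 1048583 + v) %
      18446744073709551616))

theorem stamp_lt (T k v : ℕ) : stamp T k v < 2 ^ 64 := by
  unfold stamp
  exact Nat.xor_lt_two_pow (Nat.mod_lt _ (by norm_num)) (Nat.mod_lt _ (by norm_num))

def pset (W T k v : ℕ) : ℕ :=
  if v < 2 ^ W then (T ^^^ ((pget W T k ^^^ v) <<< (64 + W * k))) ^^^ stamp T k v else T

theorem pget_zero (W k : ℕ) : pget W 0 k = 0 := by
  unfold pget
  simp

theorem pget_lt (W T k : ℕ) : pget W T k < 2 ^ W := Nat.mod_lt _ (Nat.two_pow_pos W)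

theorem testBit_pget (W T k j : ℕ) :
    (pget W T k).testBit j = (decide (j < W) && T.testBit (64 + W * k + j)) := by
  unfold pget
  rw [Nat.testBit_mod_two_pow, Nat.testBit_shiftRight]

theorem testBit_stamp (T k v i : ℕ) : (stamp T k v).testBit (64 + i) = false :=
  Nat.testBit_lt_two_pow
    (lt_of_lt_of_le (stamp_lt T k v) (Nat.pow_le_pow_right (by norm_num) (by omega)))

/-- reading after writing gives the old value or the written one -/
theorem pget_pset (W T k v k' : ℕ) :
    pget W (pset W T k v) k' = pget W T k' ∨ (pget W (pset W T k v) k' = v ∧ k' = k) := by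
  unfold pset
  by_cases hv : v < 2 ^ W
  · rw [if_pos hv]
    have hd : pget W T k ^^^ v < 2 ^ W := Nat.xor_lt_two_pow (pget_lt W T k) hv
    by_cases hk : k' = k
    · right
      refine ⟨?_, hk⟩
      subst hk
      apply Nat.eq_of_testBit_eq
      intro j
      rw [testBit_pget, Nat.testBit_xor, Nat.testBit_xor, Nat.testBit_shiftLeft]
      by_cases hj : j < W
      · have h1 : 64 + W * k' + j ≥ 64 + W * k' := Nat.le_add_right _ _
        have h2 : 64 + W * k' + j - (64 + W * k') = j := by omega
        have h7 : (stamp T k' v).testBit (64 + W * k' + j) = false := by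
          rw [Nat.add_assoc]; exact testBit_stamp T k' v _
        simp only [hj, decide_true, Bool.true_and, h1, h2, h7, Nat.testBit_xor, testBit_pget,
          Bool.xor_false]
        cases T.testBit (64 + W * k' + j) <;> cases v.testBit j <;> rfl
      · have h3 : v.testBit j = false :=
          Nat.testBit_lt_two_pow (lt_of_lt_of_le hv (Nat.pow_le_pow_right (by norm_num) (by omega)))
        simp [hj, h3]
    · left
      apply Nat.eq_of_testBit_eq
      intro j
      rw [testBit_pget, testBit_pget, Nat.testBit_xor, Nat.testBit_xor, Nat.testBit_shiftLeft]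
      by_cases hj : j < W
      · simp only [hj, decide_true, Bool.true_and]
        have h7 : (stamp T k v).testBit (64 + W * k' + j) = false := by
          rw [Nat.add_assoc]; exact testBit_stamp T k v _
        have : (decide (64 + W * k' + j ≥ 64 + W * k) &&
            (pget W T k ^^^ v).testBit (64 + W * k' + j - (64 + W * k))) = false := by
          rcases Nat.lt_or_gt_of_ne hk with hlt | hgt
          · have h4 : W * k' + j < W * k := by
              have : W * (k' + 1) ≤ W * k := Nat.mul_le_mul_left W hlt
              rw [Nat.mul_succ] at this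
              omega
            have : ¬ (64 + W * k' + j ≥ 64 + W * k) := by omega
            simp [this]
          · have h5 : W * (k + 1) ≤ W * k' := Nat.mul_le_mul_left W hgt
            rw [Nat.mul_succ] at h5
            have h6 : (pget W T k ^^^ v).testBit (64 + W * k' + j - (64 + W * k)) = false :=
              Nat.testBit_lt_two_pow
                (lt_of_lt_of_le hd (Nat.pow_le_pow_right (by norm_num) (by omega)))
            rw [h6, Bool.and_false]
        rw [this, h7, Bool.xor_false, Bool.xor_false]
      · simp [hj]
  · rw [if_neg hv]
    left; rfl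

theorem getD_set_eq (t : List ℕ) (l x l' : ℕ) :
    (t.set l x).getD l' 0 = t.getD l' 0 ∨ ((t.set l x).getD l' 0 = x ∧ l' = l) := by
  by_cases h : l' = l
  · subst h
    by_cases hl : l' < t.length
    · right
      refine ⟨?_, rfl⟩
      rw [List.getD_eq_getElem?_getD, List.getElem?_set_self hl]
      rfl
    · left
      rw [List.set_eq_of_length_le (by omega)]
  · left
    rw [List.getD_eq_getElem?_getD, List.getD_eq_getElem?_getD, List.getElem?_set_ne (Ne.symm h)]


/-! ### the checker -/

structure St where
  w : ℕ
  tbl : List ℕ
  rep : ℕ

def look (s : St) (c l : ℕ) : ℕ := pget s.w (s.tbl.getD l 0) c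

def St.rget (s : St) (c : ℕ) : ℕ := pget s.w s.rep c

def setE (D : ℕ) (s : St) (c l v : ℕ) : St :=
  { s with tbl := s.tbl.set l (pset s.w (s.tbl.getD l 0) c v) }

def setR (D : ℕ) (s : St) (c v : ℕ) : St := { s with rep := pset s.w s.rep c v }

/-- the empty state with field width `W` and `nl` letters -/
def St.init (W nl : ℕ) : St := ⟨W, List.replicate nl 0, 0⟩

def find : ℕ → St → ℕ → ℕ
  | 0, _, c => c
  | f + 1, s, c =>
    match s.rget c with
    | 0 => c
    | r + 1 => find f s r

def linv (l : ℕ) : ℕ := if l % 2 = 0 then l + 1 else l - 1

def winv : List ℕ → List ℕ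
  | [] => []
  | l :: w => winv w ++ [linv l]

def trace (F : ℕ) (s : St) : ℕ → List ℕ → Option ℕ
  | c, [] => some c
  | c, l :: w =>
    match look s c l with
    | 0 => none
    | t + 1 => trace F s (find F s t) w

def copyRow (D x y : ℕ) : List ℕ → St → St
  | [], s => s
  | l :: ls, s =>
    copyRow D x y ls
      (if look s x l = 0 then s else if look s y l = 0 then setE D s y l (look s x l) else s)

/-- merge the larger of two cosets into the smaller -/
def union (D nl : ℕ) (s : St) (x y : ℕ) : St :=
  if x = y then s
  else copyRow D (max x y) (min x y) (List.range nl) (setR D s (max x y) (min x y + 1))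

def addHalf (D F nl : ℕ) (s : St) (p l q : ℕ) : St :=
  match look s p l with
  | 0 => setE D s p l (q + 1)
  | t + 1 => union D nl s (find F s t) (find F s q)

def addFact (D F nl : ℕ) (s : St) (p l q : ℕ) : St :=
  let s1 := addHalf D F nl s p l q
  addHalf D F nl s1 (find F s1 q) (linv l) (find F s1 p)

inductive Step where
  | D : ℕ → Step
  | R : ℕ → ℕ → ℕ → Step
  | G : ℕ → ℕ → Step
  | C : ℕ → ℕ → ℕ → Step

def scanAt (D F nl : ℕ) (s : St) (a0 : ℕ) (w : List ℕ) (pos : ℕ) : Option St :=
  match w.drop pos with
  | [] => none
  | l :: v =>
    match trace F s a0 (w.take pos), trace F s a0 (winv v) with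
    | some p, some q => some (addFact D F nl s p l q)
    | _, _ => none

def step (D F nl : ℕ) (defs : List (ℕ × ℕ)) (rels sgens : List (List ℕ)) (s : St) :
    Step → Option St
  | .D k =>
    if (defs.getD k (0, 0)).1 ≤ k then
      some (setE D (setE D s (defs.getD k (0, 0)).1 (defs.getD k (0, 0)).2 (k + 2))
        (k + 1) (linv (defs.getD k (0, 0)).2) ((defs.getD k (0, 0)).1 + 1))
    else none
  | .R a ri pos => scanAt D F nl s (find F s a) (rels.getD ri []) pos
  | .G gi pos => scanAt D F nl s 0 (sgens.getD gi []) pos
  | .C a b l =>
    if find F s a = find F s b then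
      match look s a l, look s b l with
      | t + 1, u + 1 => some (union D nl s (find F s t) (find F s u))
      | _, _ => none
    else none

def run (D F nl : ℕ) (defs : List (ℕ × ℕ)) (rels sgens : List (List ℕ)) :
    St → List Step → Option St
  | s, [] => some s
  | s, st :: rest =>
    match step D F nl defs rels sgens s st with
    | none => none
    | some s' => run D F nl defs rels sgens s' rest

def isRoot (s : St) (c : ℕ) : Bool := s.rget c == 0

def closedAt (F nl ncos : ℕ) (s : St) (c : ℕ) : Bool :=
  (List.range nl).all fun l =>
    match look s c l with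
    | 0 => false
    | t + 1 => decide (find F s t < ncos) && isRoot s (find F s t)

def finalOK (F nl ncos : ℕ) (s : St) : Bool :=
  (decide (find F s 0 < ncos) && isRoot s (find F s 0)) &&
    (List.range ncos).all fun c => !isRoot s c || closedAt F nl ncos s c

def roots (ncos : ℕ) (s : St) : List ℕ := (List.range ncos).filter (isRoot s)

/-- decode a step from a number: tag in the two low bits, then three fields of 20 bits -/
def Step.ofNat (n : ℕ) : Step :=
  match n % 4 with
  | 0 => .D (n / 4)
  | 1 => .R (n / 4 % 1048576) (n / 4 / 1048576 % 1048576) (n / 4 / 1048576 / 1048576)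
  | 2 => .G (n / 4 % 1048576) (n / 4 / 1048576 % 1048576)
  | _ => .C (n / 4 % 1048576) (n / 4 / 1048576 % 1048576) (n / 4 / 1048576 / 1048576)

def check (D F nl ncos bound : ℕ) (defs : List (ℕ × ℕ)) (rels sgens : List (List ℕ))
    (log : List ℕ) : Bool :=
  match run D F nl defs rels sgens (St.init D nl) (log.map Step.ofNat) with
  | none => false
  | some s => finalOK F nl ncos s && decide ((roots ncos s).length ≤ bound)

/-! ### strict evaluation: the state is evaluated to numerals after every step -/

/-- evaluate a number before passing it on -/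
def force {β : Sort*} (x : ℕ) (f : ℕ → β) : β :=
  Nat.rec (motive := fun _ => β) (f 0) (fun m _ => f m) (x + 1)

theorem force_eq {β : Sort*} (x : ℕ) (f : ℕ → β) : force x f = f x := rfl

def forceList {β : Sort*} : List ℕ → (List ℕ → β) → β
  | [], k => k []
  | x :: xs, k => force x fun x' => forceList xs fun xs' => k (x' :: xs')

theorem forceList_eq {β : Sort*} (l : List ℕ) (k : List ℕ → β) : forceList l k = k l := by
  induction l generalizing k with
  | nil => rfl
  | cons x xs ih => rw [forceList, force_eq, ih]

def St.strict {β : Sort*} (s : St) (k : St → β) : β :=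
  force s.w fun w => force s.rep fun r => forceList s.tbl fun t => k ⟨w, t, r⟩

theorem St.strict_eq {β : Sort*} (s : St) (k : St → β) : s.strict k = k s := by
  unfold St.strict
  rw [force_eq, force_eq, forceList_eq]

/-- the definition step with the pair `(p, l)` given directly -/
def stepD (D : ℕ) (s : St) (k p l : ℕ) : Option St :=
  if p ≤ k then some (setE D (setE D s p l (k + 2)) (k + 1) (linv l) (p + 1)) else none

theorem step_D (D F nl : ℕ) (defs : List (ℕ × ℕ)) (rels sgens : List (List ℕ)) (s : St) (k : ℕ) :
    step D F nl defs rels sgens s (.D k) =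
      stepD D s k (defs.getD k (0, 0)).1 (defs.getD k (0, 0)).2 := rfl

/-- one step of the strict run; the definitions are consumed from the front of `rem = defs.drop nd` -/
def nextS (D F nl : ℕ) (defs : List (ℕ × ℕ)) (rels sgens : List (List ℕ))
    (nd : ℕ) (rem : List (ℕ × ℕ)) (s : St) (st : ℕ) : Option (St × ℕ × List (ℕ × ℕ)) :=
  match Step.ofNat st with
  | .D k =>
    match rem with
    | pl :: rem' =>
      if k = nd then (stepD D s k pl.1 pl.2).map fun s' => (s', nd + 1, rem')
      else (step D F nl defs rels sgens s (.D k)).map fun s' => (s', nd, pl :: rem')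
    | [] => (step D F nl defs rels sgens s (.D k)).map fun s' => (s', nd, [])
  | .R a ri pos => (step D F nl defs rels sgens s (.R a ri pos)).map fun s' => (s', nd, rem)
  | .G gi pos => (step D F nl defs rels sgens s (.G gi pos)).map fun s' => (s', nd, rem)
  | .C a b l => (step D F nl defs rels sgens s (.C a b l)).map fun s' => (s', nd, rem)

def runS (D F nl : ℕ) (defs : List (ℕ × ℕ)) (rels sgens : List (List ℕ)) :
    ℕ → List (ℕ × ℕ) → St → List ℕ → Option St
  | _, _, s, [] => some s
  | nd, rem, s, st :: rest =>
    match nextS D F nl defs rels sgens nd rem s st with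
    | none => none
    | some (s', nd', rem') => s'.strict fun s'' => force nd' fun nd'' =>
        runS D F nl defs rels sgens nd'' rem' s'' rest

theorem getD_of_drop_eq_cons (defs : List (ℕ × ℕ)) (k : ℕ) (pl : ℕ × ℕ) (rem' : List (ℕ × ℕ))
    (h : defs.drop k = pl :: rem') : defs.getD k (0, 0) = pl ∧ defs.drop (k + 1) = rem' := by
  constructor
  · rw [List.getD_eq_getElem?_getD, ← List.head?_drop, h]
    rfl
  · rw [← List.tail_drop, h]
    rfl

theorem nextS_spec (D F nl : ℕ) (defs : List (ℕ × ℕ)) (rels sgens : List (List ℕ))
    (nd : ℕ) (s : St) (st : ℕ) :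
    ∃ nd', nextS D F nl defs rels sgens nd (defs.drop nd) s st =
      (step D F nl defs rels sgens s (Step.ofNat st)).map fun s' => (s', nd', defs.drop nd') := by
  unfold nextS
  cases Step.ofNat st with
  | D k =>
    simp only
    cases hrem : defs.drop nd with
    | nil => exact ⟨nd, by simp only [hrem]⟩
    | cons pl rem' =>
      simp only
      by_cases hk : k = nd
      · subst hk
        obtain ⟨h1, h2⟩ := getD_of_drop_eq_cons defs k pl rem' hrem
        refine ⟨k + 1, ?_⟩
        rw [if_pos rfl, step_D, h1, h2]
      · refine ⟨nd, ?_⟩
        rw [if_neg hk, hrem]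
  | R a ri pos => exact ⟨nd, rfl⟩
  | G gi pos => exact ⟨nd, rfl⟩
  | C a b l => exact ⟨nd, rfl⟩

theorem runS_eq (D F nl : ℕ) (defs : List (ℕ × ℕ)) (rels sgens : List (List ℕ))
    (log : List ℕ) : ∀ (nd : ℕ) (s : St),
    runS D F nl defs rels sgens nd (defs.drop nd) s log =
      run D F nl defs rels sgens s (log.map Step.ofNat) := by
  induction log with
  | nil => intro nd s; rfl
  | cons st rest ih =>
    intro nd s
    rw [List.map_cons, run, runS]
    obtain ⟨nd', h⟩ := nextS_spec D F nl defs rels sgens nd s st
    rw [h]
    cases step D F nl defs rels sgens s (Step.ofNat st) with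
    | none => rfl
    | some s' =>
      simp only [Option.map_some, St.strict_eq, force_eq]
      exact ih nd' s'

def checkS (D F nl ncos bound : ℕ) (defs : List (ℕ × ℕ)) (rels sgens : List (List ℕ))
    (log : List ℕ) : Bool :=
  match runS D F nl defs rels sgens 0 defs (St.init D nl) log with
  | none => false
  | some s => finalOK F nl ncos s && decide ((roots ncos s).length ≤ bound)

theorem check_of_checkS {D F nl ncos bound : ℕ} {defs : List (ℕ × ℕ)} {rels sgens : List (List ℕ)}
    {log : List ℕ} (h : checkS D F nl ncos bound defs rels sgens log = true) :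
    check D F nl ncos bound defs rels sgens log = true := by
  unfold checkS at h
  unfold check
  rw [← runS_eq D F nl defs rels sgens log 0 (St.init D nl), List.drop_zero]
  exact h

end Cfsg.H5.TCk2
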