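import Cfsg.Agent.H5.TCk2Sound
import Cfsg.Agent.H5.TCkSound

/-!
# The packed Todd–Coxeter replay checker `Cfsg.H5.TCk2` in the vocabulary of `Cfsg.H5.TCk` (helper5)

`Cfsg.H5.TCk2.tc_bound` is `Cfsg.H5.TCk.tc_sound` with the fast checker: words are evaluated with
`Cfsg.H5.TCk.ev` (so the lemmas of `Cfsg.H5.StemTC` apply), and the hypothesis is the *strict*
check `checkS W F (2 * ng) ncos bound defs rels sgens log = true`, to be proved by `decide +kernel`.
`W` is the field width: all coset numbers (there are `defs.length + 1` of them) must be `< 2 ^ W - 1`.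
The log format is exactly that of `Cfsg.H5.TCk`.
-/

set_option autoImplicit false
set_option linter.unusedVariables false

namespace Cfsg.H5.TCk2

variable {Γ : Type*} [Group Γ]

theorem gl_eq_gl (γ : ℕ → Γ) (l : ℕ) : gl γ l = Cfsg.H5.TCk.gl γ l := rfl

theorem ev_eq_ev (γ : ℕ → Γ) (w : List ℕ) : ev γ w = Cfsg.H5.TCk.ev γ w := by
  induction w with
  | nil => rfl
  | cons l w ih =>
    show gl γ l * ev γ w = Cfsg.H5.TCk.gl γ l * Cfsg.H5.TCk.ev γ w
    rw [ih, gl_eq_gl]

/-- **Soundness of the fast checker**, stated with `Cfsg.H5.TCk.ev`. -/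
theorem tc_bound (K : Subgroup Γ) (γ : ℕ → Γ) (defs : List (ℕ × ℕ)) (rels sgens : List (List ℕ))
    [Finite K] (W F ng ncos bound : ℕ) (log : List ℕ)
    (hrel : ∀ r ∈ rels, Cfsg.H5.TCk.ev γ r = 1) (hsg : ∀ g ∈ sgens, Cfsg.H5.TCk.ev γ g ∈ K)
    (hgen : Subgroup.closure (Set.range fun i : Fin ng => γ i.val) = ⊤)
    (hchk : checkS W F (2 * ng) ncos bound defs rels sgens log = true) :
    Finite Γ ∧ Nat.card Γ ≤ bound * Nat.card K :=
  tc_sound K γ defs rels sgens W F ng ncos bound log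
    (fun r hr => by rw [ev_eq_ev]; exact hrel r hr)
    (fun g hg => by rw [ev_eq_ev]; exact hsg g hg) hgen (check_of_checkS hchk)

end Cfsg.H5.TCk2
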