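import Cfsg.Agent.H5.TCk2

/-!
# Soundness of the packed Todd–Coxeter replay checker `Cfsg.H5.TCk2` (helper5)
-/

set_option autoImplicit false
set_option linter.unusedVariables false
set_option linter.unusedSectionVars false

namespace Cfsg.H5.TCk2

section Sem

variable {Γ : Type*} [Group Γ] (K : Subgroup Γ) (γ : ℕ → Γ)

/-- the group element of a letter -/
def gl (l : ℕ) : Γ := if l % 2 = 0 then γ (l / 2) else (γ (l / 2))⁻¹

/-- the group element of a word (letters multiplied from left to right) -/
def ev : List ℕ → Γ
  | [] => 1
  | l :: w => gl γ l * ev w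

theorem gl_linv (l : ℕ) : gl γ (linv l) = (gl γ l)⁻¹ := by
  unfold gl linv
  by_cases h : l % 2 = 0
  · have h1 : (l + 1) % 2 ≠ 0 := by omega
    have h2 : (l + 1) / 2 = l / 2 := by omega
    simp only [h, if_true, h1, if_false, h2]
  · have h1 : (l - 1) % 2 = 0 := by omega
    have h2 : (l - 1) / 2 = l / 2 := by omega
    simp only [h, if_false, h1, if_true, h2, inv_inv]

theorem ev_append (u v : List ℕ) : ev γ (u ++ v) = ev γ u * ev γ v := by
  induction u with
  | nil => simp [ev]
  | cons l u ih => simp [ev, ih, mul_assoc]

theorem ev_winv (w : List ℕ) : ev γ (winv w) = (ev γ w)⁻¹ := by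
  induction w with
  | nil => simp [ev, winv]
  | cons l w ih => simp [ev, winv, ev_append, ih, gl_linv]

/-- same right coset of `K` -/
def SC (a b : Γ) : Prop := a * b⁻¹ ∈ K

theorem SC.refl (a : Γ) : SC K a a := by unfold SC; simp

theorem SC.symm {a b : Γ} (h : SC K a b) : SC K b a := by
  unfold SC at *
  have := K.inv_mem h
  simpa using this

theorem SC.trans {a b c : Γ} (h1 : SC K a b) (h2 : SC K b c) : SC K a c := by
  unfold SC at *
  have := K.mul_mem h1 h2
  simpa [mul_assoc] using this

theorem SC.mul_right {a b : Γ} (h : SC K a b) (g : Γ) : SC K (a * g) (b * g) := by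
  unfold SC at *
  simpa [mul_assoc] using h

theorem SC.of_mul_right {a b : Γ} (g : Γ) (h : SC K (a * g) (b * g)) : SC K a b := by
  have := h.mul_right K g⁻¹
  simpa [mul_assoc] using this

variable (defs : List (ℕ × ℕ))

/-- the coset representatives given by the definition list -/
noncomputable def tau : ℕ → Γ
  | 0 => 1
  | k + 1 => tau (min (defs.getD k (0, 0)).1 k) * gl γ (defs.getD k (0, 0)).2
termination_by k => k
decreasing_by omega

theorem tau_zero : tau γ defs 0 = 1 := by rw [tau]

theorem tau_succ (k : ℕ) (h : (defs.getD k (0, 0)).1 ≤ k) :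
    tau γ defs (k + 1) = tau γ defs (defs.getD k (0, 0)).1 * gl γ (defs.getD k (0, 0)).2 := by
  rw [tau, min_eq_left h]

/-- every stored fact is true -/
def Inv (s : St) : Prop :=
  (∀ c l t, look s c l = t + 1 → SC K (tau γ defs c * gl γ l) (tau γ defs t)) ∧
    ∀ c r, s.rget c = r + 1 → SC K (tau γ defs c) (tau γ defs r)

theorem look_init (W nl c l : ℕ) : look (St.init W nl) c l = 0 := by
  unfold look St.init
  have : (List.replicate nl 0).getD l 0 = 0 := by
    rw [List.getD_eq_getElem?_getD]
    by_cases h : l < nl
    · simp [h]
    · simp [h]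
  simp only [this]
  exact pget_zero W c

theorem inv_init (W nl : ℕ) : Inv K γ defs (St.init W nl) := by
  constructor
  · intro c l t h
    rw [look_init] at h
    omega
  · intro c r h
    have : (St.init W nl).rget c = 0 := pget_zero W c
    omega

theorem look_setE (D : ℕ) (s : St) (c l v c' l' : ℕ) :
    look (setE D s c l v) c' l' = look s c' l' ∨
      (look (setE D s c l v) c' l' = v ∧ c' = c ∧ l' = l) := by
  unfold look setE
  simp only
  rcases getD_set_eq s.tbl l (pset s.w (s.tbl.getD l 0) c v) l' with h | ⟨h1, h2⟩
  · left; rw [h]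
  · subst h2
    rw [h1]
    rcases pget_pset s.w (s.tbl.getD l' 0) c v c' with h | ⟨h3, h4⟩
    · left; exact h
    · right; exact ⟨h3, h4, rfl⟩

theorem inv_setE {s : St} (h : Inv K γ defs s) (D c l t : ℕ)
    (hf : SC K (tau γ defs c * gl γ l) (tau γ defs t)) : Inv K γ defs (setE D s c l (t + 1)) := by
  constructor
  · intro c' l' t' h'
    rcases look_setE D s c l (t + 1) c' l' with h1 | ⟨h1, h2, h3⟩
    · rw [h1] at h'; exact h.1 c' l' t' h'
    · rw [h1] at h'
      have : t = t' := by omega
      subst this; subst h2; subst h3
      exact hf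
  · exact h.2

theorem inv_setR {s : St} (h : Inv K γ defs s) (D c r : ℕ)
    (hf : SC K (tau γ defs c) (tau γ defs r)) : Inv K γ defs (setR D s c (r + 1)) := by
  constructor
  · exact h.1
  · intro c' r' h'
    have h'' : pget s.w (pset s.w s.rep c (r + 1)) c' = r' + 1 := h'
    rcases pget_pset s.w s.rep c (r + 1) c' with h1 | ⟨h1, h2⟩
    · have h2 : s.rget c' = r' + 1 := by
        show pget s.w s.rep c' = r' + 1
        rw [← h1]; exact h''
      exact h.2 c' r' h2
    · have h3 : r + 1 = r' + 1 := by rw [← h1]; exact h''
      have : r = r' := by omega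
      subst this; subst h2
      exact hf

theorem find_sc {s : St} (h : Inv K γ defs s) (F : ℕ) :
    ∀ c, SC K (tau γ defs c) (tau γ defs (find F s c)) := by
  induction F with
  | zero => intro c; exact SC.refl K _
  | succ F ih =>
    intro c
    unfold find
    cases hr : s.rget c with
    | zero => exact SC.refl K _
    | succ r => exact (h.2 c r hr).trans K (ih r)

theorem trace_sc {s : St} (h : Inv K γ defs s) (F : ℕ) :
    ∀ (w : List ℕ) (c c' : ℕ), trace F s c w = some c' →
      SC K (tau γ defs c * ev γ w) (tau γ defs c') := by
  intro w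
  induction w with
  | nil =>
    intro c c' hc
    simp only [trace, Option.some.injEq] at hc
    subst hc
    simp only [ev, mul_one]
    exact SC.refl K _
  | cons l w ih =>
    intro c c' hc
    unfold trace at hc
    cases ht : look s c l with
    | zero => rw [ht] at hc; simp at hc
    | succ t =>
      rw [ht] at hc
      simp only at hc
      have h1 := h.1 c l t ht
      have h2 := find_sc K γ defs h F t
      have h3 := ih (find F s t) c' hc
      have h4 : SC K (tau γ defs c * gl γ l * ev γ w) (tau γ defs (find F s t) * ev γ w) :=
        (h1.trans K h2).mul_right K _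
      simp only [ev]
      rw [← mul_assoc]
      exact h4.trans K h3

theorem inv_copyRow (D x y : ℕ) (hxy : SC K (tau γ defs x) (tau γ defs y)) :
    ∀ (ls : List ℕ) (s : St), Inv K γ defs s → Inv K γ defs (copyRow D x y ls s) := by
  intro ls
  induction ls with
  | nil => intro s h; exact h
  | cons l ls ih =>
    intro s h
    unfold copyRow
    apply ih
    by_cases h1 : look s x l = 0
    · rw [if_pos h1]; exact h
    · rw [if_neg h1]
      by_cases h2 : look s y l = 0
      · rw [if_pos h2]
        obtain ⟨t, ht⟩ := Nat.exists_eq_succ_of_ne_zero h1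
        rw [ht]
        apply inv_setE K γ defs h
        have h3 := h.1 x l t ht
        exact ((hxy.symm K).mul_right K _).trans K h3
      · rw [if_neg h2]; exact h

theorem inv_union {s : St} (h : Inv K γ defs s) (D nl x y : ℕ)
    (hxy : SC K (tau γ defs x) (tau γ defs y)) : Inv K γ defs (union D nl s x y) := by
  unfold union
  by_cases hxy' : x = y
  · rw [if_pos hxy']; exact h
  · rw [if_neg hxy']
    have hmm : SC K (tau γ defs (max x y)) (tau γ defs (min x y)) := by
      rcases le_total x y with hle | hle
      · rw [max_eq_right hle, min_eq_left hle]; exact hxy.symm K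
      · rw [max_eq_left hle, min_eq_right hle]; exact hxy
    apply inv_copyRow K γ defs D _ _ hmm
    exact inv_setR K γ defs h D _ _ hmm

theorem inv_addHalf {s : St} (h : Inv K γ defs s) (D F nl p l q : ℕ)
    (hf : SC K (tau γ defs p * gl γ l) (tau γ defs q)) :
    Inv K γ defs (addHalf D F nl s p l q) := by
  unfold addHalf
  cases ht : look s p l with
  | zero => exact inv_setE K γ defs h D p l q hf
  | succ t =>
    simp only
    apply inv_union K γ defs h
    have h1 := h.1 p l t ht
    have h2 := find_sc K γ defs h F t
    have h3 := find_sc K γ defs h F q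
    exact ((h2.symm K).trans K ((h1.symm K).trans K hf)).trans K h3

theorem inv_addFact {s : St} (h : Inv K γ defs s) (D F nl p l q : ℕ)
    (hf : SC K (tau γ defs p * gl γ l) (tau γ defs q)) :
    Inv K γ defs (addFact D F nl s p l q) := by
  unfold addFact
  have h1 := inv_addHalf K γ defs h D F nl p l q hf
  simp only
  apply inv_addHalf K γ defs h1
  have hq := find_sc K γ defs h1 F q
  have hp := find_sc K γ defs h1 F p
  rw [gl_linv]
  -- τ q * g⁻¹ ~ τ p
  have h2 : SC K (tau γ defs q * (gl γ l)⁻¹) (tau γ defs p) := by
    have := (hf.symm K).mul_right K (gl γ l)⁻¹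
    simpa [mul_assoc] using this
  exact (((hq.symm K).mul_right K _).trans K h2).trans K hp

theorem inv_scanAt {s s' : St} (h : Inv K γ defs s) (D F nl a0 : ℕ) (w : List ℕ) (pos : ℕ)
    (hw : SC K (tau γ defs a0 * ev γ w) (tau γ defs a0))
    (hs : scanAt D F nl s a0 w pos = some s') : Inv K γ defs s' := by
  unfold scanAt at hs
  cases hd : w.drop pos with
  | nil => rw [hd] at hs; simp at hs
  | cons l v =>
    rw [hd] at hs
    simp only at hs
    cases hp : trace F s a0 (w.take pos) with
    | none => rw [hp] at hs; simp at hs
    | some p =>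
      cases hq : trace F s a0 (winv v) with
      | none => rw [hp, hq] at hs; simp at hs
      | some q =>
        rw [hp, hq] at hs
        simp only [Option.some.injEq] at hs
        subst hs
        apply inv_addFact K γ defs h
        have h1 := trace_sc K γ defs h F _ _ _ hp
        have h2 := trace_sc K γ defs h F _ _ _ hq
        rw [ev_winv] at h2
        have hsplit : w = w.take pos ++ l :: v := by
          rw [← hd, List.take_append_drop]
        have hev : ev γ w = ev γ (w.take pos) * gl γ l * ev γ v := by
          conv_lhs => rw [hsplit]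
          rw [ev_append]
          simp only [ev, mul_assoc]
        rw [hev] at hw
        -- τ a0 * u * g * v ~ τ a0  ⟹ τ a0 * u * g ~ τ a0 * v⁻¹
        have h3 : SC K (tau γ defs a0 * ev γ (w.take pos) * gl γ l)
            (tau γ defs a0 * (ev γ v)⁻¹) := by
          apply SC.of_mul_right K (ev γ v)
          simpa [mul_assoc] using hw
        have h4 : SC K (tau γ defs a0 * ev γ (w.take pos) * gl γ l) (tau γ defs p * gl γ l) :=
          h1.mul_right K _
        exact ((h4.symm K).trans K h3).trans K h2

variable (rels sgens : List (List ℕ))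

theorem inv_step {s s' : St} (h : Inv K γ defs s) (D F nl : ℕ)
    (hrel : ∀ r ∈ rels, ev γ r = 1) (hsg : ∀ g ∈ sgens, ev γ g ∈ K) (st : Step)
    (hs : step D F nl defs rels sgens s st = some s') : Inv K γ defs s' := by
  cases st with
  | D k =>
    simp only [step] at hs
    by_cases hk : (defs.getD k (0, 0)).1 ≤ k
    · rw [if_pos hk] at hs
      simp only [Option.some.injEq] at hs
      subst hs
      have ht := tau_succ γ defs k hk
      apply inv_setE K γ defs (t := (defs.getD k (0, 0)).1)
      · apply inv_setE K γ defs h (t := k + 1)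
        rw [ht]
        exact SC.refl K _
      · rw [ht, gl_linv]
        simp only [mul_inv_cancel_right]
        exact SC.refl K _
    · rw [if_neg hk] at hs; simp at hs
  | R a ri pos =>
    simp only [step] at hs
    apply inv_scanAt K γ defs h D F nl _ _ pos _ hs
    have : ev γ (rels.getD ri []) = 1 := by
      rw [List.getD_eq_getElem?_getD]
      cases hr : rels[ri]? with
      | none => simp [ev]
      | some r =>
        simp only [Option.getD_some]
        exact hrel r (List.mem_of_getElem? hr)
    rw [this, mul_one]
    exact SC.refl K _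
  | G gi pos =>
    simp only [step] at hs
    apply inv_scanAt K γ defs h D F nl _ _ pos _ hs
    have : ev γ (sgens.getD gi []) ∈ K := by
      rw [List.getD_eq_getElem?_getD]
      cases hr : sgens[gi]? with
      | none => simp [ev]
      | some r =>
        simp only [Option.getD_some]
        exact hsg r (List.mem_of_getElem? hr)
    rw [tau_zero, one_mul]
    unfold SC
    simpa using this
  | C a b l =>
    simp only [step] at hs
    by_cases hab : find F s a = find F s b
    · rw [if_pos hab] at hs
      cases hta : look s a l with
      | zero => rw [hta] at hs; simp at hs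
      | succ t =>
        cases htb : look s b l with
        | zero => rw [hta, htb] at hs; simp at hs
        | succ u =>
          rw [hta, htb] at hs
          simp only [Option.some.injEq] at hs
          subst hs
          apply inv_union K γ defs h
          have h1 := h.1 a l t hta
          have h2 := h.1 b l u htb
          have ha := find_sc K γ defs h F a
          have hb := find_sc K γ defs h F b
          rw [hab] at ha
          have hab' : SC K (tau γ defs a) (tau γ defs b) := ha.trans K (hb.symm K)
          have h3 : SC K (tau γ defs t) (tau γ defs u) :=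
            ((h1.symm K).trans K (hab'.mul_right K _)).trans K h2
          exact ((find_sc K γ defs h F t).symm K).trans K (h3.trans K (find_sc K γ defs h F u))
    · rw [if_neg hab] at hs; simp at hs

theorem inv_run (D F nl : ℕ)
    (hrel : ∀ r ∈ rels, ev γ r = 1) (hsg : ∀ g ∈ sgens, ev γ g ∈ K) :
    ∀ (log : List Step) (s s' : St), Inv K γ defs s →
      run D F nl defs rels sgens s log = some s' → Inv K γ defs s' := by
  intro log
  induction log with
  | nil =>
    intro s s' h hs
    simp only [run, Option.some.injEq] at hs
    subst hs; exact h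
  | cons st rest ih =>
    intro s s' h hs
    unfold run at hs
    cases h1 : step D F nl defs rels sgens s st with
    | none => rw [h1] at hs; simp at hs
    | some s1 =>
      rw [h1] at hs
      simp only at hs
      exact ih s1 s' (inv_step K γ defs rels sgens h D F nl hrel hsg st h1) hs

theorem gl_even (i : ℕ) : gl γ (2 * i) = γ i := by
  unfold gl
  have h1 : 2 * i % 2 = 0 := by omega
  have h2 : 2 * i / 2 = i := by omega
  simp only [h1, if_true, h2]

theorem gl_odd (i : ℕ) : gl γ (2 * i + 1) = (γ i)⁻¹ := by
  unfold gl
  have h1 : (2 * i + 1) % 2 ≠ 0 := by omega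
  have h2 : (2 * i + 1) / 2 = i := by omega
  simp only [h1, if_false, h2]

/-- closedness of the live cosets gives a coset decomposition of the whole group -/
theorem cover_of_final {s : St} (h : Inv K γ defs s) (F ng ncos : ℕ)
    (hfin : finalOK F (2 * ng) ncos s = true)
    (hgen : Subgroup.closure (Set.range fun i : Fin ng => γ i.val) = ⊤) :
    ∀ g : Γ, ∃ c ∈ roots ncos s, SC K g (tau γ defs c) := by
  unfold finalOK at hfin
  rw [Bool.and_eq_true, Bool.and_eq_true, List.all_eq_true] at hfin
  obtain ⟨⟨h0lt, h0root⟩, hall⟩ := hfin
  have hmemroots : ∀ c, c < ncos → isRoot s c = true → c ∈ roots ncos s := by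
    intro c hc hr
    unfold roots
    rw [List.mem_filter]
    exact ⟨List.mem_range.mpr hc, hr⟩
  -- one step
  have hstep : ∀ c ∈ roots ncos s, ∀ l, l < 2 * ng →
      ∃ c' ∈ roots ncos s, SC K (tau γ defs c * gl γ l) (tau γ defs c') := by
    intro c hc l hl
    unfold roots at hc
    rw [List.mem_filter] at hc
    have h1 := hall c hc.1
    rw [hc.2] at h1
    simp only [Bool.not_true, Bool.false_or] at h1
    unfold closedAt at h1
    rw [List.all_eq_true] at h1
    have h2 := h1 l (List.mem_range.mpr hl)
    cases ht : look s c l with
    | zero => rw [ht] at h2; simp at h2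
    | succ t =>
      rw [ht] at h2
      simp only [Bool.and_eq_true, decide_eq_true_eq] at h2
      refine ⟨find F s t, hmemroots _ h2.1 h2.2, ?_⟩
      exact (h.1 c l t ht).trans K (find_sc K γ defs h F t)
  intro g
  have hg : g ∈ Subgroup.closure (Set.range fun i : Fin ng => γ i.val) := by
    rw [hgen]; trivial
  induction hg using Subgroup.closure_induction_right with
  | one =>
    refine ⟨find F s 0, hmemroots _ (of_decide_eq_true h0lt) h0root, ?_⟩
    have := find_sc K γ defs h F 0
    rwa [tau_zero] at this
  | mul_right x y hx hy ih =>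
    obtain ⟨c, hc, hxc⟩ := ih
    obtain ⟨i, rfl⟩ := hy
    obtain ⟨c', hc', h2⟩ := hstep c hc (2 * i.val) (by have := i.isLt; omega)
    rw [gl_even] at h2
    exact ⟨c', hc', (hxc.mul_right K _).trans K h2⟩
  | mul_inv_cancel x y hx hy ih =>
    obtain ⟨c, hc, hxc⟩ := ih
    obtain ⟨i, rfl⟩ := hy
    obtain ⟨c', hc', h2⟩ := hstep c hc (2 * i.val + 1) (by have := i.isLt; omega)
    rw [gl_odd] at h2
    exact ⟨c', hc', (hxc.mul_right K _).trans K h2⟩

/-- **Soundness of the checker**: an accepted log bounds the order of the group by the number of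
live cosets times the order of the subgroup. -/
theorem tc_sound [Finite K] (D F ng ncos bound : ℕ) (log : List ℕ)
    (hrel : ∀ r ∈ rels, ev γ r = 1) (hsg : ∀ g ∈ sgens, ev γ g ∈ K)
    (hgen : Subgroup.closure (Set.range fun i : Fin ng => γ i.val) = ⊤)
    (hchk : check D F (2 * ng) ncos bound defs rels sgens log = true) :
    Finite Γ ∧ Nat.card Γ ≤ bound * Nat.card K := by
  unfold check at hchk
  cases hrun : run D F (2 * ng) defs rels sgens (St.init D (2 * ng)) (log.map Step.ofNat) with
  | none => rw [hrun] at hchk; simp at hchk
  | some s =>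
    rw [hrun] at hchk
    simp only [Bool.and_eq_true, decide_eq_true_eq] at hchk
    obtain ⟨hfin, hbound⟩ := hchk
    have hinv := inv_run K γ defs rels sgens D F (2 * ng) hrel hsg _ _ s
      (inv_init K γ defs D (2 * ng)) hrun
    have hcov := cover_of_final K γ defs hinv F ng ncos hfin hgen
    choose cf hcf1 hcf2 using hcov
    -- injection Γ → Fin (roots).length × K
    have hidx : ∀ g : Γ, ∃ i : Fin (roots ncos s).length, (roots ncos s)[i] = cf g := by
      intro g
      obtain ⟨i, hi, h⟩ := List.mem_iff_getElem.mp (hcf1 g)
      exact ⟨⟨i, hi⟩, h⟩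
    choose idx hidx using hidx
    let f : Γ → Fin (roots ncos s).length × K :=
      fun g => (idx g, ⟨g * (tau γ defs (cf g))⁻¹, hcf2 g⟩)
    have hf : Function.Injective f := by
      intro g g' hgg
      have h1 : idx g = idx g' := congrArg Prod.fst hgg
      have h2 : g * (tau γ defs (cf g))⁻¹ = g' * (tau γ defs (cf g'))⁻¹ :=
        congrArg (fun p => (p.2 : Γ)) hgg
      have h3 : cf g = cf g' := by rw [← hidx g, ← hidx g', h1]
      rw [h3] at h2
      exact mul_right_cancel h2
    have : Finite Γ := Finite.of_injective f hf
    refine ⟨inferInstance, ?_⟩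
    calc Nat.card Γ ≤ Nat.card (Fin (roots ncos s).length × K) :=
          Nat.card_le_card_of_injective f hf
      _ = (roots ncos s).length * Nat.card K := by rw [Nat.card_prod, Nat.card_fin]
      _ ≤ bound * Nat.card K := Nat.mul_le_mul_right _ hbound

end Sem

end Cfsg.H5.TCk2
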