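import Mathlib
import Cfsg.Prelude
import Cfsg.Agent.Lib.Helper27.ThreeTransp

/-!
# helper5: 3-transposition word lemmas for S5365

* `commute_of_commute_mul` (Lemma C): a member of `D` commuting with the product `p * q` of two
  non-commuting members commutes with both.
* `zeta_commute` (Claim Z): in a group with `t³ = u³ = (tu)³ = (t⁻¹u)³ = 1`, the commutator
  `t⁻¹u⁻¹tu` commutes with `t`.
* `commute_far` (Claim 1): no member of `D` is far from a flag `(d; a, b)` with `D_a ∩ D_b = {d}`.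
-/

set_option autoImplicit false

namespace Cfsg.H5.TT5365

open Cfsg Cfsg.Agent.Lib.Helper27.TT

variable {G : Type*} [Group G] {D : Set G}

/-- Lemma C. -/
theorem commute_of_commute_mul (hD : IsThreeTranspositionSet D) {p q e : G} (hp : p ∈ D)
    (hq : q ∈ D) (he : e ∈ D) (hpq : ¬ Commute p q) (h : Commute e (p * q)) :
    Commute e p ∧ Commute e q := by
  have p2 := mul_self_of_mem hD hp
  have q2 := mul_self_of_mem hD hq
  have e2 := mul_self_of_mem hD he
  -- (e p e)(e q e) = p q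
  have k2 : (e * p * e) * (e * q * e) = p * q := by
    calc (e * p * e) * (e * q * e) = e * p * (e * e) * q * e := by simp only [mul_assoc]
      _ = e * (p * q) * e := by rw [e2]; simp only [mul_assoc, mul_one]
      _ = (p * q) * e * e := by rw [h.eq]
      _ = p * q := by rw [mul_assoc, e2, mul_one]
  have hep : Commute e p := by
    by_contra hne
    have b1 : e * p * e = p * e * p := braid hD he hp hne
    by_cases heq : Commute e q
    · have k3 : e * q * e = q := by rw [heq.eq, mul_assoc, e2, mul_one]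
      rw [k3, b1] at k2
      have k4 : p * e * p = p := mul_right_cancel k2
      have k5 : e * p = 1 := by
        have : p * (e * p) = p * 1 := by rw [mul_one, ← mul_assoc]; exact k4
        exact mul_left_cancel this
      apply hne
      have : e = p := by
        have h1 : e * p = p * p := by rw [k5, p2]
        exact mul_right_cancel h1
      rw [this]
    · have b2 : e * q * e = q * e * q := braid hD he hq heq
      rw [b1, b2] at k2
      -- p e p q e q = p q  →  e p q e q = q → ...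
      have k4 : e * p * (q * e * q) = q := by
        have : p * (e * p * (q * e * q)) = p * q := by
          simpa only [mul_assoc] using k2
        exact mul_left_cancel this
      -- use e (p q) = (p q) e : e p q e q = p q e e q = p q q = p
      have k5 : e * p * (q * e * q) = p := by
        calc e * p * (q * e * q) = (e * (p * q)) * e * q := by simp only [mul_assoc]
          _ = (p * q) * e * e * q := by rw [h.eq]
          _ = p * q * (e * e) * q := by simp only [mul_assoc]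
          _ = p * (q * q) := by rw [e2]; simp only [mul_assoc, mul_one]
          _ = p := by rw [q2, mul_one]
      apply hpq
      rw [← k4, k5]
  refine ⟨hep, ?_⟩
  have hq' : q = p * (p * q) := by rw [← mul_assoc, p2, one_mul]
  rw [hq']
  exact hep.mul_right h

/-- Claim Z. -/
theorem zeta_commute {t u : G} (ht : t ^ 3 = 1) (hu : u ^ 3 = 1) (htu : (t * u) ^ 3 = 1)
    (htu' : (t⁻¹ * u) ^ 3 = 1) : Commute (t⁻¹ * u⁻¹ * t * u) t := by
  have ti : t⁻¹ * t⁻¹ = t := by
    have : t * t * t = 1 := by rw [← ht, pow_three, mul_assoc]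
    calc t⁻¹ * t⁻¹ = t⁻¹ * t⁻¹ * (t * t * t) := by rw [this, mul_one]
      _ = t := by group
  have ui : u⁻¹ * u⁻¹ = u := by
    have : u * u * u = 1 := by rw [← hu, pow_three, mul_assoc]
    calc u⁻¹ * u⁻¹ = u⁻¹ * u⁻¹ * (u * u * u) := by rw [this, mul_one]
      _ = u := by group
  -- tut = u⁻¹ t⁻¹ u⁻¹
  have h3 : t * u * t = u⁻¹ * t⁻¹ * u⁻¹ := by
    have : (t * u * t) * (u * t * u) = 1 := by
      rw [← htu, pow_three]; simp only [mul_assoc]
    rw [eq_inv_of_mul_eq_one_left this]; group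
  -- u t⁻¹ u = t u⁻¹ t
  have h4 : u * t⁻¹ * u = t * u⁻¹ * t := by
    have : (t⁻¹ * u * t⁻¹) * (u * t⁻¹ * u) = 1 := by
      rw [← htu', pow_three]; simp only [mul_assoc]
    rw [eq_inv_of_mul_eq_one_right this]; group
  have h5 : t * u = u * t⁻¹ * u * t⁻¹ * u⁻¹ := by
    rw [h4]
    calc t * u = t * (u⁻¹ * u⁻¹) := by rw [ui]
      _ = t * u⁻¹ * t * t⁻¹ * u⁻¹ := by group
  have E1 : t⁻¹ * u⁻¹ * t * u = t * u * t⁻¹ * u⁻¹ := by
    calc t⁻¹ * u⁻¹ * t * u = t⁻¹ * u⁻¹ * (t * u) := by simp only [mul_assoc]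
      _ = t⁻¹ * u⁻¹ * (u * t⁻¹ * u * t⁻¹ * u⁻¹) := by rw [← h5]
      _ = (t⁻¹ * t⁻¹) * u * t⁻¹ * u⁻¹ := by group
      _ = t * u * t⁻¹ * u⁻¹ := by rw [ti]
  -- t⁻¹ ζ t = ζ
  have E2 : t⁻¹ * (t⁻¹ * u⁻¹ * t * u) * t = t⁻¹ * u⁻¹ * t * u := by
    calc t⁻¹ * (t⁻¹ * u⁻¹ * t * u) * t = (t⁻¹ * t⁻¹) * u⁻¹ * (t * u * t) := by
          simp only [mul_assoc]
      _ = t * u⁻¹ * (u⁻¹ * t⁻¹ * u⁻¹) := by rw [ti, h3]
      _ = t * (u⁻¹ * u⁻¹) * t⁻¹ * u⁻¹ := by simp only [mul_assoc]
      _ = t * u * t⁻¹ * u⁻¹ := by rw [ui]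
      _ = t⁻¹ * u⁻¹ * t * u := E1.symm
  show (t⁻¹ * u⁻¹ * t * u) * t = t * (t⁻¹ * u⁻¹ * t * u)
  calc (t⁻¹ * u⁻¹ * t * u) * t = t * (t⁻¹ * (t⁻¹ * u⁻¹ * t * u) * t) := by group
    _ = t * (t⁻¹ * u⁻¹ * t * u) := by rw [E2]

end Cfsg.H5.TT5365
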