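import Mathlib
import Cfsg.Prelude
import Cfsg.Agent.H5.TT5365a

/-!
# helper5: Claim 1 for S5365 — no member of `D` is far from a flag `(d; a, b)` with
`D_a ∩ D_b = {d}`.
-/

set_option autoImplicit false

namespace Cfsg.H5.TT5365

open Cfsg Cfsg.Agent.Lib.Helper27.TT

variable {G : Type*} [Group G] {D : Set G}

theorem conj_mem' (hD : IsThreeTranspositionSet D) (hc : ∀ g : G, ∀ d ∈ D, g * d * g⁻¹ ∈ D)
    {g y : G} (hg : g ∈ D) (hy : y ∈ D) : g * y * g ∈ D := by
  have h := hc g y hy
  rwa [inv_of_mem hD hg] at h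

theorem not_commute_conj {x p q : G} (h : ¬ Commute p q) :
    ¬ Commute (x * p * x⁻¹) (x * q * x⁻¹) := fun h' => h (Commute.conj_iff x |>.mp h')

/-- Claim 1. -/
theorem commute_far (hD : IsThreeTranspositionSet D) (hc : ∀ g : G, ∀ d ∈ D, g * d * g⁻¹ ∈ D)
    {d a b x : G} (hd : d ∈ D) (ha : a ∈ D) (hb : b ∈ D) (hx : x ∈ D)
    (hda : Commute d a) (hdb : Commute d b) (hab : ¬ Commute a b)
    (hsingle : ∀ e ∈ D, Commute e a → Commute e b → e = d)
    (hxa : ¬ Commute x a) (hxb : ¬ Commute x b) (hxc : ¬ Commute x (a * b * a)) :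
    Commute d x := by
  have a2 := mul_self_of_mem hD ha
  have b2 := mul_self_of_mem hD hb
  have x2 := mul_self_of_mem hD hx
  have ai := inv_of_mem hD ha
  have bi := inv_of_mem hD hb
  have xi := inv_of_mem hD hx
  have hcD : a * b * a ∈ D := conj_mem' hD hc ha hb
  have hax : ¬ Commute a x := fun h => hxa h.symm
  have hbx : ¬ Commute b x := fun h => hxb h.symm
  have hcx : ¬ Commute (a * b * a) x := fun h => hxc h.symm
  have ht : (a * b) ^ 3 = 1 := pow_three_of_not_commute hD ha hb hab
  have hu : (a * x) ^ 3 = 1 := pow_three_of_not_commute hD ha hx hax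
  have htu : ((a * b) * (a * x)) ^ 3 = 1 := by
    have h1 := pow_three_of_not_commute hD hcD hx hcx
    have e : (a * b) * (a * x) = a * b * a * x := by simp only [mul_assoc]
    rw [e]; exact h1
  have tinv : (a * b)⁻¹ = b * a := by rw [mul_inv_rev, ai, bi]
  have uinv : (a * x)⁻¹ = x * a := by rw [mul_inv_rev, ai, xi]
  have htu' : ((a * b)⁻¹ * (a * x)) ^ 3 = 1 := by
    have h1 := pow_three_of_not_commute hD hb hx hbx
    have e : (a * b)⁻¹ * (a * x) = b * x := by
      rw [tinv]
      calc b * a * (a * x) = b * (a * a) * x := by simp only [mul_assoc]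
        _ = b * x := by rw [a2, mul_one]
    rw [e]; exact h1
  have hz := zeta_commute ht hu htu htu'
  set ζ := (a * b)⁻¹ * (a * x)⁻¹ * (a * b) * (a * x) with hζ
  have hdt : Commute d (a * b) := hda.mul_right hdb
  -- e := ζ d ζ⁻¹ commutes with t
  have heD : ζ * d * ζ⁻¹ ∈ D := hc ζ d hd
  have het : Commute (ζ * d * ζ⁻¹) (a * b) := by
    have h1 : Commute (ζ * d * ζ⁻¹) (ζ * (a * b) * ζ⁻¹) := (Commute.conj_iff ζ).mpr hdt
    have h2 : ζ * (a * b) * ζ⁻¹ = a * b := by
      rw [hz.eq, mul_assoc, mul_inv_cancel, mul_one]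
    rwa [h2] at h1
  obtain ⟨hea, heb⟩ := commute_of_commute_mul hD ha hb heD hab het
  have hed : ζ * d * ζ⁻¹ = d := hsingle _ heD hea heb
  have hzd : Commute ζ d := by
    show ζ * d = d * ζ
    calc ζ * d = ζ * d * ζ⁻¹ * ζ := by group
      _ = d * ζ := by rw [hed]
  -- d commutes with x b a x
  have hζ' : ζ = (b * a) * (x * b * a * x) := by
    rw [hζ, tinv, uinv]
    calc b * a * (x * a) * (a * b) * (a * x) = b * a * (x * (a * a) * b * a * x) := by
          simp only [mul_assoc]
      _ = (b * a) * (x * b * a * x) := by rw [a2, mul_one]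
  have hdba : Commute d (b * a) := hdb.mul_right hda
  have hdy : Commute d (x * b * a * x) := by
    have h1 : x * b * a * x = (b * a)⁻¹ * ζ := by rw [hζ']; group
    rw [h1]
    exact hdba.inv_right.mul_right hzd.symm
  -- x b a x = (x b x)(x a x)
  have hpq : x * b * a * x = (x * b * x) * (x * a * x) := by
    calc x * b * a * x = x * b * 1 * a * x := by rw [mul_one]
      _ = x * b * (x * x) * a * x := by rw [x2]
      _ = (x * b * x) * (x * a * x) := by simp only [mul_assoc]
  have hpD : x * b * x ∈ D := conj_mem' hD hc hx hb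
  have hqD : x * a * x ∈ D := conj_mem' hD hc hx ha
  have hpq' : ¬ Commute (x * b * x) (x * a * x) := by
    have h1 : ¬ Commute (x * b * x⁻¹) (x * a * x⁻¹) := not_commute_conj (fun h => hab h.symm)
    rwa [xi] at h1
  rw [hpq] at hdy
  obtain ⟨-, hdq⟩ := commute_of_commute_mul hD hpD hqD hd hpq' hdy
  -- x a x = a x a
  have hbr : x * a * x = a * x * a := braid hD hx ha hxa
  rw [hbr] at hdq
  have hfin : x = a * (a * x * a) * a := by
    calc x = (a * a) * x * (a * a) := by rw [a2, one_mul, mul_one]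
      _ = a * (a * x * a) * a := by simp only [mul_assoc]
  rw [hfin]
  exact (hda.mul_right hdq).mul_right hda

end Cfsg.H5.TT5365
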