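import Mathlib
import Cfsg.Prelude
import Cfsg.Agent.H5.TT5365b

/-!
# helper5: local structure for S5365 — if the commuting neighbours of `d` generate `S₃`,
they are three pairwise non-commuting members `y, z, y*z*y`.
-/

set_option autoImplicit false

namespace Cfsg.H5.TT5365

open Cfsg Cfsg.Agent.Lib.Helper27.TT

variable {G : Type*} [Group G] {D : Set G}

/-- the commuting neighbours of `d` in `D` -/
def nbr (D : Set G) (d : G) : Set G := {y | y ∈ D ∧ y ≠ d ∧ Commute d y}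

theorem s3_fact1 : ∀ σ τ : Equiv.Perm (Fin 3), σ * σ = 1 → τ * τ = 1 → σ ≠ 1 → τ ≠ 1 → σ ≠ τ →
    σ * τ ≠ τ * σ := by decide

theorem s3_fact2' : ∀ σ τ υ : Equiv.Perm (Fin 3), (σ * σ = 1 ∧ τ * τ = 1 ∧ υ * υ = 1 ∧ σ ≠ 1 ∧
    τ ≠ 1 ∧ υ ≠ 1 ∧ σ ≠ τ) → (υ = σ ∨ υ = τ ∨ υ = σ * τ * σ) := by decide

theorem s3_fact2 (σ τ υ : Equiv.Perm (Fin 3)) (h1 : σ * σ = 1) (h2 : τ * τ = 1) (h3 : υ * υ = 1)
    (h4 : σ ≠ 1) (h5 : τ ≠ 1) (h6 : υ ≠ 1) (h7 : σ ≠ τ) : υ = σ ∨ υ = τ ∨ υ = σ * τ * σ :=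
  s3_fact2' σ τ υ ⟨h1, h2, h3, h4, h5, h6, h7⟩

theorem s3_fact3 : ¬ ∀ σ τ : Equiv.Perm (Fin 3), σ * τ = τ * σ := by decide

section

variable {d : G} (ψ : ↥(Subgroup.closure (nbr D d)) ≃* Equiv.Perm (Fin 3))

/-- image of a neighbour in `S₃` -/
noncomputable def img {y : G} (hy : y ∈ nbr D d) : Equiv.Perm (Fin 3) :=
  ψ ⟨y, Subgroup.subset_closure hy⟩

theorem img_sq (hD : IsThreeTranspositionSet D) {y : G} (hy : y ∈ nbr D d) :
    img ψ hy * img ψ hy = 1 := by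
  unfold img
  rw [← map_mul]
  have : (⟨y, Subgroup.subset_closure hy⟩ : ↥(Subgroup.closure (nbr D d))) *
      ⟨y, Subgroup.subset_closure hy⟩ = 1 := by
    apply Subtype.ext
    exact mul_self_of_mem hD hy.1
  rw [this, map_one]

theorem img_ne_one (hD : IsThreeTranspositionSet D) {y : G} (hy : y ∈ nbr D d) :
    img ψ hy ≠ 1 := by
  unfold img
  intro h
  have h1 := (MulEquiv.map_eq_one_iff ψ).mp h
  have h2 : y = 1 := congrArg Subtype.val h1
  exact ne_one_of_mem hD hy.1 h2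

theorem img_inj {y z : G} (hy : y ∈ nbr D d) (hz : z ∈ nbr D d) (h : img ψ hy = img ψ hz) :
    y = z := by
  unfold img at h
  exact congrArg Subtype.val (ψ.injective h)

include ψ in
theorem nbr_not_commute (hD : IsThreeTranspositionSet D) {y z : G} (hy : y ∈ nbr D d)
    (hz : z ∈ nbr D d) (hyz : y ≠ z) : ¬ Commute y z := by
  intro hc
  have h1 := s3_fact1 (img ψ hy) (img ψ hz) (img_sq ψ hD hy) (img_sq ψ hD hz)
    (img_ne_one ψ hD hy) (img_ne_one ψ hD hz) (fun h => hyz (img_inj ψ hy hz h))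
  apply h1
  unfold img
  rw [← map_mul, ← map_mul]
  congr 1
  apply Subtype.ext
  exact hc.eq

include ψ in
theorem nbr_cases (hD : IsThreeTranspositionSet D) {y z w : G} (hy : y ∈ nbr D d)
    (hz : z ∈ nbr D d) (hyz : y ≠ z) (hw : w ∈ nbr D d) : w = y ∨ w = z ∨ w = y * z * y := by
  have h1 := s3_fact2 (img ψ hy) (img ψ hz) (img ψ hw) (img_sq ψ hD hy) (img_sq ψ hD hz)
    (img_sq ψ hD hw) (img_ne_one ψ hD hy) (img_ne_one ψ hD hz) (img_ne_one ψ hD hw)
    (fun h => hyz (img_inj ψ hy hz h))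
  rcases h1 with h | h | h
  · exact Or.inl (img_inj ψ hw hy h)
  · exact Or.inr (Or.inl (img_inj ψ hw hz h))
  · right; right
    unfold img at h
    rw [← map_mul, ← map_mul] at h
    exact congrArg Subtype.val (ψ.injective h)

include ψ in
theorem nbr_exists_pair : ∃ y z, y ∈ nbr D d ∧ z ∈ nbr D d ∧ y ≠ z := by
  by_contra hne
  push Not at hne
  have hcomm : ∀ x ∈ nbr D d, ∀ y ∈ nbr D d, x * y = y * x := by
    intro x hx y hy
    rw [hne x y hx hy]
  apply s3_fact3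
  intro σ τ
  have hI : IsMulCommutative ↥(Subgroup.closure (nbr D d)) :=
    Subgroup.isMulCommutative_closure hcomm
  have h1 : ψ.symm σ * ψ.symm τ = ψ.symm τ * ψ.symm σ := mul_comm' _ _
  have h2 := congrArg ψ h1
  simpa using h2

end

end Cfsg.H5.TT5365
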