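import Mathlib
import Cfsg.Prelude
import Cfsg.Agent.H5.TT5365c
import Cfsg.Agent.S2530

/-!
# helper5: the `S₅` case of S5365 — a Coxeter chain `a — b — p — d` of 3-transpositions generates
a copy of `S₅`.
-/

set_option autoImplicit false

namespace Cfsg.H5.TT5365

open Cfsg Cfsg.Agent.Lib.Helper27.TT

variable {G : Type*} [Group G] {D : Set G}

set_option maxRecDepth 100000 in
theorem perm5_central : ∀ g : Equiv.Perm (Fin 5), g * Equiv.swap 0 1 = Equiv.swap 0 1 * g →
    g * finRotate 5 = finRotate 5 * g → g = 1 := by decide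

theorem perm5_injective {φ : Equiv.Perm (Fin 5) →* G}
    (h : φ (Equiv.swap 0 1 * Equiv.swap 1 2) ≠ 1) : Function.Injective φ := by
  rw [injective_iff_map_eq_one]
  intro g hg
  have hS : IsSimpleGroup (alternatingGroup (Fin 5)) := alternatingGroup.isSimpleGroup (by simp)
  have hN : (φ.ker.subgroupOf (alternatingGroup (Fin 5))).Normal := inferInstance
  rcases hN.eq_bot_or_eq_top with hb | ht
  · -- g is central
    have hcomm : ∀ k : Equiv.Perm (Fin 5), g * k = k * g := by
      intro k
      have hk : g * k * g⁻¹ * k⁻¹ ∈ alternatingGroup (Fin 5) := by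
        rw [Equiv.Perm.mem_alternatingGroup]
        simp only [map_mul, map_inv]
        rw [mul_comm (Equiv.Perm.sign g) (Equiv.Perm.sign k), mul_assoc (Equiv.Perm.sign k),
          mul_inv_cancel, mul_one, mul_inv_cancel]
      have hk2 : g * k * g⁻¹ * k⁻¹ ∈ φ.ker := by
        rw [MonoidHom.mem_ker]
        simp only [map_mul, map_inv, hg, one_mul, inv_one, mul_one, mul_inv_cancel]
      have hk3 : (⟨g * k * g⁻¹ * k⁻¹, hk⟩ : alternatingGroup (Fin 5)) ∈
          φ.ker.subgroupOf (alternatingGroup (Fin 5)) := by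
        rw [Subgroup.mem_subgroupOf]; exact hk2
      rw [hb, Subgroup.mem_bot] at hk3
      have hk4 : g * k * g⁻¹ * k⁻¹ = 1 := congrArg Subtype.val hk3
      calc g * k = (g * k * g⁻¹ * k⁻¹) * (k * g) := by group
        _ = k * g := by rw [hk4, one_mul]
    exact perm5_central g (hcomm _) (hcomm _)
  · exfalso
    apply h
    have hc : Equiv.swap (0 : Fin 5) 1 * Equiv.swap 1 2 ∈ alternatingGroup (Fin 5) := by
      rw [Equiv.Perm.mem_alternatingGroup]; decide
    have hc2 : (⟨_, hc⟩ : alternatingGroup (Fin 5)) ∈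
        φ.ker.subgroupOf (alternatingGroup (Fin 5)) := by
      rw [ht]; exact Subgroup.mem_top _
    rw [Subgroup.mem_subgroupOf, MonoidHom.mem_ker] at hc2
    exact hc2

/-- A Coxeter chain of type `A₄` among 3-transpositions generates a copy of `S₅`. -/
theorem exists_s5 (hD : IsThreeTranspositionSet D) {a b p d : G} (ha : a ∈ D) (hb : b ∈ D)
    (hp : p ∈ D) (hd : d ∈ D) (hab : ¬ Commute a b) (hbp : ¬ Commute b p) (hpd : ¬ Commute p d)
    (hap : Commute a p) (had : Commute a d) (hbd : Commute b d) :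
    ∃ φ : Equiv.Perm (Fin 5) →* G, Function.Injective φ ∧
      φ.range = Subgroup.closure ({a, b, p, d} : Set G) := by
  obtain ⟨cs, hcs⟩ := Cfsg.Agent.S2530.result 4
  have a2 := mul_self_of_mem hD ha
  have b2 := mul_self_of_mem hD hb
  have p2 := mul_self_of_mem hD hp
  have d2 := mul_self_of_mem hD hd
  have c3 : ∀ {x y : G}, x ∈ D → y ∈ D → ¬ Commute x y → (x * y) ^ 3 = 1 :=
    fun hx hy h => pow_three_of_not_commute hD hx hy h
  have c3' : ∀ {x y : G}, x ∈ D → y ∈ D → ¬ Commute x y → (y * x) ^ 3 = 1 :=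
    fun hx hy h => pow_three_of_not_commute hD hy hx (fun h' => h h'.symm)
  have c2 : ∀ {x y : G}, x * x = 1 → y * y = 1 → Commute x y → (x * y) ^ 2 = 1 := by
    intro x y hx hy h
    rw [pow_two]; exact mul_mul_self_of_commute h hx hy
  let f : Fin 4 → G := ![a, b, p, d]
  have hf : CoxeterMatrix.IsLiftable (CoxeterMatrix.A 4) f := by
    intro i j
    rw [Cfsg.Agent.Lib.Helper15.coxA_apply]
    fin_cases i <;> fin_cases j <;> simp [f, a2, b2, p2, d2]
    · exact c3 ha hb hab
    · exact c2 a2 p2 hap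
    · exact c2 a2 d2 had
    · exact c3' ha hb hab
    · exact c3 hb hp hbp
    · exact c2 b2 d2 hbd
    · exact c2 p2 a2 hap.symm
    · exact c3' hb hp hbp
    · exact c3 hp hd hpd
    · exact c2 d2 a2 had.symm
    · exact c2 d2 b2 hbd.symm
    · exact c3' hp hd hpd
  let φ : Equiv.Perm (Fin 5) →* G := cs.lift ⟨f, hf⟩
  have hφ : ∀ i, φ (cs.simple i) = f i := fun i => cs.lift_apply_simple hf i
  have h01 : φ (Equiv.swap 0 1) = a := by
    have := hφ 0
    rw [hcs 0] at this
    simpa [f] using this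
  have h12 : φ (Equiv.swap 1 2) = b := by
    have := hφ 1
    rw [hcs 1] at this
    simpa [f] using this
  refine ⟨φ, ?_, ?_⟩
  · apply perm5_injective
    rw [map_mul, h01, h12]
    intro h1
    apply hab
    have : a = b := by
      have h2 : a * b = b * b := by rw [h1, b2]
      exact mul_right_cancel h2
    rw [this]
  · have h1 : φ.range = Subgroup.map φ ⊤ := MonoidHom.range_eq_map φ
    rw [h1, ← cs.subgroup_closure_range_simple, MonoidHom.map_closure]
    congr 1
    ext y
    constructor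
    · rintro ⟨_, ⟨i, rfl⟩, rfl⟩
      rw [hφ i]
      fin_cases i <;> simp [f]
    · intro hy
      simp only [Set.mem_insert_iff, Set.mem_singleton_iff] at hy
      rcases hy with rfl | rfl | rfl | rfl
      · exact ⟨_, ⟨0, rfl⟩, by rw [hφ]; simp [f]⟩
      · exact ⟨_, ⟨1, rfl⟩, by rw [hφ]; simp [f]⟩
      · exact ⟨_, ⟨2, rfl⟩, by rw [hφ]; simp [f]⟩
      · exact ⟨_, ⟨3, rfl⟩, by rw [hφ]; simp [f]⟩

end Cfsg.H5.TT5365
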