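import Mathlib
import Cfsg.Prelude
import Cfsg.Agent.H5.TT5365c

/-!
# helper5: the `S₃ × S₃` case of S5365 — two commuting copies of `S₃` generate their direct product.
-/

set_option autoImplicit false

namespace Cfsg.H5.TT5365

open Cfsg

variable {G : Type*} [Group G]

theorem s3_center : ∀ g : Equiv.Perm (Fin 3), (∀ h : Equiv.Perm (Fin 3), g * h = h * g) → g = 1 := by
  decide

theorem sup_equiv_prod {H1 H2 : Subgroup G} (e1 : H1 ≃* Equiv.Perm (Fin 3))
    (e2 : H2 ≃* Equiv.Perm (Fin 3)) (hc : ∀ x ∈ H1, ∀ y ∈ H2, Commute x y) :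
    Nonempty (↥(H1 ⊔ H2) ≃* Equiv.Perm (Fin 3) × Equiv.Perm (Fin 3)) := by
  have hcomm : ∀ (m : H1) (n : H2), Commute (H1.subtype m) (H2.subtype n) :=
    fun m n => hc _ m.2 _ n.2
  let ψ : H1 × H2 →* G := MonoidHom.noncommCoprod H1.subtype H2.subtype hcomm
  have hψ : ∀ x : H1 × H2, ψ x = (x.1 : G) * (x.2 : G) := fun x => rfl
  have hinj : Function.Injective ψ := by
    rw [injective_iff_map_eq_one]
    rintro ⟨x, y⟩ hxy
    rw [hψ] at hxy
    simp only at hxy
    -- x = y⁻¹ lies in both
    have hx2 : (x : G) ∈ H2 := by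
      have : (x : G) = (y : G)⁻¹ := eq_inv_of_mul_eq_one_left hxy
      rw [this]; exact H2.inv_mem y.2
    have hx1 : x = 1 := by
      have hcen : ∀ h : Equiv.Perm (Fin 3), e1 x * h = h * e1 x := by
        intro h
        have h1 : x * e1.symm h = e1.symm h * x := by
          apply Subtype.ext
          exact ((hc _ (e1.symm h).2 _ hx2).eq).symm
        have h2 := congrArg e1 h1
        simpa using h2
      have := s3_center _ hcen
      exact (MulEquiv.map_eq_one_iff e1).mp this
    have hy1 : y = 1 := by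
      rw [hx1] at hxy
      apply Subtype.ext
      simpa using hxy
    rw [hx1, hy1]; rfl
  have hrange : ψ.range = H1 ⊔ H2 := by
    have h1 := MonoidHom.noncommCoprod_range H1.subtype H2.subtype hcomm
    rw [Subgroup.range_subtype, Subgroup.range_subtype] at h1
    exact h1
  exact ⟨((MulEquiv.subgroupCongr hrange).symm.trans (MonoidHom.ofInjective hinj).symm).trans
    (MulEquiv.prodCongr e1 e2)⟩

end Cfsg.H5.TT5365
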