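import Mathlib
import Cfsg.Prelude
import Cfsg.Agent.H5.TT5365c
import Cfsg.Agent.Lib.Helper27.TTWClass
import Cfsg.Agent.S0215

/-!
# helper5: the `K₃,₃` configuration of S5365 admits no further member of `D`.

If `d, e` have the same three commuting neighbours `a, b, aba`, `|O₃(C(d))| = 3`, then no member
`x` of `D` is non-commuting with both `d` and `a`.  Proof: `A = Z(O₃(G))` is a non-trivial abelian
normal 3-subgroup (`d e ∈ O₃(G)` by helper27's `mul_mem_pCore_of_sameNbr`); `d a` inverts `A`;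
in `⟨d, x, a⟩ ≅ S₄` the product of two conjugates of `d a` is a third conjugate, which would both
invert and centralize `A`.
-/

set_option autoImplicit false

namespace Cfsg.H5.TT5365

open Cfsg Cfsg.Agent.Lib.Helper27.TT Cfsg.Agent.Lib.Helper27.W1

universe u

variable {G : Type u} [Group G] {D : Set G}

/-- conjugation-invariance of the inverting property -/
theorem inverts_conj {A : Subgroup G} (hA : ∀ g : G, ∀ q ∈ A, g * q * g⁻¹ ∈ A) {v : G}
    (hv : ∀ q ∈ A, v * q * v⁻¹ = q⁻¹) (y : G) :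
    ∀ q ∈ A, (y * v * y⁻¹) * q * (y * v * y⁻¹)⁻¹ = q⁻¹ := by
  intro q hq
  have h1 : y⁻¹ * q * y ∈ A := by
    have := hA y⁻¹ q hq
    rwa [inv_inv] at this
  have h2 := hv _ h1
  calc (y * v * y⁻¹) * q * (y * v * y⁻¹)⁻¹ = y * (v * (y⁻¹ * q * y) * v⁻¹) * y⁻¹ := by group
    _ = y * (y⁻¹ * q * y)⁻¹ * y⁻¹ := by rw [h2]
    _ = q⁻¹ := by group

/-- the `S₄` identity: `(d a)(x d a x) = (x a x)(d a)(x a x)` -/
theorem s4_identity {d a x : G} (d2 : d * d = 1) (a2 : a * a = 1) (x2 : x * x = 1)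
    (hda : Commute d a) (bdx : d * x * d = x * d * x) (bax : a * x * a = x * a * x) :
    (d * a) * (x * (d * a) * x) = (x * a * x) * (d * a) * (x * a * x) := by
  have e1 : d * a * x * d * a = a * x * d * x * a := by
    calc d * a * x * d * a = a * (d * x * d) * a := by rw [hda.eq]; simp only [mul_assoc]
      _ = a * (x * d * x) * a := by rw [bdx]
      _ = a * x * d * x * a := by simp only [mul_assoc]
  calc (d * a) * (x * (d * a) * x) = (d * a * x * d * a) * x := by simp only [mul_assoc]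
    _ = (a * x * d * x * a) * x := by rw [e1]
    _ = a * x * d * (x * a * x) := by simp only [mul_assoc]
    _ = a * x * d * (a * x * a) := by rw [bax]
    _ = a * x * (d * a) * x * a := by simp only [mul_assoc]
    _ = a * x * (a * d) * x * a := by rw [hda.eq]
    _ = (a * x * a) * d * (a * a) * x * a := by rw [a2]; simp only [mul_assoc, mul_one]
    _ = (a * x * a) * d * a * (a * x * a) := by simp only [mul_assoc]
    _ = (x * a * x) * (d * a) * (x * a * x) := by rw [bax]; simp only [mul_assoc]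

theorem k33_false [Finite G] (hD : IsThreeTranspositionSet D)
    (hc : ∀ g : G, ∀ d ∈ D, g * d * g⁻¹ ∈ D)
    {d e a b x : G} (hd : d ∈ D) (ha : a ∈ D) (hb : b ∈ D) (hx : x ∈ D)
    (hsame : SameNbr D d e) (hde : d ≠ e)
    (hda : Commute d a) (hdb : Commute d b) (had : a ≠ d) (hbd : b ≠ d) (hab : ¬ Commute a b)
    (hnbr : ∀ y ∈ D, y ≠ d → Commute d y → y = a ∨ y = b ∨ y = a * b * a)
    (hO3 : Nat.card (Cfsg.pCore 3 ↥(Subgroup.centralizer ({d} : Set G))) = 3)
    (hxd : ¬ Commute x d) (hxa : ¬ Commute x a) : False := by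
  have f3 : Fact (Nat.Prime 3) := ⟨Nat.prime_three⟩
  have hZ : ZStarHyp.{u} := fun _ _ _ P t ht htP hiso => Cfsg.Agent.S0215.result P t ht htP hiso
  have he : e ∈ D := hsame.2.1
  have d2 := mul_self_of_mem hD hd
  have a2 := mul_self_of_mem hD ha
  have b2 := mul_self_of_mem hD hb
  have x2 := mul_self_of_mem hD hx
  have di := inv_of_mem hD hd
  have ai := inv_of_mem hD ha
  have bi := inv_of_mem hD hb
  have xi := inv_of_mem hD hx
  set Q : Subgroup G := Cfsg.pCore 3 G with hQ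
  have hQn : Q.Normal := Cfsg.Agent.Lib.Helper16.pCore_normal
  have hQp : IsPGroup 3 Q := Cfsg.Agent.Lib.Helper16.pCore_isPGroup
  have hdeQ : d * e ∈ Q := mul_mem_pCore_of_sameNbr hZ hD hc hsame
  have hde1 : d * e ≠ 1 := by
    intro h
    apply hde
    have : d * e = d * d := by rw [h, d2]
    exact (mul_left_cancel this).symm
  -- A = Z(Q)
  let A : Subgroup G := Q ⊓ Subgroup.centralizer (Q : Set G)
  have hAQ : ∀ q ∈ A, q ∈ Q := fun q hq => hq.1
  have hAcomm : ∀ q ∈ A, ∀ r ∈ Q, q * r = r * q := by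
    intro q hq r hr
    exact ((Subgroup.mem_centralizer_iff.mp hq.2) r hr).symm
  have hAn : ∀ g : G, ∀ q ∈ A, g * q * g⁻¹ ∈ A := by
    intro g q hq
    refine ⟨hQn.conj_mem q hq.1 g, Subgroup.mem_centralizer_iff.mpr ?_⟩
    intro r hr
    have hr' : g⁻¹ * r * g ∈ Q := by
      have := hQn.conj_mem r hr g⁻¹
      rwa [inv_inv] at this
    have h1 := hAcomm q hq _ hr'
    calc r * (g * q * g⁻¹) = g * ((g⁻¹ * r * g) * q) * g⁻¹ := by group
      _ = g * (q * (g⁻¹ * r * g)) * g⁻¹ := by rw [h1]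
      _ = g * q * g⁻¹ * r := by group
  -- A is nontrivial
  have hAne : ∃ q ∈ A, q ≠ 1 := by
    have hnt : Nontrivial ↥Q := ⟨⟨⟨d * e, hdeQ⟩, 1, fun h => hde1 (congrArg Subtype.val h)⟩⟩
    have hcn : Nontrivial (Subgroup.center ↥Q) := hQp.center_nontrivial
    obtain ⟨z, hz⟩ := exists_ne (1 : Subgroup.center ↥Q)
    refine ⟨((z : ↥Q) : G), ⟨(z : ↥Q).2, Subgroup.mem_centralizer_iff.mpr ?_⟩, ?_⟩
    · intro r hr
      have h1 := (Subgroup.mem_center_iff.mp z.2) ⟨r, hr⟩
      exact congrArg Subtype.val h1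
    · intro h
      apply hz
      apply Subtype.ext
      apply Subtype.ext
      exact h
  -- orbit of d under Q commutes with a
  have horb : ∀ q ∈ Q, Commute (q * d * q⁻¹) a := by
    intro q hq
    have hw : q * d * q⁻¹ ∈ D := hc q d hd
    have hq' : d⁻¹ * (q * d * q⁻¹) ∈ Q := by
      have h1 : d⁻¹ * q * d⁻¹⁻¹ ∈ Q := hQn.conj_mem q hq d⁻¹
      have h2 : d⁻¹ * (q * d * q⁻¹) = (d⁻¹ * q * d⁻¹⁻¹) * q⁻¹ := by group
      rw [h2]
      exact Q.mul_mem h1 (Q.inv_mem hq)
    have hs : SameNbr D d (q * d * q⁻¹) := sameNbr_of_mem_pCore hD hd hw hq'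
    exact ((hs.2.2 a ha).mp ⟨had, hda⟩).2
  -- t = a b
  have ht3 : (a * b) ^ 3 = 1 := pow_three_of_not_commute hD ha hb hab
  have tinv : (a * b)⁻¹ = b * a := by rw [mul_inv_rev, ai, bi]
  have hata : a * (a * b) * a⁻¹ = (a * b)⁻¹ := by
    rw [tinv, ai]
    calc a * (a * b) * a = (a * a) * b * a := by simp only [mul_assoc]
      _ = b * a := by rw [a2, one_mul]
  have ht1 : a * b ≠ 1 := by
    intro h
    apply hab
    have : a = b := by
      have h2 : a * b = b * b := by rw [h, b2]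
      exact mul_right_cancel h2
    rw [this]
  have tt : (a * b) * (a * b) = (a * b)⁻¹ := by
    have : (a * b) * (a * b) * (a * b) = 1 := by rw [← ht3, pow_three, mul_assoc]
    exact eq_inv_of_mul_eq_one_left this
  -- C(d)-conjugates of t
  have hconj_t : ∀ g : G, Commute g d → g * (a * b) * g⁻¹ = a * b ∨ g * (a * b) * g⁻¹ = (a * b)⁻¹ := by
    intro g hg
    have hmem : ∀ y ∈ D, y ≠ d → Commute d y →
        (g * y * g⁻¹ = a ∨ g * y * g⁻¹ = b ∨ g * y * g⁻¹ = a * b * a) := by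
      intro y hy hyd hdy
      apply hnbr _ (hc g y hy)
      · intro h
        apply hyd
        have : y = g⁻¹ * (g * y * g⁻¹) * g := by group
        rw [this, h]
        have h3 : g⁻¹ * d * g = g⁻¹ * (d * g) := by group
        rw [h3, ← hg.eq]; group
      · have h1 : Commute (g * d * g⁻¹) (g * y * g⁻¹) := (Commute.conj_iff g).mpr hdy
        have h2 : g * d * g⁻¹ = d := by rw [hg.eq, mul_assoc, mul_inv_cancel, mul_one]
        rwa [h2] at h1
    have hga := hmem a ha had hda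
    have hgb := hmem b hb hbd hdb
    have hnc : ¬ Commute (g * a * g⁻¹) (g * b * g⁻¹) := not_commute_conj hab
    have hsplit : g * (a * b) * g⁻¹ = (g * a * g⁻¹) * (g * b * g⁻¹) := by group
    rw [hsplit]
    have babab : b * (a * b * a) = a * b := by
      calc b * (a * b * a) = (b * a) * (b * a) := by simp only [mul_assoc]
        _ = ((a * b) * (a * b))⁻¹ := by rw [mul_inv_rev, tinv]
        _ = a * b := by rw [tt, inv_inv]
    rcases hga with h1 | h1 | h1 <;> rcases hgb with h2 | h2 | h2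
    · exact absurd (by rw [h1, h2]) hnc
    · left; rw [h1, h2]
    · right; rw [h1, h2, tinv]
      calc a * (a * b * a) = (a * a) * b * a := by simp only [mul_assoc]
        _ = b * a := by rw [a2, one_mul]
    · right; rw [h1, h2, tinv]
    · exact absurd (by rw [h1, h2]) hnc
    · left; rw [h1, h2]; exact babab
    · left; rw [h1, h2]
      calc a * b * a * a = a * b * (a * a) := by simp only [mul_assoc]
        _ = a * b := by rw [a2, mul_one]
    · right; rw [h1, h2]
      calc a * b * a * b = (a * b) * (a * b) := by simp only [mul_assoc]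
        _ = (a * b)⁻¹ := tt
    · exact absurd (by rw [h1, h2]) hnc
  -- elements of Q centralizing d are inverted by a
  have hinvT : ∀ u ∈ Q, Commute u d → a * u * a⁻¹ = u⁻¹ := by
    intro u hu hud
    let C : Subgroup G := Subgroup.centralizer ({d} : Set G)
    have memC : ∀ g : G, g ∈ C ↔ Commute g d := by
      intro g
      rw [Subgroup.mem_centralizer_singleton_iff]
      exact ⟨fun h => h, fun h => h⟩
    have htC : a * b ∈ C := (memC _).mpr (hda.mul_right hdb).symm
    let τ : ↥C := ⟨a * b, htC⟩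
    let Tc : Subgroup ↥C := Subgroup.zpowers τ
    have hTn : Tc.Normal := by
      constructor
      intro n hn g
      obtain ⟨k, rfl⟩ := Subgroup.mem_zpowers_iff.mp hn
      have hgτ : g * τ * g⁻¹ ∈ Tc := by
        rcases hconj_t (g : G) ((memC _).mp g.2) with h | h
        · have : g * τ * g⁻¹ = τ := Subtype.ext h
          rw [this]; exact Subgroup.mem_zpowers τ
        · have : g * τ * g⁻¹ = τ⁻¹ := Subtype.ext h
          rw [this]; exact Tc.inv_mem (Subgroup.mem_zpowers τ)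
      have : g * τ ^ k * g⁻¹ = (g * τ * g⁻¹) ^ k := by
        rw [conj_zpow]
      rw [this]
      exact Tc.zpow_mem hgτ k
    have hτ3 : τ ^ 3 = 1 := Subtype.ext (by simpa using ht3)
    have hτ1 : τ ≠ 1 := fun h => ht1 (congrArg Subtype.val h)
    have hordτ : orderOf τ = 3 := by
      have h1 : orderOf τ ∣ 3 := orderOf_dvd_of_pow_eq_one hτ3
      rcases (Nat.dvd_prime Nat.prime_three).mp h1 with h | h
      · exact absurd (orderOf_eq_one_iff.mp h) hτ1
      · exact h
    have hTcard : Nat.card Tc = 3 := by rw [Nat.card_zpowers, hordτ]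
    have hTp : IsPGroup 3 Tc := IsPGroup.of_card (n := 1) (by rw [hTcard, pow_one])
    have hTle : Tc ≤ Cfsg.pCore 3 ↥C := Cfsg.Agent.Lib.Helper16.le_pCore Tc hTn hTp
    have hfin : Finite ↥(Cfsg.pCore 3 ↥C) := inferInstance
    have hTeq : Tc = Cfsg.pCore 3 ↥C :=
      Subgroup.eq_of_le_of_card_ge hTle (by rw [hTcard, hO3])
    -- N = (Q ⊓ C) in C
    let N : Subgroup ↥C := Q.subgroupOf C
    have hNn : N.Normal := by
      constructor
      intro n hn g
      rw [Subgroup.mem_subgroupOf] at hn ⊢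
      exact hQn.conj_mem _ hn _
    have hNp : IsPGroup 3 N := hQp.comap_subtype
    have hNle : N ≤ Cfsg.pCore 3 ↥C := Cfsg.Agent.Lib.Helper16.le_pCore N hNn hNp
    have huC : u ∈ C := (memC _).mpr hud
    have huN : (⟨u, huC⟩ : ↥C) ∈ N := by
      rw [Subgroup.mem_subgroupOf]; exact hu
    have huT : (⟨u, huC⟩ : ↥C) ∈ Tc := by rw [hTeq]; exact hNle huN
    obtain ⟨k, hk⟩ := Subgroup.mem_zpowers_iff.mp huT
    have hk' : (a * b) ^ k = u := by
      have := congrArg Subtype.val hk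
      simpa using this
    rw [← hk', ← conj_zpow, hata, inv_zpow]
  -- d a inverts A
  have hinv_sq : ∀ q ∈ A, (d * a) * (q * q) * (d * a)⁻¹ = (q * q)⁻¹ := by
    intro q hq
    have hqQ := hAQ q hq
    have hq' : d * q * d⁻¹ ∈ A := hAn d q hq
    have hq'Q := hAQ _ hq'
    have hu : q * (d * q * d⁻¹) ∈ A := A.mul_mem hq hq'
    have hud : Commute (q * (d * q * d⁻¹)) d := by
      show q * (d * q * d⁻¹) * d = d * (q * (d * q * d⁻¹))
      have h1 : q * (d * q * d⁻¹) = (d * q * d⁻¹) * q := hAcomm q hq _ hq'Q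
      calc q * (d * q * d⁻¹) * d = (d * q * d⁻¹) * q * d := by rw [h1]
        _ = d * (q * (d⁻¹ * q * d)) := by group
        _ = d * (q * (d * q * d⁻¹)) := by rw [di]
    have hau := hinvT _ (hAQ _ hu) hud
    -- w' = (q d q⁻¹) d
    have hwa : Commute (q * d * q⁻¹) a := horb q hqQ
    obtain ⟨u, hu_def⟩ : ∃ u, u = q * (d * q * d⁻¹) := ⟨_, rfl⟩
    obtain ⟨w, hw_def⟩ : ∃ w, w = q * (d * q * d⁻¹)⁻¹ := ⟨_, rfl⟩
    rw [← hu_def] at hu hud hau
    have hwA : w ∈ A := by rw [hw_def]; exact A.mul_mem hq (A.inv_mem hq')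
    have hw_eq : w = (q * d * q⁻¹) * d := by
      rw [hw_def]
      calc q * (d * q * d⁻¹)⁻¹ = q * d * q⁻¹ * d⁻¹ := by group
        _ = (q * d * q⁻¹) * d := by rw [di]
    have haw : a * w * a⁻¹ = w := by
      rw [hw_eq, ai]
      calc a * (q * d * q⁻¹ * d) * a = (a * (q * d * q⁻¹)) * (d * a) := by simp only [mul_assoc]
        _ = ((q * d * q⁻¹) * a) * (a * d) := by rw [hwa.symm.eq, hda.eq]
        _ = (q * d * q⁻¹) * (a * a) * d := by simp only [mul_assoc]
        _ = q * d * q⁻¹ * d := by rw [a2, mul_one]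
    have hdw : d * w * d⁻¹ = w⁻¹ := by
      rw [hw_def, di]
      have e1 : (d * q * d)⁻¹ = d * q⁻¹ * d := by
        rw [mul_inv_rev, mul_inv_rev, di, mul_assoc]
      rw [e1, mul_inv_rev]
      have e2 : (d * q⁻¹ * d)⁻¹ = d * q * d := by
        rw [mul_inv_rev, mul_inv_rev, inv_inv, di, mul_assoc]
      rw [e2]
      calc d * (q * (d * q⁻¹ * d)) * d = d * q * d * q⁻¹ * (d * d) := by simp only [mul_assoc]
        _ = d * q * d * q⁻¹ := by rw [d2, mul_one]
    have hqq : q * q = u * w := by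
      rw [hu_def, hw_def]
      have h1 : (d * q * d⁻¹) * q = q * (d * q * d⁻¹) := (hAcomm q hq _ hq'Q).symm
      calc q * q = q * q * ((d * q * d⁻¹) * (d * q * d⁻¹)⁻¹) := by rw [mul_inv_cancel, mul_one]
        _ = q * (q * (d * q * d⁻¹)) * (d * q * d⁻¹)⁻¹ := by simp only [mul_assoc]
        _ = q * ((d * q * d⁻¹) * q) * (d * q * d⁻¹)⁻¹ := by rw [h1]
        _ = q * (d * q * d⁻¹) * (q * (d * q * d⁻¹)⁻¹) := by simp only [mul_assoc]
    have huw : u * w = w * u := (hAcomm w hwA u (hAQ u hu)).symm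
    have hvi : (d * a)⁻¹ = a⁻¹ * d⁻¹ := mul_inv_rev d a
    have hvu : (d * a) * u * (d * a)⁻¹ = u⁻¹ := by
      calc (d * a) * u * (d * a)⁻¹ = d * (a * u * a⁻¹) * d⁻¹ := by rw [hvi]; group
        _ = d * u⁻¹ * d⁻¹ := by rw [hau]
        _ = u⁻¹ := by
          have h2 : Commute u⁻¹ d := hud.inv_left
          rw [← h2.eq, mul_assoc, mul_inv_cancel, mul_one]
    have hvw : (d * a) * w * (d * a)⁻¹ = w⁻¹ := by
      calc (d * a) * w * (d * a)⁻¹ = d * (a * w * a⁻¹) * d⁻¹ := by rw [hvi]; group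
        _ = d * w * d⁻¹ := by rw [haw]
        _ = w⁻¹ := hdw
    rw [hqq]
    calc (d * a) * (u * w) * (d * a)⁻¹ = ((d * a) * u * (d * a)⁻¹) * ((d * a) * w * (d * a)⁻¹) := by
          group
      _ = u⁻¹ * w⁻¹ := by rw [hvu, hvw]
      _ = (w * u)⁻¹ := by rw [mul_inv_rev]
      _ = (u * w)⁻¹ := by rw [huw]
  have hodd : ∀ q ∈ A, Odd (orderOf q) := by
    intro q hq
    obtain ⟨k, hk⟩ := hQp ⟨q, hAQ q hq⟩
    have hk' : q ^ 3 ^ k = 1 := by
      have := congrArg Subtype.val hk
      simpa using this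
    have h1 : orderOf q ∣ 3 ^ k := orderOf_dvd_of_pow_eq_one hk'
    have h2 : Odd (3 ^ k) := Odd.pow (by decide)
    exact Odd.of_dvd_nat h2 h1
  have hinv : ∀ q ∈ A, (d * a) * q * (d * a)⁻¹ = q⁻¹ := by
    intro q hq
    obtain ⟨m, hm⟩ := hodd q hq
    have hr : q ^ (m + 1) ∈ A := A.pow_mem hq _
    have hrr : q ^ (m + 1) * q ^ (m + 1) = q := by
      rw [← pow_add]
      have : m + 1 + (m + 1) = orderOf q + 1 := by omega
      rw [this, pow_succ, pow_orderOf_eq_one, one_mul]
    have := hinv_sq _ hr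
    rwa [hrr] at this
  -- the V4 trick
  have bdx : d * x * d = x * d * x := braid hD hd hx (fun h => hxd h.symm)
  have bax : a * x * a = x * a * x := braid hD ha hx (fun h => hxa h.symm)
  have hid := s4_identity d2 a2 x2 hda bdx bax
  have hv2 := inverts_conj hAn hinv x
  have hv3 := inverts_conj hAn hinv (x * a * x⁻¹)
  obtain ⟨q, hq, hq1⟩ := hAne
  have e2 : x * (d * a) * x⁻¹ = x * (d * a) * x := by rw [xi]
  have e3 : (x * a * x⁻¹) * (d * a) * (x * a * x⁻¹)⁻¹ = (x * a * x) * (d * a) * (x * a * x) := by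
    have : (x * a * x⁻¹)⁻¹ = x * a * x := by
      rw [mul_inv_rev, mul_inv_rev, inv_inv, ai, xi, mul_assoc]
    rw [this, xi]
  rw [e2] at hv2
  rw [e3, ← hid] at hv3
  have h1 := hv3 q hq
  have hqi : q⁻¹ ∈ A := A.inv_mem hq
  have h2 : (d * a) * (x * (d * a) * x) * q * ((d * a) * (x * (d * a) * x))⁻¹ = q := by
    calc (d * a) * (x * (d * a) * x) * q * ((d * a) * (x * (d * a) * x))⁻¹
        = (d * a) * ((x * (d * a) * x) * q * (x * (d * a) * x)⁻¹) * (d * a)⁻¹ := by group
      _ = (d * a) * q⁻¹ * (d * a)⁻¹ := by rw [hv2 q hq]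
      _ = q⁻¹⁻¹ := hinv _ hqi
      _ = q := inv_inv q
  rw [h2] at h1
  -- q = q⁻¹ with odd order
  have hqq : q * q = 1 := by
    nth_rewrite 1 [h1]
    exact inv_mul_cancel q
  have hdvd : orderOf q ∣ 2 := orderOf_dvd_of_pow_eq_one (by rw [pow_two]; exact hqq)
  have ho := hodd q hq
  have : orderOf q = 1 := by
    rcases (Nat.dvd_prime Nat.prime_two).mp hdvd with h | h
    · exact h
    · rw [h] at ho; exact absurd ho (by decide)
  exact hq1 (orderOf_eq_one_iff.mp this)

end Cfsg.H5.TT5365
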