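import Mathlib
import Cfsg.Prelude
import Cfsg.Agent.H5.TT5365b
import Cfsg.Agent.H5.TT5365c
import Cfsg.Agent.H5.TT5365d
import Cfsg.Agent.H5.TT5365e
import Cfsg.Agent.H5.TT5365f

/-!
# helper5: assembly of S5365 (3-transpositions with local `S₃` structure: `S₅` or `S₃ × S₃`).
-/

set_option autoImplicit false

namespace Cfsg.H5.TT5365

open Cfsg Cfsg.Agent.Lib.Helper27.TT

universe u

variable {G : Type u} [Group G] {D : Set G}

theorem conj_conj {g x : G} (g2 : g * g = 1) : g * (g * x * g) * g = x := by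
  calc g * (g * x * g) * g = (g * g) * x * (g * g) := by simp only [mul_assoc]
    _ = x := by rw [g2, one_mul, mul_one]

/-- Case B: the chain `a - b - p - d` generates `S₅` and contains `D`. -/
theorem caseB (hD : IsThreeTranspositionSet D) (hc : ∀ g : G, ∀ d ∈ D, g * d * g⁻¹ ∈ D)
    {d a b p : G} (hd : d ∈ D) (ha : a ∈ D) (hb : b ∈ D) (hp : p ∈ D)
    (ψd : ↥(Subgroup.closure (nbr D d)) ≃* Equiv.Perm (Fin 3))
    (ψa : ↥(Subgroup.closure (nbr D a)) ≃* Equiv.Perm (Fin 3))
    (had : Commute d a) (hbd : Commute d b) (hda : a ≠ d) (hdb : b ≠ d) (hab : a ≠ b)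
    (hap : Commute a p) (hpa : p ≠ a) (hpd : p ≠ d) (hpb : ¬ Commute p b) :
    Nonempty (↥(Subgroup.closure D) ≃* Equiv.Perm (Fin 5)) := by
  have a2 := mul_self_of_mem hD ha
  have b2 := mul_self_of_mem hD hb
  have d2 := mul_self_of_mem hD hd
  have di := inv_of_mem hD hd
  have han : a ∈ nbr D d := ⟨ha, hda, had⟩
  have hbn : b ∈ nbr D d := ⟨hb, hdb, hbd⟩
  have hncab : ¬ Commute a b := nbr_not_commute ψd hD han hbn hab
  have hdn : d ∈ nbr D a := ⟨hd, hda.symm, had.symm⟩
  have hpn : p ∈ nbr D a := ⟨hp, hpa, hap⟩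
  have hncdp : ¬ Commute d p := nbr_not_commute ψa hD hdn hpn hpd.symm
  obtain ⟨φ, hφi, hφr⟩ := exists_s5 hD ha hb hp hd hncab (fun h => hpb h.symm)
    (fun h => hncdp h.symm) hap had.symm hbd.symm
  obtain ⟨K, hK⟩ : ∃ K : Subgroup G, K = Subgroup.closure ({a, b, p, d} : Set G) := ⟨_, rfl⟩
  have haK : a ∈ K := by rw [hK]; exact Subgroup.subset_closure (by simp)
  have hbK : b ∈ K := by rw [hK]; exact Subgroup.subset_closure (by simp)
  have hpK : p ∈ K := by rw [hK]; exact Subgroup.subset_closure (by simp)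
  have hdK : d ∈ K := by rw [hK]; exact Subgroup.subset_closure (by simp)
  have hnaK : ∀ y ∈ D, Commute a y → y ∈ K := by
    intro y hy hay
    by_cases hya : y = a
    · rw [hya]; exact haK
    · rcases nbr_cases ψa hD hdn hpn hpd.symm ⟨hy, hya, hay⟩ with h | h | h
      · rw [h]; exact hdK
      · rw [h]; exact hpK
      · rw [h]; exact K.mul_mem (K.mul_mem hdK hpK) hdK
  have hgen : ∀ g ∈ D, g ∈ K → ∀ x ∈ D, Commute (g * a * g) x → x ∈ K := by
    intro g hg hgK x hx hcx
    have g2 := mul_self_of_mem hD hg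
    have hy : g * x * g ∈ D := conj_mem' hD hc hg hx
    have hcy : Commute a (g * x * g) := by
      have h1 := (Commute.conj_iff g).mpr hcx
      rw [inv_of_mem hD hg, conj_conj g2] at h1
      exact h1
    have hyK : g * x * g ∈ K := hnaK _ hy hcy
    have h2 : x = g * (g * x * g) * g := (conj_conj g2).symm
    rw [h2]; exact K.mul_mem (K.mul_mem hgK hyK) hgK
  have hbr : a * b * a = b * a * b := braid hD ha hb hncab
  have hsingle : ∀ e ∈ D, Commute e a → Commute e b → e = d := by
    intro e he hea heb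
    by_cases hea' : e = a
    · exfalso; rw [hea'] at heb; exact hncab heb
    · rcases nbr_cases ψa hD hdn hpn hpd.symm ⟨he, hea', hea.symm⟩ with h | h | h
      · exact h
      · exfalso; rw [h] at heb; exact hpb heb
      · exfalso
        rw [h] at heb
        apply hpb
        have h1 := (Commute.conj_iff d).mpr heb
        rw [di, conj_conj d2] at h1
        have hdbd : d * b * d = b := by rw [hbd.eq, mul_assoc, d2, mul_one]
        rwa [hdbd] at h1
  have hsub : D ⊆ K := by
    intro x hx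
    by_cases h1 : Commute d x
    · by_cases hxd : x = d
      · rw [hxd]; exact hdK
      · rcases nbr_cases ψd hD han hbn hab ⟨hx, hxd, h1⟩ with h | h | h
        · rw [h]; exact haK
        · rw [h]; exact hbK
        · rw [h]; exact K.mul_mem (K.mul_mem haK hbK) haK
    by_cases h2 : Commute a x
    · exact hnaK x hx h2
    by_cases h3 : Commute (a * b * a) x
    · apply hgen b hb hbK x hx
      rw [← hbr]; exact h3
    by_cases h4 : Commute b x
    · have habaD : a * b * a ∈ D := conj_mem' hD hc ha hb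
      have habaK : a * b * a ∈ K := K.mul_mem (K.mul_mem haK hbK) haK
      apply hgen (a * b * a) habaD habaK x hx
      have e1 : (a * b * a) * a * (a * b * a) = b := by
        calc (a * b * a) * a * (a * b * a) = a * b * (a * a) * (a * b * a) := by
              simp only [mul_assoc]
          _ = a * b * (a * b * a) := by rw [a2, mul_one]
          _ = a * b * (b * a * b) := by rw [hbr]
          _ = a * (b * b) * a * b := by simp only [mul_assoc]
          _ = b := by rw [b2, mul_one, a2, one_mul]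
      rw [e1]; exact h4
    exfalso
    exact h1 (commute_far hD hc hd ha hb hx had hbd hncab hsingle (fun h => h2 h.symm)
      (fun h => h4 h.symm) (fun h => h3 h.symm))
  have hle : Subgroup.closure D = K := by
    apply le_antisymm
    · exact (Subgroup.closure_le K).mpr hsub
    · rw [hK]
      apply (Subgroup.closure_le _).mpr
      intro x hx
      simp only [Set.mem_insert_iff, Set.mem_singleton_iff] at hx
      rcases hx with rfl | rfl | rfl | rfl
      · exact Subgroup.subset_closure ha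
      · exact Subgroup.subset_closure hb
      · exact Subgroup.subset_closure hp
      · exact Subgroup.subset_closure hd
  have hrange : Subgroup.closure D = φ.range := by rw [hle, hK, hφr]
  exact ⟨(MulEquiv.subgroupCongr hrange).trans (MonoidHom.ofInjective hφi).symm⟩

/-- Case A: `d` and `p` have the same neighbours; `D` is the `K₃,₃` configuration. -/
theorem caseA [Finite G] (hD : IsThreeTranspositionSet D)
    (hc : ∀ g : G, ∀ d ∈ D, g * d * g⁻¹ ∈ D)
    {d a b p : G} (hd : d ∈ D) (ha : a ∈ D) (hb : b ∈ D) (hp : p ∈ D)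
    (ψd : ↥(Subgroup.closure (nbr D d)) ≃* Equiv.Perm (Fin 3))
    (ψa : ↥(Subgroup.closure (nbr D a)) ≃* Equiv.Perm (Fin 3))
    (ψp : ↥(Subgroup.closure (nbr D p)) ≃* Equiv.Perm (Fin 3))
    (hO3 : Nat.card (Cfsg.pCore 3 ↥(Subgroup.centralizer ({d} : Set G))) = 3)
    (had : Commute d a) (hbd : Commute d b) (hda : a ≠ d) (hdb : b ≠ d) (hab : a ≠ b)
    (hap : Commute a p) (hpa : p ≠ a) (hpd : p ≠ d) (hpb : Commute p b) :
    Nonempty (↥(Subgroup.closure D) ≃* Equiv.Perm (Fin 3) × Equiv.Perm (Fin 3)) := by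
  have han : a ∈ nbr D d := ⟨ha, hda, had⟩
  have hbn : b ∈ nbr D d := ⟨hb, hdb, hbd⟩
  have hncab : ¬ Commute a b := nbr_not_commute ψd hD han hbn hab
  have hdn : d ∈ nbr D a := ⟨hd, hda.symm, had.symm⟩
  have hpn : p ∈ nbr D a := ⟨hp, hpa, hap⟩
  have hncdp : ¬ Commute d p := nbr_not_commute ψa hD hdn hpn hpd.symm
  have hpb' : p ≠ b := by
    intro h; apply hncab; rw [← h]; exact hap
  have hanp : a ∈ nbr D p := ⟨ha, hpa.symm, hap.symm⟩
  have hbnp : b ∈ nbr D p := ⟨hb, hpb'.symm, hpb⟩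
  have hpaba : Commute p (a * b * a) := (hap.symm.mul_right hpb).mul_right hap.symm
  have hdaba : Commute d (a * b * a) := (had.mul_right hbd).mul_right had
  have hsame : SameNbr D d p := by
    refine ⟨hd, hp, fun z hz => ⟨?_, ?_⟩⟩
    · rintro ⟨hzd, hdz⟩
      refine ⟨fun h => hncdp (h ▸ hdz), ?_⟩
      rcases nbr_cases ψd hD han hbn hab ⟨hz, hzd, hdz⟩ with h | h | h
      · rw [h]; exact hap.symm
      · rw [h]; exact hpb
      · rw [h]; exact hpaba
    · rintro ⟨hzp, hpz⟩
      refine ⟨fun h => hncdp (by rw [h] at hpz; exact hpz.symm), ?_⟩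
      rcases nbr_cases ψp hD hanp hbnp hab ⟨hz, hzp, hpz⟩ with h | h | h
      · rw [h]; exact had
      · rw [h]; exact hbd
      · rw [h]; exact hdaba
  have hcover : ∀ x ∈ D, x ∈ nbr D a ∨ x ∈ nbr D d := by
    intro x hx
    by_cases h1 : Commute d x
    · by_cases hxd : x = d
      · left; rw [hxd]; exact hdn
      · right; exact ⟨hx, hxd, h1⟩
    by_cases h2 : Commute a x
    · by_cases hxa : x = a
      · right; rw [hxa]; exact han
      · left; exact ⟨hx, hxa, h2⟩
    exfalso
    exact k33_false hD hc hd ha hb hx hsame hpd.symm had hbd hda hdb hncab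
      (fun y hy hyd hdy => nbr_cases ψd hD han hbn hab ⟨hy, hyd, hdy⟩) hO3
      (fun h => h1 h.symm) (fun h => h2 h.symm)
  have hDeq : D = nbr D a ∪ nbr D d := by
    ext x; constructor
    · intro hx; exact hcover x hx
    · rintro (h | h) <;> exact h.1
  have hcl : Subgroup.closure D =
      Subgroup.closure (nbr D a) ⊔ Subgroup.closure (nbr D d) := by
    rw [← Subgroup.closure_union]; exact congrArg _ hDeq
  have hcomm0 : ∀ x ∈ nbr D a, ∀ y ∈ nbr D d, Commute x y := by
    intro x hx y hy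
    have hdy : Commute d y := hy.2.2
    have hpy : Commute p y := ((hsame.2.2 y hy.1).mp ⟨hy.2.1, hy.2.2⟩).2
    rcases nbr_cases ψa hD hdn hpn hpd.symm hx with h | h | h
    · rw [h]; exact hdy
    · rw [h]; exact hpy
    · rw [h]; exact (hdy.mul_left hpy).mul_left hdy
  have hcomm1 : ∀ y ∈ Subgroup.closure (nbr D d), ∀ x ∈ nbr D a, Commute x y := by
    intro y hy
    induction hy using Subgroup.closure_induction with
    | mem y hy => exact fun x hx => hcomm0 x hx y hy
    | one => exact fun x _ => Commute.one_right x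
    | mul y z _ _ ihy ihz => exact fun x hx => (ihy x hx).mul_right (ihz x hx)
    | inv y _ ih => exact fun x hx => (ih x hx).inv_right
  have hcomm : ∀ x ∈ Subgroup.closure (nbr D a), ∀ y ∈ Subgroup.closure (nbr D d),
      Commute x y := by
    intro x hx
    induction hx using Subgroup.closure_induction with
    | mem x hx => exact fun y hy => hcomm1 y hy x hx
    | one => exact fun y _ => Commute.one_left y
    | mul x z _ _ ihx ihz => exact fun y hy => (ihx y hy).mul_left (ihz y hy)
    | inv x _ ih => exact fun y hy => (ih y hy).inv_left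
  obtain ⟨e⟩ := sup_equiv_prod ψa ψd hcomm
  exact ⟨(MulEquiv.subgroupCongr hcl).trans e⟩

theorem main [Finite G] (hD : Cfsg.IsThreeTranspositionSet D)
    (hconj : ∀ g : G, ∀ d ∈ D, g * d * g⁻¹ ∈ D) (hne : D.Nonempty)
    (hloc : ∀ d ∈ D, Nonempty (↥(Subgroup.closure {y : G | y ∈ D ∧ y ≠ d ∧ Commute d y}) ≃*
      Equiv.Perm (Fin 3)) ∧
      Nat.card (Cfsg.pCore 3 ↥(Subgroup.centralizer ({d} : Set G))) = 3) :
    Nonempty (↥(Subgroup.closure D) ≃* Equiv.Perm (Fin 5)) ∨
      Nonempty (↥(Subgroup.closure D) ≃* Equiv.Perm (Fin 3) × Equiv.Perm (Fin 3)) := by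
  obtain ⟨d, hd⟩ := hne
  have hψ : ∀ e ∈ D, Nonempty (↥(Subgroup.closure (nbr D e)) ≃* Equiv.Perm (Fin 3)) :=
    fun e he => (hloc e he).1
  obtain ⟨ψd⟩ := hψ d hd
  obtain ⟨a, b, han, hbn, hab⟩ := nbr_exists_pair ψd
  have ha : a ∈ D := han.1
  have hb : b ∈ D := hbn.1
  obtain ⟨ψa⟩ := hψ a ha
  obtain ⟨y, z, hy, hz, hyz⟩ := nbr_exists_pair ψa
  obtain ⟨p, hpn, hpd⟩ : ∃ p ∈ nbr D a, p ≠ d := by
    by_cases h : y = d
    · exact ⟨z, hz, fun h' => hyz (h.trans h'.symm)⟩
    · exact ⟨y, hy, h⟩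
  by_cases hpb : Commute p b
  · right
    obtain ⟨ψp⟩ := hψ p hpn.1
    exact caseA hD hconj hd ha hb hpn.1 ψd ψa ψp (hloc d hd).2 han.2.2 hbn.2.2 han.2.1 hbn.2.1 hab
      hpn.2.2 hpn.2.1 hpd hpb
  · left
    exact caseB hD hconj hd ha hb hpn.1 ψd ψa han.2.2 hbn.2.2 han.2.1 hbn.2.1 hab
      hpn.2.2 hpn.2.1 hpd hpb

end Cfsg.H5.TT5365
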