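import Mathlib
import Cfsg.Agent.S0600
import Cfsg.Agent.S0601
import Cfsg.Agent.S0607
import Cfsg.Agent.S0608

/-!
# Thompson factorization from `p`-stability of the action on normal elementary abelian subgroups
-/

set_option autoImplicit false
set_option linter.style.haveILetI false

namespace Cfsg.H5

open Cfsg

variable {G : Type*} [Group G] [Finite G] {p : ℕ} [Fact p.Prime]

/-- if `G` acts `p`-stably on a normal elementary abelian `p`-subgroup `V` with
`O_p(G / C_G(V)) = 1`, then every elementary abelian `p`-subgroup of largest order centralizes `V` -/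
theorem maxElementaryAbelian_le_centralizer (V : Subgroup G) [V.Normal]
    (hV : Cfsg.IsElementaryAbelian p V) (hst : Cfsg.IsPStableOn p V)
    (hOp : Cfsg.pCore p (G ⧸ Subgroup.centralizer (V : Set G)) = ⊥)
    (A : Subgroup G) (hA : A ∈ Cfsg.maxElementaryAbelianSubgroups p G) :
    A ≤ Subgroup.centralizer (V : Set G) := by
  obtain ⟨_, hquad, hnt⟩ := Cfsg.Agent.S0607.result V hV A hA
  obtain ⟨A₀, hA₀⟩ : ∃ A₀ : Subgroup G,
      A₀ = ⁅V, A⁆ ⊔ (A ⊓ Subgroup.centralizer ((⁅V, A⁆ : Subgroup G) : Set G)) := ⟨_, rfl⟩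
  rw [← hA₀] at hquad hnt
  have hA₀c : A₀ ≤ Subgroup.centralizer (V : Set G) := by
    intro a ha
    have hq : ⁅⁅V, Subgroup.zpowers a⁆, Subgroup.zpowers a⁆ = ⊥ := by
      rw [eq_bot_iff, ← hquad]
      have hle : Subgroup.zpowers a ≤ A₀ := Subgroup.zpowers_le.2 ha
      exact Subgroup.commutator_mono (Subgroup.commutator_mono le_rfl hle) hle
    have h1 := hst a hq
    rw [hOp, Subgroup.mem_bot, QuotientGroup.eq_one_iff] at h1
    exact h1
  have hVA₀ : ⁅V, A₀⁆ = ⊥ := by
    rw [Subgroup.commutator_eq_bot_iff_le_centralizer]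
    exact Subgroup.le_centralizer_iff.1 hA₀c
  have hVA : ⁅V, A⁆ = ⊥ := by
    by_contra hne
    exact hnt hne hVA₀
  rw [Subgroup.commutator_eq_bot_iff_le_centralizer] at hVA
  exact Subgroup.le_centralizer_iff.1 hVA

/-- **Thompson factorization** for groups with `O_{p'}(G) = 1`, `C_G(O_p(G)) ≤ O_p(G)` acting
`p`-stably on their normal elementary abelian `p`-subgroups -/
theorem isThompsonFactorizable_of_isPStableOn (hO : Cfsg.pPrimeCore p G = ⊥)
    (hc : Subgroup.centralizer (Cfsg.pCore p G : Set G) ≤ Cfsg.pCore p G)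
    (hst : ∀ (V : Subgroup G) [V.Normal], Cfsg.IsElementaryAbelian p V → Cfsg.IsPStableOn p V) :
    Cfsg.IsThompsonFactorizable p G := by
  rw [Cfsg.Agent.S0608.result hO]
  obtain ⟨hVn, hVe, _⟩ := Cfsg.Agent.S0601.result (p := p) hc
  obtain ⟨V, hV⟩ : ∃ V : Subgroup G, V = ⨆ S : Sylow p G, Cfsg.omegaOne p
      (((S : Subgroup G)) ⊓ Subgroup.centralizer ((S : Subgroup G) : Set G)) := ⟨_, rfl⟩
  rw [← hV] at hVn hVe ⊢
  haveI := hVn
  have hgen : V = ⨆ S : Sylow p G, V ⊓ Subgroup.centralizer ((S : Subgroup G) : Set G) := by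
    apply le_antisymm
    · conv_lhs => rw [hV]
      apply iSup_le
      intro S
      refine le_trans (le_inf ?_ ?_)
        (le_iSup (fun S : Sylow p G => V ⊓ Subgroup.centralizer ((S : Subgroup G) : Set G)) S)
      · rw [hV]
        exact le_iSup (fun S : Sylow p G => Cfsg.omegaOne p
          (((S : Subgroup G)) ⊓ Subgroup.centralizer ((S : Subgroup G) : Set G))) S
      · unfold Cfsg.omegaOne
        rw [Subgroup.closure_le]
        rintro x ⟨hx, -⟩
        exact (Subgroup.mem_inf.1 hx).2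
    · exact iSup_le fun S => inf_le_left
  have hOp := Cfsg.Agent.S0600.result V hVe hgen
  unfold Cfsg.thompsonSubgroup
  apply sSup_le
  intro A hA
  exact maxElementaryAbelian_le_centralizer V hVe (hst V hVe) hOp A hA

end Cfsg.H5
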