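import Mathlib

set_option autoImplicit false

/-!
# Averaging (trace) argument: fixed points of a big group are a direct factor of the fixed points
of a subgroup of coprime index

`exists_compl_fixed` : abstract version (a group `N` acting on an abelian group `A`).
`exists_compl_centralizer` : version for subgroups of an ambient finite group.
-/

namespace Cfsg.H5.TraceSplit

open Subgroup

section Abstract

variable {A N : Type*} [CommGroup A] [Group N] (φ : N →* MulAut A) (S : Subgroup N)

theorem exists_compl_fixed [Fintype (N ⧸ S)] (k : ℕ) (hk : ∀ a : A, a ^ k = 1)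
    (hcop : Nat.Coprime k S.index) :
    ∃ K : Subgroup A, (∀ a ∈ K, ∀ s ∈ S, φ s a = a) ∧
      (∀ a ∈ K, (∀ n, φ n a = a) → a = 1) ∧
      (∀ a, (∀ s ∈ S, φ s a = a) → ∃ w c, (∀ n, φ n w = w) ∧ c ∈ K ∧ a = w * c) := by
  classical
  have hdef : ∀ tr : A → A, (∀ a, tr a = ∏ q : N ⧸ S, φ q.out a) → 
      ∃ K : Subgroup A, (∀ a ∈ K, ∀ s ∈ S, φ s a = a) ∧
      (∀ a ∈ K, (∀ n, φ n a = a) → a = 1) ∧
      (∀ a, (∀ s ∈ S, φ s a = a) → ∃ w c, (∀ n, φ n w = w) ∧ c ∈ K ∧ a = w * c) := by
    intro tr htr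
    have tr_mul : ∀ a b, tr (a * b) = tr a * tr b := by
      intro a b
      rw [htr, htr, htr, ← Finset.prod_mul_distrib]
      apply Finset.prod_congr rfl
      intro q _
      rw [map_mul]
    have tr_one : tr 1 = 1 := by
      rw [htr]
      apply Finset.prod_eq_one
      intro q _
      rw [map_one]
    have tr_inv : ∀ a, tr a⁻¹ = (tr a)⁻¹ := by
      intro a
      rw [eq_inv_iff_mul_eq_one, ← tr_mul, inv_mul_cancel, tr_one]
    have tr_fixed : ∀ a, (∀ s ∈ S, φ s a = a) → ∀ g, φ g (tr a) = tr a := by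
      intro a ha g
      rw [htr, map_prod]
      have h0 := Equiv.prod_comp (MulAction.toPerm g : Equiv.Perm (N ⧸ S))
        (fun q : N ⧸ S => φ q.out a)
      rw [← h0]
      apply Finset.prod_congr rfl
      intro q _
      have h1 : ((g • q).out)⁻¹ * (g * q.out) ∈ S := by
        have : (QuotientGroup.mk ((g • q).out) : N ⧸ S) = QuotientGroup.mk (g * q.out) := by
          rw [QuotientGroup.out_eq']
          conv_lhs => rw [← QuotientGroup.out_eq' q]
          rfl
        exact QuotientGroup.eq.mp this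
      show φ g (φ q.out a) = φ ((g • q).out) a
      calc φ g (φ q.out a) = φ (g * q.out) a := by rw [map_mul]; rfl
        _ = φ ((g • q).out * (((g • q).out)⁻¹ * (g * q.out))) a := by rw [mul_inv_cancel_left]
        _ = φ ((g • q).out) (φ (((g • q).out)⁻¹ * (g * q.out)) a) := by rw [map_mul]; rfl
        _ = φ ((g • q).out) a := by rw [ha _ h1]
    have tr_of_fixed : ∀ a, (∀ n, φ n a = a) → tr a = a ^ S.index := by
      intro a ha
      rw [htr]
      simp only [ha]
      rw [Finset.prod_const, Finset.card_univ, Subgroup.index_eq_card, Nat.card_eq_fintype_card]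
    let K : Subgroup A :=
      { carrier := {a | (∀ s ∈ S, φ s a = a) ∧ tr a = 1}
        one_mem' := ⟨fun s _ => map_one _, tr_one⟩
        mul_mem' := by
          rintro a b ⟨ha1, ha2⟩ ⟨hb1, hb2⟩
          refine ⟨fun s hs => ?_, ?_⟩
          · rw [map_mul, ha1 s hs, hb1 s hs]
          · rw [tr_mul, ha2, hb2, one_mul]
        inv_mem' := by
          rintro a ⟨ha1, ha2⟩
          refine ⟨fun s hs => ?_, ?_⟩
          · rw [map_inv, ha1 s hs]
          · rw [tr_inv, ha2, inv_one] }
    refine ⟨K, fun a ha => ha.1, ?_, ?_⟩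
    · intro a ha hfix
      have h1 : a ^ S.index = 1 := by rw [← tr_of_fixed a hfix]; exact ha.2
      have h2 := pow_gcd_eq_one.mpr ⟨hk a, h1⟩
      rw [Nat.Coprime.gcd_eq_one hcop, pow_one] at h2
      exact h2
    · intro a ha
      obtain ⟨u, v, huv⟩ := Nat.isCoprime_iff_coprime.mpr hcop
      have hwfix : ∀ n, φ n (tr a ^ v) = tr a ^ v := by
        intro n
        rw [map_zpow, tr_fixed a ha n]
      have htw : tr (tr a ^ v) = tr a := by
        rw [tr_of_fixed _ hwfix, ← zpow_natCast, ← zpow_mul]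
        have h3 : tr a ^ (u * (k : ℤ)) = 1 := by
          rw [zpow_mul', zpow_natCast, hk, one_zpow]
        calc tr a ^ (v * (S.index : ℤ)) = tr a ^ (u * (k : ℤ)) * tr a ^ (v * (S.index : ℤ)) := by
              rw [h3, one_mul]
          _ = tr a ^ (u * (k : ℤ) + v * (S.index : ℤ)) := (zpow_add _ _ _).symm
          _ = tr a := by rw [huv, zpow_one]
      refine ⟨tr a ^ v, a * (tr a ^ v)⁻¹, hwfix, ⟨?_, ?_⟩, ?_⟩
      · intro s hs
        rw [map_mul, map_inv, ha s hs, hwfix s]
      · rw [tr_mul, tr_inv, htw, mul_inv_cancel]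
      · rw [mul_comm, inv_mul_cancel_right]
  exact hdef (fun a => ∏ q : N ⧸ S, φ q.out a) (fun a => rfl)

end Abstract

section Concrete

variable {G : Type*} [Group G]

/-- conjugation action of `N` on a subgroup `M` it normalizes -/
def conjHom (N M : Subgroup G) (h : ∀ n ∈ N, ∀ m ∈ M, n * m * n⁻¹ ∈ M) : ↥N →* MulAut ↥M where
  toFun n :=
    { toFun := fun m => ⟨(n : G) * (m : G) * (n : G)⁻¹, h n n.2 m m.2⟩
      invFun := fun m => ⟨(n : G)⁻¹ * (m : G) * (n : G), by
        have := h (n : G)⁻¹ (N.inv_mem n.2) m m.2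
        simpa using this⟩
      left_inv := fun m => by ext; simp [mul_assoc]
      right_inv := fun m => by ext; simp [mul_assoc]
      map_mul' := fun a b => by ext; simp [mul_assoc] }
  map_one' := by ext; simp
  map_mul' := fun a b => by ext; simp [mul_assoc]

theorem conjHom_apply (N M : Subgroup G) (h : ∀ n ∈ N, ∀ m ∈ M, n * m * n⁻¹ ∈ M) (n : ↥N) (m : ↥M) :
    ((conjHom N M h n m : ↥M) : G) = (n : G) * (m : G) * (n : G)⁻¹ := rfl

/-- **Averaging lemma.** `S ≤ N` subgroups of a finite group, `M` an abelian subgroup normalized by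
`N`, all of whose elements have order dividing `k`, with `k` prime to `|N : S|`.  Then `C_M(N)` is a
direct factor of `C_M(S)`. -/
theorem exists_compl_centralizer [Finite G] (N S M : Subgroup G) (hSN : S ≤ N)
    (hMab : ∀ a ∈ M, ∀ b ∈ M, a * b = b * a) (hNM : ∀ n ∈ N, ∀ m ∈ M, n * m * n⁻¹ ∈ M)
    (k : ℕ) (hk : ∀ a ∈ M, a ^ k = 1) (hcop : Nat.Coprime k (S.relIndex N)) :
    ∃ K : Subgroup G, K ≤ M ⊓ centralizer (S : Set G) ∧
      (M ⊓ centralizer (N : Set G)) ⊓ K = ⊥ ∧
      (M ⊓ centralizer (N : Set G)) ⊔ K = M ⊓ centralizer (S : Set G) := by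
  classical
  let _ : CommGroup ↥M :=
    { (inferInstance : Group ↥M) with mul_comm := fun a b => Subtype.ext (hMab a a.2 b b.2) }
  have : Fintype (↥N ⧸ S.subgroupOf N) := Fintype.ofFinite _
  obtain ⟨K, hK1, hK2, hK3⟩ := exists_compl_fixed (conjHom N M hNM) (S.subgroupOf N) k
    (fun a => Subtype.ext (hk a a.2)) hcop
  -- translation between fixed points and centralizers
  have hfixS : ∀ a : ↥M, (∀ s ∈ S.subgroupOf N, conjHom N M hNM s a = a) ↔
      (a : G) ∈ centralizer (S : Set G) := by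
    intro a
    rw [Subgroup.mem_centralizer_iff]
    constructor
    · intro h s hs
      have h1 := congrArg Subtype.val (h ⟨s, hSN hs⟩ (Subgroup.mem_subgroupOf.mpr hs))
      rw [conjHom_apply] at h1
      simp only at h1
      calc s * (a : G) = (s * (a : G) * s⁻¹) * s := by group
        _ = (a : G) * s := by rw [h1]
    · intro h s hs
      apply Subtype.ext
      rw [conjHom_apply]
      have h1 := h (s : G) (Subgroup.mem_subgroupOf.mp hs)
      rw [h1, mul_inv_cancel_right]
  have hfixN : ∀ a : ↥M, (∀ n : ↥N, conjHom N M hNM n a = a) ↔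
      (a : G) ∈ centralizer (N : Set G) := by
    intro a
    rw [Subgroup.mem_centralizer_iff]
    constructor
    · intro h n hn
      have h1 := congrArg Subtype.val (h ⟨n, hn⟩)
      rw [conjHom_apply] at h1
      simp only at h1
      calc n * (a : G) = (n * (a : G) * n⁻¹) * n := by group
        _ = (a : G) * n := by rw [h1]
    · intro h n
      apply Subtype.ext
      rw [conjHom_apply]
      have h1 := h (n : G) n.2
      rw [h1, mul_inv_cancel_right]
  refine ⟨K.map M.subtype, ?_, ?_, ?_⟩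
  · rintro _ ⟨a, ha, rfl⟩
    exact Subgroup.mem_inf.mpr ⟨a.2, (hfixS a).mp (hK1 a ha)⟩
  · rw [eq_bot_iff]
    rintro x ⟨⟨hxM, hxN⟩, ⟨a, ha, rfl⟩⟩
    have h1 := hK2 a ha ((hfixN a).mpr hxN)
    rw [Subgroup.mem_bot, h1]
    rfl
  · apply le_antisymm
    · apply sup_le
      · exact inf_le_inf le_rfl (Subgroup.centralizer_le hSN)
      · rintro _ ⟨a, ha, rfl⟩
        exact Subgroup.mem_inf.mpr ⟨a.2, (hfixS a).mp (hK1 a ha)⟩
    · rintro x ⟨hxM, hxS⟩
      obtain ⟨w, c, hw, hc, hwc⟩ := hK3 ⟨x, hxM⟩ ((hfixS ⟨x, hxM⟩).mpr hxS)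
      have hx : x = (w : G) * (c : G) := congrArg Subtype.val hwc
      rw [hx]
      apply Subgroup.mul_mem_sup
      · exact Subgroup.mem_inf.mpr ⟨w.2, (hfixN w).mp hw⟩
      · exact ⟨c, hc, rfl⟩

end Concrete

end Cfsg.H5.TraceSplit
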