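import Mathlib
import Cfsg.Agent.H5.FamFusion4
import Cfsg.Agent.H5.Omega
import Cfsg.Agent.H5.QdFusion3
import Cfsg.Agent.Lib.Helper13.Sections

/-!
# Triple factorizations: the conjugates of `Ω₁Z(S)` under `N(W₁ S)` and `N(W₂ S)`
-/

set_option autoImplicit false
set_option linter.style.haveILetI false
set_option linter.unusedSectionVars false

namespace Cfsg.H5.TF

open Cfsg Cfsg.Agent.S1959 Cfsg.Agent.Lib.Helper13

universe u

section defs

/-- the factorization `Y = C(Ω₁Z(T)) N(W T)` for constrained `Y` -/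
def Fac (p : ℕ) (W : ∀ (Q : Type u) [Group Q], Subgroup Q) (Y : Type u) [Group Y] : Prop :=
  Finite Y → Subgroup.centralizer (Cfsg.pCore p Y : Set Y) ≤ Cfsg.pCore p Y → ∀ T : Sylow p Y,
    ∀ y : Y, ∃ a ∈ Subgroup.centralizer ((Cfsg.H5.omegaZ p (T : Subgroup Y) : Subgroup Y) : Set Y),
      ∃ b ∈ Subgroup.normalizer ((Cfsg.inducedFunctor (G := Y) W (T : Subgroup Y) : Subgroup Y) :
        Set Y), y = a * b

/-- the conclusion: `x` acts on `Ω₁Z(S)` as an element of `N(W S)` -/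
def Concl (p : ℕ) (W : ∀ (Q : Type u) [Group Q], Subgroup Q) {X : Type u} [Group X]
    (S : Subgroup X) (x : X) : Prop :=
  ∃ b ∈ Subgroup.normalizer ((Cfsg.inducedFunctor (G := X) W S : Subgroup X) : Set X),
    ∀ z ∈ Cfsg.H5.omegaZ p S, x * z * x⁻¹ ∈ S → b * z * b⁻¹ ∈ S → x * z * x⁻¹ = b * z * b⁻¹

end defs

section general

variable {X Y : Type*} [Group X] [Group Y]

theorem omegaZ_map_le (p : ℕ) (f : X →* Y) (K : Subgroup X) :
    (Cfsg.H5.omegaZ p K).map f ≤ Cfsg.H5.omegaZ p (K.map f) := by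
  unfold Cfsg.H5.omegaZ Cfsg.omegaOne
  rw [MonoidHom.map_closure]
  apply Subgroup.closure_mono
  rintro _ ⟨x, ⟨⟨hx, hxc⟩, hxp⟩, rfl⟩
  refine ⟨Subgroup.mem_inf.2 ⟨Subgroup.mem_map_of_mem _ hx, ?_⟩, ?_⟩
  · rw [Subgroup.mem_centralizer_iff]
    rintro _ ⟨k, hk, rfl⟩
    have := (Subgroup.mem_centralizer_iff.mp hxc) k hk
    rw [← map_mul, ← map_mul, this]
  · rw [← map_pow, hxp, map_one]

theorem map_mem_centralizer_map (f : X →* Y) (K : Subgroup X) {a : X}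
    (ha : a ∈ Subgroup.centralizer (K : Set X)) :
    f a ∈ Subgroup.centralizer ((K.map f : Subgroup Y) : Set Y) := by
  rw [Subgroup.mem_centralizer_iff]
  rintro _ ⟨k, hk, rfl⟩
  have := (Subgroup.mem_centralizer_iff.mp ha) k hk
  rw [← map_mul, ← map_mul, this]

theorem omegaZ_pow (p : ℕ) (K : Subgroup X) : ∀ z ∈ Cfsg.H5.omegaZ p K, z ^ p = 1 := by
  have h : Cfsg.IsElementaryAbelian p
      (Subgroup.closure {x : X | x ∈ K ⊓ Subgroup.centralizer (K : Set X) ∧ x ^ p = 1}) := by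
    apply Cfsg.H5.isElementaryAbelian_closure
    · rintro x ⟨hx, -⟩ y ⟨hy, -⟩
      exact (Subgroup.mem_centralizer_iff.mp hy.2) x hx.1
    · rintro x ⟨-, hx⟩
      exact hx
  exact h.2

end general

section iso

variable {p : ℕ} [Fact p.Prime] {W : ∀ (Q : Type u) [Group Q], Subgroup Q}

theorem isoInv_fac (hW : Cfsg.IsCharPFunctor.{u} p W) : IsoInv (Fac p W) := by
  intro X Y _ _ e h hfin hc T y
  haveI : Finite X := Finite.of_equiv Y e.symm.toEquiv
  have hcX := Cfsg.H5.FF.constrained_of_equiv e hc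
  obtain ⟨T', hT'⟩ : ∃ T' : Sylow p X, (T' : Subgroup X) = (T : Subgroup Y).comap e.toMonoidHom :=
    ⟨T.comapOfInjective e.toMonoidHom e.injective (by
      intro t _
      exact ⟨e.symm t, e.apply_symm_apply t⟩), rfl⟩
  have hTT' : (T : Subgroup Y) = (T' : Subgroup X).map e.toMonoidHom := by
    rw [hT', Subgroup.map_comap_eq_self_of_surjective e.surjective]
  obtain ⟨a, ha, b, hb, hab⟩ := h inferInstance hcX T' (e.symm y)
  refine ⟨e a, ?_, e b, ?_, ?_⟩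
  · rw [hTT', ← Cfsg.H5.omegaZ_map_equiv]
    exact map_mem_centralizer_map e.toMonoidHom _ ha
  · rw [hTT', inducedFunctor_map_equiv hW e (T' : Subgroup X) T'.isPGroup']
    exact Subgroup.le_normalizer_map e.toMonoidHom ⟨b, hb, rfl⟩
  · rw [← map_mul, ← hab, e.apply_symm_apply]

end iso

section lift

variable {p : ℕ} [Fact p.Prime] {W : ∀ (Q : Type u) [Group Q], Subgroup Q}

/-- Lemma F: the factorization in `X / O_{p'}(X)` lifts to `X` on `Ω₁Z(S)` -/
theorem fac_lift (hW : Cfsg.IsCharPFunctor.{u} p W) {X : Type u} [Group X] [Finite X]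
    (S : Sylow p X)
    (hSC : (S : Subgroup X) ⊓ Subgroup.centralizer (Cfsg.pCore p X : Set X) ≤ Cfsg.pCore p X)
    (hfac : Fac p W (X ⧸ Cfsg.pPrimeCore p X)) (x : X) : Concl p W (S : Subgroup X) x := by
  have hcop := Cfsg.H5.coprime_card_pPrimeCore p X
  have hcb := Cfsg.H5.QdF.centralizer_pCore_quotient_le' S hSC
  have hSp : IsPGroup p (S : Subgroup X) := S.isPGroup'
  obtain ⟨K, hK⟩ : ∃ K : Subgroup X, K = Cfsg.pPrimeCore p X := ⟨_, rfl⟩
  have hinj : ∀ t ∈ (S : Subgroup X), QuotientGroup.mk' (Cfsg.pPrimeCore p X) t = 1 → t = 1 := by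
    intro t ht h1
    have htK : t ∈ Cfsg.pPrimeCore p X := (QuotientGroup.eq_one_iff t).1 h1
    exact Cfsg.H5.eq_one_of_coprime_of_mem_pgroup (Cfsg.H5.coprime_orderOf_of_mem hcop htK) hSp ht
  obtain ⟨a, ha, b₀, hb₀, hab⟩ := hfac inferInstance hcb
    (S.mapSurjective (QuotientGroup.mk'_surjective (Cfsg.pPrimeCore p X)))
    (QuotientGroup.mk' (Cfsg.pPrimeCore p X) x⁻¹)
  rw [Sylow.coe_mapSurjective] at ha hb₀
  rw [inducedFunctor_map_of_injOn hW (QuotientGroup.mk' (Cfsg.pPrimeCore p X)) (S : Subgroup X)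
    hSp hinj] at hb₀
  have hVp : IsPGroup p (Cfsg.inducedFunctor W (S : Subgroup X) : Subgroup X) :=
    hSp.to_le (inducedFunctor_le _)
  obtain ⟨b, hbN, hb⟩ := Cfsg.H5.FF.exists_lift_normalizer (Cfsg.pPrimeCore p X) hcop hVp b₀⁻¹
    (Subgroup.inv_mem _ hb₀)
  refine ⟨b, hbN, ?_⟩
  intro z hz hxz hbz
  have hπz : QuotientGroup.mk' (Cfsg.pPrimeCore p X) z ∈
      Cfsg.H5.omegaZ p ((S : Subgroup X).map (QuotientGroup.mk' (Cfsg.pPrimeCore p X))) :=
    omegaZ_map_le p _ _ (Subgroup.mem_map_of_mem _ hz)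
  have hcomm := (Subgroup.mem_centralizer_iff.mp ha) _ hπz
  have hπx : QuotientGroup.mk' (Cfsg.pPrimeCore p X) x =
      QuotientGroup.mk' (Cfsg.pPrimeCore p X) b * a⁻¹ := by
    rw [hb, ← mul_inv_rev, ← hab, map_inv, inv_inv]
  have himg : QuotientGroup.mk' (Cfsg.pPrimeCore p X) (x * z * x⁻¹) =
      QuotientGroup.mk' (Cfsg.pPrimeCore p X) (b * z * b⁻¹) := by
    rw [map_mul, map_mul, map_inv, map_mul, map_mul, map_inv, hπx]
    have e1 : QuotientGroup.mk' (Cfsg.pPrimeCore p X) b * a⁻¹ *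
        QuotientGroup.mk' (Cfsg.pPrimeCore p X) z *
        (QuotientGroup.mk' (Cfsg.pPrimeCore p X) b * a⁻¹)⁻¹ =
        QuotientGroup.mk' (Cfsg.pPrimeCore p X) b *
        (a⁻¹ * (QuotientGroup.mk' (Cfsg.pPrimeCore p X) z * a)) *
        (QuotientGroup.mk' (Cfsg.pPrimeCore p X) b)⁻¹ := by group
    rw [e1, hcomm]
    group
  have h1 : (x * z * x⁻¹)⁻¹ * (b * z * b⁻¹) = 1 := by
    apply hinj _ (Subgroup.mul_mem _ (Subgroup.inv_mem _ hxz) hbz)
    rw [map_mul, map_inv, himg, inv_mul_cancel]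
  exact inv_mul_eq_one.mp h1

/-- transport of the conclusion from a subgroup -/
theorem concl_of_subgroup (hW : Cfsg.IsCharPFunctor.{u} p W) {X : Type u} [Group X] [Finite X]
    (H S : Subgroup X) (hSp : IsPGroup p S) (hSH : S ≤ H) (x : ↥H)
    (h : Concl p W (S.subgroupOf H) x) : Concl p W S (x : X) := by
  obtain ⟨b, hb, hbz⟩ := h
  have hmap : (S.subgroupOf H).map H.subtype = S := Subgroup.map_subgroupOf_eq_of_le hSH
  have hSp' : IsPGroup p (S.subgroupOf H) := hSp.comap_subtype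
  have hind := inducedFunctor_map_of_injective hW H.subtype H.subtype_injective (S.subgroupOf H) hSp'
  rw [hmap] at hind
  have hom := Cfsg.H5.omegaZ_map_injective p H.subtype H.subtype_injective (S.subgroupOf H)
  rw [hmap] at hom
  refine ⟨(b : X), ?_, ?_⟩
  · rw [hind]
    exact Subgroup.le_normalizer_map H.subtype ⟨b, hb, rfl⟩
  · intro z hz hxz hbz'
    rw [← hom] at hz
    obtain ⟨z', hz', rfl⟩ := hz
    have := hbz z' hz' (Subgroup.mem_subgroupOf.2 hxz) (Subgroup.mem_subgroupOf.2 hbz')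
    have := congrArg (H.subtype) this
    simpa using this

/-- Lemma F for a local subgroup `H ≥ S` with a normal `p`-subgroup `R` containing `C_S(R)` -/
theorem concl_of_local (hW : Cfsg.IsCharPFunctor.{u} p W) {X : Type u} [Group X] [Finite X]
    (S : Sylow p X) (H R : Subgroup X) (hSH : (S : Subgroup X) ≤ H) (hRS : R ≤ (S : Subgroup X))
    (hHR : H ≤ Subgroup.normalizer (R : Set X))
    (hCR : (S : Subgroup X) ⊓ Subgroup.centralizer (R : Set X) ≤ R)
    (hsec : SecAll (Fac p W) X) (x : X) (hx : x ∈ H) : Concl p W (S : Subgroup X) x := by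
  have hiso := isoInv_fac hW
  have hfac : Fac p W (↥H ⧸ Cfsg.pPrimeCore p ↥H) :=
    secAll_self hiso (secAll_quotient hiso (secAll_subgroup hiso hsec H) (Cfsg.pPrimeCore p ↥H))
  have hRn : (R.subgroupOf H).Normal := by
    constructor
    intro n hn g
    rw [Subgroup.mem_subgroupOf] at hn ⊢
    have := (Subgroup.mem_normalizer_iff.1 (hHR g.2) (n : X)).1 hn
    simpa using this
  have hRp : IsPGroup p (R.subgroupOf H) := (S.isPGroup'.to_le hRS).comap_subtype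
  have hRcore : R.subgroupOf H ≤ Cfsg.pCore p ↥H := Cfsg.H5.le_pCore hRn hRp
  have hSC : ((S.subtype hSH : Sylow p ↥H) : Subgroup ↥H) ⊓
      Subgroup.centralizer (Cfsg.pCore p ↥H : Set ↥H) ≤ Cfsg.pCore p ↥H := by
    intro s hs
    obtain ⟨hs1, hs2⟩ := Subgroup.mem_inf.1 hs
    rw [Sylow.coe_subtype, Subgroup.mem_subgroupOf] at hs1
    apply hRcore
    rw [Subgroup.mem_subgroupOf]
    apply hCR
    refine Subgroup.mem_inf.2 ⟨hs1, ?_⟩
    rw [Subgroup.mem_centralizer_iff]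
    intro r hr
    have hrH : r ∈ H := hSH (hRS hr)
    have h1 := (Subgroup.mem_centralizer_iff.mp hs2) ⟨r, hrH⟩
      (hRcore (Subgroup.mem_subgroupOf.2 hr))
    have := congrArg (H.subtype) h1
    simpa using this
  have := fac_lift hW (S.subtype hSH) hSC hfac ⟨x, hx⟩
  rw [Sylow.coe_subtype] at this
  exact concl_of_subgroup hW H (S : Subgroup X) S.isPGroup' hSH ⟨x, hx⟩ this

/-- Lemma G: the conclusion in a group with a normal `p`-subgroup `V ≥ Ω₁Z(S)` -/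
theorem concl_of_normal (hW : Cfsg.IsCharPFunctor.{u} p W) {X : Type u} [Group X] [Finite X]
    (S : Sylow p X) (V : Subgroup X) [hVn : V.Normal] (hVS : V ≤ (S : Subgroup X))
    (hZV : Cfsg.H5.omegaZ p (S : Subgroup X) ≤ V)
    (hsec : SecAll (Fac p W) X) (x : X) : Concl p W (S : Subgroup X) x := by
  obtain ⟨C, hC⟩ : ∃ C : Subgroup X, C = Subgroup.centralizer (V : Set X) := ⟨_, rfl⟩
  haveI hCn : C.Normal := by rw [hC]; infer_instance
  obtain ⟨n, hn, d, hd, rfl⟩ := Cfsg.Agent.Lib.Helper16.frattini_inf_normal S (V ⊔ C) x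
  have hd' : d ∈ ((V ⊔ C : Subgroup X) : Set X) := hd
  rw [Subgroup.mul_normal] at hd'
  obtain ⟨v, hv, c, hc, rfl⟩ := hd'
  have hVR : V ≤ (S : Subgroup X) ⊓ (V ⊔ C) := le_inf hVS le_sup_left
  have hSN : (S : Subgroup X) ≤ Subgroup.normalizer
      ((((S : Subgroup X) ⊓ (V ⊔ C) : Subgroup X)) : Set X) := by
    intro s hs
    apply Subgroup.mem_normalizer_fintype
    intro y hy
    obtain ⟨hy1, hy2⟩ := Subgroup.mem_inf.1 hy
    refine Subgroup.mem_inf.2 ⟨?_, ?_⟩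
    · exact Subgroup.mul_mem _ (Subgroup.mul_mem _ hs hy1) (Subgroup.inv_mem _ hs)
    · exact (inferInstance : (V ⊔ C).Normal).conj_mem y hy2 s
  have hCR : (S : Subgroup X) ⊓ Subgroup.centralizer
      ((((S : Subgroup X) ⊓ (V ⊔ C) : Subgroup X)) : Set X) ≤ (S : Subgroup X) ⊓ (V ⊔ C) := by
    intro s hs
    obtain ⟨hs1, hs2⟩ := Subgroup.mem_inf.1 hs
    refine Subgroup.mem_inf.2 ⟨hs1, Subgroup.mem_sup_right ?_⟩
    rw [hC]
    exact Subgroup.centralizer_le (by exact_mod_cast hVR) hs2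
  have hnv : n * v ∈ Subgroup.normalizer
      ((((S : Subgroup X) ⊓ (V ⊔ C) : Subgroup X)) : Set X) :=
    Subgroup.mul_mem _ hn (Subgroup.le_normalizer (hVR hv))
  obtain ⟨b, hb, hbz⟩ := concl_of_local hW S _ _ hSN inf_le_left le_rfl hCR hsec (n * v) hnv
  refine ⟨b, hb, ?_⟩
  intro z hz _ hbz'
  have hzV : z ∈ V := hZV hz
  have hcz : c * z * c⁻¹ = z := by
    rw [hC] at hc
    have := (Subgroup.mem_centralizer_iff.mp hc) z hzV
    rw [← this]; group
  have e1 : n * (v * c) * z * (n * (v * c))⁻¹ = (n * v) * (c * z * c⁻¹) * (n * v)⁻¹ := by group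
  rw [e1, hcz]
  exact hbz z hz (hVS (hVn.conj_mem z hzV (n * v))) hbz'

/-- Lemma X: `N(W S)` acts on `Ω₁Z(S)` through `N(W' S)` -/
theorem exists_normalizer_conj_eq {W' : ∀ (Q : Type u) [Group Q], Subgroup Q}
    (hW : Cfsg.IsCharPFunctor.{u} p W) (hW' : Cfsg.IsCharPFunctor.{u} p W')
    {G : Type u} [Group G] [Finite G] (S : Sylow p G)
    (hsec : SecAll (Fac p W') G)
    (hZ : Cfsg.H5.omegaZ p (S : Subgroup G) ≤ Cfsg.inducedFunctor (G := G) W (S : Subgroup G) ⊓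
      Cfsg.inducedFunctor (G := G) W' (S : Subgroup G))
    (l : G) (hl : l ∈ Subgroup.normalizer
      ((Cfsg.inducedFunctor (G := G) W (S : Subgroup G) : Subgroup G) : Set G)) :
    ∃ n ∈ Subgroup.normalizer
      ((Cfsg.inducedFunctor (G := G) W' (S : Subgroup G) : Subgroup G) : Set G),
      ∀ z ∈ Cfsg.H5.omegaZ p (S : Subgroup G), l * z * l⁻¹ = n * z * n⁻¹ := by
  have hiso := isoInv_fac hW'
  have hSp : IsPGroup p (S : Subgroup G) := S.isPGroup'
  obtain ⟨V, hV⟩ : ∃ V : Subgroup G, V = Cfsg.inducedFunctor (G := G) W (S : Subgroup G) :=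
    ⟨_, rfl⟩
  obtain ⟨V', hV'⟩ : ∃ V' : Subgroup G, V' = Cfsg.inducedFunctor (G := G) W' (S : Subgroup G) :=
    ⟨_, rfl⟩
  rw [← hV, ← hV'] at hZ
  rw [← hV] at hl
  rw [← hV']
  have hVS : V ≤ (S : Subgroup G) := by rw [hV]; exact inducedFunctor_le _
  have hV'S : V' ≤ (S : Subgroup G) := by rw [hV']; exact inducedFunctor_le _
  have hSL : (S : Subgroup G) ≤ Subgroup.normalizer (V : Set G) := by
    rw [hV]
    exact Subgroup.le_normalizer.trans (normalizer_le_normalizer_inducedFunctor hW _ hSp)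
  haveI hVn : (V.subgroupOf (Subgroup.normalizer (V : Set G))).Normal :=
    Subgroup.normal_in_normalizer
  have hom := Cfsg.H5.omegaZ_map_injective p (Subgroup.normalizer (V : Set G)).subtype
    (Subgroup.normalizer (V : Set G)).subtype_injective
    ((S : Subgroup G).subgroupOf (Subgroup.normalizer (V : Set G)))
  rw [Subgroup.map_subgroupOf_eq_of_le hSL] at hom
  have h1 := concl_of_normal hW' (S.subtype hSL) (V.subgroupOf (Subgroup.normalizer (V : Set G)))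
    (by
      rw [Sylow.coe_subtype]
      intro y hy
      rw [Subgroup.mem_subgroupOf] at hy ⊢
      exact hVS hy)
    (by
      rw [Sylow.coe_subtype]
      intro y hy
      rw [Subgroup.mem_subgroupOf]
      have : (y : G) ∈ Cfsg.H5.omegaZ p (S : Subgroup G) := by
        rw [← hom]; exact ⟨y, hy, rfl⟩
      exact (hZ this).1)
    (secAll_subgroup hiso hsec _) ⟨l, hl⟩
  rw [Sylow.coe_subtype] at h1
  obtain ⟨b, hb, hbz⟩ := concl_of_subgroup hW' _ (S : Subgroup G) hSp hSL ⟨l, hl⟩ h1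
  rw [← hV'] at hb
  refine ⟨b, hb, ?_⟩
  intro z hz
  have hz1 : z ∈ V := (hZ hz).1
  have hz2 : z ∈ V' := (hZ hz).2
  apply hbz z hz
  · exact hVS ((Subgroup.mem_normalizer_iff.1 hl z).1 hz1)
  · exact hV'S ((Subgroup.mem_normalizer_iff.1 hb z).1 hz2)

end lift

section main

variable {p : ℕ} [Fact p.Prime]

/-- the set of conjugates of elements of `Z` under `N`, and the invariance of its closure -/
theorem normalizer_le_normalizer_closure_conj {G : Type*} [Group G] [Finite G]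
    (N Z : Subgroup G) :
    N ≤ Subgroup.normalizer ((Subgroup.closure
      {g : G | ∃ n ∈ N, ∃ z ∈ Z, g = n * z * n⁻¹} : Subgroup G) : Set G) := by
  intro m hm
  apply Subgroup.mem_normalizer_fintype
  apply Cfsg.H5.QdF.conj_closure_mem
  rintro _ ⟨_, ⟨n, hn, z, hz, rfl⟩, rfl⟩
  apply Subgroup.subset_closure
  refine ⟨m * n, N.mul_mem hm hn, z, hz, ?_⟩
  group

theorem main {W₁ W₂ : ∀ (Q : Type u) [Group Q], Subgroup Q}
    (hW₁ : Cfsg.IsCharPFunctor.{u} p W₁) (hW₂ : Cfsg.IsCharPFunctor.{u} p W₂)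
    {G : Type u} [Group G] [Finite G] (S : Sylow p G)
    (hsec₁ : SecAll (Fac p W₁) G) (hsec₂ : SecAll (Fac p W₂) G)
    (hfam : Cfsg.FamilyControlsStrongFusionIn p
      {Cfsg.inducedFunctor (G := G) W₁, Cfsg.inducedFunctor (G := G) W₂} ⊤)
    (hZ : Cfsg.H5.omegaZ p (S : Subgroup G) ≤ Cfsg.inducedFunctor (G := G) W₁ (S : Subgroup G) ⊓
      Cfsg.inducedFunctor (G := G) W₂ (S : Subgroup G))
    (A : Subgroup G)
    (hA : A = Subgroup.closure {g : G | ∃ n ∈ Subgroup.normalizer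
      ((Cfsg.inducedFunctor (G := G) W₁ (S : Subgroup G) : Subgroup G) : Set G),
      ∃ z ∈ Cfsg.H5.omegaZ p (S : Subgroup G), g = n * z * n⁻¹}) :
    A ≤ (S : Subgroup G) ∧ Cfsg.IsElementaryAbelian p A ∧
      Cfsg.IsStronglyClosed A (S : Subgroup G) ∧ Cfsg.ControlsStrongFusion p A := by
  have hSp : IsPGroup p (S : Subgroup G) := S.isPGroup'
  have hX₁ := exists_normalizer_conj_eq hW₁ hW₂ S hsec₂ hZ
  have hX₂ := exists_normalizer_conj_eq hW₂ hW₁ S hsec₁ (by rwa [inf_comm])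
  have hc𝓦 : ∀ W ∈ ({Cfsg.inducedFunctor (G := G) W₁, Cfsg.inducedFunctor (G := G) W₂} :
      Set (Subgroup G → Subgroup G)), Cfsg.IsConjugacyFunctor p W := by
    intro W hW
    rcases hW with h | h
    · rw [h]; exact isConjugacyFunctor_inducedFunctor hW₁ G
    · rw [Set.mem_singleton_iff] at h
      rw [h]; exact isConjugacyFunctor_inducedFunctor hW₂ G
  have hreal := fam_any_sylow hc𝓦 ⊤ hfam (S : Subgroup G) le_top hSp
    (by rw [Subgroup.relIndex_top_right]; exact S.not_dvd_index)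
  obtain ⟨V₁, hV₁⟩ : ∃ V₁ : Subgroup G, V₁ = Cfsg.inducedFunctor (G := G) W₁ (S : Subgroup G) :=
    ⟨_, rfl⟩
  obtain ⟨V₂, hV₂⟩ : ∃ V₂ : Subgroup G, V₂ = Cfsg.inducedFunctor (G := G) W₂ (S : Subgroup G) :=
    ⟨_, rfl⟩
  obtain ⟨Z, hZdef⟩ : ∃ Z : Subgroup G, Z = Cfsg.H5.omegaZ p (S : Subgroup G) := ⟨_, rfl⟩
  rw [← hV₁, ← hV₂, ← hZdef] at hZ hX₁ hX₂
  rw [← hV₁, ← hZdef] at hA
  have hV₁S : V₁ ≤ (S : Subgroup G) := by rw [hV₁]; exact inducedFunctor_le _
  have hZV₁ : Z ≤ V₁ := hZ.trans inf_le_left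
  have hZc : Z ≤ (S : Subgroup G) ⊓ Subgroup.centralizer ((S : Subgroup G) : Set G) := by
    rw [hZdef]; exact Cfsg.H5.omegaOne_le p _
  have hZpow : ∀ z ∈ Z, z ^ p = 1 := by rw [hZdef]; exact omegaZ_pow p _
  -- the generating set
  have h𝒵V : {g : G | ∃ n ∈ Subgroup.normalizer (V₁ : Set G), ∃ z ∈ Z, g = n * z * n⁻¹} ⊆
      (V₁ : Set G) := by
    rintro _ ⟨n, hn, z, hz, rfl⟩
    exact (Subgroup.mem_normalizer_iff.1 hn z).1 (hZV₁ hz)
  have hAV : A ≤ V₁ := by rw [hA, Subgroup.closure_le]; exact h𝒵V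
  have hAS : A ≤ (S : Subgroup G) := hAV.trans hV₁S
  have h𝒵' : {g : G | ∃ n ∈ Subgroup.normalizer (V₁ : Set G), ∃ z ∈ Z, g = n * z * n⁻¹} =
      {g : G | ∃ n ∈ Subgroup.normalizer (V₂ : Set G), ∃ z ∈ Z, g = n * z * n⁻¹} := by
    ext g
    constructor
    · rintro ⟨l, hl, z, hz, rfl⟩
      obtain ⟨n, hn, hnz⟩ := hX₁ l hl
      exact ⟨n, hn, z, hz, hnz z hz⟩
    · rintro ⟨l, hl, z, hz, rfl⟩
      obtain ⟨n, hn, hnz⟩ := hX₂ l hl
      exact ⟨n, hn, z, hz, hnz z hz⟩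
  have hN₁ : Subgroup.normalizer (V₁ : Set G) ≤ Subgroup.normalizer (A : Set G) := by
    rw [hA]; exact normalizer_le_normalizer_closure_conj _ Z
  have hN₂ : Subgroup.normalizer (V₂ : Set G) ≤ Subgroup.normalizer (A : Set G) := by
    rw [hA, h𝒵']; exact normalizer_le_normalizer_closure_conj _ Z
  have hNW : ∀ W ∈ ({Cfsg.inducedFunctor (G := G) W₁, Cfsg.inducedFunctor (G := G) W₂} :
      Set (Subgroup G → Subgroup G)),
      Subgroup.normalizer ((W (S : Subgroup G) : Subgroup G) : Set G) ≤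
        Subgroup.normalizer (A : Set G) := by
    intro W hW
    rcases hW with h | h
    · rw [h, ← hV₁]; exact hN₁
    · rw [Set.mem_singleton_iff] at h
      rw [h, ← hV₂]; exact hN₂
  -- realization inside `N(A)`
  have hctl : ∀ (B : Set G) (g : G), B ⊆ (S : Subgroup G) →
      (fun a => g * a * g⁻¹) '' B ⊆ (S : Subgroup G) →
      ∃ x ∈ Subgroup.normalizer (A : Set G), ∀ a ∈ B, g * a * g⁻¹ = x * a * x⁻¹ := by
    intro B g hB hBg
    obtain ⟨g', hg', hag⟩ := hreal B g (Subgroup.mem_top _) hB hBg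
    exact ⟨g', Cfsg.H5.FF.Rz.mem_of_le hNW hg', fun a ha => (hag a ha).symm⟩
  refine ⟨hAS, ?_, ⟨hAS, ?_⟩, ⟨S, hAS, ?_⟩⟩
  · rw [hA]
    apply Cfsg.H5.isElementaryAbelian_closure
    · rintro _ ⟨n₁, hn₁, z₁, hz₁, rfl⟩ g₂ hg₂
      have hg₂V : g₂ ∈ V₁ := h𝒵V hg₂
      have h1 : n₁⁻¹ * g₂ * n₁⁻¹⁻¹ ∈ V₁ :=
        (Subgroup.mem_normalizer_iff.1 (Subgroup.inv_mem _ hn₁) g₂).1 hg₂V
      have h2 := (Subgroup.mem_centralizer_iff.mp (hZc hz₁).2) _ (hV₁S h1)
      have e1 : n₁ * z₁ * n₁⁻¹ * g₂ = n₁ * (z₁ * (n₁⁻¹ * g₂ * n₁⁻¹⁻¹)) * n₁⁻¹ := by group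
      have e2 : g₂ * (n₁ * z₁ * n₁⁻¹) = n₁ * ((n₁⁻¹ * g₂ * n₁⁻¹⁻¹) * z₁) * n₁⁻¹ := by group
      rw [e1, e2, h2]
    · rintro _ ⟨n, hn, z, hz, rfl⟩
      rw [conj_pow, hZpow z hz, mul_one, mul_inv_cancel]
  · intro x hx g hg
    obtain ⟨n, hn, hnx⟩ := hctl {x} g (by
        intro y hy
        rw [Set.mem_singleton_iff] at hy
        rw [hy]; exact hAS hx) (by
        rintro _ ⟨y, hy, rfl⟩
        rw [Set.mem_singleton_iff] at hy
        rw [hy]; exact hg)
    rw [hnx x rfl]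
    exact (Subgroup.mem_normalizer_iff.1 hn x).1 hx
  · intro B hB
    exact ⟨hB, fun g hg => hctl B g hB hg⟩

end main

end Cfsg.H5.TF
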