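import Cfsg.Agent.Lib.Helper8.ChevTa4
import Cfsg.Agent.Lib.Helper8.ChevTw51
import Cfsg.Agent.Lib.Helper8.ChevFold6

/-!
# S2129/S2130 sub-assembly SA-H (architect helper8): conjugation by the torus of a twisted group.
-/

set_option autoImplicit false

namespace Cfsg.H5.TwOutH

open Cfsg.Lie Matrix Cfsg.Agent.Lib.Helper8.Chev

variable {D : ChevalleyDatum} {F : Type*} [Field F] {ρ ρ' π π' : ℕ → ℕ} {ε : ℕ → ℤ}
  {T : TwOk D ρ ρ' π π' ε} {φ : F →+* F} {cls : List (List ℕ)} {G1 : Subgroup (GL D.Idx F)}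

/-- SA-H1.  An element of `G¹` whose conjugation preserves `U¹` and `V¹` lies in `H`. -/
theorem mem_diagonal_of_pres [Finite F] (X : TwGrp T φ cls G1) (x : ↥G1)
    (hU : PresT (MulAut.conj x : MulAut ↥G1) (D.posUnipotent F))
    (hV : PresT (MulAut.conj x : MulAut ↥G1) (D.negUnipotent F)) :
    (x : GL D.Idx F) ∈ D.diagonalSubgroup F := by
  have hD := X.hD
  have V := valid0_of_mem hD
  have V1 := valid1_of_mem hD
  have VJ := validJ_of_mem hD
  have H := validH_of_mem hD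
  have P := posP_of_mem hD
  have Tr := triP_of_mem hD
  have hI := checkInv_of_mem hD
  obtain ⟨Js, hJs, hgood, hfull⟩ := X.w0
  have hls := sym_lt (X.clsOk hJs)
  have hl := X.flatten_lt hJs
  have hlr : ∀ i ∈ Js.flatten.reverse, i < D.rank := fun i hi => hl i (List.mem_reverse.mp hi)
  obtain ⟨f1, f2, f3⟩ := full_props hD hl hfull
  set n := nP D F Js.flatten with hn
  have hnG : n ∈ G1 := X.nP_mem hJs
  have hPn := (rootPermN_nP (F := F) VJ V1 H.nS _ hl).rootPerm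
  have hPi : RootPerm D F ((n⁻¹ : GL D.Idx F) : Matrix D.Idx D.Idx F)
      (reflWord D Js.flatten.reverse) := by
    apply hPn.inv_unit
    intro s hs
    exact ⟨reflWord_lt VJ H.nS hlr hs, reflWord_reverse_cancel VJ H.nS hI hl hs⟩
  -- `n U n⁻¹ ≤ V` and `n⁻¹ V n ≤ U`
  have hleV : (D.posUnipotent F).map (MulAut.conj n).toMonoidHom ≤ D.negUnipotent F :=
    conj_pos_le_neg hD hPn hfull
  have hleU : (D.negUnipotent F).map (MulAut.conj n⁻¹).toMonoidHom ≤ D.posUnipotent F :=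
    conj_neg_le_pos hD hPi f3
  -- `x ∈ B`
  have hxB : (x : GL D.Idx F) ∈ D.borelSubgroup F := by
    apply X.mem_borel_of_conj_pos x.2
    intro u hu
    obtain ⟨huU, huG⟩ := Subgroup.mem_inf.mp hu
    have := hU ⟨u, huG⟩ huU
    rw [MulAut.conj_apply] at this
    simpa using this
  -- `n⁻¹ x n ∈ B`
  have hyG : n⁻¹ * (x : GL D.Idx F) * n ∈ G1 := mul_mem (mul_mem (inv_mem hnG) x.2) hnG
  have hyB : n⁻¹ * (x : GL D.Idx F) * n ∈ D.borelSubgroup F := by
    apply X.mem_borel_of_conj_pos hyG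
    intro u hu
    obtain ⟨huU, huG⟩ := Subgroup.mem_inf.mp hu
    have h1 : n * u * n⁻¹ ∈ D.negUnipotent F := hleV ⟨u, huU, rfl⟩
    have h1G : n * u * n⁻¹ ∈ G1 := mul_mem (mul_mem hnG huG) (inv_mem hnG)
    have h2 := hV ⟨_, h1G⟩ h1
    rw [MulAut.conj_apply] at h2
    have h3 : (x : GL D.Idx F) * (n * u * n⁻¹) * (x : GL D.Idx F)⁻¹ ∈ D.negUnipotent F := by
      simpa using h2
    have h4 : n⁻¹ * ((x : GL D.Idx F) * (n * u * n⁻¹) * (x : GL D.Idx F)⁻¹) * n⁻¹⁻¹ ∈
        D.posUnipotent F := hleU ⟨_, h3, rfl⟩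
    have e : n⁻¹ * (x : GL D.Idx F) * n * u * (n⁻¹ * (x : GL D.Idx F) * n)⁻¹ =
        n⁻¹ * ((x : GL D.Idx F) * (n * u * n⁻¹) * (x : GL D.Idx F)⁻¹) * n⁻¹⁻¹ := by group
    rw [e]
    exact h4
  obtain ⟨u, hu, h, hh, e⟩ := X.borel_decomp (Subgroup.mem_inf.mpr ⟨hyB, hyG⟩)
  have hVn : n * u * n⁻¹ ∈ D.negUnipotent F := hleV ⟨u, (Subgroup.mem_inf.mp hu).1, rfl⟩
  have hH : n * h * n⁻¹ ∈ D.diagonalSubgroup F :=
    (Subgroup.mem_normalizer_iff.mp (monomial_le_normalizer hD (nP_mem_monomial hD hls)) _).mp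
      (Subgroup.mem_inf.mp hh).1
  have e2 : (x : GL D.Idx F) = (n * u * n⁻¹) * (n * h * n⁻¹) := by
    have : (x : GL D.Idx F) = n * (n⁻¹ * (x : GL D.Idx F) * n) * n⁻¹ := by group
    rw [this, e]; group
  rw [← borel_inf_neg_sup_diagonal VJ V1 H Tr P]
  refine Subgroup.mem_inf.mpr ⟨hxB, ?_⟩
  rw [e2]
  exact mul_mem (Subgroup.mem_sup_left hVn) (Subgroup.mem_sup_right hH)

/-- SA-H2.  Conjugation by an element of `H¹` preserves `U` and `V`. -/
theorem pres_of_mem_diagonal (X : TwGrp T φ cls G1) (x : ↥G1)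
    (hx : (x : GL D.Idx F) ∈ D.diagonalSubgroup F) :
    PresT (MulAut.conj x : MulAut ↥G1) (D.posUnipotent F) ∧
      PresT (MulAut.conj x : MulAut ↥G1) (D.negUnipotent F) := by
  have hD := X.hD
  have V1 := valid1_of_mem hD
  have VJ := validJ_of_mem hD
  have H := validH_of_mem hD
  constructor
  · intro g hg
    rw [MulAut.conj_apply]
    have := (Subgroup.mem_normalizer_iff.mp (diagonal_le_normalizer_pos VJ V1 H hx) _).mp hg
    simpa using this
  · intro g hg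
    rw [MulAut.conj_apply]
    have := (Subgroup.mem_normalizer_iff.mp (diagonal_le_normalizer_neg VJ V1 H hx) _).mp hg
    simpa using this

/-- SA-H3.  The centre is trivial: a trivial conjugation comes from the trivial element. -/
theorem eq_one_of_conj_eq_one (X : TwGrp T φ cls G1) (x : ↥G1)
    (hx : (x : GL D.Idx F) ∈ D.diagonalSubgroup F)
    (h : (MulAut.conj x : MulAut ↥G1) = 1) : x = 1 := by
  have hD := X.hD
  have V := valid0_of_mem hD
  have V1 := valid1_of_mem hD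
  have VJ := validJ_of_mem hD
  apply Subtype.ext
  rw [Subgroup.coe_one]
  apply X.torus_center hx
  intro J hJ
  have hJok := X.cd.ok J hJ
  have hc := coe_wG (F := F) V V1 _ (clsWS_lt V VJ (sgnF_simple D) φ hJok.lt (1 : F))
  have hbG : wG D F (clsWS D.simple φ J 1) ∈ G1 :=
    X.cls_mem J hJ _ (by simp) 1 (Function.iterate_fixed (map_one φ) _) _ hc
  have h1 := congrArg (fun θ : MulAut ↥G1 => θ ⟨_, hbG⟩) h
  simp only [MulAut.conj_apply, MulAut.one_apply] at h1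
  have h2 := congrArg (fun z : ↥G1 => (z : GL D.Idx F)) h1
  simp only [Subgroup.coe_mul, Subgroup.coe_inv] at h2
  calc (x : GL D.Idx F) * wG D F (clsWS D.simple φ J 1)
      = ((x : GL D.Idx F) * wG D F (clsWS D.simple φ J 1) * (x : GL D.Idx F)⁻¹) * x := by group
    _ = wG D F (clsWS D.simple φ J 1) * x := by rw [h2]

end Cfsg.H5.TwOutH
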