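import Mathlib
import Cfsg.Agent.H5.TraceSplit
import Cfsg.Agent.Lib.Helper18.GlaubermanTwoD

set_option autoImplicit false

/-!
# Weakly closed elements of a Sylow subgroup form a direct factor of its centre

`split_of_control`: if the normalizer of a subgroup `J` with `Z(S) ≤ J ≤ S`, `S ≤ N(J)`, controls
weak closure of elements, then the weakly closed elements of `S` are a direct factor of `Z(S)`.
`split_odd`: the case `p` odd (via Glauberman's theorem for `J(S)`).
-/

namespace Cfsg.H5.WCSplit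

open Subgroup

variable {G : Type*} [Group G]

theorem center_abelian (J : Subgroup G) :
    ∀ a ∈ J ⊓ centralizer (J : Set G), ∀ b ∈ J ⊓ centralizer (J : Set G), a * b = b * a := by
  intro a ha b hb
  exact (Subgroup.mem_centralizer_iff.mp ha.2 b hb.1).symm

theorem normalizer_normalizes_center (J : Subgroup G) :
    ∀ n ∈ normalizer (J : Set G), ∀ m ∈ J ⊓ centralizer (J : Set G),
      n * m * n⁻¹ ∈ J ⊓ centralizer (J : Set G) := by
  intro n hn m hm
  refine Subgroup.mem_inf.mpr ⟨(Subgroup.mem_normalizer_iff.mp hn m).mp hm.1, ?_⟩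
  rw [Subgroup.mem_centralizer_iff]
  intro j hj
  have hj' : n⁻¹ * j * n ∈ J := by
    have := (Subgroup.mem_normalizer_iff.mp (Subgroup.inv_mem _ hn) j).mp hj
    simpa using this
  have h1 := Subgroup.mem_centralizer_iff.mp hm.2 _ hj'
  calc j * (n * m * n⁻¹) = n * ((n⁻¹ * j * n) * m) * n⁻¹ := by group
    _ = n * (m * (n⁻¹ * j * n)) * n⁻¹ := by rw [h1]
    _ = n * m * n⁻¹ * j := by group

theorem split_of_control [Finite G] {p : ℕ} [Fact p.Prime] (S : Sylow p G) (J : Subgroup G)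
    (hJS : J ≤ (S : Subgroup G))
    (hZJ : (S : Subgroup G) ⊓ centralizer ((S : Subgroup G) : Set G) ≤ J)
    (hSN : (S : Subgroup G) ≤ normalizer (J : Set G))
    (hctl : ∀ x ∈ (S : Subgroup G) ⊓ centralizer ((normalizer (J : Set G) : Subgroup G) : Set G),
      ∀ g : G, g * x * g⁻¹ ∈ (S : Subgroup G) → g * x * g⁻¹ = x) :
    ∃ W K : Subgroup G, (∀ x : G, x ∈ W ↔ (x ∈ (S : Subgroup G) ∧
        ∀ g : G, g * x * g⁻¹ ∈ (S : Subgroup G) → g * x * g⁻¹ = x)) ∧
      K ≤ ((S : Subgroup G) ⊓ Subgroup.centralizer ((S : Subgroup G) : Set G)) ∧ W ⊓ K = ⊥ ∧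
      W ⊔ K = ((S : Subgroup G) ⊓ Subgroup.centralizer ((S : Subgroup G) : Set G)) := by
  have hp : p.Prime := Fact.out
  -- the abelian group `M = Z(J)`
  have hMS : J ⊓ centralizer (J : Set G) ⊓ centralizer ((S : Subgroup G) : Set G) =
      (S : Subgroup G) ⊓ centralizer ((S : Subgroup G) : Set G) := by
    apply le_antisymm
    · exact inf_le_inf (inf_le_left.trans hJS) le_rfl
    · refine le_inf (le_inf hZJ ?_) inf_le_right
      exact inf_le_right.trans (Subgroup.centralizer_le hJS)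
  obtain ⟨n, hn⟩ := IsPGroup.iff_card.mp S.isPGroup'
  have hk : ∀ a ∈ J ⊓ centralizer (J : Set G), a ^ (p ^ n) = 1 := by
    intro a ha
    have haS : a ∈ (S : Subgroup G) := hJS ha.1
    have h1 : (⟨a, haS⟩ : ↥(S : Subgroup G)) ^ Nat.card ↥(S : Subgroup G) = 1 := pow_card_eq_one'
    rw [hn] at h1
    exact congrArg Subtype.val h1
  have hcop : Nat.Coprime (p ^ n) ((S : Subgroup G).relIndex (normalizer (J : Set G))) := by
    apply Nat.Coprime.pow_left
    rw [Nat.Prime.coprime_iff_not_dvd hp]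
    intro hdvd
    exact S.not_dvd_index (hdvd.trans (Subgroup.relIndex_dvd_index_of_le hSN))
  obtain ⟨K, hK1, hK2, hK3⟩ := Cfsg.H5.TraceSplit.exists_compl_centralizer
    (normalizer (J : Set G)) (S : Subgroup G) (J ⊓ centralizer (J : Set G)) hSN
    (center_abelian J) (normalizer_normalizes_center J) (p ^ n) hk hcop
  rw [hMS] at hK1 hK3
  refine ⟨J ⊓ centralizer (J : Set G) ⊓
    centralizer ((normalizer (J : Set G) : Subgroup G) : Set G), K, ?_, hK1, hK2, hK3⟩
  intro x
  constructor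
  · rintro ⟨⟨hxJ, _⟩, hxN⟩
    exact ⟨hJS hxJ, hctl x (Subgroup.mem_inf.mpr ⟨hJS hxJ, hxN⟩)⟩
  · rintro ⟨hxS, hwc⟩
    have hxC : x ∈ centralizer ((S : Subgroup G) : Set G) := by
      rw [Subgroup.mem_centralizer_iff]
      intro s hs
      have h1 := hwc s ((S : Subgroup G).mul_mem ((S : Subgroup G).mul_mem hs hxS)
        ((S : Subgroup G).inv_mem hs))
      calc s * x = (s * x * s⁻¹) * s := by group
        _ = x * s := by rw [h1]
    have hxJ : x ∈ J := hZJ (Subgroup.mem_inf.mpr ⟨hxS, hxC⟩)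
    refine Subgroup.mem_inf.mpr ⟨Subgroup.mem_inf.mpr ⟨hxJ, Subgroup.centralizer_le hJS hxC⟩, ?_⟩
    rw [Subgroup.mem_centralizer_iff]
    intro m hm
    have h1 := hwc m (hJS ((Subgroup.mem_normalizer_iff.mp hm x).mp hxJ))
    calc m * x = (m * x * m⁻¹) * m := by group
      _ = x * m := by rw [h1]

/-- The case `p` odd, via Glauberman's weak closure theorem for `J(S)`. -/
theorem split_odd {G : Type*} [Group G] [Finite G] {p : ℕ} [Fact p.Prime] (S : Sylow p G)
    (hp2 : p ≠ 2) :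
    ∃ W K : Subgroup G, (∀ x : G, x ∈ W ↔ (x ∈ (S : Subgroup G) ∧
        ∀ g : G, g * x * g⁻¹ ∈ (S : Subgroup G) → g * x * g⁻¹ = x)) ∧
      K ≤ ((S : Subgroup G) ⊓ Subgroup.centralizer ((S : Subgroup G) : Set G)) ∧ W ⊓ K = ⊥ ∧
      W ⊔ K = ((S : Subgroup G) ⊓ Subgroup.centralizer ((S : Subgroup G) : Set G)) := by
  have hSi : ¬ p ∣ (S : Subgroup G).relIndex ⊤ := by
    rw [Subgroup.relIndex_top_right]; exact S.not_dvd_index
  have hJS : Cfsg.thompsonSubgroupAOf (S : Subgroup G) ≤ (S : Subgroup G) :=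
    Subgroup.map_subtype_le _
  have hSN : (S : Subgroup G) ≤
      normalizer ((Cfsg.thompsonSubgroupAOf (S : Subgroup G) : Subgroup G) : Set G) := by
    intro t ht
    rw [← Cfsg.Agent.Lib.Helper13.map_conj_eq_self_iff_mem_normalizer,
      ← (Cfsg.Agent.Lib.Helper18.GlaubermanTwo.isConjugacyFunctor_J p (S : Subgroup G)
        S.isPGroup').2.2 t]
    congr 1
    exact (Cfsg.Agent.Lib.Helper13.map_conj_eq_self_iff_mem_normalizer (S : Subgroup G) t).mpr
      (Subgroup.le_normalizer ht)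
  apply split_of_control S (Cfsg.thompsonSubgroupAOf (S : Subgroup G)) hJS
    (Cfsg.Agent.Lib.Helper18.GlaubermanTwo.center_le_J p (S : Subgroup G) S.isPGroup') hSN
  intro x hx g hg
  exact Cfsg.Agent.Lib.Helper18.GlaubermanTwo.weak_closure_J (Or.inl hp2) ⊤ (S : Subgroup G) le_top
    S.isPGroup' hSi x (by rw [top_inf_eq]; exact hx) g (Subgroup.mem_top g) hg

end Cfsg.H5.WCSplit
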