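import Mathlib
import Cfsg.Agent.H5.WCSplit
import Cfsg.Agent.H5.PSolvable
import Cfsg.Agent.Lib.Helper25.PSolv
import Cfsg.Agent.Lib.Helper10.PComponent
import Cfsg.Agent.Lib.Helper9.CompAct1
import Cfsg.Agent.Lib.Helper16.PCore

set_option autoImplicit false

/-!
# Weakly closed elements of a Sylow subgroup of a solvable group

`split_solvable`: in a finite solvable group the weakly closed elements of a Sylow `p`-subgroup `S`
are a direct factor of `Z(S)` (any prime `p`).  With `O = O_{p'}(G)`, `H = O_{p',p}(G)`,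
`Q = S ∩ H`: the weakly closed elements of `S` are the elements of `S` centralizing `N_G(Q)`.
-/

namespace Cfsg.H5.WCSplit

open Subgroup

universe u

theorem split_solvable {G : Type u} [Group G] [Finite G] {p : ℕ} [Fact p.Prime] (S : Sylow p G)
    (hsol : Group.IsSolvable G) :
    ∃ W K : Subgroup G, (∀ x : G, x ∈ W ↔ (x ∈ (S : Subgroup G) ∧
        ∀ g : G, g * x * g⁻¹ ∈ (S : Subgroup G) → g * x * g⁻¹ = x)) ∧
      K ≤ ((S : Subgroup G) ⊓ Subgroup.centralizer ((S : Subgroup G) : Set G)) ∧ W ⊓ K = ⊥ ∧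
      W ⊔ K = ((S : Subgroup G) ⊓ Subgroup.centralizer ((S : Subgroup G) : Set G)) := by
  have hp : p.Prime := Fact.out
  have hOn : (Cfsg.pPrimeCore p G).Normal := inferInstance
  have hπs : Function.Surjective (QuotientGroup.mk' (Cfsg.pPrimeCore p G)) :=
    QuotientGroup.mk'_surjective _
  have hPn : (Cfsg.pCore p (G ⧸ Cfsg.pPrimeCore p G)).Normal := Cfsg.H5.pCore_normal p _
  have hHH : centralizer ((Cfsg.pCore p (G ⧸ Cfsg.pPrimeCore p G) : Subgroup _) : Set _) ≤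
      Cfsg.pCore p (G ⧸ Cfsg.pPrimeCore p G) :=
    Cfsg.H5.centralizer_pCore_le_of_isPSolvable
      (Cfsg.H5.isPSolvable_quotient (Cfsg.pPrimeCore p G)
        (Cfsg.Agent.Lib.Helper25.isPSolvable_of_isSolvable p hsol))
      (Cfsg.Agent.Lib.Helper10.pPrimeCore_quotient_eq_bot p)
  have hHn : ((Cfsg.pCore p (G ⧸ Cfsg.pPrimeCore p G)).comap
      (QuotientGroup.mk' (Cfsg.pPrimeCore p G))).Normal := hPn.comap _
  have hPS : Cfsg.pCore p (G ⧸ Cfsg.pPrimeCore p G) ≤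
      (S : Subgroup G).map (QuotientGroup.mk' (Cfsg.pPrimeCore p G)) := by
    have := Cfsg.Agent.Lib.Helper16.pCore_le_sylow (S.mapSurjective hπs)
    rwa [Sylow.coe_mapSurjective] at this
  obtain ⟨n, hn⟩ := IsPGroup.iff_card.mp S.isPGroup'
  have hSO : (S : Subgroup G) ⊓ Cfsg.pPrimeCore p G = ⊥ := by
    apply disjoint_iff.mp
    apply Subgroup.disjoint_of_coprime_natCard
    rw [hn]
    exact Nat.Coprime.pow_left n (Cfsg.H5.coprime_card_pPrimeCore p G).symm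
  -- abbreviations via generalization
  obtain ⟨H, hH⟩ : ∃ H : Subgroup G, H = (Cfsg.pCore p (G ⧸ Cfsg.pPrimeCore p G)).comap
      (QuotientGroup.mk' (Cfsg.pPrimeCore p G)) := ⟨_, rfl⟩
  rw [← hH] at hHn
  have hmemH : ∀ x : G, x ∈ H ↔
      QuotientGroup.mk' (Cfsg.pPrimeCore p G) x ∈ Cfsg.pCore p (G ⧸ Cfsg.pPrimeCore p G) := by
    intro x; rw [hH]; exact Subgroup.mem_comap
  -- `Z(S) ≤ S ∩ H`
  have hZQ : (S : Subgroup G) ⊓ centralizer ((S : Subgroup G) : Set G) ≤ (S : Subgroup G) ⊓ H := by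
    rintro x ⟨hxS, hxC⟩
    refine Subgroup.mem_inf.mpr ⟨hxS, ?_⟩
    rw [hmemH]
    apply hHH
    rw [Subgroup.mem_centralizer_iff]
    intro y hy
    obtain ⟨s, hs, rfl⟩ := hPS hy
    rw [← map_mul, ← map_mul, Subgroup.mem_centralizer_iff.mp hxC s hs]
  -- `S ≤ N(S ∩ H)`
  have hSN : (S : Subgroup G) ≤ normalizer (((S : Subgroup G) ⊓ H : Subgroup G) : Set G) := by
    intro s hs
    rw [Subgroup.mem_normalizer_iff]
    intro g
    constructor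
    · rintro ⟨hg1, hg2⟩
      exact ⟨(S : Subgroup G).mul_mem ((S : Subgroup G).mul_mem hs hg1)
        ((S : Subgroup G).inv_mem hs), hHn.conj_mem g hg2 s⟩
    · rintro ⟨hg1, hg2⟩
      have e : g = s⁻¹ * (s * g * s⁻¹) * s⁻¹⁻¹ := by group
      rw [e]
      exact ⟨(S : Subgroup G).mul_mem ((S : Subgroup G).mul_mem ((S : Subgroup G).inv_mem hs) hg1)
        ((S : Subgroup G).inv_mem ((S : Subgroup G).inv_mem hs)), hHn.conj_mem _ hg2 s⁻¹⟩
  -- Frattini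
  have hfr : normalizer (((S : Subgroup G) ⊓ H : Subgroup G) : Set G) ⊔ H = ⊤ := by
    have := hHn
    have h1 := Sylow.normalizer_sup_eq_top
      (Cfsg.Agent.Lib.Helper9.CompAct.sylowInf p S H hHn.isSubnormal)
    have h2 : ((Cfsg.Agent.Lib.Helper9.CompAct.sylowInf p S H hHn.isSubnormal : Sylow p ↥H) :
        Subgroup ↥H).map H.subtype = (S : Subgroup G) ⊓ H := by
      rw [Cfsg.Agent.Lib.Helper9.CompAct.coe_sylowInf, Subgroup.subgroupOf_map_subtype]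
    rw [h2] at h1
    exact h1
  apply split_of_control S ((S : Subgroup G) ⊓ H) inf_le_left hZQ hSN
  rintro x ⟨hxS, hxc⟩ g hg
  have hg' : g ∈ normalizer (((S : Subgroup G) ⊓ H : Subgroup G) : Set G) ⊔ H := by
    rw [hfr]; exact Subgroup.mem_top g
  obtain ⟨m₀, hm₀, h, hh, rfl⟩ := Subgroup.mem_sup_of_normal_right.mp hg'
  -- split `h = s * o`
  obtain ⟨s, hs, hsh⟩ := hPS ((hmemH h).mp hh)
  have hsH : s ∈ H := by rw [hmemH, hsh]; exact (hmemH h).mp hh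
  have ho : s⁻¹ * h ∈ Cfsg.pPrimeCore p G := by
    have : (QuotientGroup.mk s : G ⧸ Cfsg.pPrimeCore p G) = QuotientGroup.mk h := hsh
    exact QuotientGroup.eq.mp this
  have hmN : m₀ * s ∈ normalizer (((S : Subgroup G) ⊓ H : Subgroup G) : Set G) :=
    Subgroup.mul_mem _ hm₀ (hSN hs)
  have hm := Subgroup.mem_centralizer_iff.mp hxc _ hmN
  have hm' : x⁻¹ * (m₀ * s) = (m₀ * s) * x⁻¹ := by
    calc x⁻¹ * (m₀ * s) = x⁻¹ * ((m₀ * s) * x) * x⁻¹ := by group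
      _ = x⁻¹ * (x * (m₀ * s)) * x⁻¹ := by rw [hm]
      _ = (m₀ * s) * x⁻¹ := by group
  have hc : x⁻¹ * (m₀ * h * x * (m₀ * h)⁻¹) =
      (m₀ * s) * (x⁻¹ * (s⁻¹ * h) * x⁻¹⁻¹ * (s⁻¹ * h)⁻¹) * (m₀ * s)⁻¹ := by
    calc x⁻¹ * (m₀ * h * x * (m₀ * h)⁻¹)
        = (x⁻¹ * (m₀ * s)) * ((s⁻¹ * h) * x * (s⁻¹ * h)⁻¹) * (m₀ * s)⁻¹ := by group
      _ = ((m₀ * s) * x⁻¹) * ((s⁻¹ * h) * x * (s⁻¹ * h)⁻¹) * (m₀ * s)⁻¹ := by rw [hm']
      _ = (m₀ * s) * (x⁻¹ * (s⁻¹ * h) * x⁻¹⁻¹ * (s⁻¹ * h)⁻¹) * (m₀ * s)⁻¹ := by group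
  have hcO : x⁻¹ * (m₀ * h * x * (m₀ * h)⁻¹) ∈ Cfsg.pPrimeCore p G := by
    rw [hc]
    apply hOn.conj_mem
    exact Subgroup.mul_mem _ (hOn.conj_mem _ ho x⁻¹) (Subgroup.inv_mem _ ho)
  have hcS : x⁻¹ * (m₀ * h * x * (m₀ * h)⁻¹) ∈ (S : Subgroup G) :=
    Subgroup.mul_mem _ (Subgroup.inv_mem _ hxS) hg
  have h1 : x⁻¹ * (m₀ * h * x * (m₀ * h)⁻¹) ∈ (S : Subgroup G) ⊓ Cfsg.pPrimeCore p G :=
    Subgroup.mem_inf.mpr ⟨hcS, hcO⟩
  rw [hSO, Subgroup.mem_bot] at h1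
  exact (inv_mul_eq_one.mp h1).symm

end Cfsg.H5.WCSplit
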