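import Mathlib
import Cfsg.Agent.H5.QdFusion3
import Cfsg.Agent.S1961
import Cfsg.Agent.Lib.Helper13.AlperinGoldschmidt
import Cfsg.Agent.Lib.Helper16.Qd2

/-!
# Control of fusion by `N(Z(J(S)))` under a local `SL₂(p)`-freeness hypothesis
-/

set_option autoImplicit false
set_option linter.style.haveILetI false
set_option linter.unusedSectionVars false

namespace Cfsg.H5.ZJL

open Cfsg Cfsg.H5.ZJ Cfsg.H5.SC Cfsg.Agent.Lib.Helper13

universe u

section central

variable {G : Type*} [Group G] [Finite G]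

/-- central elements of `P` of order dividing `e` lie in `Z e P` -/
theorem mem_Z_of_central {e : ℕ} {P : Subgroup G} {z : G} (hzP : z ∈ P)
    (hc : ∀ x ∈ P, x * z = z * x) (hze : z ^ e = 1) : z ∈ Z e P := by
  have hgz : Good e (Subgroup.zpowers z) := by
    refine ⟨fun x hx y hy => ?_, fun a ha => ?_⟩
    · obtain ⟨i, rfl⟩ := Subgroup.mem_zpowers_iff.1 hx
      obtain ⟨j, rfl⟩ := Subgroup.mem_zpowers_iff.1 hy
      exact ((Commute.refl z).zpow_zpow i j).eq
    · obtain ⟨i, rfl⟩ := Subgroup.mem_zpowers_iff.1 ha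
      rw [← zpow_natCast, ← zpow_mul, mul_comm, zpow_mul, zpow_natCast, hze, one_zpow]
  have hmem : ∀ A ∈ fam e P, z ∈ A := by
    intro A hA
    have hgood : Good e (A ⊔ Subgroup.zpowers z) := by
      apply good_sup hA.2.1 hgz
      intro a ha x hx
      obtain ⟨i, rfl⟩ := Subgroup.mem_zpowers_iff.1 hx
      have h1 : Commute a z := hc a (hA.1 ha)
      exact (h1.zpow_right i).eq
    have hle : A ⊔ Subgroup.zpowers z ≤ P := sup_le hA.1 (Subgroup.zpowers_le.2 hzP)
    have hcard := hA.2.2 _ hle hgood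
    have heq : A = A ⊔ Subgroup.zpowers z := Subgroup.eq_of_le_of_card_ge le_sup_left hcard
    rw [heq]
    exact Subgroup.mem_sup_right (Subgroup.mem_zpowers z)
  obtain ⟨A, hA⟩ := fam_nonempty e P
  exact ⟨le_J hA (hmem A hA), fun x hx => hc x (J_le hx), hze⟩

end central

section climb

variable {G : Type*} [Group G] [Finite G] {p : ℕ} [Fact p.Prime]

/-- the climbing claim of `Cfsg.Agent.S1961`, relative to a property preserved along the towers -/
theorem climbP (S : Sylow p G) (W : Subgroup G → Subgroup G) (hW : Cfsg.IsConjugacyFunctor p W)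
    (Pr : Subgroup G → Prop)
    (hPr : ∀ U : Subgroup G, Pr U → U ≤ (S : Subgroup G) →
      Pr (W ((S : Subgroup G) ⊓ Subgroup.normalizer (U : Set G))))
    (hloc : ∀ T : Subgroup G, T ≠ ⊥ → Pr T → Cfsg.IsWellPlaced p W (S : Subgroup G) T →
      Cfsg.ControlsStrongFusionIn p W (Subgroup.normalizer ((T : Subgroup G) : Set G))) :
    ∀ (m : ℕ) (U : Subgroup G), U ≠ ⊥ → Pr U → Cfsg.IsWellPlaced p W (S : Subgroup G) U →
      Nat.card (S : Subgroup G) -
        Nat.card ((S : Subgroup G) ⊓ Subgroup.normalizer (U : Set G) : Subgroup G) = m →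
      ∀ (A : Set G) (x : G),
        A ⊆ ((S : Subgroup G) ⊓ Subgroup.normalizer (U : Set G) : Subgroup G) →
        x ∈ Subgroup.normalizer (U : Set G) →
        (fun a => x * a * x⁻¹) '' A ⊆
          ((S : Subgroup G) ⊓ Subgroup.normalizer (U : Set G) : Subgroup G) →
        ∃ y ∈ Subgroup.normalizer ((W (S : Subgroup G) : Subgroup G) : Set G),
          ∀ a ∈ A, y * a * y⁻¹ = x * a * x⁻¹ := by
  intro m
  induction m using Nat.strong_induction_on with
  | _ m ih =>
    intro U hU1 hUP hUwp hm A x hA hx hAx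
    have hS := S.isPGroup'
    obtain ⟨NU, hNU⟩ : ∃ NU : Subgroup G,
        NU = (S : Subgroup G) ⊓ Subgroup.normalizer (U : Set G) := ⟨_, rfl⟩
    rw [← hNU] at hm hA hAx
    have hNUS' : NU ≤ (S : Subgroup G) := by rw [hNU]; exact inf_le_left
    have hNUN : NU ≤ Subgroup.normalizer (U : Set G) := by rw [hNU]; exact inf_le_right
    have hNUp : IsPGroup p NU := hS.to_le hNUS'
    have hctl := hloc U hU1 hUP hUwp
    have hidx : ¬ p ∣ NU.relIndex (Subgroup.normalizer (U : Set G)) := by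
      rw [hNU]; exact hUwp.2 0
    obtain ⟨x1, hx1, hx1A⟩ := Cfsg.Agent.S1961.control_any_sylow W hW _ hctl NU hNUN hNUp hidx
      A x hx hA hAx
    obtain ⟨-, hx1N⟩ := Subgroup.mem_inf.mp hx1
    by_cases hNUS : NU = (S : Subgroup G)
    · refine ⟨x1, ?_, hx1A⟩
      rw [← hNUS]; exact hx1N
    · have hlt : NU < (S : Subgroup G) := lt_of_le_of_ne hNUS' hNUS
      obtain ⟨U1, hU1def⟩ : ∃ U1 : Subgroup G, U1 = W NU := ⟨_, rfl⟩
      have hU1wp : IsWellPlaced p W (S : Subgroup G) U1 := by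
        rw [hU1def, hNU]
        exact Cfsg.Agent.S1961.wellPlaced_shift W hW _ U hS hUwp
      have hU1P : Pr U1 := by
        rw [hU1def, hNU]
        exact hPr U hUP hUwp.1
      have hNUne : NU ≠ ⊥ := by
        intro h
        apply hU1
        have : U ≤ NU := by rw [hNU]; exact le_inf hUwp.1 Subgroup.le_normalizer
        rw [h] at this
        exact le_bot_iff.mp this
      have hU1ne : U1 ≠ ⊥ := by rw [hU1def]; exact (hW NU hNUp).2.1 hNUne
      have hgrow : NU < (S : Subgroup G) ⊓ Subgroup.normalizer (NU : Set G) :=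
        lt_inf_normalizer_of_lt (S : Subgroup G) NU hS hlt
      have hle : (S : Subgroup G) ⊓ Subgroup.normalizer (NU : Set G) ≤
          (S : Subgroup G) ⊓ Subgroup.normalizer (U1 : Set G) := by
        rw [hU1def]
        exact inf_le_inf_left _ (Cfsg.Agent.S1961.normalizer_le_normalizer_functor W hW NU hNUp)
      have hlt2 : NU < (S : Subgroup G) ⊓ Subgroup.normalizer (U1 : Set G) :=
        lt_of_lt_of_le hgrow hle
      have hcard : Nat.card NU <
          Nat.card ((S : Subgroup G) ⊓ Subgroup.normalizer (U1 : Set G) : Subgroup G) :=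
        card_lt_card_of_lt hlt2
      have hcardS : Nat.card ((S : Subgroup G) ⊓ Subgroup.normalizer (U1 : Set G) : Subgroup G) ≤
          Nat.card (S : Subgroup G) := Subgroup.card_le_of_le inf_le_left
      have hAx1 : (fun a => x1 * a * x1⁻¹) '' A ⊆
          ((S : Subgroup G) ⊓ Subgroup.normalizer (U1 : Set G) : Subgroup G) := by
        rintro _ ⟨a, ha, rfl⟩
        show x1 * a * x1⁻¹ ∈ ((S : Subgroup G) ⊓ Subgroup.normalizer (U1 : Set G) : Subgroup G)
        rw [hx1A a ha]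
        exact hlt2.le (hAx ⟨a, ha, rfl⟩)
      have hx1N' : x1 ∈ Subgroup.normalizer (U1 : Set G) := by rw [hU1def]; exact hx1N
      obtain ⟨y, hy, hyA⟩ := ih _ (by omega) U1 hU1ne hU1P hU1wp rfl A x1
        (fun a ha => hlt2.le (hA ha)) hx1N' hAx1
      exact ⟨y, hy, fun a ha => (hyA a ha).trans (hx1A a ha)⟩

end climb

section sections

variable {G : Type*} [Group G]

/-- a surjection from a subgroup gives a section -/
theorem exists_section_of_surjective {Y : Type*} [Group Y] (H : Subgroup G) (f : ↥H →* Y)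
    (hf : Function.Surjective f) :
    ∃ (K : Subgroup G) (_ : (K.subgroupOf H).Normal), Nonempty ((↥H ⧸ K.subgroupOf H) ≃* Y) := by
  have hker : (f.ker.map H.subtype).subgroupOf H = f.ker := by
    rw [Subgroup.subgroupOf]
    exact Subgroup.comap_map_eq_self_of_injective H.subtype_injective _
  have hn : ((f.ker.map H.subtype).subgroupOf H).Normal := by
    rw [hker]; infer_instance
  exact ⟨f.ker.map H.subtype, hn, ⟨(QuotientGroup.quotientMulEquivOfEq hker).trans
    (QuotientGroup.quotientKerEquivOfSurjective f hf)⟩⟩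

/-- a subgroup involving `Qd(p)` has a section isomorphic to `SL₂(p)` -/
theorem exists_SL2_section_of_involves_qd {p : ℕ} [Fact p.Prime] (N : Subgroup G)
    (h : Cfsg.Involves ↥(Cfsg.qd p) ↥N) :
    ∃ (H K : Subgroup G) (_ : (K.subgroupOf H).Normal), H ≤ N ∧
      Nonempty ((↥H ⧸ K.subgroupOf H) ≃* Matrix.SpecialLinearGroup (Fin 2) (ZMod p)) := by
  obtain ⟨K₀, f₀, hf₀⟩ := Cfsg.Agent.Lib.Helper27.involves_iff.1 h
  let e₁ : ↥(Cfsg.qd p) ≃* ↥(Cfsg.Agent.Lib.Helper16.affSL3 (ZMod p)) :=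
    MulEquiv.subgroupCongr (Cfsg.Agent.Lib.Helper16.qd_eq_affSL3 p)
  let e₀ : ↥K₀ ≃* ↥(K₀.map N.subtype) := K₀.equivMapOfInjective N.subtype N.subtype_injective
  let f : ↥(K₀.map N.subtype) →* Matrix.SpecialLinearGroup (Fin 2) (ZMod p) :=
    ((Cfsg.Agent.Lib.Helper16.affLin (R := ZMod p)).comp e₁.toMonoidHom).comp
      (f₀.comp e₀.symm.toMonoidHom)
  have hf : Function.Surjective f := by
    intro A
    obtain ⟨M, hM⟩ := Cfsg.Agent.Lib.Helper16.affLin_surjective (F := ZMod p) A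
    obtain ⟨q, hq⟩ := e₁.surjective M
    obtain ⟨k, hk⟩ := hf₀ q
    refine ⟨e₀ k, ?_⟩
    show Cfsg.Agent.Lib.Helper16.affLin (e₁ (f₀ (e₀.symm (e₀ k)))) = A
    rw [e₀.symm_apply_apply, hk, hq, hM]
  obtain ⟨K, hK, hiso⟩ := exists_section_of_surjective (K₀.map N.subtype) f hf
  exact ⟨K₀.map N.subtype, K, hK, Subgroup.map_subtype_le _, hiso⟩

end sections

section main

variable {G : Type u} [Group G] [Finite G] {p : ℕ} [Fact p.Prime]

/-- `Z(J(·))` controls strong fusion in a subgroup not involving `Qd(p)` -/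
theorem controlsIn_of_qdFree (hp2 : p ≠ 2) (N : Subgroup G)
    (hfree : ¬ Cfsg.Involves ↥(Cfsg.qd p) ↥N) :
    Cfsg.ControlsStrongFusionIn p (Wf 0 ({1} : Set G)) N := by
  obtain ⟨Ts⟩ : Nonempty (Sylow p ↥N) := inferInstance
  have hctl := Cfsg.H5.QdF.ctl_all.{u} p hp2 0 (dvd_zero p) (Nat.card ↥N + 1) ↥N
    (Nat.lt_succ_self _) hfree _ (isSCSet_comap (isSCSet_one p) N) Ts
  refine ⟨(Ts : Subgroup ↥N).map N.subtype, Subgroup.map_subtype_le _, Ts.isPGroup'.map _, ?_, ?_⟩
  · rw [relIndex_map_subtype]; exact Ts.not_dvd_index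
  · intro A h hh hAT hAh
    obtain ⟨y, hy, hyB⟩ := Cfsg.H5.QdF.ctl_map_subtype N _ hctl (Subgroup.closure A) h hh
      ((Subgroup.closure_le _).2 hAT) (Cfsg.H5.QdF.conj_closure_mem hAh)
    exact ⟨y, hy, fun a ha => hyB a (Subgroup.subset_closure ha)⟩

/-- if `N_G(P)` does not involve `Qd(p)` for all `Z(S) ≤ P ≤ S`, then `N_G(Z(J(S)))` controls
strong fusion in `S` (right conjugation form) -/
theorem controls_fusion_local (hp2 : p ≠ 2) (S : Sylow p G)
    (hfree : ∀ P : Subgroup G,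
      (S : Subgroup G) ⊓ Subgroup.centralizer ((S : Subgroup G) : Set G) ≤ P → P ≤ S →
      ¬ Cfsg.Involves ↥(Cfsg.qd p) ↥(Subgroup.normalizer (P : Set G)))
    (T : Subgroup G) (hTS : T ≤ (S : Subgroup G)) (g : G)
    (hTg : ∀ t ∈ T, g⁻¹ * t * g ∈ (S : Subgroup G)) :
    ∃ n ∈ Subgroup.normalizer (Z 0 (S : Subgroup G) : Set G),
      ∀ t ∈ T, n⁻¹ * t * n = g⁻¹ * t * g := by
  have hW : Cfsg.IsConjugacyFunctor p (Wf 0 ({1} : Set G)) :=
    isConjugacyFunctor_Wf (dvd_zero p) (isSCSet_one p)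
  obtain ⟨W, hWdef⟩ : ∃ W : Subgroup G → Subgroup G, W = Wf 0 ({1} : Set G) := ⟨_, rfl⟩
  rw [← hWdef] at hW
  have hWS : W (S : Subgroup G) = Z 0 (S : Subgroup G) := by rw [hWdef, Wf_one]
  rw [← hWS]
  have hSp : IsPGroup p (S : Subgroup G) := S.isPGroup'
  -- the climbing claim
  have hPr : ∀ U : Subgroup G,
      (S : Subgroup G) ⊓ Subgroup.centralizer ((S : Subgroup G) : Set G) ≤ U →
      U ≤ (S : Subgroup G) →
      (S : Subgroup G) ⊓ Subgroup.centralizer ((S : Subgroup G) : Set G) ≤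
        W ((S : Subgroup G) ⊓ Subgroup.normalizer (U : Set G)) := by
    intro U hZU _ z hz
    rw [hWdef, Wf_one]
    obtain ⟨hzS, hzC⟩ := Subgroup.mem_inf.1 hz
    apply mem_Z_of_central
    · exact Subgroup.mem_inf.2 ⟨hzS, Subgroup.le_normalizer (hZU hz)⟩
    · intro x hx
      exact Subgroup.mem_centralizer_iff.1 hzC x (Subgroup.mem_inf.1 hx).1
    · exact pow_zero z
  have hloc : ∀ T' : Subgroup G, T' ≠ ⊥ →
      (S : Subgroup G) ⊓ Subgroup.centralizer ((S : Subgroup G) : Set G) ≤ T' →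
      Cfsg.IsWellPlaced p W (S : Subgroup G) T' →
      Cfsg.ControlsStrongFusionIn p W (Subgroup.normalizer ((T' : Subgroup G) : Set G)) := by
    intro T' _ hZT' hwp
    rw [hWdef]
    exact controlsIn_of_qdFree hp2 _ (hfree T' hZT' hwp.1)
  have hclimb := climbP S W hW
    (fun U => (S : Subgroup G) ⊓ Subgroup.centralizer ((S : Subgroup G) : Set G) ≤ U) hPr hloc
  -- the conjugation family
  obtain ⟨𝓕, h𝓕def⟩ : ∃ 𝓕 : Set (Subgroup G),
      𝓕 = {U | Cfsg.IsWellPlaced p W (S : Subgroup G) U} := ⟨_, rfl⟩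
  have h𝓕 : ∀ U ∈ 𝓕, U ≤ (S : Subgroup G) := by
    intro U hU; rw [h𝓕def] at hU; exact hU.1
  have h𝓕t : ∀ U ∈ 𝓕, ¬ p ∣ ((S : Subgroup G) ⊓
      Subgroup.normalizer ((U : Subgroup G) : Set G)).relIndex
      (Subgroup.normalizer ((U : Subgroup G) : Set G)) := by
    intro U hU; rw [h𝓕def] at hU; exact hU.2 0
  have hex : ∀ T' : Subgroup G, T' ≤ (S : Subgroup G) → ∃ U ∈ 𝓕,
      (∃ g : G, T'.map (MulAut.conj g).toMonoidHom = U) ∧
      ¬ p ∣ ((S : Subgroup G) ⊓ Subgroup.normalizer ((U : Subgroup G) : Set G)).relIndex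
        (Subgroup.normalizer ((U : Subgroup G) : Set G)) := by
    intro T' hT'
    obtain ⟨a, hwp⟩ := Cfsg.Agent.S1963.result S W hW T' hT'
    exact ⟨_, by rw [h𝓕def]; exact hwp, ⟨a, rfl⟩, hwp.2 0⟩
  obtain ⟨c, hc, g', ⟨L, hL, rfl⟩, rfl⟩ := creach_main S 𝓕 h𝓕 h𝓕t hex _ T g hTS hTg rfl
  -- processing the chain
  have key : ∀ (L : List (Subgroup G × G)) (A : Set G),
      Cfsg.Agent.S1965.Valid {U | U ∈ 𝓕 ∧
        (S : Subgroup G) ⊓ Subgroup.centralizer (U : Set G) ≤ U} A L →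
      ∃ n ∈ Subgroup.normalizer ((W (S : Subgroup G) : Subgroup G) : Set G),
        ∀ a ∈ A, n⁻¹ * a * n = ((L.map Prod.snd).prod)⁻¹ * a * (L.map Prod.snd).prod := by
    intro L
    induction L with
    | nil =>
      intro A _
      exact ⟨1, Subgroup.one_mem _, fun a _ => by simp⟩
    | cons Ux L ih =>
      obtain ⟨U, x⟩ := Ux
      rintro A ⟨⟨hU𝓕, hUc⟩, hx, hAU, hrest⟩
      rw [h𝓕def] at hU𝓕
      obtain ⟨n', hn', hn'A⟩ := ih _ hrest
      have hstep : ∃ y ∈ Subgroup.normalizer ((W (S : Subgroup G) : Subgroup G) : Set G),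
          ∀ a ∈ A, y * a * y⁻¹ = x⁻¹ * a * x⁻¹⁻¹ := by
        by_cases hUb : U = ⊥
        · refine ⟨1, Subgroup.one_mem _, ?_⟩
          intro a ha
          have : a = 1 := by
            have := hAU ha
            rw [hUb] at this
            exact Subgroup.mem_bot.1 this
          rw [this]; group
        · have hZU : (S : Subgroup G) ⊓ Subgroup.centralizer ((S : Subgroup G) : Set G) ≤ U := by
            refine le_trans ?_ hUc
            exact inf_le_inf_left _ (Subgroup.centralizer_le hU𝓕.1)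
          have hUN : U ≤ (S : Subgroup G) ⊓ Subgroup.normalizer (U : Set G) :=
            le_inf hU𝓕.1 Subgroup.le_normalizer
          apply hclimb _ U hUb hZU hU𝓕 rfl A x⁻¹ (hAU.trans hUN) (Subgroup.inv_mem _ hx)
          rintro _ ⟨a, ha, rfl⟩
          apply hUN
          exact (Subgroup.mem_normalizer_iff.1 (Subgroup.inv_mem _ hx) a).1 (hAU ha)
      obtain ⟨y, hy, hyA⟩ := hstep
      refine ⟨y⁻¹ * n', Subgroup.mul_mem _ (Subgroup.inv_mem _ hy) hn', ?_⟩
      intro a ha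
      have h1 := hyA a ha
      have h2 := hn'A (x⁻¹ * a * x) ⟨a, ha, rfl⟩
      simp only [List.map_cons, List.prod_cons]
      calc (y⁻¹ * n')⁻¹ * a * (y⁻¹ * n') = n'⁻¹ * (y * a * y⁻¹) * n' := by group
        _ = n'⁻¹ * (x⁻¹ * a * x) * n' := by rw [h1, inv_inv]
        _ = ((L.map Prod.snd).prod)⁻¹ * (x⁻¹ * a * x) * (L.map Prod.snd).prod := h2
        _ = (x * (L.map Prod.snd).prod)⁻¹ * a * (x * (L.map Prod.snd).prod) := by group
  obtain ⟨n, hn, hnT⟩ := key L (T : Set G) hL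
  refine ⟨n, hn, ?_⟩
  intro t ht
  rw [hnT t ht]
  have h1 := Subgroup.mem_centralizer_iff.1 hc t ht
  calc ((L.map Prod.snd).prod)⁻¹ * t * (L.map Prod.snd).prod
      = ((L.map Prod.snd).prod)⁻¹ * (c⁻¹ * (c * t)) * (L.map Prod.snd).prod := by group
    _ = ((L.map Prod.snd).prod)⁻¹ * (c⁻¹ * (t * c)) * (L.map Prod.snd).prod := by rw [h1]
    _ = (c * (L.map Prod.snd).prod)⁻¹ * t * (c * (L.map Prod.snd).prod) := by group

end main

end Cfsg.H5.ZJL
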