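import Mathlib

/-!
# Fixed-point-free linear groups: basic facts (helper5, for S0690)

`ρ : Y →* Module.End Ω V` with `ρ g v = v → v = 0` for `g ≠ 1`.
-/

set_option autoImplicit false

namespace Cfsg.H5.Zass

variable {Ω : Type*} [Field Ω] {Y : Type*} [Group Y] {V : Type*} [AddCommGroup V] [Module Ω V]

/-- fixed-point-free representation -/
def Fpf (ρ : Y →* Module.End Ω V) : Prop := ∀ g : Y, g ≠ 1 → ∀ v : V, ρ g v = v → v = 0

variable {ρ : Y →* Module.End Ω V}

theorem rho_mul_apply (g h : Y) (v : V) : ρ (g * h) v = ρ g (ρ h v) := by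
  rw [map_mul]; rfl

theorem rho_inv_apply (g : Y) (v : V) : ρ g⁻¹ (ρ g v) = v := by
  rw [← rho_mul_apply, inv_mul_cancel, map_one]; rfl

theorem rho_apply_inv (g : Y) (v : V) : ρ g (ρ g⁻¹ v) = v := by
  rw [← rho_mul_apply, mul_inv_cancel, map_one]; rfl

theorem rho_mul_inv (g : Y) : ρ g * ρ g⁻¹ = 1 := by
  rw [← map_mul, mul_inv_cancel, map_one]

theorem rho_inv_mul (g : Y) : ρ g⁻¹ * ρ g = 1 := by
  rw [← map_mul, inv_mul_cancel, map_one]

/-- `ρ g * P = P` forces `P = 0` -/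
theorem Fpf.eq_zero_of_mul_eq (h : Fpf ρ) {g : Y} (hg : g ≠ 1) {P : Module.End Ω V}
    (hP : ρ g * P = P) : P = 0 := by
  ext v
  have : ρ g (P v) = P v := by
    have := congrArg (fun T : Module.End Ω V => T v) hP
    simpa using this
  simpa using h g hg (P v) this

theorem Fpf.injective [Nontrivial V] (h : Fpf ρ) : Function.Injective ρ := by
  rw [injective_iff_map_eq_one]
  intro g hg
  by_contra hne
  obtain ⟨v, hv⟩ := exists_ne (0 : V)
  apply hv
  apply h g hne v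
  rw [hg]; rfl

/-- the geometric sum of `ρ g` vanishes -/
theorem Fpf.geom_sum_eq_zero (h : Fpf ρ) {g : Y} (hg : g ≠ 1) {n : ℕ} (hn : g ^ n = 1) :
    ∑ i ∈ Finset.range n, ρ g ^ i = 0 := by
  apply h.eq_zero_of_mul_eq hg
  have h1 : (ρ g - 1) * ∑ i ∈ Finset.range n, ρ g ^ i = 0 := by
    rw [mul_geom_sum, ← map_pow, hn, map_one, sub_self]
  rw [sub_mul, one_mul, sub_eq_zero] at h1
  exact h1

theorem Fpf.of_order_two (h : Fpf ρ) {z : Y} (hz : orderOf z = 2) : ρ z = -1 := by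
  have hz1 : z ≠ 1 := by
    intro h1; rw [h1, orderOf_one] at hz; omega
  have := h.geom_sum_eq_zero hz1 (n := 2) (by rw [← hz]; exact pow_orderOf_eq_one z)
  rw [Finset.sum_range_succ, Finset.sum_range_one, pow_zero, pow_one] at this
  exact eq_neg_of_add_eq_zero_right this

theorem Fpf.of_order_three (h : Fpf ρ) {x : Y} (hx : orderOf x = 3) :
    ρ x * ρ x + ρ x + 1 = 0 := by
  have hx1 : x ≠ 1 := by
    intro h1; rw [h1, orderOf_one] at hx; omega
  have := h.geom_sum_eq_zero hx1 (n := 3) (by rw [← hx]; exact pow_orderOf_eq_one x)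
  rw [Finset.sum_range_succ, Finset.sum_range_succ, Finset.sum_range_one, pow_zero, pow_one,
    pow_two] at this
  rw [← this]; abel

/-- the unique involution -/
theorem Fpf.involution_unique [Nontrivial V] (h : Fpf ρ) {z z' : Y} (hz : orderOf z = 2)
    (hz' : orderOf z' = 2) : z = z' :=
  h.injective (by rw [h.of_order_two hz, h.of_order_two hz'])

theorem Fpf.involution_central [Nontrivial V] (h : Fpf ρ) {z : Y} (hz : orderOf z = 2) (g : Y) :
    g * z = z * g := by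
  apply h.injective
  rw [map_mul, map_mul, h.of_order_two hz]
  simp

theorem Fpf.inv_of_order_three (h : Fpf ρ) {x : Y} (hx : orderOf x = 3) :
    ρ x⁻¹ = -1 - ρ x := by
  have h3 := h.of_order_three hx
  have h1 : ρ x * (-1 - ρ x) = 1 := by
    have : ρ x * (-1 - ρ x) = 1 - (ρ x * ρ x + ρ x + 1) := by noncomm_ring
    rw [this, h3, sub_zero]
  calc ρ x⁻¹ = ρ x⁻¹ * (ρ x * (-1 - ρ x)) := by rw [h1, mul_one]
    _ = (ρ x⁻¹ * ρ x) * (-1 - ρ x) := by rw [mul_assoc]
    _ = -1 - ρ x := by rw [rho_inv_mul, one_mul]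

theorem Fpf.of_order_four (h : Fpf ρ) {a : Y} (ha : orderOf a = 4) : ρ a * ρ a = -1 := by
  have h2 : orderOf (a ^ 2) = 2 := by
    rw [orderOf_pow' a (by norm_num : (2 : ℕ) ≠ 0), ha]; rfl
  rw [← map_mul, ← pow_two]
  exact h.of_order_two h2

theorem Fpf.of_order_six (h : Fpf ρ) {x : Y} (hx : orderOf x = 6) :
    ρ x * ρ x - ρ x + 1 = 0 := by
  have h3 : orderOf (x ^ 3) = 2 := by
    rw [orderOf_pow' x (by norm_num : (3 : ℕ) ≠ 0), hx]; rfl
  have h2 : orderOf (x ^ 2) = 3 := by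
    rw [orderOf_pow' x (by norm_num : (2 : ℕ) ≠ 0), hx]; rfl
  have e3 := h.of_order_two h3
  have e2 := h.of_order_three h2
  rw [map_pow] at e3 e2
  have : ρ x * ρ x - ρ x + 1 = (ρ x ^ 2 * ρ x ^ 2 + ρ x ^ 2 + 1) - ρ x * (ρ x ^ 3 + 1) := by
    noncomm_ring
  rw [this, e2, e3]; simp

end Cfsg.H5.Zass
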