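import Mathlib
import Cfsg.Agent.H5.ZassBasic
import Cfsg.Agent.Lib.Helper6.ZassA4
import Cfsg.Agent.Lib.Helper17.ZassE
import Cfsg.Agent.Lib.Helper27.ZassG

/-!
# Zassenhaus: interface to the farmed-out pieces (helper5, for S0690)
Wrappers around the theorems of helper6 (Dickson package), helper17 (line / block models)
and helper27 (ten-point combinatorics).
-/

set_option autoImplicit false

namespace Cfsg.H5.Zass

/-- the conclusion of the core theorem -/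
def Concl (H : Type*) [Group H] : Prop :=
  Nat.card H = 1 ∨ Nat.card H = 3 ∨
    (Nat.card H = 24 ∧ ∃ f : H →* alternatingGroup (Fin 4), Function.Surjective f ∧
      Nat.card f.ker = 2) ∨
    (Nat.card H = 120 ∧ ∃ f : H →* alternatingGroup (Fin 5), Function.Surjective f ∧
      Nat.card f.ker = 2)

theorem dp_two_dim {q : ℕ} [Fact q.Prime] {Ω : Type*} [Field Ω] [Algebra (ZMod q) Ω]
    [Algebra.IsAlgebraic (ZMod q) Ω] [IsAlgClosed Ω]
    {H : Type*} [Group H] [Finite H] {W : Type*} [AddCommGroup W] [Module Ω W] [Module.Finite Ω W]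
    [Nontrivial W] (hW : Module.finrank Ω W ≤ 2) (σ : H →* Module.End Ω W)
    (hfpf : ∀ x : H, x ≠ 1 → ∀ w : W, σ x w = w → w = 0)
    (hq : ¬ q ∣ Nat.card H) (hgen : Subgroup.closure {x : H | orderOf x = 3} = ⊤) :
    Concl H :=
  Cfsg.Agent.Lib.Helper6.ZassA.card_of_fpf_two_dim hW σ hfpf hq hgen

theorem line_model {L : Type*} [Group L] [Finite L] (f : L →* alternatingGroup (Fin 4))
    (hf : Function.Surjective f) (hker : Nat.card f.ker = 2)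
    (huniq : ∀ x : L, orderOf x = 2 → x ∈ f.ker) :
    Nat.card {P : Subgroup L // Nat.card P = 3} = 4 ∧
    (∀ P Q : Subgroup L, Nat.card P = 3 → Nat.card Q = 3 → P ≠ Q → P ⊔ Q = ⊤) ∧
    (∀ x : L, orderOf x = 1 ∨ orderOf x = 2 ∨ orderOf x = 3 ∨ orderOf x = 4 ∨ orderOf x = 6) :=
  Cfsg.Agent.Lib.Helper17.ZassE.line_model f hf hker huniq

theorem block_model {B : Type*} [Group B] [Finite B] (f : B →* alternatingGroup (Fin 5))
    (hf : Function.Surjective f) (hker : Nat.card f.ker = 2)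
    (huniq : ∀ x : B, orderOf x = 2 → x ∈ f.ker) :
    (∃ Φ : {P : Subgroup B // Nat.card P = 3} ≃ {s : Finset (Fin 5) // s.card = 2},
      ∀ P Q : {P : Subgroup B // Nat.card P = 3},
        (Disjoint (Φ P).1 (Φ Q).1 → P.1 ⊔ Q.1 = ⊤) ∧
        (∀ i : Fin 5, (Φ P).1 ∩ (Φ Q).1 = {i} → Nat.card ↥(P.1 ⊔ Q.1) = 24 ∧
          ∀ R : {P : Subgroup B // Nat.card P = 3}, R.1 ≤ P.1 ⊔ Q.1 ↔ i ∈ (Φ R).1)) ∧
    (∀ a y : B, orderOf a = 3 → orderOf y = 3 → Subgroup.zpowers a ⊔ Subgroup.zpowers y = ⊤ →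
      orderOf (a * y) = 5 ∨ orderOf (a * y) = 10) :=
  Cfsg.Agent.Lib.Helper17.ZassE.block_model f hf hker huniq

theorem card_eq_ten {Pt : Type*} [Fintype Pt] [DecidableEq Pt] (J : Pt → Pt → Finset Pt)
    (hJ0 : ∀ p q, p ∈ J p q ∧ q ∈ J p q) (hJsymm : ∀ p q, J p q = J q p)
    (hJ1 : ∀ p q, p ≠ q → (J p q).card = 4 ∨ (J p q).card = 10)
    (hJ2 : ∀ p q, p ≠ q → (J p q).card = 4 → ∀ r ∈ J p q, ∀ s ∈ J p q, r ≠ s → J r s = J p q)
    (hJ3 : ∀ p q, p ≠ q → (J p q).card = 10 → ∃ Φ : Pt → Finset (Fin 5),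
      (∀ r ∈ J p q, (Φ r).card = 2) ∧ Set.InjOn Φ (J p q : Set Pt) ∧
      ∀ r ∈ J p q, ∀ s ∈ J p q, r ≠ s →
        (Disjoint (Φ r) (Φ s) → J r s = J p q) ∧
        (∀ i, Φ r ∩ Φ s = {i} → J r s = (J p q).filter (fun u => i ∈ Φ u)))
    (hJ4 : ∀ p q, p ≠ q → (J p q).card = 10 → ∀ r,
      (r = p ∨ (r ≠ p ∧ (J r p).card = 4)) → (r = q ∨ (r ≠ q ∧ (J r q).card = 4)) → r ∈ J p q)
    (hJ5 : ∀ p q r, p ≠ q → p ≠ r → q ≠ r → (J p q).card = 4 → (J p r).card = 4 →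
      (J q r).card = 4 → r ∉ J p q →
      ∃ u v, u ≠ v ∧ (J u v).card = 10 ∧ p ∈ J u v ∧ q ∈ J u v ∧ r ∈ J u v)
    (hJ6 : ∃ p q, p ≠ q ∧ (J p q).card = 10) : Fintype.card Pt = 10 :=
  Cfsg.Agent.Lib.Helper27.ZassG.card_eq_ten J hJ0 hJsymm hJ1 hJ2 hJ3 hJ4 hJ5 hJ6

end Cfsg.H5.Zass
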