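import Mathlib
import Cfsg.Agent.H5.ZassBasic

/-!
# Elements of order 3 in fixed-point-free linear groups: quadratic algebra (helper5, for S0690)
-/

set_option autoImplicit false

namespace Cfsg.H5.Zass

variable {Ω : Type*} [Field Ω] {Y : Type*} [Group Y] {V : Type*} [AddCommGroup V] [Module Ω V]
variable {ρ : Y →* Module.End Ω V}

/-- `t_{xy} = ρ(xy) + ρ(xy)⁻¹` -/
def tOp (ρ : Y →* Module.End Ω V) (x y : Y) : Module.End Ω V := ρ (x * y) + ρ (x * y)⁻¹

/-- `m_{xy} = ab + ba + a + b` -/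
def mOp (ρ : Y →* Module.End Ω V) (x y : Y) : Module.End Ω V :=
  ρ x * ρ y + ρ y * ρ x + ρ x + ρ y

theorem orderOf_inv_three {x : Y} (hx : orderOf x = 3) : orderOf x⁻¹ = 3 := by
  rw [orderOf_inv]; exact hx

theorem tOp_eq (h : Fpf ρ) {x y : Y} (hx : orderOf x = 3) (hy : orderOf y = 3) :
    tOp ρ x y = mOp ρ x y + 1 := by
  unfold tOp mOp
  rw [mul_inv_rev, map_mul, map_mul, h.inv_of_order_three hx, h.inv_of_order_three hy]
  noncomm_ring

theorem mOp_inv_right (h : Fpf ρ) {x y : Y} (hy : orderOf y = 3) :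
    mOp ρ x y⁻¹ = -1 - mOp ρ x y := by
  unfold mOp
  rw [h.inv_of_order_three hy]
  noncomm_ring

theorem tOp_inv_right (h : Fpf ρ) {x y : Y} (hx : orderOf x = 3) (hy : orderOf y = 3) :
    tOp ρ x y⁻¹ = 1 - tOp ρ x y := by
  rw [tOp_eq h hx (orderOf_inv_three hy), tOp_eq h hx hy, mOp_inv_right h hy]
  noncomm_ring

theorem mOp_symm (x y : Y) : mOp ρ x y = mOp ρ y x := by
  unfold mOp; abel

theorem mOp_comm_left (h : Fpf ρ) {x y : Y} (hx : orderOf x = 3) :
    ρ x * mOp ρ x y = mOp ρ x y * ρ x := by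
  have h3 := h.of_order_three hx
  unfold mOp
  have : ρ x * (ρ x * ρ y + ρ y * ρ x + ρ x + ρ y) - (ρ x * ρ y + ρ y * ρ x + ρ x + ρ y) * ρ x =
      (ρ x * ρ x + ρ x + 1) * ρ y - ρ y * (ρ x * ρ x + ρ x + 1) := by noncomm_ring
  rw [h3, zero_mul, mul_zero, sub_zero] at this
  exact sub_eq_zero.mp this

theorem mOp_comm_right (h : Fpf ρ) {x y : Y} (hy : orderOf y = 3) :
    ρ y * mOp ρ x y = mOp ρ x y * ρ y := by
  rw [mOp_symm]; exact mOp_comm_left h hy

/-- the pair `(x, y)` has scalar `t_{xy}` -/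
def ScalarPair (ρ : Y →* Module.End Ω V) (x y : Y) : Prop :=
  ∃ s : Ω, mOp ρ x y = s • (1 : Module.End Ω V)

theorem ScalarPair.symm {x y : Y} (hs : ScalarPair ρ x y) : ScalarPair ρ y x := by
  obtain ⟨s, hs⟩ := hs
  exact ⟨s, by rw [mOp_symm, hs]⟩

theorem ScalarPair.inv_right (h : Fpf ρ) {x y : Y} (hy : orderOf y = 3)
    (hs : ScalarPair ρ x y) : ScalarPair ρ x y⁻¹ := by
  obtain ⟨s, hs⟩ := hs
  refine ⟨-1 - s, ?_⟩
  rw [mOp_inv_right h hy, hs, sub_smul, neg_smul, one_smul]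

theorem ScalarPair.inv_left (h : Fpf ρ) {x y : Y} (hx : orderOf x = 3)
    (hs : ScalarPair ρ x y) : ScalarPair ρ x⁻¹ y :=
  (hs.symm.inv_right h hx).symm

/-- if `ρ g * w = 1` then `ρ g⁻¹ = w` -/
theorem rho_inv_eq_of_mul_eq_one {g : Y} {w : Module.End Ω V} (hw : ρ g * w = 1) : ρ g⁻¹ = w := by
  calc ρ g⁻¹ = ρ g⁻¹ * (ρ g * w) := by rw [hw, mul_one]
    _ = (ρ g⁻¹ * ρ g) * w := by rw [mul_assoc]
    _ = w := by rw [rho_inv_mul, one_mul]

/-- the value of `t` from the order of the product -/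
theorem tOp_of_order (h : Fpf ρ) {x y : Y} :
    (x * y = 1 → tOp ρ x y = 1 + 1) ∧ (orderOf (x * y) = 2 → tOp ρ x y = -(1 + 1)) ∧
    (orderOf (x * y) = 3 → tOp ρ x y = -1) ∧ (orderOf (x * y) = 4 → tOp ρ x y = 0) ∧
    (orderOf (x * y) = 6 → tOp ρ x y = 1) := by
  unfold tOp
  refine ⟨?_, ?_, ?_, ?_, ?_⟩
  · intro h1
    rw [h1, inv_one, map_one]
  · intro h2
    have e := h.of_order_two h2
    have : ρ (x * y)⁻¹ = -1 := by
      apply rho_inv_eq_of_mul_eq_one
      rw [e]; simp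
    rw [this, e]; abel
  · intro h3
    rw [h.inv_of_order_three h3]; abel
  · intro h4
    have e := h.of_order_four h4
    have : ρ (x * y)⁻¹ = -ρ (x * y) := by
      apply rho_inv_eq_of_mul_eq_one
      rw [mul_neg, e, neg_neg]
    rw [this]; abel
  · intro h6
    have e := h.of_order_six h6
    have : ρ (x * y)⁻¹ = 1 - ρ (x * y) := by
      apply rho_inv_eq_of_mul_eq_one
      have : ρ (x * y) * (1 - ρ (x * y)) = 1 - (ρ (x * y) * ρ (x * y) - ρ (x * y) + 1) := by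
        noncomm_ring
      rw [this, e, sub_zero]
    rw [this]; abel

/-- `t_{xy} = 2` forces `xy = 1` -/
theorem mul_eq_one_of_tOp [Nontrivial V] (h : Fpf ρ) {x y : Y} (ht : tOp ρ x y = 1 + 1) :
    x * y = 1 := by
  by_contra hne
  unfold tOp at ht
  set u := ρ (x * y) with hu
  have huu : u * ρ (x * y)⁻¹ = 1 := rho_mul_inv _
  have hsq : (u - 1) * (u - 1) = 0 := by
    have : (u - 1) * (u - 1) = u * (u + ρ (x * y)⁻¹) - (1 + 1) * u + (1 - u * ρ (x * y)⁻¹) := by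
      noncomm_ring
    rw [this, ht, huu]; noncomm_ring
  have h1 : u - 1 = 0 := by
    apply h.eq_zero_of_mul_eq hne
    have : ρ (x * y) * (u - 1) - (u - 1) = (u - 1) * (u - 1) := by rw [← hu]; noncomm_ring
    rw [hsq] at this
    exact sub_eq_zero.mp this
  obtain ⟨v, hv⟩ := exists_ne (0 : V)
  apply hv
  apply h (x * y) hne v
  have := congrArg (fun T : Module.End Ω V => T v) h1
  simp only [LinearMap.sub_apply, Module.End.one_apply, LinearMap.zero_apply, sub_eq_zero] at this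
  exact this

/-- `t_{xy} = -1` forces `x = y` (elements of order 3) -/
theorem eq_of_tOp_neg_one [Nontrivial V] (h : Fpf ρ) {x y : Y} (hx : orderOf x = 3)
    (hy : orderOf y = 3) (ht : tOp ρ x y = -1) : x = y := by
  have h1 : tOp ρ x y⁻¹ = 1 + 1 := by rw [tOp_inv_right h hx hy, ht]; abel
  have := mul_eq_one_of_tOp h h1
  exact mul_inv_eq_one.mp this

/-- **(L5)** if `(p, a)` and `(p, b)` are scalar pairs then `ρ p` commutes with `m_{ab}` -/
theorem commute_mOp_of_scalarPair {p a b : Y} (h1 : ScalarPair ρ p a) (h2 : ScalarPair ρ p b) :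
    ρ p * mOp ρ a b = mOp ρ a b * ρ p := by
  obtain ⟨s1, hs1⟩ := h1
  obtain ⟨s2, hs2⟩ := h2
  have key : ρ p * mOp ρ a b - mOp ρ a b * ρ p =
      (mOp ρ p a * ρ b - ρ b * mOp ρ p a) + (mOp ρ p b * ρ a - ρ a * mOp ρ p b) := by
    unfold mOp; noncomm_ring
  rw [hs1, hs2] at key
  simp only [smul_mul_assoc, mul_smul_comm, one_mul, mul_one, sub_self, add_zero] at key
  exact sub_eq_zero.mp key

end Cfsg.H5.Zass
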