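import Mathlib
import Cfsg.Agent.H5.ZassQuad

/-!
# Invariant planes for pairs and triples of elements of order 3 (helper5, for S0690)
-/

set_option autoImplicit false

namespace Cfsg.H5.Zass

open Module

variable {Ω : Type*} [Field Ω] {V : Type*} [AddCommGroup V] [Module Ω V]

/-- a common eigenvector of two commuting endomorphisms -/
theorem exists_common_eigenvector [IsAlgClosed Ω] [FiniteDimensional Ω V] [Nontrivial V]
    (f g : End Ω V) (hfg : f * g = g * f) :
    ∃ (w : V) (l s : Ω), w ≠ 0 ∧ f w = l • w ∧ g w = s • w := by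
  obtain ⟨s, hs⟩ := g.exists_eigenvalue
  set U := g.eigenspace s with hU
  have hUne : U ≠ ⊥ := hs
  have hmaps : ∀ u ∈ U, f u ∈ U := by
    intro u hu
    rw [hU, End.mem_eigenspace_iff] at hu ⊢
    have : g (f u) = f (g u) := by
      have := congrArg (fun T : End Ω V => T u) hfg
      simpa using this.symm
    rw [this, hu, map_smul]
  have : Nontrivial U := Submodule.nontrivial_iff_ne_bot.mpr hUne
  obtain ⟨l, hl⟩ := Module.End.exists_eigenvalue (f.restrict hmaps)
  obtain ⟨w, hw⟩ := hl.exists_hasEigenvector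
  refine ⟨(w : V), l, s, ?_, ?_, ?_⟩
  · intro h0
    exact hw.2 (Subtype.ext h0)
  · have := hw.apply_eq_smul
    have := congrArg (fun z : U => (z : V)) this
    simpa using this
  · have h2 : (w : V) ∈ g.eigenspace s := w.2
    exact End.mem_eigenspace_iff.mp h2

/-- the plane spanned by `w` and `b w` -/
theorem plane_invariant {a b : End Ω V} (hb : b * b + b + 1 = 0) {w : V} {l s : Ω}
    (hw : a w = l • w) (hm : (a * b + b * a + a + b) w = s • w) :
    (∀ u ∈ Submodule.span Ω ({w, b w} : Set V), a u ∈ Submodule.span Ω ({w, b w} : Set V)) ∧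
    (∀ u ∈ Submodule.span Ω ({w, b w} : Set V), b u ∈ Submodule.span Ω ({w, b w} : Set V)) := by
  set W := Submodule.span Ω ({w, b w} : Set V) with hW
  have hw1 : w ∈ W := Submodule.subset_span (by simp)
  have hw2 : b w ∈ W := Submodule.subset_span (by simp)
  have hbb : b (b w) = -(b w) - w := by
    have := congrArg (fun T : End Ω V => T w) hb
    simp only [LinearMap.add_apply, End.mul_apply, End.one_apply, LinearMap.zero_apply] at this
    rw [eq_sub_iff_add_eq, eq_neg_iff_add_eq_zero, ← this]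
    abel
  have hab : a (b w) = s • w - l • b w - l • w - b w := by
    simp only [LinearMap.add_apply, End.mul_apply] at hm
    rw [hw, map_smul] at hm
    rw [← hm]; abel
  constructor
  · have : W ≤ W.comap a := by
      rw [hW, Submodule.span_le]
      intro u hu
      rcases hu with rfl | hu
      · show a u ∈ W
        rw [hw]; exact W.smul_mem _ hw1
      · rw [Set.mem_singleton_iff] at hu
        subst hu
        show a (b w) ∈ W
        rw [hab]
        exact W.sub_mem (W.sub_mem (W.sub_mem (W.smul_mem _ hw1) (W.smul_mem _ hw2))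
          (W.smul_mem _ hw1)) hw2
    exact fun u hu => this hu
  · have : W ≤ W.comap b := by
      rw [hW, Submodule.span_le]
      intro u hu
      rcases hu with rfl | hu
      · exact hw2
      · rw [Set.mem_singleton_iff] at hu
        subst hu
        show b (b w) ∈ W
        rw [hbb]
        exact W.sub_mem (W.neg_mem hw2) hw1
    exact fun u hu => this hu

theorem finrank_span_pair_le [FiniteDimensional Ω V] (u v : V) :
    finrank Ω (Submodule.span Ω ({u, v} : Set V)) ≤ 2 := by
  classical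
  have h1 : ({u, v} : Set V) = ((({u, v} : Finset V)) : Set V) := by simp
  rw [h1]
  exact (finrank_span_finset_le_card _).trans Finset.card_le_two

theorem span_pair_ne_bot {u v : V} (hu : u ≠ 0) : Submodule.span Ω ({u, v} : Set V) ≠ ⊥ := by
  intro h
  have : u ∈ Submodule.span Ω ({u, v} : Set V) := Submodule.subset_span (by simp)
  rw [h, Submodule.mem_bot] at this
  exact hu this

end Cfsg.H5.Zass

namespace Cfsg.H5.Zass

open Module

section RingIds

variable {R : Type*} [Ring R]

theorem psi_comm_X (X Y P : R) :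
    X * (X * Y * P - P * Y * X) - (X * Y * P - P * Y * X) * X =
      X * ((X * Y + Y * X) * P - P * (X * Y + Y * X)) +
        X * ((X * P + P * X) * Y - Y * (X * P + P * X)) + (P * Y * (X * X) - (X * X) * (P * Y)) := by
  noncomm_ring

theorem psi_comm_Y (X Y P : R) :
    Y * (X * Y * P - P * Y * X) - (X * Y * P - P * Y * X) * Y =
      (X * Y + Y * X) * (Y * P) + (P * Y) * (X * Y + Y * X) - (Y * P + P * Y) * (Y * X) -
        (X * Y) * (Y * P + P * Y) := by
  noncomm_ring

theorem psi_eq (X Y P : R) :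
    X * Y * P - P * Y * X = (X * Y - Y * X) * P - (Y * P + P * Y) * X + Y * (X * P + P * X) := by
  noncomm_ring

theorem comm_sq (X Y : R) :
    (X * Y - Y * X) * (X * Y - Y * X) =
      (X * Y + Y * X) * (X * Y + Y * X) - (X * (Y * Y) * X + Y * (X * X) * Y) -
        (X * (Y * Y) * X + Y * (X * X) * Y) := by
  noncomm_ring

theorem dbl_sq (a : R) :
    (a + a + 1) * (a + a + 1) + (1 + 1 + 1) = (1 + 1 + 1 + 1) * (a * a + a + 1) := by
  noncomm_ring

theorem dbl_anti (a b : R) :
    (a + a + 1) * (b + b + 1) + (b + b + 1) * (a + a + 1) =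
      (1 + 1 + 1 + 1) * (a * b + b * a + a + b) + (1 + 1) := by
  noncomm_ring

end RingIds

end Cfsg.H5.Zass

namespace Cfsg.H5.Zass

open Module

section Planes

variable {Ω : Type*} [Field Ω] {V : Type*} [AddCommGroup V] [Module Ω V]
variable {Y : Type*} [Group Y] {ρ : Y →* End Ω V}

theorem exists_plane_pair [IsAlgClosed Ω] [FiniteDimensional Ω V] [Nontrivial V] (h : Fpf ρ)
    {x y : Y} (hx : orderOf x = 3) (hy : orderOf y = 3) :
    ∃ W : Submodule Ω V, W ≠ ⊥ ∧ finrank Ω W ≤ 2 ∧ (∀ u ∈ W, ρ x u ∈ W) ∧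
      (∀ u ∈ W, ρ y u ∈ W) := by
  obtain ⟨w, l, s, hw0, hw, hm⟩ :=
    exists_common_eigenvector (ρ x) (mOp ρ x y) (mOp_comm_left h hx)
  have hp := plane_invariant (a := ρ x) (b := ρ y) (h.of_order_three hy) hw
    (by simpa [mOp] using hm)
  exact ⟨_, span_pair_ne_bot hw0, finrank_span_pair_le _ _, hp.1, hp.2⟩

theorem comm_of_double {T a : End Ω V} (h2 : (2 : Ω) ≠ 0)
    (hc : (a + a + 1) * T = T * (a + a + 1)) : a * T = T * a := by
  have h1 : (2 : Ω) • (a * T - T * a) = 0 := by
    rw [two_smul]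
    have : a * T - T * a + (a * T - T * a) = (a + a + 1) * T - T * (a + a + 1) := by
      noncomm_ring
    rw [this, hc, sub_self]
  rcases smul_eq_zero.mp h1 with h | h
  · exact absurd h h2
  · exact sub_eq_zero.mp h

theorem dbl_sq_eq {a : End Ω V} (ha : a * a + a + 1 = 0) :
    (a + a + 1) * (a + a + 1) = (-3 : Ω) • (1 : End Ω V) := by
  have := dbl_sq a
  rw [ha, mul_zero] at this
  rw [eq_neg_of_add_eq_zero_left this]
  rw [neg_smul, show (3 : Ω) = 1 + 1 + 1 by norm_num, add_smul, add_smul, one_smul]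

theorem dbl_anti_eq {a b : End Ω V} {s : Ω} (hs : a * b + b * a + a + b = s • (1 : End Ω V)) :
    (a + a + 1) * (b + b + 1) + (b + b + 1) * (a + a + 1) = (4 * s + 2) • (1 : End Ω V) := by
  rw [dbl_anti, hs]
  simp only [add_mul, one_mul]
  module

/-- **Triple lemma**: three pairwise scalar elements of order 3 have a common invariant plane. -/
theorem exists_plane_triple [IsAlgClosed Ω] [FiniteDimensional Ω V] [Nontrivial V] (h : Fpf ρ)
    (h2 : (2 : Ω) ≠ 0) {x y z : Y} (hx : orderOf x = 3) (hy : orderOf y = 3)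
    (hz : orderOf z = 3) (hxy : ScalarPair ρ x y) (hxz : ScalarPair ρ x z)
    (hyz : ScalarPair ρ y z) (hne : y ≠ x) (hne' : y ≠ x⁻¹) :
    ∃ W : Submodule Ω V, W ≠ ⊥ ∧ finrank Ω W ≤ 2 ∧ (∀ u ∈ W, ρ x u ∈ W) ∧
      (∀ u ∈ W, ρ y u ∈ W) ∧ (∀ u ∈ W, ρ z u ∈ W) := by
  obtain ⟨s3, hs3⟩ := hxy
  obtain ⟨s2, hs2⟩ := hxz
  obtain ⟨s1, hs1⟩ := hyz
  have ha := h.of_order_three hx
  have hb := h.of_order_three hy
  have hp := h.of_order_three hz
  set a := ρ x with ha_def
  set b := ρ y with hb_def
  set p := ρ z with hp_def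
  unfold mOp at hs3 hs2 hs1
  rw [← ha_def, ← hb_def] at hs3
  rw [← ha_def, ← hp_def] at hs2
  rw [← hb_def, ← hp_def] at hs1
  set X := a + a + 1 with hX
  set Z := b + b + 1 with hZ
  set P := p + p + 1 with hP
  have hXX : X * X = (-3 : Ω) • (1 : End Ω V) := dbl_sq_eq ha
  have hZZ : Z * Z = (-3 : Ω) • (1 : End Ω V) := dbl_sq_eq hb
  have hPP : P * P = (-3 : Ω) • (1 : End Ω V) := dbl_sq_eq hp
  have hC3 : X * Z + Z * X = (4 * s3 + 2) • (1 : End Ω V) := dbl_anti_eq hs3
  have hC2 : X * P + P * X = (4 * s2 + 2) • (1 : End Ω V) := dbl_anti_eq hs2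
  have hC1 : Z * P + P * Z = (4 * s1 + 2) • (1 : End Ω V) := dbl_anti_eq hs1
  have hC3' : Z * X + X * Z = (4 * s3 + 2) • (1 : End Ω V) := by rw [add_comm]; exact hC3
  have hC2' : P * X + X * P = (4 * s2 + 2) • (1 : End Ω V) := by rw [add_comm]; exact hC2
  have hC1' : P * Z + Z * P = (4 * s1 + 2) • (1 : End Ω V) := by rw [add_comm]; exact hC1
  set Ψ := X * Z * P - P * Z * X with hΨ
  -- Ψ commutes with X, Z, P
  have hΨX : X * Ψ = Ψ * X := by
    have := psi_comm_X X Z P
    rw [hC3, hC2, hXX] at this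
    simp only [smul_mul_assoc, mul_smul_comm, one_mul, mul_one, sub_self, mul_zero,
      add_zero] at this
    exact sub_eq_zero.mp this
  have hΨZ : Z * Ψ = Ψ * Z := by
    have := psi_comm_Y X Z P
    rw [hC3, hC1] at this
    simp only [smul_mul_assoc, mul_smul_comm, one_mul, mul_one] at this
    have e0 : (4 * s3 + 2) • (Z * P) + (4 * s3 + 2) • (P * Z) - (4 * s1 + 2) • (Z * X) -
        (4 * s1 + 2) • (X * Z) =
        (4 * s3 + 2) • (Z * P + P * Z) - (4 * s1 + 2) • (Z * X + X * Z) := by module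
    rw [e0, hC1, hC3', smul_smul, smul_smul, mul_comm, sub_self] at this
    exact sub_eq_zero.mp this
  have hΨP : P * Ψ = Ψ * P := by
    have := psi_comm_X P Z X
    rw [hC1', hC2', hPP] at this
    simp only [smul_mul_assoc, mul_smul_comm, one_mul, mul_one, sub_self, mul_zero,
      add_zero] at this
    have h' := sub_eq_zero.mp this
    have e : Ψ = -(P * Z * X - X * Z * P) := by rw [hΨ]; abel
    rw [e, mul_neg, neg_mul, h']
  have hΨa : a * Ψ = Ψ * a := comm_of_double h2 hΨX
  have hΨb : b * Ψ = Ψ * b := comm_of_double h2 hΨZ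
  -- common eigenvector
  obtain ⟨w, l, θ, hw0, hw, hΨw⟩ := exists_common_eigenvector a Ψ hΨa
  have hm : (a * b + b * a + a + b) w = s3 • w := by rw [hs3]; simp
  have hpl := plane_invariant (a := a) (b := b) hb hw hm
  set W := Submodule.span Ω ({w, b w} : Set V) with hW
  have hΨW : ∀ u ∈ W, Ψ u = θ • u := by
    intro u hu
    rw [hW] at hu
    induction hu using Submodule.span_induction with
    | mem u hu =>
      rcases hu with rfl | hu
      · exact hΨw
      · rw [Set.mem_singleton_iff] at hu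
        subst hu
        have : Ψ (b w) = b (Ψ w) := by
          have := congrArg (fun T : End Ω V => T w) hΨb
          simpa using this.symm
        rw [this, hΨw, map_smul]
    | zero => simp
    | add u v _ _ hu hv => rw [map_add, hu, hv, smul_add]
    | smul c u _ hu => rw [map_smul, hu, smul_comm]
  have hXW : ∀ u ∈ W, X u ∈ W := by
    intro u hu
    rw [hX]
    simp only [LinearMap.add_apply, End.one_apply]
    exact W.add_mem (W.add_mem (hpl.1 u hu) (hpl.1 u hu)) hu
  have hZW : ∀ u ∈ W, Z u ∈ W := by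
    intro u hu
    rw [hZ]
    simp only [LinearMap.add_apply, End.one_apply]
    exact W.add_mem (W.add_mem (hpl.2 u hu) (hpl.2 u hu)) hu
  have hNW : ∀ u ∈ W, (X * Z - Z * X) u ∈ W := by
    intro u hu
    simp only [LinearMap.sub_apply, End.mul_apply]
    exact W.sub_mem (hXW _ (hZW u hu)) (hZW _ (hXW u hu))
  -- N² is a nonzero scalar
  have hNN : (X * Z - Z * X) * (X * Z - Z * X) =
      ((4 * s3 + 2) ^ 2 - 36) • (1 : End Ω V) := by
    rw [comm_sq, hC3, hZZ, hXX]
    simp only [smul_mul_assoc, mul_smul_comm, mul_one, hXX, hZZ]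
    module
  have hs3a : s3 ≠ 1 := by
    intro h1
    apply hne'
    have ht : tOp ρ x y = 1 + 1 := by
      rw [tOp_eq h hx hy]
      unfold mOp
      rw [← ha_def, ← hb_def, hs3, h1, one_smul]
    exact eq_inv_of_mul_eq_one_right (mul_eq_one_of_tOp h ht)
  have hs3b : s3 ≠ -2 := by
    intro h1
    apply hne
    have ht : tOp ρ x y = -1 := by
      rw [tOp_eq h hx hy]
      unfold mOp
      rw [← ha_def, ← hb_def, hs3, h1]
      module
    exact (eq_of_tOp_neg_one h hx hy ht).symm
  have hν : (4 * s3 + 2) ^ 2 - 36 ≠ 0 := by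
    have : (4 * s3 + 2) ^ 2 - 36 = 2 ^ 4 * ((s3 - 1) * (s3 + 2)) := by ring
    rw [this]
    apply mul_ne_zero (pow_ne_zero _ h2)
    apply mul_ne_zero (sub_ne_zero.mpr hs3a)
    intro h0
    exact hs3b (eq_neg_of_add_eq_zero_left h0)
  refine ⟨W, span_pair_ne_bot hw0, finrank_span_pair_le _ _, hpl.1, hpl.2, ?_⟩
  intro u hu
  -- N (P u) ∈ W
  have hNP : (X * Z - Z * X) (P u) ∈ W := by
    have e := psi_eq X Z P
    rw [← hΨ, hC1, hC2] at e
    have e2 := congrArg (fun T : End Ω V => T u) e
    simp only [LinearMap.add_apply, LinearMap.sub_apply, End.mul_apply, LinearMap.smul_apply,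
      End.one_apply, map_smul] at e2
    rw [hΨW u hu] at e2
    have : (X * Z - Z * X) (P u) = θ • u + (4 * s1 + 2) • X u - (4 * s2 + 2) • Z u := by
      simp only [LinearMap.sub_apply, End.mul_apply]
      rw [e2]; abel
    rw [this]
    exact W.sub_mem (W.add_mem (W.smul_mem _ hu) (W.smul_mem _ (hXW u hu)))
      (W.smul_mem _ (hZW u hu))
  have hPu : P u ∈ W := by
    have e := congrArg (fun T : End Ω V => T (P u)) hNN
    simp only [End.mul_apply, LinearMap.smul_apply, End.one_apply] at e
    have h3 := hNW _ hNP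
    rw [e] at h3
    have := W.smul_mem ((4 * s3 + 2) ^ 2 - 36)⁻¹ h3
    rwa [smul_smul, inv_mul_cancel₀ hν, one_smul] at this
  have hpu : (2 : Ω) • p u ∈ W := by
    have : (2 : Ω) • p u = P u - u := by
      rw [hP]; simp only [LinearMap.add_apply, End.one_apply]; rw [two_smul]; abel
    rw [this]; exact W.sub_mem hPu hu
  have := W.smul_mem (2 : Ω)⁻¹ hpu
  rwa [smul_smul, inv_mul_cancel₀ h2, one_smul] at this

end Planes

end Cfsg.H5.Zass
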