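import Mathlib
import Cfsg.Agent.H5.ZassPlane
import Cfsg.Agent.H5.ZassDeps

/-!
# Zassenhaus: subgroups, restricted representations, Schur (helper5, for S0690)
-/

set_option autoImplicit false

namespace Cfsg.H5.Zass

open Module

variable {Ω : Type*} [Field Ω] {V : Type*} [AddCommGroup V] [Module Ω V]
variable {Y : Type*} [Group Y] {ρ : Y →* End Ω V}

theorem rho_pow_mem {W : Submodule Ω V} {g : Y} (hg : ∀ u ∈ W, ρ g u ∈ W) (n : ℕ) :
    ∀ u ∈ W, ρ (g ^ n) u ∈ W := by
  induction n with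
  | zero => intro u hu; simpa using hu
  | succ n ih =>
    intro u hu
    rw [pow_succ, rho_mul_apply]
    exact ih _ (hg u hu)

theorem invariant_of_closure [Finite Y] {S : Set Y} {W : Submodule Ω V}
    (hS : ∀ g ∈ S, ∀ u ∈ W, ρ g u ∈ W) :
    ∀ g ∈ Subgroup.closure S, ∀ u ∈ W, ρ g u ∈ W := by
  intro g hg
  induction hg using Subgroup.closure_induction with
  | mem x hx => exact hS x hx
  | one => intro u hu; simpa using hu
  | mul x y _ _ hx hy =>
    intro u hu
    rw [rho_mul_apply]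
    exact hx _ (hy u hu)
  | inv x _ hx =>
    have : x⁻¹ = x ^ (orderOf x - 1) := by
      apply inv_eq_of_mul_eq_one_right
      rw [← pow_succ', Nat.sub_add_cancel (orderOf_pos x), pow_orderOf_eq_one]
    rw [this]
    exact rho_pow_mem hx _

/-- the representation of a subgroup on an invariant subspace -/
def subRep (ρ : Y →* End Ω V) (H : Subgroup Y) (W : Submodule Ω V)
    (hinv : ∀ g ∈ H, ∀ u ∈ W, ρ g u ∈ W) : ↥H →* End Ω ↥W where
  toFun g := (ρ (g : Y)).restrict (hinv g g.2)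
  map_one' := by
    ext u
    simp
  map_mul' a b := by
    ext u
    simp

theorem subRep_apply (H : Subgroup Y) (W : Submodule Ω V)
    (hinv : ∀ g ∈ H, ∀ u ∈ W, ρ g u ∈ W) (g : ↥H) (u : ↥W) :
    ((subRep ρ H W hinv g u : ↥W) : V) = ρ (g : Y) (u : V) := rfl

theorem Fpf.subRep (h : Fpf ρ) (H : Subgroup Y) (W : Submodule Ω V)
    (hinv : ∀ g ∈ H, ∀ u ∈ W, ρ g u ∈ W) : Fpf (subRep ρ H W hinv) := by
  intro g hg u hu
  have h1 : (g : Y) ≠ 1 := by
    intro h1
    exact hg (Subtype.ext h1)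
  have h2 : ρ (g : Y) (u : V) = (u : V) := by
    rw [← subRep_apply H W hinv g u, hu]
  exact Subtype.ext (h _ h1 _ h2)

theorem closure_orderThree_top {S : Set Y} (hS : ∀ g ∈ S, orderOf g = 3) :
    Subgroup.closure {x : ↥(Subgroup.closure S) | orderOf x = 3} = ⊤ := by
  set H := Subgroup.closure S with hH
  rw [eq_top_iff]
  have h1 : H ≤ (Subgroup.closure {x : ↥H | orderOf x = 3}).map H.subtype := by
    rw [hH, Subgroup.closure_le]
    intro g hg
    refine ⟨⟨g, Subgroup.subset_closure hg⟩, ?_, rfl⟩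
    apply Subgroup.subset_closure
    change orderOf (⟨g, _⟩ : ↥H) = 3
    rw [← hS g hg]
    exact (Subgroup.orderOf_coe (⟨g, Subgroup.subset_closure hg⟩ : ↥H)).symm
  intro x _
  obtain ⟨y, hy, hyx⟩ := h1 x.2
  have : y = x := Subtype.ext hyx
  rwa [this] at hy

theorem Concl.of_mulEquiv {H H' : Type*} [Group H] [Group H'] (e : H ≃* H') (hc : Concl H) :
    Concl H' := by
  have hcard : Nat.card H = Nat.card H' := Nat.card_congr e.toEquiv
  have hker : ∀ {A : Type} [Group A] (f : H →* A),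
      Nat.card (f.comp e.symm.toMonoidHom).ker = Nat.card f.ker := by
    intro A _ f
    have : (f.comp e.symm.toMonoidHom).ker = f.ker.map e.toMonoidHom := by
      ext x
      simp only [MonoidHom.mem_ker, MonoidHom.coe_comp, Function.comp_apply, Subgroup.mem_map]
      constructor
      · intro hx
        exact ⟨e.symm x, hx, by simp⟩
      · rintro ⟨y, hy, rfl⟩
        simpa using hy
    rw [this]
    exact Nat.card_congr (e.subgroupMap f.ker).symm.toEquiv
  rcases hc with h | h | ⟨h, f, hf, hk⟩ | ⟨h, f, hf, hk⟩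
  · exact Or.inl (hcard ▸ h)
  · exact Or.inr (Or.inl (hcard ▸ h))
  · refine Or.inr (Or.inr (Or.inl ⟨hcard ▸ h, f.comp e.symm.toMonoidHom, ?_, ?_⟩))
    · exact hf.comp e.symm.surjective
    · rw [hker f, hk]
  · refine Or.inr (Or.inr (Or.inr ⟨hcard ▸ h, f.comp e.symm.toMonoidHom, ?_, ?_⟩))
    · exact hf.comp e.symm.surjective
    · rw [hker f, hk]

theorem Concl.card {H : Type*} [Group H] (hc : Concl H) :
    Nat.card H = 1 ∨ Nat.card H = 3 ∨ Nat.card H = 24 ∨ Nat.card H = 120 := by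
  rcases hc with h | h | ⟨h, -⟩ | ⟨h, -⟩
  · exact Or.inl h
  · exact Or.inr (Or.inl h)
  · exact Or.inr (Or.inr (Or.inl h))
  · exact Or.inr (Or.inr (Or.inr h))

section DP

variable {q : ℕ} [Fact q.Prime] [Algebra (ZMod q) Ω] [Algebra.IsAlgebraic (ZMod q) Ω]
  [IsAlgClosed Ω] [Finite Y] [FiniteDimensional Ω V]

/-- a subgroup generated by elements of order 3 with an invariant plane -/
theorem concl_of_plane (h : Fpf ρ) (hq : ¬ q ∣ Nat.card Y) (S : Set Y)
    (hS3 : ∀ g ∈ S, orderOf g = 3) (W : Submodule Ω V) (hW0 : W ≠ ⊥)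
    (hW2 : finrank Ω W ≤ 2) (hinv : ∀ g ∈ S, ∀ u ∈ W, ρ g u ∈ W) :
    Concl ↥(Subgroup.closure S) := by
  have hinvH := invariant_of_closure (ρ := ρ) hinv
  have : Nontrivial ↥W := Submodule.nontrivial_iff_ne_bot.mpr hW0
  have hq' : ¬ q ∣ Nat.card ↥(Subgroup.closure S) := by
    intro hd
    exact hq (hd.trans (Subgroup.card_subgroup_dvd_card _))
  exact dp_two_dim (q := q) hW2 (subRep ρ (Subgroup.closure S) W hinvH)
    (h.subRep _ W hinvH) hq' (closure_orderThree_top hS3)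

end DP

/-- irreducibility -/
def Irr (ρ : Y →* End Ω V) : Prop :=
  ∀ W : Submodule Ω V, (∀ g : Y, ∀ u ∈ W, ρ g u ∈ W) → W = ⊥ ∨ W = ⊤

/-- **Schur's lemma** -/
theorem Irr.scalar_of_commute [IsAlgClosed Ω] [FiniteDimensional Ω V] [Nontrivial V]
    (hirr : Irr ρ) {T : End Ω V} (hT : ∀ g : Y, ρ g * T = T * ρ g) :
    ∃ s : Ω, T = s • (1 : End Ω V) := by
  obtain ⟨s, hs⟩ := T.exists_eigenvalue
  refine ⟨s, ?_⟩
  have hinv : ∀ g : Y, ∀ u ∈ T.eigenspace s, ρ g u ∈ T.eigenspace s := by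
    intro g u hu
    rw [End.mem_eigenspace_iff] at hu ⊢
    have : T (ρ g u) = ρ g (T u) := by
      have := congrArg (fun A : End Ω V => A u) (hT g)
      simpa using this.symm
    rw [this, hu, map_smul]
  rcases hirr _ hinv with h0 | h1
  · exact absurd h0 hs
  · ext v
    have : v ∈ T.eigenspace s := by rw [h1]; trivial
    rw [End.mem_eigenspace_iff] at this
    simpa using this

/-- a minimal nonzero invariant subspace -/
theorem exists_minimal_invariant [FiniteDimensional Ω V] [Nontrivial V] (ρ : Y →* End Ω V) :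
    ∃ U : Submodule Ω V, U ≠ ⊥ ∧ (∀ g : Y, ∀ u ∈ U, ρ g u ∈ U) ∧
      ∀ U' : Submodule Ω V, U' ≤ U → (∀ g : Y, ∀ u ∈ U', ρ g u ∈ U') → U' = ⊥ ∨ U' = U := by
  let S : Set (Submodule Ω V) := {U | U ≠ ⊥ ∧ ∀ g : Y, ∀ u ∈ U, ρ g u ∈ U}
  have hS : S.Nonempty := ⟨⊤, top_ne_bot, fun _ _ _ => trivial⟩
  obtain ⟨U, hU, hmin⟩ := (wellFounded_lt (α := Submodule Ω V)).has_min S hS
  refine ⟨U, hU.1, hU.2, ?_⟩
  intro U' hle hinv
  by_cases h : U' = ⊥
  · exact Or.inl h
  · right
    by_contra hne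
    exact hmin U' ⟨h, hinv⟩ (lt_of_le_of_ne hle hne)

/-- restriction to a minimal invariant subspace is irreducible -/
theorem irr_subRep_top {U : Submodule Ω V} (hinv : ∀ g ∈ (⊤ : Subgroup Y), ∀ u ∈ U, ρ g u ∈ U)
    (hmin : ∀ U' : Submodule Ω V, U' ≤ U → (∀ g : Y, ∀ u ∈ U', ρ g u ∈ U') → U' = ⊥ ∨ U' = U) :
    Irr (subRep ρ ⊤ U hinv) := by
  intro W hW
  have h2 := hmin (W.map U.subtype) (Submodule.map_subtype_le U W) (by
    intro g u hu
    obtain ⟨u', hu', rfl⟩ := Submodule.mem_map.mp hu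
    exact Submodule.mem_map.mpr ⟨_, hW ⟨g, trivial⟩ u' hu', rfl⟩)
  have h3 := Submodule.comap_map_eq_of_injective U.injective_subtype W
  rcases h2 with h | h
  · left
    rw [← h3, h, Submodule.comap_bot, Submodule.ker_subtype]
  · right
    rw [← h3, h, Submodule.comap_subtype_self]

end Cfsg.H5.Zass
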