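import Mathlib
import Cfsg.Agent.H5.ZassSub

/-!
# Zassenhaus: points (subgroups of order 3) and join sets (helper5, for S0690)
-/

set_option autoImplicit false

open Classical

namespace Cfsg.H5.Zass

open Module

/-- points = subgroups of order 3 -/
abbrev Pt (Y : Type*) [Group Y] := {P : Subgroup Y // Nat.card P = 3}

variable {Y : Type*} [Group Y]

noncomputable instance [Finite Y] : Fintype (Pt Y) := Fintype.ofFinite _

/-- the point generated by an element of order 3 -/
def mkPt (a : Y) (ha : orderOf a = 3) : Pt Y := ⟨Subgroup.zpowers a, by rw [Nat.card_zpowers, ha]⟩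

theorem orderOf_eq_three_of_mem {P : Subgroup Y} (hP : Nat.card P = 3) {a : Y} (ha : a ∈ P)
    (ha1 : a ≠ 1) : orderOf a = 3 := by
  have : Finite P := Nat.finite_of_card_ne_zero (by omega)
  have h1 : orderOf (⟨a, ha⟩ : P) ∣ 3 := hP ▸ orderOf_dvd_natCard _
  rw [Subgroup.orderOf_mk] at h1
  rcases (Nat.dvd_prime Nat.prime_three).mp h1 with h | h
  · exact absurd (orderOf_eq_one_iff.mp h) ha1
  · exact h

theorem Pt.exists_gen (P : Pt Y) : ∃ a : Y, orderOf a = 3 ∧ P.1 = Subgroup.zpowers a := by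
  have : Finite P.1 := Nat.finite_of_card_ne_zero (by rw [P.2]; omega)
  have hne : P.1 ≠ ⊥ := by
    intro h
    have := P.2
    rw [h, Subgroup.card_bot] at this
    omega
  obtain ⟨a', ha'⟩ := (Subgroup.ne_bot_iff_exists_ne_one).mp hne
  obtain ⟨a, ha, ha1⟩ : ∃ a : Y, a ∈ P.1 ∧ a ≠ 1 :=
    ⟨(a' : Y), a'.2, fun h1 => ha' (Subtype.ext h1)⟩
  have h3 := orderOf_eq_three_of_mem P.2 ha ha1
  refine ⟨a, h3, ?_⟩
  symm
  apply Subgroup.eq_of_le_of_card_ge
  · rwa [Subgroup.zpowers_le]
  · rw [Nat.card_zpowers, h3, P.2]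

theorem mkPt_val (a : Y) (ha : orderOf a = 3) : (mkPt a ha).1 = Subgroup.zpowers a := rfl

theorem mem_zpowers_three {a b : Y} (ha : orderOf a = 3) (hb : b ∈ Subgroup.zpowers a) :
    b = 1 ∨ b = a ∨ b = a⁻¹ := by
  rw [Subgroup.mem_zpowers_iff] at hb
  obtain ⟨k, rfl⟩ := hb
  have h3 : a ^ (3 : ℤ) = 1 := by
    have := pow_orderOf_eq_one a
    rw [ha] at this
    exact_mod_cast this
  have hk : a ^ k = a ^ (k % 3) := by
    conv_lhs => rw [← Int.mul_ediv_add_emod k 3]
    rw [zpow_add, zpow_mul, h3, one_zpow, one_mul]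
  have h0 : 0 ≤ k % 3 := Int.emod_nonneg _ (by norm_num)
  have h1 : k % 3 < 3 := Int.emod_lt_of_pos _ (by norm_num)
  rw [hk]
  have : k % 3 = 0 ∨ k % 3 = 1 ∨ k % 3 = 2 := by omega
  rcases this with h | h | h
  · left; rw [h, zpow_zero]
  · right; left; rw [h, zpow_one]
  · right; right
    rw [h]
    apply eq_inv_of_mul_eq_one_left
    have : a ^ (2 : ℤ) * a = a ^ (3 : ℤ) := by
      rw [show (3 : ℤ) = 2 + 1 by norm_num, zpow_add, zpow_one]
    rw [this, h3]

theorem closure_pair_eq (a b : Y) :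
    Subgroup.closure ({a, b} : Set Y) = Subgroup.zpowers a ⊔ Subgroup.zpowers b := by
  rw [Subgroup.zpowers_eq_closure, Subgroup.zpowers_eq_closure, ← Subgroup.closure_union]
  congr 1

theorem closure_triple_eq (a b c : Y) :
    Subgroup.closure ({a, b, c} : Set Y) =
      Subgroup.zpowers a ⊔ Subgroup.zpowers b ⊔ Subgroup.zpowers c := by
  rw [Subgroup.zpowers_eq_closure, Subgroup.zpowers_eq_closure, Subgroup.zpowers_eq_closure,
    ← Subgroup.closure_union, ← Subgroup.closure_union]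
  congr 1
  ext x
  simp only [Set.mem_insert_iff, Set.mem_singleton_iff, Set.union_singleton, Set.mem_union]
  tauto

section Equiv

variable (H : Subgroup Y)

/-- points inside `H` versus subgroups of order 3 of `↥H` -/
noncomputable def ptEquiv : {R : Pt Y // R.1 ≤ H} ≃ {R' : Subgroup ↥H // Nat.card R' = 3} where
  toFun R := ⟨R.1.1.subgroupOf H, by
    rw [Nat.card_congr (Subgroup.subgroupOfEquivOfLe R.2).toEquiv]; exact R.1.2⟩
  invFun R' := ⟨⟨R'.1.map H.subtype, by
    rw [Nat.card_congr (R'.1.equivMapOfInjective H.subtype H.subtype_injective).symm.toEquiv]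
    exact R'.2⟩, Subgroup.map_subtype_le _⟩
  left_inv R := by
    apply Subtype.ext
    apply Subtype.ext
    simp only
    rw [Subgroup.map_subgroupOf_eq_of_le R.2]
  right_inv R' := by
    apply Subtype.ext
    simp only
    rw [Subgroup.subgroupOf, Subgroup.comap_map_eq_self_of_injective H.subtype_injective]

theorem ptEquiv_apply (R : {R : Pt Y // R.1 ≤ H}) :
    ((ptEquiv H R).1 : Subgroup ↥H) = R.1.1.subgroupOf H := rfl

theorem ptEquiv_symm_apply (R' : {R' : Subgroup ↥H // Nat.card R' = 3}) :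
    ((ptEquiv H).symm R').1.1 = R'.1.map H.subtype := rfl

theorem subgroupOf_sup_eq {R S : Subgroup Y} (hR : R ≤ H) (hS : S ≤ H) :
    R.subgroupOf H ⊔ S.subgroupOf H = (R ⊔ S).subgroupOf H :=
  (Subgroup.subgroupOf_sup hR hS).symm

theorem le_iff_subgroupOf_le {R S : Subgroup Y} (hR : R ≤ H) :
    R.subgroupOf H ≤ S.subgroupOf H ↔ R ≤ S := by
  constructor
  · intro h x hx
    have := h (show (⟨x, hR hx⟩ : ↥H) ∈ R.subgroupOf H from hx)
    exact this
  · intro h x hx
    exact h hx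

end Equiv

end Cfsg.H5.Zass
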