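import Mathlib
import Cfsg.Agent.H5.ZassPts

/-!
# Zassenhaus: lines, blocks and the join-set axioms (helper5, for S0690)
-/

set_option autoImplicit false
set_option linter.unusedSectionVars false

open Classical

namespace Cfsg.H5.Zass

open Module

variable {q : ℕ} [Fact q.Prime] {Ω : Type*} [Field Ω] [Algebra (ZMod q) Ω]
  [Algebra.IsAlgebraic (ZMod q) Ω] [IsAlgClosed Ω]
variable {Y : Type*} [Group Y] [Finite Y] {V : Type*} [AddCommGroup V] [Module Ω V]
  [FiniteDimensional Ω V] [Nontrivial V] {ρ : Y →* End Ω V}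

/-- data of a line (a copy of `2.A4`) -/
def LineData (H : Subgroup Y) : Prop :=
  Nat.card H = 24 ∧ ∃ f : ↥H →* alternatingGroup (Fin 4), Function.Surjective f ∧
    Nat.card f.ker = 2

/-- data of a block (a copy of `2.A5`) -/
def BlockData (H : Subgroup Y) : Prop :=
  Nat.card H = 120 ∧ ∃ f : ↥H →* alternatingGroup (Fin 5), Function.Surjective f ∧
    Nat.card f.ker = 2

theorem huniq_of_fpf (h : Fpf ρ) (H : Subgroup Y) {A : Type*} [Group A] (f : ↥H →* A)
    (hk : Nat.card f.ker = 2) : ∀ x : ↥H, orderOf x = 2 → x ∈ f.ker := by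
  intro x hx
  have : Finite f.ker := Nat.finite_of_card_ne_zero (by omega)
  have : Fact (Nat.Prime 2) := ⟨Nat.prime_two⟩
  obtain ⟨k, hk2⟩ := exists_prime_orderOf_dvd_card' (G := f.ker) 2 (by rw [hk])
  have h1 : orderOf ((k : ↥H) : Y) = 2 := by
    rw [Subgroup.orderOf_coe, Subgroup.orderOf_coe]; exact hk2
  have h2 : orderOf (x : Y) = 2 := by rw [Subgroup.orderOf_coe]; exact hx
  have h3 : (x : Y) = ((k : ↥H) : Y) := h.involution_unique h2 h1
  have h4 : x = (k : ↥H) := Subtype.ext h3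
  rw [h4]; exact k.2

section Line

variable {H : Subgroup Y}

theorem LineData.card_pts (h : Fpf ρ) (hL : LineData H) :
    Nat.card {R : Pt Y // R.1 ≤ H} = 4 := by
  obtain ⟨-, f, hf, hk⟩ := hL
  rw [Nat.card_congr (ptEquiv H)]
  exact (line_model f hf hk (huniq_of_fpf h H f hk)).1

theorem LineData.sup_eq (h : Fpf ρ) (hL : LineData H) {R S : Pt Y} (hR : R.1 ≤ H) (hS : S.1 ≤ H)
    (hne : R ≠ S) : R.1 ⊔ S.1 = H := by
  obtain ⟨-, f, hf, hk⟩ := hL
  have h2 := (line_model f hf hk (huniq_of_fpf h H f hk)).2.1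
  have h3 := h2 (ptEquiv H ⟨R, hR⟩).1 (ptEquiv H ⟨S, hS⟩).1 (ptEquiv H ⟨R, hR⟩).2
    (ptEquiv H ⟨S, hS⟩).2 (by
      intro he
      apply hne
      have : ptEquiv H ⟨R, hR⟩ = ptEquiv H ⟨S, hS⟩ := Subtype.ext he
      have := (ptEquiv H).injective this
      exact congrArg Subtype.val this)
  rw [ptEquiv_apply, ptEquiv_apply, subgroupOf_sup_eq H hR hS, Subgroup.subgroupOf_eq_top] at h3
  exact le_antisymm (sup_le hR hS) h3

theorem LineData.orderOf_mem (h : Fpf ρ) (hL : LineData H) {x : Y} (hx : x ∈ H) :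
    orderOf x = 1 ∨ orderOf x = 2 ∨ orderOf x = 3 ∨ orderOf x = 4 ∨ orderOf x = 6 := by
  obtain ⟨-, f, hf, hk⟩ := hL
  have h2 := (line_model f hf hk (huniq_of_fpf h H f hk)).2.2 ⟨x, hx⟩
  rwa [Subgroup.orderOf_mk] at h2

/-- two elements of order 3 on a line form a scalar pair -/
theorem LineData.scalarPair (h : Fpf ρ) (hL : LineData H) {a b : Y} (ha : orderOf a = 3)
    (hb : orderOf b = 3) (haH : a ∈ H) (hbH : b ∈ H) : ScalarPair ρ a b := by
  have ht := tOp_eq h ha hb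
  have ho := tOp_of_order (ρ := ρ) h (x := a) (y := b)
  rcases hL.orderOf_mem h (H.mul_mem haH hbH) with h1 | h1 | h1 | h1 | h1
  · refine ⟨1, ?_⟩
    have := ho.1 (orderOf_eq_one_iff.mp h1)
    rw [ht] at this
    rw [one_smul]
    exact add_right_cancel this
  · refine ⟨-3, ?_⟩
    have := ho.2.1 h1
    rw [ht] at this
    rw [eq_sub_of_add_eq this]
    module
  · refine ⟨-2, ?_⟩
    have := ho.2.2.1 h1
    rw [ht] at this
    rw [eq_sub_of_add_eq this]
    module
  · refine ⟨-1, ?_⟩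
    have := ho.2.2.2.1 h1
    rw [ht] at this
    rw [eq_sub_of_add_eq this]
    module
  · refine ⟨0, ?_⟩
    have := ho.2.2.2.2 h1
    rw [ht] at this
    rw [eq_sub_of_add_eq this]
    module

end Line

section Block

variable {H : Subgroup Y}

/-- the model of a block -/
theorem BlockData.model (h : Fpf ρ) (hB : BlockData H) :
    ∃ Φ : {R : Pt Y // R.1 ≤ H} ≃ {s : Finset (Fin 5) // s.card = 2},
      ∀ R S : {R : Pt Y // R.1 ≤ H},
        (Disjoint (Φ R).1 (Φ S).1 → R.1.1 ⊔ S.1.1 = H) ∧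
        (∀ i : Fin 5, (Φ R).1 ∩ (Φ S).1 = {i} → Nat.card ↥(R.1.1 ⊔ S.1.1) = 24 ∧
          ∀ T : {R : Pt Y // R.1 ≤ H}, T.1.1 ≤ R.1.1 ⊔ S.1.1 ↔ i ∈ (Φ T).1) := by
  obtain ⟨-, f, hf, hk⟩ := hB
  obtain ⟨Φ, hΦ⟩ := (block_model f hf hk (huniq_of_fpf h H f hk)).1
  refine ⟨(ptEquiv H).trans Φ, ?_⟩
  intro R S
  have hRS := hΦ (ptEquiv H R) (ptEquiv H S)
  rw [ptEquiv_apply, ptEquiv_apply, subgroupOf_sup_eq H R.2 S.2] at hRS
  constructor
  · intro hd
    have h3 := hRS.1 hd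
    rw [Subgroup.subgroupOf_eq_top] at h3
    exact le_antisymm (sup_le R.2 S.2) h3
  · intro i hi
    obtain ⟨h4, h5⟩ := hRS.2 i hi
    constructor
    · rw [← h4]
      exact (Nat.card_congr (Subgroup.subgroupOfEquivOfLe (sup_le R.2 S.2)).toEquiv).symm
    · intro T
      have h6 := h5 (ptEquiv H T)
      rw [ptEquiv_apply, le_iff_subgroupOf_le H T.2] at h6
      exact h6

theorem BlockData.card_pts (h : Fpf ρ) (hB : BlockData H) :
    Nat.card {R : Pt Y // R.1 ≤ H} = 10 := by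
  obtain ⟨Φ, -⟩ := hB.model h
  rw [Nat.card_congr Φ, Nat.card_eq_fintype_card, Fintype.card_finset_len]
  rfl

theorem BlockData.orderOf_mul (h : Fpf ρ) (hB : BlockData H) {a y : Y} (ha : orderOf a = 3)
    (hy : orderOf y = 3) (hay : Subgroup.zpowers a ⊔ Subgroup.zpowers y = H) :
    orderOf (a * y) = 5 ∨ orderOf (a * y) = 10 := by
  obtain ⟨-, f, hf, hk⟩ := hB
  have haH : a ∈ H := by rw [← hay]; exact Subgroup.mem_sup_left (Subgroup.mem_zpowers a)
  have hyH : y ∈ H := by rw [← hay]; exact Subgroup.mem_sup_right (Subgroup.mem_zpowers y)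
  have h2 := (block_model f hf hk (huniq_of_fpf h H f hk)).2 ⟨a, haH⟩ ⟨y, hyH⟩
    (by rw [Subgroup.orderOf_mk]; exact ha) (by rw [Subgroup.orderOf_mk]; exact hy) (by
      rw [eq_top_iff]
      intro x _
      have hx : (x : Y) ∈ Subgroup.zpowers a ⊔ Subgroup.zpowers y := by rw [hay]; exact x.2
      have e1 : Subgroup.zpowers (⟨a, haH⟩ : ↥H) = (Subgroup.zpowers a).subgroupOf H := by
        ext z
        simp only [Subgroup.mem_zpowers_iff, Subgroup.mem_subgroupOf]
        constructor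
        · rintro ⟨k, rfl⟩; exact ⟨k, by simp⟩
        · rintro ⟨k, hk⟩; exact ⟨k, Subtype.ext (by simpa using hk)⟩
      have e2 : Subgroup.zpowers (⟨y, hyH⟩ : ↥H) = (Subgroup.zpowers y).subgroupOf H := by
        ext z
        simp only [Subgroup.mem_zpowers_iff, Subgroup.mem_subgroupOf]
        constructor
        · rintro ⟨k, rfl⟩; exact ⟨k, by simp⟩
        · rintro ⟨k, hk⟩; exact ⟨k, Subtype.ext (by simpa using hk)⟩
      rw [e1, e2, subgroupOf_sup_eq H (by rwa [Subgroup.zpowers_le]) (by rwa [Subgroup.zpowers_le])]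
      exact hx)
  have e : orderOf ((⟨a, haH⟩ : ↥H) * ⟨y, hyH⟩) = orderOf (a * y) := by
    rw [← Subgroup.orderOf_coe]; rfl
  rwa [e] at h2

end Block

end Cfsg.H5.Zass
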