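import Mathlib
import Cfsg.Agent.H5.ZassGeom

/-!
# Zassenhaus: the join-set axioms J0–J3, J5 (helper5, for S0690)
-/

set_option autoImplicit false
set_option linter.unusedSectionVars false

open Classical

namespace Cfsg.H5.Zass

open Module

variable {q : ℕ} [Fact q.Prime] {Ω : Type*} [Field Ω] [Algebra (ZMod q) Ω]
  [Algebra.IsAlgebraic (ZMod q) Ω] [IsAlgClosed Ω]
variable {Y : Type*} [Group Y] [Finite Y] {V : Type*} [AddCommGroup V] [Module Ω V]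
  [FiniteDimensional Ω V] [Nontrivial V] {ρ : Y →* End Ω V}

theorem two_ne_zero_of_even (hq : ¬ q ∣ Nat.card Y) (h2 : 2 ∣ Nat.card Y) : (2 : Ω) ≠ 0 := by
  have : CharP Ω q := charP_of_injective_algebraMap (algebraMap (ZMod q) Ω).injective q
  intro h0
  have h1 : ((2 : ℕ) : Ω) = 0 := by exact_mod_cast h0
  rw [CharP.cast_eq_zero_iff Ω q] at h1
  have hq2 : q = 2 := (Nat.prime_dvd_prime_iff_eq (Fact.out : q.Prime) Nat.prime_two).mp h1
  exact hq (hq2 ▸ h2)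

theorem concl_pair (h : Fpf ρ) (hq : ¬ q ∣ Nat.card Y) {x y : Y} (hx : orderOf x = 3)
    (hy : orderOf y = 3) : Concl ↥(Subgroup.closure ({x, y} : Set Y)) := by
  obtain ⟨W, hW0, hW2, hWx, hWy⟩ := exists_plane_pair h hx hy
  apply concl_of_plane (q := q) h hq _ _ W hW0 hW2
  · intro g hg
    rcases hg with rfl | hg
    · exact hWx
    · rw [Set.mem_singleton_iff] at hg; subst hg; exact hWy
  · intro g hg
    rcases hg with rfl | hg
    · exact hx
    · rw [Set.mem_singleton_iff] at hg; subst hg; exact hy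

theorem concl_triple (h : Fpf ρ) (hq : ¬ q ∣ Nat.card Y) (h2 : (2 : Ω) ≠ 0) {x y z : Y}
    (hx : orderOf x = 3) (hy : orderOf y = 3) (hz : orderOf z = 3) (hxy : ScalarPair ρ x y)
    (hxz : ScalarPair ρ x z) (hyz : ScalarPair ρ y z) (hne : y ≠ x) (hne' : y ≠ x⁻¹) :
    Concl ↥(Subgroup.closure ({x, y, z} : Set Y)) := by
  obtain ⟨W, hW0, hW2, hWx, hWy, hWz⟩ := exists_plane_triple h h2 hx hy hz hxy hxz hyz hne hne'
  apply concl_of_plane (q := q) h hq _ _ W hW0 hW2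
  · intro g hg
    rcases hg with rfl | rfl | hg
    · exact hWx
    · exact hWy
    · rw [Set.mem_singleton_iff] at hg; subst hg; exact hWz
  · intro g hg
    rcases hg with rfl | rfl | hg
    · exact hx
    · exact hy
    · rw [Set.mem_singleton_iff] at hg; subst hg; exact hz

theorem Pt.card_le {P : Pt Y} {H : Subgroup Y} (hP : P.1 ≤ H) : 3 ≤ Nat.card H := by
  rw [← P.2]; exact Subgroup.card_le_of_le hP

theorem Pt.eq_of_le_of_card {P : Pt Y} {H : Subgroup Y} (hP : P.1 ≤ H) (hH : Nat.card H = 3) :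
    P.1 = H :=
  Subgroup.eq_of_le_of_card_ge hP (by rw [hH, P.2])

/-- two distinct points span a line or a block -/
theorem join_cases (h : Fpf ρ) (hq : ¬ q ∣ Nat.card Y) {P Q : Pt Y} (hPQ : P ≠ Q) :
    LineData (P.1 ⊔ Q.1) ∨ BlockData (P.1 ⊔ Q.1) := by
  obtain ⟨a, ha, hPa⟩ := P.exists_gen
  obtain ⟨b, hb, hQb⟩ := Q.exists_gen
  have hc := concl_pair (q := q) h hq ha hb
  have e : Subgroup.closure ({a, b} : Set Y) = P.1 ⊔ Q.1 := by
    rw [closure_pair_eq, ← hPa, ← hQb]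
  rw [e] at hc
  rcases hc with h1 | h1 | h1 | h1
  · exfalso
    have := Pt.card_le (P := P) (H := P.1 ⊔ Q.1) le_sup_left
    omega
  · exfalso
    apply hPQ
    apply Subtype.ext
    exact (Pt.eq_of_le_of_card (P := P) (H := P.1 ⊔ Q.1) le_sup_left h1).trans
      (Pt.eq_of_le_of_card (P := Q) (H := P.1 ⊔ Q.1) le_sup_right h1).symm
  · exact Or.inl h1
  · exact Or.inr h1

/-- the join set of two points -/
noncomputable def J (P Q : Pt Y) : Finset (Pt Y) :=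
  Finset.univ.filter (fun R => R.1 ≤ P.1 ⊔ Q.1)

theorem mem_J {P Q R : Pt Y} : R ∈ J P Q ↔ R.1 ≤ P.1 ⊔ Q.1 := by
  unfold J; simp

theorem J_card (P Q : Pt Y) (H : Subgroup Y) (hH : P.1 ⊔ Q.1 = H) :
    (J P Q).card = Nat.card {R : Pt Y // R.1 ≤ H} := by
  subst hH
  rw [Nat.card_eq_fintype_card, Fintype.card_subtype]
  rfl

theorem J_card_line (h : Fpf ρ) {P Q : Pt Y} (hL : LineData (P.1 ⊔ Q.1)) : (J P Q).card = 4 := by
  rw [J_card P Q _ rfl]; exact hL.card_pts h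

theorem J_card_block (h : Fpf ρ) {P Q : Pt Y} (hB : BlockData (P.1 ⊔ Q.1)) :
    (J P Q).card = 10 := by
  rw [J_card P Q _ rfl]; exact hB.card_pts h

theorem lineData_of_card (h : Fpf ρ) (hq : ¬ q ∣ Nat.card Y) {P Q : Pt Y} (hPQ : P ≠ Q)
    (hc : (J P Q).card = 4) : LineData (P.1 ⊔ Q.1) := by
  rcases join_cases (q := q) h hq hPQ with hL | hB
  · exact hL
  · rw [J_card_block h hB] at hc; omega

theorem blockData_of_card (h : Fpf ρ) (hq : ¬ q ∣ Nat.card Y) {P Q : Pt Y} (hPQ : P ≠ Q)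
    (hc : (J P Q).card = 10) : BlockData (P.1 ⊔ Q.1) := by
  rcases join_cases (q := q) h hq hPQ with hL | hB
  · rw [J_card_line h hL] at hc; omega
  · exact hB

theorem hJ0 (P Q : Pt Y) : P ∈ J P Q ∧ Q ∈ J P Q :=
  ⟨mem_J.mpr le_sup_left, mem_J.mpr le_sup_right⟩

theorem hJsymm (P Q : Pt Y) : J P Q = J Q P := by
  ext R; rw [mem_J, mem_J, sup_comm]

theorem hJ1 (h : Fpf ρ) (hq : ¬ q ∣ Nat.card Y) (P Q : Pt Y) (hPQ : P ≠ Q) :
    (J P Q).card = 4 ∨ (J P Q).card = 10 := by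
  rcases join_cases (q := q) h hq hPQ with hL | hB
  · exact Or.inl (J_card_line h hL)
  · exact Or.inr (J_card_block h hB)

theorem J_eq_of_sup_eq {P Q R S : Pt Y} (he : R.1 ⊔ S.1 = P.1 ⊔ Q.1) : J R S = J P Q := by
  ext T; rw [mem_J, mem_J, he]

theorem hJ2 (h : Fpf ρ) (hq : ¬ q ∣ Nat.card Y) (P Q : Pt Y) (hPQ : P ≠ Q)
    (hc : (J P Q).card = 4) : ∀ R ∈ J P Q, ∀ S ∈ J P Q, R ≠ S → J R S = J P Q := by
  intro R hR S hS hne
  have hL := lineData_of_card (q := q) h hq hPQ hc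
  exact J_eq_of_sup_eq (hL.sup_eq h (mem_J.mp hR) (mem_J.mp hS) hne)

theorem hJ3 (h : Fpf ρ) (hq : ¬ q ∣ Nat.card Y) (P Q : Pt Y) (hPQ : P ≠ Q)
    (hc : (J P Q).card = 10) : ∃ Φ : Pt Y → Finset (Fin 5),
      (∀ R ∈ J P Q, (Φ R).card = 2) ∧ Set.InjOn Φ (J P Q : Set (Pt Y)) ∧
      ∀ R ∈ J P Q, ∀ S ∈ J P Q, R ≠ S →
        (Disjoint (Φ R) (Φ S) → J R S = J P Q) ∧
        (∀ i, Φ R ∩ Φ S = {i} → J R S = (J P Q).filter (fun U => i ∈ Φ U)) := by
  have hB := blockData_of_card (q := q) h hq hPQ hc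
  obtain ⟨H, hH⟩ : ∃ H : Subgroup Y, P.1 ⊔ Q.1 = H := ⟨_, rfl⟩
  rw [hH] at hB
  have hmem : ∀ {R : Pt Y}, R ∈ J P Q ↔ R.1 ≤ H := by intro R; rw [mem_J, hH]
  obtain ⟨Φ₀, hΦ₀⟩ := hB.model h
  refine ⟨fun R => if hR : R.1 ≤ H then (Φ₀ ⟨R, hR⟩).1 else ∅, ?_, ?_, ?_⟩
  · intro R hR
    have hR' : R.1 ≤ H := hmem.mp hR
    simp only [dif_pos hR']
    exact (Φ₀ ⟨R, hR'⟩).2
  · intro R hR S hS he
    have hR' : R.1 ≤ H := hmem.mp hR
    have hS' : S.1 ≤ H := hmem.mp hS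
    simp only [dif_pos hR', dif_pos hS'] at he
    have := Φ₀.injective (Subtype.ext he)
    exact congrArg Subtype.val this
  · intro R hR S hS _
    have hR' : R.1 ≤ H := hmem.mp hR
    have hS' : S.1 ≤ H := hmem.mp hS
    simp only [dif_pos hR', dif_pos hS']
    obtain ⟨h1, h2⟩ := hΦ₀ ⟨R, hR'⟩ ⟨S, hS'⟩
    constructor
    · intro hd
      exact J_eq_of_sup_eq ((h1 hd).trans hH.symm)
    · intro i hi
      obtain ⟨-, h3⟩ := h2 i hi
      ext T
      rw [mem_J, Finset.mem_filter, hmem]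
      constructor
      · intro hT
        have hT' : T.1 ≤ H := hT.trans (sup_le hR' hS')
        refine ⟨hT', ?_⟩
        rw [dif_pos hT']
        exact (h3 ⟨T, hT'⟩).mp hT
      · rintro ⟨hT', hi'⟩
        rw [dif_pos hT'] at hi'
        exact (h3 ⟨T, hT'⟩).mpr hi'

end Cfsg.H5.Zass
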