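import Mathlib
import Cfsg.Agent.H5.ZassSub

/-!
# Zassenhaus: elements of order 5 (helper5, for S0690)
-/

set_option autoImplicit false
set_option linter.unusedSectionVars false

namespace Cfsg.H5.Zass

open Module

variable {Ω : Type*} [Field Ω] {Y : Type*} [Group Y] {V : Type*} [AddCommGroup V] [Module Ω V]
variable {ρ : Y →* End Ω V}

/-- `τ_g = ρ g + ρ g⁻¹` -/
def tau (ρ : Y →* End Ω V) (g : Y) : End Ω V := ρ g + ρ g⁻¹

/-- `τ_g` is a scalar -/
def Scal (ρ : Y →* End Ω V) (g : Y) : Prop := ∃ s : Ω, tau ρ g = s • (1 : End Ω V)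

theorem tau_conj (k g : Y) : tau ρ (k * g * k⁻¹) = ρ k * tau ρ g * ρ k⁻¹ := by
  unfold tau
  have : (k * g * k⁻¹)⁻¹ = k * g⁻¹ * k⁻¹ := by group
  rw [this, map_mul, map_mul, map_mul, map_mul]
  noncomm_ring

theorem Scal.conj {g : Y} (hs : Scal ρ g) (k : Y) : Scal ρ (k * g * k⁻¹) := by
  obtain ⟨s, hs⟩ := hs
  refine ⟨s, ?_⟩
  rw [tau_conj, hs, mul_smul_comm, mul_one, smul_mul_assoc, rho_mul_inv]

theorem tau_inv (g : Y) : tau ρ g⁻¹ = tau ρ g := by
  unfold tau; rw [inv_inv, add_comm]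

theorem tau_sq (g : Y) : tau ρ (g ^ 2) = tau ρ g * tau ρ g - (1 + 1) := by
  unfold tau
  have h1 : (g ^ 2)⁻¹ = g⁻¹ * g⁻¹ := by group
  rw [h1, pow_two, map_mul, map_mul]
  have h2 := rho_mul_inv (ρ := ρ) g
  have h3 := rho_inv_mul (ρ := ρ) g
  have : (ρ g + ρ g⁻¹) * (ρ g + ρ g⁻¹) - (1 + 1) =
      ρ g * ρ g + ρ g⁻¹ * ρ g⁻¹ + (ρ g * ρ g⁻¹ - 1) + (ρ g⁻¹ * ρ g - 1) := by noncomm_ring
  rw [this, h2, h3]; abel

/-- the golden relation for elements of order 5 -/
theorem tau_five (h : Fpf ρ) {g : Y} (hg : orderOf g = 5) :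
    tau ρ g * tau ρ g + tau ρ g - 1 = 0 := by
  have hg1 : g ≠ 1 := by
    intro h1; rw [h1, orderOf_one] at hg; omega
  have h5 : g ^ 5 = 1 := by rw [← hg]; exact pow_orderOf_eq_one g
  have hs := h.geom_sum_eq_zero hg1 h5
  rw [Finset.sum_range_succ, Finset.sum_range_succ, Finset.sum_range_succ, Finset.sum_range_succ,
    Finset.sum_range_one] at hs
  set w := ρ g with hw
  have hw5 : w ^ 5 = 1 := by rw [hw, ← map_pow, h5, map_one]
  have hinv : ρ g⁻¹ = w ^ 4 := by
    apply rho_inv_eq_of_mul_eq_one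
    rw [← hw, ← pow_succ', hw5]
  unfold tau
  rw [hinv, ← hw]
  have : (w + w ^ 4) * (w + w ^ 4) + (w + w ^ 4) - 1 =
      (w ^ 0 + w ^ 1 + w ^ 2 + w ^ 3 + w ^ 4) + (w ^ 5 - 1) * (1 + 1 + w ^ 3) := by
    noncomm_ring
  rw [this, hs, hw5]; simp

theorem Scal.pow_two (_h : Fpf ρ) {g : Y} (hs : Scal ρ g) : Scal ρ (g ^ 2) := by
  obtain ⟨s, hs⟩ := hs
  refine ⟨s * s - 2, ?_⟩
  rw [tau_sq, hs]
  simp only [mul_smul_comm, mul_one]
  module

theorem Scal.inv {g : Y} (hs : Scal ρ g) : Scal ρ g⁻¹ := by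
  obtain ⟨s, hs⟩ := hs
  exact ⟨s, by rw [tau_inv, hs]⟩

/-- all nontrivial powers of a scalar element of order 5 are scalar -/
theorem Scal.of_mem_zpowers (h : Fpf ρ) {g g' : Y} (hg : orderOf g = 5) (hs : Scal ρ g)
    (hg' : g' ∈ Subgroup.zpowers g) : Scal ρ g' := by
  rw [Subgroup.mem_zpowers_iff] at hg'
  obtain ⟨k, rfl⟩ := hg'
  have h5 : g ^ (5 : ℤ) = 1 := by
    have := pow_orderOf_eq_one g
    rw [hg] at this
    exact_mod_cast this
  have hk : g ^ k = g ^ (k % 5) := by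
    conv_lhs => rw [← Int.mul_ediv_add_emod k 5]
    rw [zpow_add, zpow_mul, h5, one_zpow, one_mul]
  rw [hk]
  have h0 : 0 ≤ k % 5 := Int.emod_nonneg _ (by norm_num)
  have h1 : k % 5 < 5 := Int.emod_lt_of_pos _ (by norm_num)
  have : k % 5 = 0 ∨ k % 5 = 1 ∨ k % 5 = 2 ∨ k % 5 = 3 ∨ k % 5 = 4 := by omega
  rcases this with e | e | e | e | e
  · rw [e, zpow_zero]
    refine ⟨2, ?_⟩
    unfold tau
    rw [inv_one, map_one, two_smul]
  · rw [e, zpow_one]; exact hs
  · rw [e]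
    have : g ^ (2 : ℤ) = g ^ 2 := by norm_cast
    rw [this]; exact hs.pow_two h
  · rw [e]
    have : g ^ (3 : ℤ) = (g ^ 2)⁻¹ := by
      apply eq_inv_of_mul_eq_one_left
      have : g ^ (3 : ℤ) * g ^ 2 = g ^ (5 : ℤ) := by
        rw [show (5 : ℤ) = 3 + 2 by norm_num, zpow_add]; norm_cast
      rw [this, h5]
    rw [this]; exact (hs.pow_two h).inv
  · rw [e]
    have : g ^ (4 : ℤ) = g⁻¹ := by
      apply eq_inv_of_mul_eq_one_left
      have : g ^ (4 : ℤ) * g = g ^ (5 : ℤ) := by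
        rw [show (5 : ℤ) = 4 + 1 by norm_num, zpow_add, zpow_one]
      rw [this, h5]
    rw [this]; exact hs.inv

end Cfsg.H5.Zass

namespace Cfsg.H5.Zass

open Module

variable {Ω : Type*} [Field Ω] {Y : Type*} [Group Y] {V : Type*} [AddCommGroup V] [Module Ω V]
variable {ρ : Y →* End Ω V}

theorem rho_pow_eigen {x : Y} {w : V} {l : Ω} (hw : ρ x w = l • w) (n : ℕ) :
    ρ (x ^ n) w = l ^ n • w := by
  induction n with
  | zero => simp
  | succ n ih => rw [pow_succ, rho_mul_apply, hw, map_smul, ih, smul_smul, pow_succ, mul_comm]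

/-- two commuting elements of prime order `p` generate the same subgroup -/
theorem zpowers_eq_of_commute [IsAlgClosed Ω] [FiniteDimensional Ω V] [Nontrivial V] (h : Fpf ρ)
    {p : ℕ} [hp : Fact p.Prime] {x c : Y} (hx : orderOf x = p) (hc : orderOf c = p)
    (hxc : x * c = c * x) : Subgroup.zpowers x = Subgroup.zpowers c := by
  have hcomm : ρ x * ρ c = ρ c * ρ x := by rw [← map_mul, ← map_mul, hxc]
  obtain ⟨w, l, m, hw0, hwx, hwc⟩ := exists_common_eigenvector (ρ x) (ρ c) hcomm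
  have hx1 : x ≠ 1 := by
    intro h1; rw [h1, orderOf_one] at hx; exact hp.out.one_lt.ne hx
  have hlp : l ^ p = 1 := by
    have := rho_pow_eigen hwx p
    rw [← hx, pow_orderOf_eq_one, map_one, End.one_apply, hx] at this
    by_contra hne
    have h2 : (l ^ p - 1) • w = 0 := by rw [sub_smul, one_smul, ← this, sub_self]
    rcases smul_eq_zero.mp h2 with h3 | h3
    · exact hne (sub_eq_zero.mp h3)
    · exact hw0 h3
  have hmp : m ^ p = 1 := by
    have := rho_pow_eigen hwc p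
    rw [← hc, pow_orderOf_eq_one, map_one, End.one_apply, hc] at this
    by_contra hne
    have h2 : (m ^ p - 1) • w = 0 := by rw [sub_smul, one_smul, ← this, sub_self]
    rcases smul_eq_zero.mp h2 with h3 | h3
    · exact hne (sub_eq_zero.mp h3)
    · exact hw0 h3
  have hl1 : l ≠ 1 := by
    intro h1
    apply hw0
    apply h x hx1 w
    rw [hwx, h1, one_smul]
  have hlo : orderOf l = p := orderOf_eq_prime hlp hl1
  have hprim : IsPrimitiveRoot l p := hlo ▸ IsPrimitiveRoot.orderOf l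
  obtain ⟨i, -, hi⟩ := hprim.eq_pow_of_pow_eq_one hmp
  have hci : c = x ^ i := by
    by_contra hne
    have hne' : c⁻¹ * x ^ i ≠ 1 := by
      intro h1
      apply hne
      have := eq_of_inv_mul_eq_one h1
      exact this
    apply hw0
    apply h _ hne' w
    rw [rho_mul_apply, rho_pow_eigen hwx, hi, ← hwc, rho_inv_apply]
  have hle : Subgroup.zpowers c ≤ Subgroup.zpowers x := by
    rw [Subgroup.zpowers_le, hci]
    exact Subgroup.pow_mem _ (Subgroup.mem_zpowers x) i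
  have : Finite (Subgroup.zpowers x) := by
    apply Nat.finite_of_card_ne_zero
    rw [Nat.card_zpowers, hx]; exact hp.out.ne_zero
  symm
  apply Subgroup.eq_of_le_of_card_ge hle
  rw [Nat.card_zpowers, Nat.card_zpowers, hx, hc]

/-- a `p`-subgroup of a fixed-point-free linear group has a unique subgroup of order `p` -/
theorem zpowers_eq_of_pgroup [IsAlgClosed Ω] [FiniteDimensional Ω V] [Nontrivial V] [Finite Y]
    (h : Fpf ρ) {p : ℕ} [hp : Fact p.Prime] (P : Subgroup Y) (hP : IsPGroup p P) {x y : Y}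
    (hx : x ∈ P) (hy : y ∈ P) (hxo : orderOf x = p) (hyo : orderOf y = p) :
    Subgroup.zpowers x = Subgroup.zpowers y := by
  have hx1 : x ≠ 1 := by
    intro h1; rw [h1, orderOf_one] at hxo; exact hp.out.one_lt.ne hxo
  have hnt : Nontrivial ↥P := ⟨⟨⟨x, hx⟩, 1, fun h1 => hx1 (congrArg Subtype.val h1)⟩⟩
  have hcn : Nontrivial ↥(Subgroup.center ↥P) := hP.center_nontrivial
  have hZ : IsPGroup p ↥(Subgroup.center ↥P) := hP.to_subgroup _
  obtain ⟨n, hn⟩ := IsPGroup.iff_card.mp hZ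
  have hn0 : n ≠ 0 := by
    intro h0
    rw [h0, pow_zero] at hn
    have := (Nat.card_eq_one_iff_unique.mp hn).1
    exact not_subsingleton _ this
  have hdvd : p ∣ Nat.card ↥(Subgroup.center ↥P) := by
    rw [hn]; exact dvd_pow_self p hn0
  obtain ⟨c', hc'⟩ := exists_prime_orderOf_dvd_card' (G := ↥(Subgroup.center ↥P)) p hdvd
  set c : Y := ((c' : ↥P) : Y) with hc
  have hco : orderOf c = p := by
    rw [hc, Subgroup.orderOf_coe, Subgroup.orderOf_coe]; exact hc'
  have hcomm : ∀ g : Y, g ∈ P → g * c = c * g := by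
    intro g hg
    have h1 := Subgroup.mem_center_iff.mp c'.2 ⟨g, hg⟩
    have := congrArg (fun z : ↥P => (z : Y)) h1
    simpa using this
  rw [zpowers_eq_of_commute h hxo hco (hcomm x hx), zpowers_eq_of_commute h hyo hco (hcomm y hy)]

/-- scalar-ness of `τ` does not depend on the element of order 5 -/
theorem Scal.of_order_five [IsAlgClosed Ω] [FiniteDimensional Ω V] [Nontrivial V] [Finite Y]
    (h : Fpf ρ) {g g' : Y} (hg : orderOf g = 5) (hg' : orderOf g' = 5) (hs : Scal ρ g) :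
    Scal ρ g' := by
  have : Fact (Nat.Prime 5) := ⟨by norm_num⟩
  have hpg : IsPGroup 5 (Subgroup.zpowers g) :=
    IsPGroup.of_card (n := 1) (by rw [Nat.card_zpowers, hg, pow_one])
  have hpg' : IsPGroup 5 (Subgroup.zpowers g') :=
    IsPGroup.of_card (n := 1) (by rw [Nat.card_zpowers, hg', pow_one])
  obtain ⟨P, hP⟩ := hpg.exists_le_sylow
  obtain ⟨P', hP'⟩ := hpg'.exists_le_sylow
  obtain ⟨k, hk⟩ := MulAction.exists_smul_eq Y P P'
  have hgP : g ∈ (P : Subgroup Y) := hP (Subgroup.mem_zpowers g)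
  have hg'P : g' ∈ (P' : Subgroup Y) := hP' (Subgroup.mem_zpowers g')
  have hx : k * g * k⁻¹ ∈ (P' : Subgroup Y) := by
    rw [← hk, Sylow.coe_subgroup_smul]
    have := Subgroup.smul_mem_pointwise_smul g (MulAut.conj k) (P : Subgroup Y) hgP
    simpa [MulAut.smul_def] using this
  have hxo : orderOf (k * g * k⁻¹) = 5 := by
    rw [← hg]
    exact orderOf_injective (MulAut.conj k).toMonoidHom (MulAut.conj k).injective g
  have he := zpowers_eq_of_pgroup h (P' : Subgroup Y) P'.2 hx hg'P hxo hg'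
  apply (hs.conj k).of_mem_zpowers h hxo
  rw [he]; exact Subgroup.mem_zpowers g'

end Cfsg.H5.Zass
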