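import Mathlib
import Cfsg.Agent.H5.ZassAxioms
import Cfsg.Agent.H5.ZassFive

/-!
# Zassenhaus: the non-scalar case (helper5, for S0690)
-/

set_option autoImplicit false
set_option linter.unusedSectionVars false

open Classical

namespace Cfsg.H5.Zass

open Module

variable {q : ℕ} [Fact q.Prime] {Ω : Type*} [Field Ω] [Algebra (ZMod q) Ω]
  [Algebra.IsAlgebraic (ZMod q) Ω] [IsAlgClosed Ω]
variable {Y : Type*} [Group Y] [Finite Y] {V : Type*} [AddCommGroup V] [Module Ω V]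
  [FiniteDimensional Ω V] [Nontrivial V] {ρ : Y →* End Ω V}

theorem orderOf_mul_self_three {a : Y} (ha : orderOf a = 3) : orderOf (a * a) = 3 := by
  rw [← pow_two, orderOf_pow' a (by norm_num : (2 : ℕ) ≠ 0), ha]; rfl

/-- two elements of order 3 in the same point form a scalar pair -/
theorem scalarPair_of_mem_zpowers (h : Fpf ρ) {a y : Y} (ha : orderOf a = 3) (hy : orderOf y = 3)
    (hya : y ∈ Subgroup.zpowers a) : ScalarPair ρ a y := by
  have ht := tOp_eq h ha hy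
  have ho := tOp_of_order (ρ := ρ) h (x := a) (y := y)
  rcases mem_zpowers_three ha hya with h1 | h1 | h1
  · rw [h1, orderOf_one] at hy; omega
  · refine ⟨-2, ?_⟩
    have := ho.2.2.1 (by rw [h1]; exact orderOf_mul_self_three ha)
    rw [ht] at this
    rw [eq_sub_of_add_eq this]
    module
  · refine ⟨1, ?_⟩
    have := ho.1 (by rw [h1]; exact mul_inv_cancel a)
    rw [ht] at this
    rw [one_smul]
    exact add_right_cancel this

theorem zpowers_eq_of_mkPt_eq {a y : Y} (ha : orderOf a = 3) (hy : orderOf y = 3)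
    (he : mkPt a ha = mkPt y hy) : y ∈ Subgroup.zpowers a := by
  have := congrArg Subtype.val he
  rw [mkPt_val, mkPt_val] at this
  rw [this]; exact Subgroup.mem_zpowers y

/-- a non-scalar pair spans a block -/
theorem blockData_of_not_scalarPair (h : Fpf ρ) (hq : ¬ q ∣ Nat.card Y) {a y : Y}
    (ha : orderOf a = 3) (hy : orderOf y = 3) (hns : ¬ ScalarPair ρ a y) :
    mkPt a ha ≠ mkPt y hy ∧ BlockData (Subgroup.zpowers a ⊔ Subgroup.zpowers y) := by
  have hne : mkPt a ha ≠ mkPt y hy := by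
    intro he
    exact hns (scalarPair_of_mem_zpowers h ha hy (zpowers_eq_of_mkPt_eq ha hy he))
  refine ⟨hne, ?_⟩
  rcases join_cases (q := q) h hq hne with hL | hB
  · exfalso
    apply hns
    exact hL.scalarPair h ha hy (Subgroup.mem_sup_left (Subgroup.mem_zpowers a))
      (Subgroup.mem_sup_right (Subgroup.mem_zpowers y))
  · exact hB

/-- the element of order 5 attached to a block pair -/
theorem exists_five_of_block (h : Fpf ρ) {a y : Y} (ha : orderOf a = 3) (hy : orderOf y = 3)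
    (hB : BlockData (Subgroup.zpowers a ⊔ Subgroup.zpowers y)) :
    ∃ g : Y, orderOf g = 5 ∧ (ScalarPair ρ a y ↔ Scal ρ g) := by
  have ht := tOp_eq h ha hy
  have hsp : ScalarPair ρ a y ↔ ∃ s : Ω, tOp ρ a y = s • (1 : End Ω V) := by
    constructor
    · rintro ⟨s, hs⟩
      exact ⟨s + 1, by rw [ht, hs, add_smul, one_smul]⟩
    · rintro ⟨s, hs⟩
      refine ⟨s - 1, ?_⟩
      rw [ht] at hs
      rw [eq_sub_of_add_eq hs, sub_smul, one_smul]
  rcases hB.orderOf_mul h ha hy rfl with h5 | h10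
  · refine ⟨a * y, h5, ?_⟩
    rw [hsp]; rfl
  · set u := a * y with hu
    have h6 : orderOf (u ^ 6) = 5 := by
      rw [orderOf_pow' u (by norm_num : (6 : ℕ) ≠ 0), h10]; rfl
    have h2 : orderOf (u ^ 5) = 2 := by
      rw [orderOf_pow' u (by norm_num : (5 : ℕ) ≠ 0), h10]; rfl
    have e5 : ρ (u ^ 5) = -1 := h.of_order_two h2
    have e5' : ρ (u ^ 5)⁻¹ = -1 := by
      apply rho_inv_eq_of_mul_eq_one
      rw [e5]; simp
    have e6 : ρ (u ^ 6) = -ρ u := by
      rw [pow_succ, map_mul, e5]; simp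
    have e6' : ρ (u ^ 6)⁻¹ = -ρ u⁻¹ := by
      have : (u ^ 6)⁻¹ = u⁻¹ * (u ^ 5)⁻¹ := by rw [pow_succ, mul_inv_rev]
      rw [this, map_mul, e5']; simp
    have htau : tau ρ (u ^ 6) = -tOp ρ a y := by
      unfold tau tOp
      rw [e6, e6', ← hu]; abel
    refine ⟨u ^ 6, h6, ?_⟩
    rw [hsp]
    unfold Scal
    rw [htau]
    constructor
    · rintro ⟨s, hs⟩
      exact ⟨-s, by rw [hs, neg_smul]⟩
    · rintro ⟨s, hs⟩
      exact ⟨-s, by rw [neg_smul, ← hs, neg_neg]⟩

/-- if one pair is non-scalar then every block pair is non-scalar -/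
theorem not_scalarPair_of_block (h : Fpf ρ) (hq : ¬ q ∣ Nat.card Y) {a₀ y₀ : Y}
    (ha₀ : orderOf a₀ = 3) (hy₀ : orderOf y₀ = 3) (hns : ¬ ScalarPair ρ a₀ y₀) {a y : Y}
    (ha : orderOf a = 3) (hy : orderOf y = 3)
    (hB : BlockData (Subgroup.zpowers a ⊔ Subgroup.zpowers y)) : ¬ ScalarPair ρ a y := by
  obtain ⟨-, hB₀⟩ := blockData_of_not_scalarPair (q := q) h hq ha₀ hy₀ hns
  obtain ⟨g₀, hg₀, he₀⟩ := exists_five_of_block h ha₀ hy₀ hB₀
  obtain ⟨g, hg, he⟩ := exists_five_of_block h ha hy hB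
  intro hs
  exact hns (he₀.mpr ((he.mp hs).of_order_five h hg hg₀))

/-- the subgroup of elements commuting with an operator -/
def commutant (ρ : Y →* End Ω V) (T : End Ω V) : Subgroup Y where
  carrier := {g | ρ g * T = T * ρ g}
  mul_mem' := by
    intro a b ha hb
    simp only [Set.mem_setOf_eq] at ha hb ⊢
    rw [map_mul, mul_assoc, hb, ← mul_assoc, ha, mul_assoc]
  one_mem' := by simp
  inv_mem' := by
    intro a ha
    simp only [Set.mem_setOf_eq] at ha ⊢
    have h1 : ρ a⁻¹ * T = ρ a⁻¹ * (T * ρ a) * ρ a⁻¹ := by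
      rw [mul_assoc, mul_assoc, rho_mul_inv, mul_one]
    rw [h1, ← ha, ← mul_assoc, rho_inv_mul, one_mul]

theorem mem_commutant {T : End Ω V} {g : Y} : g ∈ commutant ρ T ↔ ρ g * T = T * ρ g := Iff.rfl

theorem Pt.gen_mem {P : Pt Y} {a : Y} (hPa : P.1 = Subgroup.zpowers a) : a ∈ P.1 := by
  rw [hPa]; exact Subgroup.mem_zpowers a

theorem Pt.ne_of_gen {P Q : Pt Y} {a b : Y} (hPa : P.1 = Subgroup.zpowers a)
    (hQb : Q.1 = Subgroup.zpowers b) (hPQ : P ≠ Q) : b ≠ a ∧ b ≠ a⁻¹ := by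
  constructor
  · intro he
    apply hPQ
    apply Subtype.ext
    rw [hPa, hQb, he]
  · intro he
    apply hPQ
    apply Subtype.ext
    rw [hPa, hQb, he, Subgroup.zpowers_inv]

theorem even_card_of_lineData {H : Subgroup Y} (hL : LineData H) : 2 ∣ Nat.card Y := by
  have h1 := Subgroup.card_subgroup_dvd_card H
  rw [hL.1] at h1
  exact Dvd.dvd.trans (by norm_num) h1

/-- **(G2)** three pairwise collinear points not on a line lie in a block -/
theorem hJ5 (h : Fpf ρ) (hq : ¬ q ∣ Nat.card Y) (P Q R : Pt Y) (hPQ : P ≠ Q) (hPR : P ≠ R)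
    (hQR : Q ≠ R) (h1 : (J P Q).card = 4) (h2 : (J P R).card = 4) (h3 : (J Q R).card = 4)
    (hR : R ∉ J P Q) :
    ∃ U W : Pt Y, U ≠ W ∧ (J U W).card = 10 ∧ P ∈ J U W ∧ Q ∈ J U W ∧ R ∈ J U W := by
  obtain ⟨a, ha, hPa⟩ := P.exists_gen
  obtain ⟨b, hb, hQb⟩ := Q.exists_gen
  obtain ⟨c, hc, hRc⟩ := R.exists_gen
  have hL12 := lineData_of_card (q := q) h hq hPQ h1
  have hL13 := lineData_of_card (q := q) h hq hPR h2
  have hL23 := lineData_of_card (q := q) h hq hQR h3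
  have hab := hL12.scalarPair h ha hb (Subgroup.mem_sup_left (Pt.gen_mem hPa))
    (Subgroup.mem_sup_right (Pt.gen_mem hQb))
  have hac := hL13.scalarPair h ha hc (Subgroup.mem_sup_left (Pt.gen_mem hPa))
    (Subgroup.mem_sup_right (Pt.gen_mem hRc))
  have hbc := hL23.scalarPair h hb hc (Subgroup.mem_sup_left (Pt.gen_mem hQb))
    (Subgroup.mem_sup_right (Pt.gen_mem hRc))
  obtain ⟨hne, hne'⟩ := Pt.ne_of_gen hPa hQb hPQ
  have h2Ω : (2 : Ω) ≠ 0 := two_ne_zero_of_even (q := q) hq (even_card_of_lineData hL12)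
  have hcon := concl_triple (q := q) h hq h2Ω ha hb hc hab hac hbc hne hne'
  have e : Subgroup.closure ({a, b, c} : Set Y) = P.1 ⊔ Q.1 ⊔ R.1 := by
    rw [closure_triple_eq, ← hPa, ← hQb, ← hRc]
  rw [e] at hcon
  have hle : P.1 ⊔ Q.1 ≤ P.1 ⊔ Q.1 ⊔ R.1 := le_sup_left
  have hcard : 24 ≤ Nat.card ↥(P.1 ⊔ Q.1 ⊔ R.1) := by
    rw [← hL12.1]; exact Subgroup.card_le_of_le hle
  rcases hcon with h0 | h0 | ⟨h0, -⟩ | hB
  · omega
  · omega
  · exfalso
    apply hR
    rw [mem_J]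
    have : P.1 ⊔ Q.1 = P.1 ⊔ Q.1 ⊔ R.1 :=
      Subgroup.eq_of_le_of_card_ge hle (by rw [h0, hL12.1])
    rw [this]; exact le_sup_right
  · obtain ⟨H, hH⟩ : ∃ H : Subgroup Y, P.1 ⊔ Q.1 ⊔ R.1 = H := ⟨_, rfl⟩
    rw [hH] at hB
    have hB' : BlockData H := hB
    obtain ⟨Φ, hΦ⟩ := hB'.model h
    let s : {s : Finset (Fin 5) // s.card = 2} := ⟨{0, 1}, by decide⟩
    let t : {s : Finset (Fin 5) // s.card = 2} := ⟨{2, 3}, by decide⟩
    have hst : Disjoint s.1 t.1 := by decide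
    have hd := (hΦ (Φ.symm s) (Φ.symm t)).1 (by rw [Φ.apply_symm_apply, Φ.apply_symm_apply]; exact hst)
    have hne2 : (Φ.symm s).1 ≠ (Φ.symm t).1 := by
      intro he
      have : Φ.symm s = Φ.symm t := Subtype.ext he
      have := Φ.symm.injective this
      have := congrArg Subtype.val this
      revert this; decide
    have hBUW : BlockData ((Φ.symm s).1.1 ⊔ (Φ.symm t).1.1) := by rw [hd]; exact hB'
    refine ⟨(Φ.symm s).1, (Φ.symm t).1, hne2, J_card_block h hBUW, ?_, ?_, ?_⟩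
    · rw [mem_J, hd, ← hH]; exact le_sup_of_le_left le_sup_left
    · rw [mem_J, hd, ← hH]; exact le_sup_of_le_left le_sup_right
    · rw [mem_J, hd, ← hH]; exact le_sup_right

end Cfsg.H5.Zass
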