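import Mathlib
import Cfsg.Agent.H5.ZassCaseB

/-!
# Zassenhaus: the non-scalar case, conclusion (helper5, for S0690)
-/

set_option autoImplicit false
set_option linter.unusedSectionVars false

open Classical

namespace Cfsg.H5.Zass

open Module

variable {q : ℕ} [Fact q.Prime] {Ω : Type*} [Field Ω] [Algebra (ZMod q) Ω]
  [Algebra.IsAlgebraic (ZMod q) Ω] [IsAlgClosed Ω]
variable {Y : Type*} [Group Y] [Finite Y] {V : Type*} [AddCommGroup V] [Module Ω V]
  [FiniteDimensional Ω V] [Nontrivial V] {ρ : Y →* End Ω V}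

/-- **(G3)** a point collinear-or-equal with both generators of a block lies in the block -/
theorem hJ4 (h : Fpf ρ) (hq : ¬ q ∣ Nat.card Y) (hirr : Irr ρ)
    (hIH : ∀ M : Subgroup Y, M ≠ ⊤ →
      (∃ S : Set Y, (∀ g ∈ S, orderOf g = 3) ∧ M = Subgroup.closure S) →
      Nat.card M = 1 ∨ Nat.card M = 3 ∨ Nat.card M = 24 ∨ Nat.card M = 120)
    {a₀ y₀ : Y} (ha₀ : orderOf a₀ = 3) (hy₀ : orderOf y₀ = 3) (hns : ¬ ScalarPair ρ a₀ y₀)
    (P Q : Pt Y) (hPQ : P ≠ Q) (hc : (J P Q).card = 10) (R : Pt Y)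
    (h1 : R = P ∨ (R ≠ P ∧ (J R P).card = 4)) (h2 : R = Q ∨ (R ≠ Q ∧ (J R Q).card = 4)) :
    R ∈ J P Q := by
  obtain ⟨a, ha, hPa⟩ := P.exists_gen
  obtain ⟨y, hy, hQy⟩ := Q.exists_gen
  obtain ⟨c, hc3, hRc⟩ := R.exists_gen
  have hB := blockData_of_card (q := q) h hq hPQ hc
  have hB' : BlockData (Subgroup.zpowers a ⊔ Subgroup.zpowers y) := by
    rw [← hPa, ← hQy]; exact hB
  have hnay := not_scalarPair_of_block (q := q) h hq ha₀ hy₀ hns ha hy hB'
  have hca : ScalarPair ρ c a := by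
    rcases h1 with h1 | ⟨hne, h4⟩
    · have : c ∈ Subgroup.zpowers a := by
        rw [← hPa, ← h1, hRc]; exact Subgroup.mem_zpowers c
      exact (scalarPair_of_mem_zpowers h ha hc3 this).symm
    · have hL := lineData_of_card (q := q) h hq hne h4
      exact hL.scalarPair h hc3 ha (Subgroup.mem_sup_left (Pt.gen_mem hRc))
        (Subgroup.mem_sup_right (Pt.gen_mem hPa))
  have hcy : ScalarPair ρ c y := by
    rcases h2 with h2 | ⟨hne, h4⟩
    · have : c ∈ Subgroup.zpowers y := by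
        rw [← hQy, ← h2, hRc]; exact Subgroup.mem_zpowers c
      exact (scalarPair_of_mem_zpowers h hy hc3 this).symm
    · have hL := lineData_of_card (q := q) h hq hne h4
      exact hL.scalarPair h hc3 hy (Subgroup.mem_sup_left (Pt.gen_mem hRc))
        (Subgroup.mem_sup_right (Pt.gen_mem hQy))
  have hcT := commute_mOp_of_scalarPair hca hcy
  obtain ⟨T, hT⟩ : ∃ T : End Ω V, T = mOp ρ a y := ⟨_, rfl⟩
  rw [← hT] at hcT
  obtain ⟨S, hS⟩ : ∃ S : Set Y, S = {x | orderOf x = 3 ∧ x ∈ commutant ρ T} := ⟨_, rfl⟩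
  obtain ⟨M, hM⟩ : ∃ M : Subgroup Y, M = Subgroup.closure S := ⟨_, rfl⟩
  have hMle : M ≤ commutant ρ T := by
    rw [hM, Subgroup.closure_le]
    intro x hx
    rw [hS] at hx
    exact hx.2
  have hMne : M ≠ ⊤ := by
    intro htop
    apply hnay
    have hall : ∀ g : Y, ρ g * T = T * ρ g := fun g => hMle (htop ▸ Subgroup.mem_top g)
    obtain ⟨s, hs⟩ := hirr.scalar_of_commute hall
    exact ⟨s, by rw [← hT, hs]⟩
  have haM : a ∈ M := by
    rw [hM]; apply Subgroup.subset_closure; rw [hS]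
    exact ⟨ha, by rw [mem_commutant, hT]; exact mOp_comm_left h ha⟩
  have hyM : y ∈ M := by
    rw [hM]; apply Subgroup.subset_closure; rw [hS]
    exact ⟨hy, by rw [mem_commutant, hT]; exact mOp_comm_right h hy⟩
  have hcM : c ∈ M := by
    rw [hM]; apply Subgroup.subset_closure; rw [hS]
    exact ⟨hc3, hcT⟩
  have hcard := hIH M hMne ⟨S, fun g hg => by rw [hS] at hg; exact hg.1, hM⟩
  have hle : P.1 ⊔ Q.1 ≤ M :=
    sup_le (by rw [hPa, Subgroup.zpowers_le]; exact haM)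
      (by rw [hQy, Subgroup.zpowers_le]; exact hyM)
  have h120 : Nat.card ↥(P.1 ⊔ Q.1) = 120 := hB.1
  have h120le : 120 ≤ Nat.card M := h120 ▸ Subgroup.card_le_of_le hle
  have hM120 : Nat.card M = 120 := by omega
  have heq : P.1 ⊔ Q.1 = M := Subgroup.eq_of_le_of_card_ge hle (by rw [hM120, h120])
  rw [mem_J, heq, hRc, Subgroup.zpowers_le]
  exact hcM

theorem hJ6 (h : Fpf ρ) (hq : ¬ q ∣ Nat.card Y) {a₀ y₀ : Y} (ha₀ : orderOf a₀ = 3)
    (hy₀ : orderOf y₀ = 3) (hns : ¬ ScalarPair ρ a₀ y₀) :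
    ∃ P Q : Pt Y, P ≠ Q ∧ (J P Q).card = 10 := by
  obtain ⟨hne, hB⟩ := blockData_of_not_scalarPair (q := q) h hq ha₀ hy₀ hns
  exact ⟨mkPt a₀ ha₀, mkPt y₀ hy₀, hne, J_card_block h hB⟩

/-- `Concl` for the whole group from block data on `⊤` -/
theorem concl_of_blockData_top (hB : BlockData (⊤ : Subgroup Y)) : Concl Y :=
  Concl.of_mulEquiv Subgroup.topEquiv (Or.inr (Or.inr (Or.inr hB)))

/-- **Case B**: some pair of elements of order 3 is not scalar -/
theorem caseB (h : Fpf ρ) (hq : ¬ q ∣ Nat.card Y) (hirr : Irr ρ)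
    (hgen : Subgroup.closure {x : Y | orderOf x = 3} = ⊤)
    (hIH : ∀ M : Subgroup Y, M ≠ ⊤ →
      (∃ S : Set Y, (∀ g ∈ S, orderOf g = 3) ∧ M = Subgroup.closure S) →
      Nat.card M = 1 ∨ Nat.card M = 3 ∨ Nat.card M = 24 ∨ Nat.card M = 120)
    {a₀ y₀ : Y} (ha₀ : orderOf a₀ = 3) (hy₀ : orderOf y₀ = 3) (hns : ¬ ScalarPair ρ a₀ y₀) :
    Concl Y := by
  have h10 : Fintype.card (Pt Y) = 10 :=
    card_eq_ten (J (Y := Y)) hJ0 hJsymm (hJ1 (q := q) h hq) (hJ2 (q := q) h hq)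
      (hJ3 (q := q) h hq) (hJ4 (q := q) h hq hirr hIH ha₀ hy₀ hns) (hJ5 (q := q) h hq)
      (hJ6 (q := q) h hq ha₀ hy₀ hns)
  obtain ⟨hne, hB⟩ := blockData_of_not_scalarPair (q := q) h hq ha₀ hy₀ hns
  have hJc : (J (mkPt a₀ ha₀) (mkPt y₀ hy₀)).card = 10 := J_card_block h hB
  have huniv : J (mkPt a₀ ha₀) (mkPt y₀ hy₀) = Finset.univ :=
    Finset.eq_univ_of_card _ (by rw [hJc, h10])
  have htop : Subgroup.zpowers a₀ ⊔ Subgroup.zpowers y₀ = ⊤ := by
    rw [eq_top_iff, ← hgen, Subgroup.closure_le]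
    intro x hx
    have hx3 : orderOf x = 3 := hx
    have hmem : mkPt x hx3 ∈ J (mkPt a₀ ha₀) (mkPt y₀ hy₀) := by rw [huniv]; exact Finset.mem_univ _
    rw [mem_J] at hmem
    exact hmem (Subgroup.mem_zpowers x)
  rw [htop] at hB
  exact concl_of_blockData_top hB

end Cfsg.H5.Zass
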