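import Mathlib
import Cfsg.Agent.H5.ZassCaseB2

/-!
# Zassenhaus: the scalar case (helper5, for S0690)
-/

set_option autoImplicit false
set_option linter.unusedSectionVars false

open Classical

namespace Cfsg.H5.Zass

open Module

variable {q : ℕ} [Fact q.Prime] {Ω : Type*} [Field Ω] [Algebra (ZMod q) Ω]
  [Algebra.IsAlgebraic (ZMod q) Ω] [IsAlgClosed Ω]
variable {Y : Type*} [Group Y] [Finite Y] {V : Type*} [AddCommGroup V] [Module Ω V]
  [FiniteDimensional Ω V] [Nontrivial V] {ρ : Y →* End Ω V}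

theorem LineData.exists_gens (h : Fpf ρ) {H : Subgroup Y} (hL : LineData H) :
    ∃ R S : Pt Y, R ≠ S ∧ R.1 ⊔ S.1 = H := by
  have hc := hL.card_pts h
  have : Finite {R : Pt Y // R.1 ≤ H} := Nat.finite_of_card_ne_zero (by omega)
  have hnt : Nontrivial {R : Pt Y // R.1 ≤ H} :=
    Finite.one_lt_card_iff_nontrivial.mp (by omega)
  obtain ⟨R, S, hRS⟩ := exists_pair_ne {R : Pt Y // R.1 ≤ H}
  have hne : R.1 ≠ S.1 := fun he => hRS (Subtype.ext he)
  exact ⟨R.1, S.1, hne, hL.sup_eq h R.2 S.2 hne⟩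

theorem BlockData.exists_gens (h : Fpf ρ) {H : Subgroup Y} (hB : BlockData H) :
    ∃ R S : Pt Y, R ≠ S ∧ R.1 ⊔ S.1 = H := by
  obtain ⟨Φ, hΦ⟩ := hB.model h
  let s : {s : Finset (Fin 5) // s.card = 2} := ⟨{0, 1}, by decide⟩
  let t : {s : Finset (Fin 5) // s.card = 2} := ⟨{2, 3}, by decide⟩
  have hst : Disjoint s.1 t.1 := by decide
  have hd := (hΦ (Φ.symm s) (Φ.symm t)).1
    (by rw [Φ.apply_symm_apply, Φ.apply_symm_apply]; exact hst)
  have hne2 : (Φ.symm s).1 ≠ (Φ.symm t).1 := by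
    intro he
    have : Φ.symm s = Φ.symm t := Subtype.ext he
    have := Φ.symm.injective this
    have := congrArg Subtype.val this
    revert this; decide
  exact ⟨(Φ.symm s).1, (Φ.symm t).1, hne2, hd⟩

theorem even_card_of_blockData {H : Subgroup Y} (hB : BlockData H) : 2 ∣ Nat.card Y := by
  have h1 := Subgroup.card_subgroup_dvd_card H
  rw [hB.1] at h1
  exact Dvd.dvd.trans (by norm_num) h1

/-- a subgroup generated by elements of order 3 which satisfies the conclusion -/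
def Good (H : Subgroup Y) : Prop :=
  (∃ S : Set Y, (∀ g ∈ S, orderOf g = 3) ∧ H = Subgroup.closure S) ∧ Concl ↥H

theorem good_bot : Good (⊥ : Subgroup Y) := by
  refine ⟨⟨∅, fun g hg => absurd hg (Set.notMem_empty g), by rw [Subgroup.closure_empty]⟩, ?_⟩
  exact Or.inl Subgroup.card_bot

/-- enlarging a generated subgroup `P ⊔ Q` by a further element of order 3 -/
theorem good_step_aux (h : Fpf ρ) (hq : ¬ q ∣ Nat.card Y)
    (hall : ∀ x y : Y, orderOf x = 3 → orderOf y = 3 → ScalarPair ρ x y)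
    {H : Subgroup Y} (h2 : 2 ∣ Nat.card Y) {R S : Pt Y} (hRS : R ≠ S) (hH : R.1 ⊔ S.1 = H)
    {d : Y} (hd : orderOf d = 3) : ∃ H' : Subgroup Y, Good H' ∧ H ≤ H' ∧ d ∈ H' := by
  obtain ⟨a, ha, hRa⟩ := R.exists_gen
  obtain ⟨b, hb, hSb⟩ := S.exists_gen
  obtain ⟨hne, hne'⟩ := Pt.ne_of_gen hRa hSb hRS
  have h2Ω : (2 : Ω) ≠ 0 := two_ne_zero_of_even (q := q) hq h2
  have hcon := concl_triple (q := q) h hq h2Ω ha hb hd (hall a b ha hb) (hall a d ha hd)
    (hall b d hb hd) hne hne'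
  refine ⟨Subgroup.closure ({a, b, d} : Set Y), ⟨⟨{a, b, d}, ?_, rfl⟩, hcon⟩, ?_, ?_⟩
  · intro g hg
    rcases hg with rfl | rfl | hg
    · exact ha
    · exact hb
    · rw [Set.mem_singleton_iff] at hg; subst hg; exact hd
  · rw [closure_triple_eq, ← hRa, ← hSb, hH]
    exact le_sup_left
  · apply Subgroup.subset_closure
    simp

theorem good_step (h : Fpf ρ) (hq : ¬ q ∣ Nat.card Y)
    (hall : ∀ x y : Y, orderOf x = 3 → orderOf y = 3 → ScalarPair ρ x y)
    {H : Subgroup Y} (hH : Good H) {d : Y} (hd : orderOf d = 3) :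
    ∃ H' : Subgroup Y, Good H' ∧ H ≤ H' ∧ d ∈ H' := by
  obtain ⟨-, hc⟩ := hH
  rcases hc with h1 | h3 | hL | hB
  · -- trivial subgroup
    have hbot : H = ⊥ := Subgroup.card_eq_one.mp h1
    refine ⟨Subgroup.closure ({d, d} : Set Y), ⟨⟨{d, d}, ?_, rfl⟩, concl_pair (q := q) h hq hd hd⟩,
      ?_, ?_⟩
    · intro g hg
      rcases hg with rfl | hg
      · exact hd
      · rw [Set.mem_singleton_iff] at hg; subst hg; exact hd
    · rw [hbot]; exact bot_le
    · apply Subgroup.subset_closure; simp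
  · -- a point
    obtain ⟨a, ha, hPa⟩ := Pt.exists_gen (⟨H, h3⟩ : Pt Y)
    have hPa' : H = Subgroup.zpowers a := hPa
    refine ⟨Subgroup.closure ({a, d} : Set Y), ⟨⟨{a, d}, ?_, rfl⟩, concl_pair (q := q) h hq ha hd⟩,
      ?_, ?_⟩
    · intro g hg
      rcases hg with rfl | hg
      · exact ha
      · rw [Set.mem_singleton_iff] at hg; subst hg; exact hd
    · rw [hPa', Subgroup.zpowers_le]; apply Subgroup.subset_closure; simp
    · apply Subgroup.subset_closure; simp
  · have hL' : LineData H := hL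
    obtain ⟨R, S, hRS, hsup⟩ := hL'.exists_gens h
    exact good_step_aux (q := q) h hq hall (even_card_of_lineData hL') hRS hsup hd
  · have hB' : BlockData H := hB
    obtain ⟨R, S, hRS, hsup⟩ := hB'.exists_gens h
    exact good_step_aux (q := q) h hq hall (even_card_of_blockData hB') hRS hsup hd

/-- **Case A**: all pairs of elements of order 3 are scalar -/
theorem caseA (h : Fpf ρ) (hq : ¬ q ∣ Nat.card Y)
    (hgen : Subgroup.closure {x : Y | orderOf x = 3} = ⊤)
    (hall : ∀ x y : Y, orderOf x = 3 → orderOf y = 3 → ScalarPair ρ x y) : Concl Y := by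
  have : Nonempty {H : Subgroup Y // Good H} := ⟨⟨⊥, good_bot⟩⟩
  obtain ⟨H, hmax⟩ := Finite.exists_max (fun H : {H : Subgroup Y // Good H} => Nat.card H.1)
  have hall3 : ∀ d : Y, orderOf d = 3 → d ∈ H.1 := by
    intro d hd
    by_contra hdH
    obtain ⟨H', hG', hle, hd'⟩ := good_step (q := q) h hq hall H.2 hd
    have h1 := hmax ⟨H', hG'⟩
    have h2 : H.1 = H' := Subgroup.eq_of_le_of_card_ge hle h1
    exact hdH (h2 ▸ hd')
  have htop : H.1 = ⊤ := by
    rw [eq_top_iff, ← hgen, Subgroup.closure_le]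
    intro x hx
    exact hall3 x hx
  have hc := H.2.2
  rw [htop] at hc
  exact Concl.of_mulEquiv Subgroup.topEquiv hc

end Cfsg.H5.Zass
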