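import Mathlib
import Cfsg.Agent.H5.ZassCaseA

/-!
# Zassenhaus: groups generated by elements of order 3 with a fixed-point-free representation
(helper5, for S0690)
-/

set_option autoImplicit false
set_option linter.unusedSectionVars false

open Classical

universe u v

namespace Cfsg.H5.Zass

open Module

section Res

variable {Ω : Type*} [Field Ω] {Y : Type*} [Group Y] {V : Type*} [AddCommGroup V] [Module Ω V]
  {ρ : Y →* End Ω V}

/-- restriction of a representation to an invariant subspace -/
def resRep (ρ : Y →* End Ω V) (U : Submodule Ω V) (hinv : ∀ g : Y, ∀ u ∈ U, ρ g u ∈ U) :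
    Y →* End Ω ↥U where
  toFun g := (ρ g).restrict (hinv g)
  map_one' := by
    ext u
    simp
  map_mul' a b := by
    ext u
    simp

theorem resRep_apply (U : Submodule Ω V) (hinv : ∀ g : Y, ∀ u ∈ U, ρ g u ∈ U) (g : Y) (u : ↥U) :
    ((resRep ρ U hinv g u : ↥U) : V) = ρ g (u : V) := rfl

theorem Fpf.resRep (h : Fpf ρ) (U : Submodule Ω V) (hinv : ∀ g : Y, ∀ u ∈ U, ρ g u ∈ U) :
    Fpf (resRep ρ U hinv) := by
  intro g hg u hu
  have h2 : ρ g (u : V) = (u : V) := by
    rw [← resRep_apply U hinv g u, hu]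
  exact Subtype.ext (h _ hg _ h2)

theorem irr_resRep {U : Submodule Ω V} (hinv : ∀ g : Y, ∀ u ∈ U, ρ g u ∈ U)
    (hmin : ∀ U' : Submodule Ω V, U' ≤ U → (∀ g : Y, ∀ u ∈ U', ρ g u ∈ U') → U' = ⊥ ∨ U' = U) :
    Irr (resRep ρ U hinv) := by
  intro W hW
  have h2 := hmin (W.map U.subtype) (Submodule.map_subtype_le U W) (by
    intro g u hu
    obtain ⟨u', hu', rfl⟩ := Submodule.mem_map.mp hu
    exact Submodule.mem_map.mpr ⟨_, hW g u' hu', rfl⟩)
  have h3 := Submodule.comap_map_eq_of_injective U.injective_subtype W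
  rcases h2 with h | h
  · left
    rw [← h3, h, Submodule.comap_bot, Submodule.ker_subtype]
  · right
    rw [← h3, h, Submodule.comap_subtype_self]

theorem Fpf.comp_subtype (h : Fpf ρ) (M : Subgroup Y) : Fpf (ρ.comp M.subtype) := by
  intro g hg u hu
  have h1 : (g : Y) ≠ 1 := by
    intro h1
    exact hg (Subtype.ext h1)
  exact h _ h1 _ hu

end Res

variable {q : ℕ} [Fact q.Prime] {Ω : Type*} [Field Ω] [Algebra (ZMod q) Ω]
  [Algebra.IsAlgebraic (ZMod q) Ω] [IsAlgClosed Ω]

theorem card_of_gen_three_aux : ∀ (n : ℕ) (Y : Type u) [Group Y] [Finite Y] (V : Type v)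
    [AddCommGroup V] [Module Ω V] [FiniteDimensional Ω V] [Nontrivial V] (ρ : Y →* End Ω V),
    Nat.card Y = n → Fpf ρ → ¬ q ∣ Nat.card Y →
    Subgroup.closure {x : Y | orderOf x = 3} = ⊤ → Concl Y := by
  intro n
  induction n using Nat.strong_induction_on with
  | _ n ih =>
    intro Y _ _ V _ _ _ _ ρ hn h hq hgen
    obtain ⟨U, hU0, hUinv, hUmin⟩ := exists_minimal_invariant ρ
    have : Nontrivial ↥U := Submodule.nontrivial_iff_ne_bot.mpr hU0
    have h' : Fpf (resRep ρ U hUinv) := h.resRep U hUinv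
    have hirr : Irr (resRep ρ U hUinv) := irr_resRep hUinv hUmin
    by_cases hall : ∀ x y : Y, orderOf x = 3 → orderOf y = 3 → ScalarPair (resRep ρ U hUinv) x y
    · exact caseA (q := q) h' hq hgen hall
    · push_neg at hall
      obtain ⟨a₀, y₀, ha₀, hy₀, hns⟩ := hall
      refine caseB (q := q) h' hq hirr hgen ?_ ha₀ hy₀ hns
      rintro M hM ⟨S, hS3, hMS⟩
      have hlt : Nat.card M < n := by
        rw [← hn]
        apply lt_of_le_of_ne (Subgroup.card_le_card_group M)
        intro he
        exact hM ((Subgroup.card_eq_iff_eq_top M).mp he)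
      have hq' : ¬ q ∣ Nat.card M := by
        intro hd
        exact hq (hd.trans (Subgroup.card_subgroup_dvd_card _))
      have hgenM : Subgroup.closure {x : ↥M | orderOf x = 3} = ⊤ := by
        subst hMS
        exact closure_orderThree_top hS3
      have hc := ih (Nat.card M) hlt ↥M V (ρ.comp M.subtype) rfl (h.comp_subtype M) hq' hgenM
      exact hc.card

/-- **Theorem Z'**: a finite group generated by elements of order 3 with a fixed-point-free
representation in coprime characteristic is `1`, `C₃`, `2.A₄` or `2.A₅`. -/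
theorem card_of_gen_three {Y : Type u} [Group Y] [Finite Y] {V : Type v}
    [AddCommGroup V] [Module Ω V] [FiniteDimensional Ω V] [Nontrivial V] (ρ : Y →* End Ω V)
    (h : Fpf ρ) (hq : ¬ q ∣ Nat.card Y)
    (hgen : Subgroup.closure {x : Y | orderOf x = 3} = ⊤) : Concl Y :=
  card_of_gen_three_aux (q := q) _ Y V ρ rfl h hq hgen

end Cfsg.H5.Zass
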