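import Mathlib
import Cfsg.Agent.H5.ZassMain
import Cfsg.Agent.Lib.Helper24.ZassC

/-!
# Zassenhaus: gluing Theorem Z' to the automorphism-group statement (helper5, for S0690)
-/

set_option autoImplicit false

universe u

namespace Cfsg.H5.Zass

open Module

/-- the hypothesis `hZ` of the Level 2 theorem, supplied by Theorem Z' -/
theorem hZ_of_fpf {q : ℕ} [Fact q.Prime] {Ω : Type*} [Field Ω] [Algebra (ZMod q) Ω]
    [Algebra.IsAlgebraic (ZMod q) Ω] [IsAlgClosed Ω] {G : Type*} [Group G] [Finite G]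
    {V : Type*} [AddCommGroup V] [Module Ω V] [Module.Finite Ω V] [Nontrivial V]
    (ρ : G →* Module.End Ω V) (hfpf : ∀ g : G, g ≠ 1 → ∀ v : V, ρ g v = v → v = 0)
    (hq : ¬ q ∣ Nat.card G) :
    ∀ N : Subgroup G, N = Subgroup.closure {x : G | orderOf x = 3} →
      Nat.card N = 1 ∨ Nat.card N = 3 ∨
      (Nat.card N = 24 ∧ ∃ f : N →* alternatingGroup (Fin 4), Function.Surjective f ∧
        Nat.card f.ker = 2) ∨
      (Nat.card N = 120 ∧ ∃ f : N →* alternatingGroup (Fin 5), Function.Surjective f ∧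
        Nat.card f.ker = 2) := by
  intro N hN
  have h : Fpf ρ := hfpf
  have hq' : ¬ q ∣ Nat.card N := by
    intro hd
    exact hq (hd.trans (Subgroup.card_subgroup_dvd_card _))
  have hgenN : Subgroup.closure {x : ↥N | orderOf x = 3} = ⊤ := by
    subst hN
    exact closure_orderThree_top (fun g hg => hg)
  exact card_of_gen_three (q := q) (ρ.comp N.subtype) (h.comp_subtype N) hq' hgenN

/-- the glue: from the Level 2 theorem (as a hypothesis) to the statement on automorphism groups -/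
theorem glue {K : Type u} [Group K] [Finite K] (G : Subgroup (MulAut K))
    (hfpf : ∀ φ ∈ G, φ ≠ 1 → ∀ k : K, φ k = k → k = 1) (hne : G ≠ ⊥)
    (hD : ∀ (q : ℕ) [Fact q.Prime] (V : Type u) [AddCommGroup V]
      [Module (AlgebraicClosure (ZMod q)) V] [Module.Finite (AlgebraicClosure (ZMod q)) V]
      [Nontrivial V] (ρ : G →* Module.End (AlgebraicClosure (ZMod q)) V),
      (∀ g : G, g ≠ 1 → ∀ v : V, ρ g v = v → v = 0) → ¬ q ∣ Nat.card G →
      (∀ N : Subgroup G, N = Subgroup.closure {x : G | orderOf x = 3} →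
        Nat.card N = 1 ∨ Nat.card N = 3 ∨
        (Nat.card N = 24 ∧ ∃ f : N →* alternatingGroup (Fin 4), Function.Surjective f ∧
          Nat.card f.ker = 2) ∨
        (Nat.card N = 120 ∧ ∃ f : N →* alternatingGroup (Fin 5), Function.Surjective f ∧
          Nat.card f.ker = 2)) →
      Nonempty (G ≃* Matrix.SpecialLinearGroup (Fin 2) (ZMod 5))) :
    Nonempty (G ≃* Matrix.SpecialLinearGroup (Fin 2) (ZMod 5)) := by
  obtain ⟨q, hqp, hqG, h1⟩ :=
    Cfsg.Agent.Lib.Helper24.ZassC.exists_prime_normIdeal_of_mulAut G hfpf hne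
  haveI : Fact q.Prime := ⟨hqp⟩
  haveI : Finite (MulAut K) := Finite.of_injective (fun f : MulAut K => (f : K → K))
    (fun f g h => MulEquiv.ext (congrFun h))
  obtain ⟨V, i1, i2, i3, i4, ρ, hρ⟩ :=
    Cfsg.Agent.Lib.Helper24.ZassC.exists_fpf_rep_of_normIdeal q hqG h1
  exact hD q V ρ hρ hqG (hZ_of_fpf (q := q) ρ hρ hqG)

end Cfsg.H5.Zass
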